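import Groth.Agent.RelVALib.ChowOpen
import Groth.Agent.MorProj.VeryAmple
import Groth.Agent.PnEmb.SegreOver
import Groth.Agent.Coherent.ProjSpaceFinite

/-!
# Chow's lemma with an immersion into projective space over the base
-/

set_option autoImplicit false
set_option backward.isDefEq.respectTransparency.types false

universe u

open CategoryTheory CategoryTheory.Limits AlgebraicGeometry TopologicalSpace
open Groth.Agent.AmpleLib

namespace Groth.Agent.RelVALib

/-- A morphism that is a closed subscheme of some projective space over the base. -/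
def IsPnClosed {P S : Scheme.{u}} (p : P ⟶ S) : Prop :=
  ∃ (n : ℕ) (i : P ⟶ CohB1.ProjSpaceOver n S), IsClosedImmersion i ∧ i ≫ CohB1.ProjSpaceOver.toBase n S = p

theorem isProper_toBase (n : ℕ) (S : Scheme.{u}) : IsProper (CohB1.ProjSpaceOver.toBase n S) :=
  MorphismProperty.pullback_snd _ _ (Coherent.isProper_projSpace_toSpec n (ULift.{u} ℤ))

theorem IsPnClosed.isProper {P S : Scheme.{u}} {p : P ⟶ S} (h : IsPnClosed p) : IsProper p := by
  obtain ⟨n, i, hi, rfl⟩ := h
  have := isProper_toBase n S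
  infer_instance

theorem isPnClosed_id (S : Scheme.{u}) : IsPnClosed (𝟙 S) := by
  obtain ⟨r, hr, τ, -⟩ := UPLib.exists_hom_projSpace 0 (specULiftZIsTerminal.from S)
    AmpleLib.isInvertible_structureModule (fun _ => oneSec ⊤)
    fun x => ⟨0, by rw [glocus_oneSec]; trivial⟩
  let s : S ⟶ CohB1.ProjSpaceOver 0 S := pullback.lift r (𝟙 S) (specULiftZIsTerminal.hom_ext _ _)
  have hs : s ≫ CohB1.ProjSpaceOver.toBase 0 S = 𝟙 S := pullback.lift_snd _ _ _
  have := isProper_toBase 0 S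
  have : IsClosedImmersion (s ≫ CohB1.ProjSpaceOver.toBase 0 S) := by rw [hs]; infer_instance
  exact ⟨0, s, IsClosedImmersion.of_comp s (CohB1.ProjSpaceOver.toBase 0 S), hs⟩

theorem IsPnClosed.prod {P Q S : Scheme.{u}} {p : P ⟶ S} {q : Q ⟶ S} (hp : IsPnClosed p) (hq : IsPnClosed q) :
    IsPnClosed (pullback.fst p q ≫ p) := by
  obtain ⟨n, i, hi, rfl⟩ := hp
  obtain ⟨m, j, hj, rfl⟩ := hq
  obtain ⟨-, Φ, hΦ, -, hΦ2, -⟩ := PnEmb.exists_segre_over S n m
  obtain ⟨e, he⟩ := PnEmb.exists_pullback_prod_iso (CohB1.ProjSpace.toSpec n (ULift.{u} ℤ))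
    (CohB1.ProjSpace.toSpec m (ULift.{u} ℤ)) (specULiftZIsTerminal.from S)
  let a := CohB1.ProjSpaceOver.toBase n S
  let b := CohB1.ProjSpaceOver.toBase m S
  let κ := pullback.map (i ≫ a) (j ≫ b) a b i j (𝟙 S) (by simp) (by simp)
  have hκ : IsClosedImmersion κ :=
    MorphismProperty.pullback_map (P := @IsClosedImmersion) hi hj (by simp) (by simp)
  have hκf : κ ≫ pullback.fst a b = pullback.fst (i ≫ a) (j ≫ b) ≫ i := pullback.lift_fst _ _ _
  refine ⟨n * m + n + m, κ ≫ e.hom ≫ Φ, ?_, ?_⟩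
  · have : IsClosedImmersion (e.hom ≫ Φ) := inferInstance
    exact inferInstanceAs (IsClosedImmersion (κ ≫ e.hom ≫ Φ))
  · refine ((Category.assoc _ _ _).trans ((congrArg (κ ≫ ·) ((Category.assoc _ _ _).trans
      ((congrArg (e.hom ≫ ·) hΦ2).trans he))).trans ?_))
    exact (Category.assoc _ _ _).symm.trans ((congrArg (· ≫ a) hκf).trans (Category.assoc _ _ _))

theorem exists_pn_prod {U S : Scheme.{u}} (u₀ : U ⟶ S) : ∀ (k : ℕ) (P : Fin k → Scheme.{u})
    (p : ∀ i, P i ⟶ S) (j : ∀ i, U ⟶ P i) (_ : ∀ i, IsPnClosed (p i)) (_ : ∀ i, j i ≫ p i = u₀),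
    ∃ (Q : Scheme.{u}) (s : Q ⟶ S) (l : U ⟶ Q) (q : ∀ i, Q ⟶ P i),
      IsPnClosed s ∧ l ≫ s = u₀ ∧ ∀ i, l ≫ q i = j i ∧ q i ≫ p i = s := by
  intro k
  induction k with
  | zero => exact fun P p j _ _ => ⟨S, 𝟙 S, u₀, fun i => i.elim0, isPnClosed_id S, Category.comp_id _,
      fun i => i.elim0⟩
  | succ k ih =>
    intro P p j hp hj
    obtain ⟨Q, s, l, q, hs, hl, hq⟩ :=
      ih (fun i => P i.castSucc) (fun i => p i.castSucc) (fun i => j i.castSucc) (fun i => hp _) (fun i => hj _)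
    let t := p (Fin.last k)
    refine ⟨pullback s t, pullback.fst s t ≫ s, pullback.lift l (j (Fin.last k)) (hl.trans (hj _).symm),
      Fin.lastCases (pullback.snd s t) (fun i => pullback.fst s t ≫ q i), hs.prod (hp _),
      by rw [pullback.lift_fst_assoc, hl], fun i => ?_⟩
    induction i using Fin.lastCases with
    | last =>
      simp only [Fin.lastCases_last]
      exact ⟨pullback.lift_snd _ _ _, pullback.condition.symm⟩
    | cast i =>
      simp only [Fin.lastCases_castSucc]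
      exact ⟨by rw [pullback.lift_fst_assoc, (hq i).1], by rw [Category.assoc, (hq i).2]⟩

/-- An affine scheme of finite type over any base is immersed in a projective space over it. -/
theorem exists_immersion_pn_affine {V S : Scheme.{u}} [IsAffine V] (v : V ⟶ S) [LocallyOfFiniteType v] :
    ∃ (P : Scheme.{u}) (p : P ⟶ S) (j : V ⟶ P), IsPnClosed p ∧ IsImmersion j ∧ j ≫ p = v := by
  obtain ⟨n₀, h⟩ := MorProj.eventually_isRelVeryAmplePn_pow v (L := Coh.structureModule V)
    (isAmple_structureModule_iff.2 inferInstance)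
  obtain ⟨n, i, hi, hiv, -⟩ := h n₀ le_rfl
  exact ⟨_, CohB1.ProjSpaceOver.toBase n S, i, ⟨n, 𝟙 _, inferInstance, Category.id_comp _⟩, hi, hiv⟩

/-- Chow's construction inside projective spaces over the base. -/
theorem exists_chow_pn {X S : Scheme.{u}} (f : X ⟶ S) [CompactSpace S] [QuasiSeparatedSpace S] [IsSeparated f]
    [LocallyOfFiniteType f] [QuasiCompact f] {k : ℕ} (V : Fin k → X.Opens) (hV : ∀ i, IsAffineOpen (V i))
    (hcov : ∀ x : X, ∃ i, x ∈ V i) (U : X.Opens) (hUc : IsCompact (U : Set X)) (hUV : ∀ i, U ≤ V i) :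
    ∃ (X' : Scheme.{u}) (π : X' ⟶ X) (σ : (U : Scheme.{u}) ⟶ X'),
      IsProper π ∧ (∃ (n : ℕ) (j : X' ⟶ CohB1.ProjSpaceOver n S), IsImmersion j ∧
        j ≫ CohB1.ProjSpaceOver.toBase n S = π ≫ f) ∧ IsIso (π ∣_ U) ∧ σ ≫ π = U.ι ∧
      IsSchemeTheoreticallyDominant σ := by
  classical
  have hemb : ∀ i, ∃ (P : Scheme.{u}) (p : P ⟶ S) (j : (V i : Scheme.{u}) ⟶ P),
      IsPnClosed p ∧ IsImmersion j ∧ j ≫ p = (V i).ι ≫ f := fun i => by
    have : IsAffine (V i : Scheme.{u}) := hV i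
    exact exists_immersion_pn_affine ((V i).ι ≫ f)
  choose P p j hp hj hjp using hemb
  let jU : ∀ i, (U : Scheme.{u}) ⟶ P i := fun i => X.homOfLE (hUV i) ≫ j i
  obtain ⟨Q, s, l, q, hs, hl, hq⟩ := exists_pn_prod (U.ι ≫ f) k P p jU hp fun i => by
    simp only [jU, Category.assoc, hjp, Scheme.homOfLE_ι_assoc]
  have hsp := hs.isProper
  have : CompactSpace (U : Scheme.{u}) := isCompact_iff_compactSpace.1 hUc
  have : QuasiSeparatedSpace X := quasiSeparatedSpace_of_quasiSeparated f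
  let T := pullback f s
  have : QuasiSeparatedSpace T := quasiSeparatedSpace_of_quasiSeparated (pullback.fst f s)
  let φ : (U : Scheme.{u}) ⟶ T := pullback.lift U.ι l hl.symm
  have : QuasiCompact φ := QuasiCompact.of_comp φ (pullback.fst f s ≫ f)
  let σ := φ.toImage
  have hσ := isSchemeTheoreticallyDominant_toImage φ
  let π : φ.image ⟶ X := φ.imageι ≫ pullback.fst f s
  let ρ : φ.image ⟶ Q := φ.imageι ≫ pullback.snd f s
  have hρ : ρ ≫ s = π ≫ f := by simp [ρ, π, pullback.condition]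
  have hσπ : σ ≫ π = U.ι := by
    rw [← Category.assoc, Scheme.Hom.toImage_imageι, pullback.lift_fst]
  have hσρ : σ ≫ ρ = l := by
    rw [← Category.assoc, Scheme.Hom.toImage_imageι, pullback.lift_snd]
  have hsnd : IsProper (pullback.fst f s) := MorphismProperty.pullback_fst f s hsp
  have hπp : IsProper π := inferInstanceAs (IsProper (φ.imageι ≫ pullback.fst f s))
  -- the open pieces of the target
  have := fun i => hj i
  let W : Fin k → Q.Opens := fun i => q i ⁻¹ᵁ (j i).coborderRange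
  have hρW : ∀ i, π ⁻¹ᵁ V i ≤ ρ ⁻¹ᵁ W i := fun i z hz => by
    have hsep : IsSeparated (p i) := (hp i).isProper.toIsSeparated
    have key : (π ⁻¹ᵁ V i).ι ≫ ρ ≫ q i = (π ∣_ V i) ≫ j i := by
      refine eq_of_schDominant σ (π ⁻¹ᵁ V i) (p i) ?_ ?_
      · rw [Category.assoc, Category.assoc, (hq i).2, hρ, Category.assoc (π ∣_ V i), hjp, morphismRestrict_ι_assoc]
      · rw [morphismRestrict_ι_assoc, reassoc_of% hσρ, (hq i).1]
        simp only [jU, ← Category.assoc]
        congr 1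
        rw [← cancel_mono (V i).ι]
        simp only [Category.assoc, Scheme.homOfLE_ι, morphismRestrict_ι, morphismRestrict_ι_assoc, hσπ]
    have h2 := congrArg (fun m : (π ⁻¹ᵁ V i : Scheme.{u}) ⟶ P i => m ⟨z, hz⟩) key
    show q i (ρ z) ∈ (j i).coborderRange
    simp only [Scheme.Hom.comp_apply] at h2
    rw [show (π ⁻¹ᵁ V i).ι ⟨z, hz⟩ = z from rfl] at h2
    rw [h2]
    exact subset_coborder ⟨_, rfl⟩
  have hWimm : ∀ i, IsClosedImmersion (ρ ∣_ W i) := fun i => by
    let R := (j i).coborderRange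
    let a : (q i ⁻¹ᵁ R : Scheme.{u}) ⟶ S := (W i).ι ≫ s
    let g := pullback.fst (q i ∣_ R) (j i).liftCoborder
    let e : pullback (q i ∣_ R) (j i).liftCoborder ⟶ X := pullback.snd _ _ ≫ (V i).ι
    have hge : g ≫ (W i).ι ≫ s = e ≫ f := by
      show pullback.fst _ _ ≫ _ = (pullback.snd _ _ ≫ _) ≫ f
      have hj' : (j i).liftCoborder ≫ R.ι ≫ p i = (V i).ι ≫ f := by
        rw [← Category.assoc, Scheme.Hom.liftCoborder_ι, hjp]
      rw [Category.assoc, ← hj', ← pullback.condition_assoc, morphismRestrict_ι_assoc, (hq i).2]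
    let G : pullback (q i ∣_ R) (j i).liftCoborder ⟶ pullback f a := pullback.lift e g hge.symm
    have hG : IsClosedImmersion G := by
      have hfac : G = pullback.lift e (𝟙 _) (by rw [Category.id_comp, hge]) ≫
          pullback.map f (g ≫ a) f a (𝟙 X) g (𝟙 S) (by simp) (by simp [a]) := by
        refine pullback.hom_ext ?_ ?_
        · simp only [G, pullback.map, Category.assoc, pullback.lift_fst, pullback.lift_fst_assoc, Category.comp_id]
        · simp only [G, pullback.map, Category.assoc, pullback.lift_snd, pullback.lift_snd_assoc, Category.id_comp]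
      have h1 : IsClosedImmersion (pullback.lift (f := f) (g := g ≫ a) e (𝟙 _) (by rw [Category.id_comp, hge])) := by
        have h0 : pullback.lift (f := f) (g := g ≫ a) e (𝟙 _) (by rw [Category.id_comp, hge]) ≫
            pullback.snd f (g ≫ a) = 𝟙 _ := pullback.lift_snd _ _ _
        have : IsClosedImmersion (pullback.lift (f := f) (g := g ≫ a) e (𝟙 _) (by rw [Category.id_comp, hge]) ≫
            pullback.snd f (g ≫ a)) := by rw [h0]; infer_instance
        exact IsClosedImmersion.of_comp _ (pullback.snd f (g ≫ a))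
      have h2 : IsClosedImmersion (pullback.map f (g ≫ a) f a (𝟙 X) g (𝟙 S) (by simp) (by simp [a])) :=
        MorphismProperty.pullback_map (P := @IsClosedImmersion) inferInstance inferInstance (by simp) rfl
      rw [hfac]
      infer_instance
    let m : (ρ ⁻¹ᵁ W i : Scheme.{u}) ⟶ pullback f a :=
      pullback.lift ((ρ ⁻¹ᵁ W i).ι ≫ π) (ρ ∣_ W i) (by
        rw [Category.assoc, ← hρ, morphismRestrict_ι_assoc])
    let b₁ := (σ ⁻¹ᵁ (ρ ⁻¹ᵁ W i)).ι ≫ X.homOfLE (hUV i)
    have hb : ((σ ∣_ ρ ⁻¹ᵁ W i) ≫ (ρ ∣_ W i)) ≫ (q i ∣_ R) = b₁ ≫ (j i).liftCoborder := by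
      rw [← cancel_mono R.ι]
      simp only [Category.assoc, morphismRestrict_ι, morphismRestrict_ι_assoc, Scheme.Hom.liftCoborder_ι, b₁, W, R]
      rw [reassoc_of% hσρ, (hq i).1]
    obtain ⟨t, ht⟩ := exists_lift_of_schDominant σ (ρ ⁻¹ᵁ W i) m G (pullback.lift _ _ hb) (by
      refine pullback.hom_ext ?_ ?_
      · simp only [Category.assoc, m, G, e, b₁, pullback.lift_fst, pullback.lift_snd_assoc, Scheme.homOfLE_ι,
          morphismRestrict_ι_assoc, hσπ]
      · simp only [Category.assoc, m, G, g, pullback.lift_snd, pullback.lift_fst])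
    have hm : IsClosedImmersion m := by
      let ν : (ρ ⁻¹ᵁ W i : Scheme.{u}) ⟶ T := (ρ ⁻¹ᵁ W i).ι ≫ φ.imageι
      let κ := pullback.map f a f s (𝟙 X) (W i).ι (𝟙 S) (by simp) (by simp [a])
      have hsq : IsPullback (ρ ⁻¹ᵁ W i).ι m φ.imageι κ := by
        refine IsPullback.of_bot (v₂₁ := pullback.snd f a) (v₂₂ := pullback.snd f s) (h₃₁ := (W i).ι) ?_ ?_ ?_
        · have hm2 : m ≫ pullback.snd f a = ρ ∣_ W i := pullback.lift_snd _ _ _
          rw [hm2]
          exact (isPullback_morphismRestrict ρ (W i)).flip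
        · refine pullback.hom_ext ?_ ?_
          · simp only [m, κ, π, pullback.map, Category.assoc, pullback.lift_fst, pullback.lift_fst_assoc, Category.comp_id]
          · simp only [m, κ, ρ, pullback.map, Category.assoc, pullback.lift_snd, pullback.lift_snd_assoc]
            exact (morphismRestrict_ι ρ (W i)).symm
        · refine IsPullback.of_right (h₁₂ := pullback.fst f s) (h₂₂ := s) (v₁₃ := f) ?_ (pullback.lift_snd _ _ _) (IsPullback.of_hasPullback f s)
          have : κ ≫ pullback.fst f s = pullback.fst f a := (pullback.lift_fst _ _ _).trans (Category.comp_id _)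
          rw [this]
          exact IsPullback.of_hasPullback f a
      exact MorphismProperty.of_isPullback (P := @IsClosedImmersion) hsq inferInstance
    have htt : t ≫ g = ρ ∣_ W i := by
      have := congrArg (· ≫ pullback.snd f a) ht
      simp only [Category.assoc, G, m, pullback.lift_snd] at this
      exact this
    have : IsClosedImmersion (t ≫ G) := by rw [ht]; exact hm
    have : IsClosedImmersion t := IsClosedImmersion.of_comp t G
    rw [← htt]
    infer_instance
  have hρimm : IsImmersion ρ := by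
    let O : Q.Opens := ⨆ i, W i
    have hrO : ρ ⁻¹ᵁ O = ⊤ := top_le_iff.1 fun z _ => by
      obtain ⟨i, hi⟩ := hcov (π z)
      exact Opens.mem_iSup.2 ⟨i, hρW i hi⟩
    have hcl : IsClosedImmersion (ρ ∣_ O) := by
      refine IsZariskiLocalAtTarget.of_iSup_eq_top (fun i => O.ι ⁻¹ᵁ W i) (top_le_iff.1 fun z _ => ?_) fun i => ?_
      · obtain ⟨i, hi⟩ := Opens.mem_iSup.1 z.2
        exact Opens.mem_iSup.2 ⟨i, hi⟩
      · have hle : W i ≤ O := le_iSup W i
        rw [MorphismProperty.arrow_mk_iso_iff @IsClosedImmersion (morphismRestrictRestrict ρ O (O.ι ⁻¹ᵁ W i))]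
        have : O.ι ''ᵁ O.ι ⁻¹ᵁ W i = W i := by
          rw [Scheme.Hom.image_preimage_eq_opensRange_inf, Scheme.Opens.opensRange_ι, inf_eq_right.2 hle]
        rw [this]
        exact hWimm i
    have : IsImmersion ((ρ ∣_ O) ≫ O.ι) := inferInstance
    rw [morphismRestrict_ι] at this
    have hiso : IsIso (ρ ⁻¹ᵁ O).ι := by rw [hrO, ← Scheme.topIso_hom]; infer_instance
    exact (MorphismProperty.cancel_left_of_respectsIso @IsImmersion (ρ ⁻¹ᵁ O).ι ρ).1 this
  obtain ⟨N, c, hc, hcs⟩ := hs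
  refine ⟨φ.image, π, σ, hπp, ⟨N, ρ ≫ c, inferInstance, by rw [Category.assoc, hcs, hρ]⟩, ?_, hσπ, hσ⟩
  have hUπ : σ ⁻¹ᵁ π ⁻¹ᵁ U = ⊤ := top_le_iff.1 fun y _ => by
    show π (σ y) ∈ U
    rw [← Scheme.Hom.comp_apply, hσπ]
    exact y.2
  let σU : (U : Scheme.{u}) ⟶ (π ⁻¹ᵁ U : Scheme.{u}) :=
    IsOpenImmersion.lift (π ⁻¹ᵁ U).ι σ (by
      rw [Scheme.Opens.range_ι]; rintro _ ⟨y, rfl⟩; exact hUπ.ge (show y ∈ (⊤ : (U : Scheme.{u}).Opens) from trivial))
  have h1 : σU ≫ (π ⁻¹ᵁ U).ι = σ := IsOpenImmersion.lift_fac _ _ _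
  have h2 : σU ≫ (π ∣_ U) = 𝟙 _ := by
    rw [← cancel_mono U.ι, Category.assoc, morphismRestrict_ι, ← Category.assoc, h1, hσπ, Category.id_comp]
  have : IsSeparated (π ∣_ U) := inferInstance
  have : IsClosedImmersion (σU ≫ (π ∣_ U)) := by rw [h2]; infer_instance
  have hcl : IsClosedImmersion σU := IsClosedImmersion.of_comp σU (π ∣_ U)
  obtain ⟨r, hr⟩ := exists_lift_of_schDominant σ (π ⁻¹ᵁ U) (𝟙 _) σU (σ ⁻¹ᵁ (π ⁻¹ᵁ U)).ι (by
    rw [Category.comp_id, ← cancel_mono (π ⁻¹ᵁ U).ι, morphismRestrict_ι, Category.assoc, h1])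
  have : IsIso σU := ⟨r, by rw [← cancel_mono σU, Category.assoc, hr, Category.comp_id, Category.id_comp], hr⟩
  have : π ∣_ U = inv σU := by rw [← cancel_epi σU, h2, IsIso.hom_inv_id]
  rw [this]
  infer_instance

/-- Chow's lemma over a Noetherian base, inside projective space. -/
theorem exists_chow_projSpace {X S : Scheme.{u}} (f : X ⟶ S) [IsNoetherian S] [IsSeparated f]
    [LocallyOfFiniteType f] [QuasiCompact f] :
    ∃ (n : ℕ) (X' : Scheme.{u}) (π : X' ⟶ X) (j : X' ⟶ CohB1.ProjSpaceOver n S),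
      IsImmersion j ∧ j ≫ CohB1.ProjSpaceOver.toBase n S = π ≫ f ∧ IsProper π ∧ Surjective π ∧
      ∃ U : X.Opens, Dense (U : Set X) ∧ IsIso (π ∣_ U) := by
  have : CompactSpace X := QuasiCompact.compactSpace_of_compactSpace f
  have : IsLocallyNoetherian X := LocallyOfFiniteType.isLocallyNoetherian f
  have : AlgebraicGeometry.IsNoetherian X := {}
  obtain ⟨k, V, U, hV, hcov, hUc, hUV, hUd⟩ :=
    exists_cover_dense_open (X := X) finite_irreducibleComponents_of_isNoetherian
  obtain ⟨X', π, σ, hπ, ⟨n, j, hj, hjf⟩, hiso, hσπ, hσ⟩ := exists_chow_pn f V hV hcov U hUc hUV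
  refine ⟨n, X', π, j, hj, hjf, hπ, ⟨?_⟩, U, hUd, hiso⟩
  rw [← Set.range_eq_univ, ← Set.univ_subset_iff, ← hUd.closure_eq,
    π.isClosedMap.isClosed_range.closure_subset_iff]
  intro x hx
  refine ⟨σ ⟨x, hx⟩, ?_⟩
  rw [← Scheme.Hom.comp_apply, hσπ]
  rfl

end Groth.Agent.RelVALib
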