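import Groth.Agent.RelVALib.UPApps

/-!
# Functoriality of classifying morphisms, base change of projective bundles
-/

set_option autoImplicit false
set_option linter.unusedSectionVars false
set_option backward.isDefEq.respectTransparency.types false
set_option maxHeartbeats 1000000

universe u

open AlgebraicGeometry CategoryTheory TopologicalSpace Opposite
open Groth.Agent.Coherent Groth.Agent.PicLib Groth.Agent.AmpleLib

namespace Groth.Agent.RelVALib

variable {X Y Z : Scheme.{u}}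

/-- The comparison of a pullback along a composite with the iterated one. -/
theorem exists_compIso (s : Z ⟶ X) (r : X ⟶ Y) (h : Z ⟶ Y) (e : s ≫ r = h) (M : Y.Modules) :
    ∃ c : (Scheme.Modules.pullback h).obj M ≅ (Scheme.Modules.pullback s).obj ((Scheme.Modules.pullback r).obj M),
      ∀ (U : Y.Opens) (m : Γ(M, U)) (hle : h ⁻¹ᵁ U ≤ s ⁻¹ᵁ (r ⁻¹ᵁ U)),
        c.hom.app (h ⁻¹ᵁ U) (PicLib.pullSec h m) = resM _ hle (PicLib.pullSec s (PicLib.pullSec r m)) := by
  subst e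
  refine ⟨(Scheme.Modules.pullbackComp s r).symm.app M, fun U m hle => ?_⟩
  exact (pullbackComp_inv_app_pullSec s r M U m).trans (resM_self _ _ _).symm

/-- Morphisms out of a pullback agree once they agree on pulled back sections over affine opens. -/
theorem hom_ext_pullSec (ψ : X ⟶ Y) {E : Y.Modules} {M : X.Modules} (a b : (Scheme.Modules.pullback ψ).obj E ⟶ M)
    (h : ∀ (U : Y.Opens), IsAffineOpen U → ∀ e : Γ(E, U),
      a.app (ψ ⁻¹ᵁ U) (PicLib.pullSec ψ e) = b.app (ψ ⁻¹ᵁ U) (PicLib.pullSec ψ e)) : a = b :=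
  ((Scheme.Modules.pullbackPushforwardAdjunction ψ).homEquiv E M).injective
    (hom_ext_affine _ _ fun U hU e => h U hU e)

variable {P : Scheme.{u}} {E : Y.Modules} {p : P ⟶ Y} {O1 : P.Modules}
  {φ : E ⟶ (Scheme.Modules.pushforward p).obj O1}
  {g : X ⟶ Y} {L : X.Modules} {t : E ⟶ (Scheme.Modules.pushforward g).obj L}
  {r : X ⟶ P} {hr : r ≫ p = g} {τ : (Scheme.Modules.pullback r).obj O1 ≅ L}

/-- The classifying condition holds on all opens. -/
theorem Classifies.on_opens (h : Classifies φ g t r hr τ) (U : Y.Opens) (e : Γ(E, U)) :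
    τ.hom.app (r ⁻¹ᵁ (p ⁻¹ᵁ U)) (PicLib.pullSec r (show Γ(O1, p ⁻¹ᵁ U) from φ.app U e)) =
      resM L (le_of_over hr U) (t.app U e) := by
  subst hr
  refine AmpleLib.sec_ext L _ _ fun x hx => ?_
  obtain ⟨A, hA, hxA, hAU⟩ := Opens.isBasis_iff_nbhd.1 Y.isBasis_affineOpens (show p.base (r x) ∈ U from hx)
  refine ⟨r ⁻¹ᵁ (p ⁻¹ᵁ A), r.preimage_mono (p.preimage_mono hAU), hxA, ?_⟩
  have h1 := h A hA (resM E hAU e)
  rw [app_resM φ hAU e, t_res (g := r ≫ p) hAU e] at h1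
  change τ.hom.app _ (PicLib.pullSec r (resM O1 (p.preimage_mono hAU) (φ.app U e))) = _ at h1
  rw [← resM_pullSec, app_resM] at h1
  rw [resM_resM]
  exact h1.trans (resM_resM L _ _ _)

/-- A morphism together with an identification classifies some map. -/
theorem exists_classified (r : X ⟶ P) (hr : r ≫ p = g) (τ : (Scheme.Modules.pullback r).obj O1 ≅ L) :
    ∃ t : E ⟶ (Scheme.Modules.pushforward g).obj L, Classifies φ g t r hr τ :=
  ⟨_, (classifies_iff hr τ _).1 rfl⟩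

/-- Composing a classifying morphism. -/
theorem Classifies.comp (h : Classifies φ g t r hr τ) (s : Z ⟶ X) {k : Z ⟶ Y} (hk : s ≫ g = k) {L' : Z.Modules}
    (σ : (Scheme.Modules.pullback s).obj L ≅ L') (t' : E ⟶ (Scheme.Modules.pushforward k).obj L')
    (ht : ∀ (U : Y.Opens), IsAffineOpen U → ∀ (e : Γ(E, U)) (hle : k ⁻¹ᵁ U ≤ s ⁻¹ᵁ (g ⁻¹ᵁ U)),
      t'.app U e = resM L' hle (σ.hom.app (s ⁻¹ᵁ (g ⁻¹ᵁ U)) (PicLib.pullSec s (show Γ(L, g ⁻¹ᵁ U) from t.app U e)))) :
    ∃ τ' : (Scheme.Modules.pullback (s ≫ r)).obj O1 ≅ L',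
      Classifies φ k t' (s ≫ r) (by rw [Category.assoc, hr, hk]) τ' := by
  subst hr
  subst hk
  obtain ⟨c, hc⟩ := exists_compIso s r (s ≫ r) rfl O1
  refine ⟨c ≪≫ (Scheme.Modules.pullback s).mapIso τ ≪≫ σ, fun U hU e => ?_⟩
  rw [ht U hU e le_rfl]
  show σ.hom.app _ (((Scheme.Modules.pullback s).map τ.hom).app _ (c.hom.app ((s ≫ r) ⁻¹ᵁ (p ⁻¹ᵁ U)) _)) = _
  rw [hc (p ⁻¹ᵁ U) _ le_rfl]
  erw [resM_self, resM_self, resM_self]
  refine congrArg (σ.hom.app _) ?_
  refine (map_app_pullSec s τ.hom (r ⁻¹ᵁ (p ⁻¹ᵁ U)) _).trans ?_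
  rw [h U hU e]
  erw [resM_self]
  rfl

end Groth.Agent.RelVALib
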