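import Groth.Agent.RelVALib.Chow
import Mathlib.AlgebraicGeometry.Noetherian
import Mathlib.Topology.Sober

/-!
# Affine covers with a common nonempty, resp. dense, open
-/

set_option autoImplicit false
set_option backward.isDefEq.respectTransparency.types false

universe u

open CategoryTheory CategoryTheory.Limits AlgebraicGeometry TopologicalSpace
open scoped Function

namespace Groth.Agent.RelVALib

variable {X : Scheme.{u}}

theorem exists_fin_affine_cover [CompactSpace X] :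
    ∃ (k : ℕ) (V : Fin k → X.Opens), (∀ i, IsAffineOpen (V i)) ∧ ∀ x : X, ∃ i, x ∈ V i := by
  have h : ∀ x : X, ∃ V : X.Opens, IsAffineOpen V ∧ x ∈ V := fun x => by
    obtain ⟨V, hV, hx, -⟩ := exists_isAffineOpen_mem_and_subset (x := x) (U := ⊤) trivial
    exact ⟨V, hV, hx⟩
  choose V hV hx using h
  obtain ⟨s, hs⟩ := CompactSpace.isCompact_univ.elim_finite_subcover (fun z : X => (V z : Set X))
    (fun z => (V z).2) (fun z _ => Set.mem_iUnion.2 ⟨z, hx z⟩)
  refine ⟨s.card, fun i => V (s.equivFin.symm i).1, fun i => hV _, fun z => ?_⟩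
  obtain ⟨w, hw, hz⟩ := Set.mem_iUnion₂.1 (hs (Set.mem_univ z))
  exact ⟨s.equivFin ⟨w, hw⟩, by simpa using hz⟩

/-- A nonempty affine open inside or disjoint from each of finitely many opens. -/
theorem exists_affine_le_or_disjoint [Nonempty X] : ∀ (k : ℕ) (V : Fin k → X.Opens),
    ∃ W : X.Opens, IsAffineOpen W ∧ (W : Set X).Nonempty ∧ ∀ i, W ≤ V i ∨ Disjoint W (V i) := by
  intro k
  induction k with
  | zero =>
    intro V
    obtain ⟨W, hW, hx, -⟩ := exists_isAffineOpen_mem_and_subset (x := Classical.arbitrary X) (U := ⊤) trivial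
    exact ⟨W, hW, ⟨_, hx⟩, fun i => i.elim0⟩
  | succ k ih =>
    intro V
    obtain ⟨W, hW, hne, h⟩ := ih fun i => V i.castSucc
    by_cases hd : Disjoint W (V (Fin.last k))
    · exact ⟨W, hW, hne, fun i => Fin.lastCases (Or.inr hd) h i⟩
    · obtain ⟨z, hz⟩ : ((W ⊓ V (Fin.last k) : X.Opens) : Set X).Nonempty := by
        rw [Opens.coe_inf, ← Set.not_disjoint_iff_nonempty_inter, Opens.coe_disjoint]
        exact hd
      obtain ⟨W', hW', hz', hle⟩ := exists_isAffineOpen_mem_and_subset (x := z) (U := W ⊓ V (Fin.last k)) hz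
      refine ⟨W', hW', ⟨z, hz'⟩, fun i => Fin.lastCases (Or.inl fun w hw => (hle hw).2) (fun j => ?_) i⟩
      have hle' : W' ≤ W := fun w hw => (hle hw).1
      exact (h j).imp hle'.trans fun hdj => hdj.mono_left hle'

theorem exists_cover_nonempty_open [CompactSpace X] [Nonempty X] :
    ∃ (k : ℕ) (V : Fin k → X.Opens) (U : X.Opens), (∀ i, IsAffineOpen (V i)) ∧ (∀ x : X, ∃ i, x ∈ V i) ∧
      IsCompact (U : Set X) ∧ (∀ i, U ≤ V i) ∧ (U : Set X).Nonempty := by
  classical
  obtain ⟨k, V, hV, hcov⟩ := exists_fin_affine_cover (X := X)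
  obtain ⟨W, hW, hne, h⟩ := exists_affine_le_or_disjoint k V
  refine ⟨k, fun i => if W ≤ V i then V i else V i ⊔ W, W, fun i => ?_, fun x => ?_, hW.isCompact, fun i => ?_, hne⟩
  · dsimp only
    split_ifs with hi
    · exact hV i
    · exact (hV i).sup_of_disjoint hW ((h i).resolve_left hi).symm
  · obtain ⟨i, hi⟩ := hcov x
    refine ⟨i, ?_⟩
    dsimp only
    split_ifs
    · exact hi
    · exact (le_sup_left : V i ≤ V i ⊔ W) hi
  · dsimp only
    split_ifs with hi
    · exact hi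
    · exact le_sup_right

theorem exists_cover_dense_open [CompactSpace X] (hfin : (irreducibleComponents X).Finite) :
    ∃ (k : ℕ) (V : Fin k → X.Opens) (U : X.Opens), (∀ i, IsAffineOpen (V i)) ∧ (∀ x : X, ∃ i, x ∈ V i) ∧
      IsCompact (U : Set X) ∧ (∀ i, U ≤ V i) ∧ Dense (U : Set X) := by
  classical
  have hG := genericPoints.finite hfin
  let G := genericPoints X
  have hcovG : ∀ z : X, ∃ η ∈ G, z ∈ closure {η} := fun z => by
    obtain ⟨C, hC, hzC⟩ : ∃ C, C ∈ irreducibleComponents X ∧ z ∈ C :=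
      ⟨_, irreducibleComponent_mem_irreducibleComponents z, mem_irreducibleComponent⟩
    obtain ⟨η, hη⟩ := genericPoints.component_surjective (α := X) ⟨C, hC⟩
    exact ⟨η.1, η.2, ((congrArg Subtype.val hη).symm ▸ hzC : z ∈ (genericPoints.component η).1)⟩
  have hW : ∀ η ∈ G, ∃ W : X.Opens, IsAffineOpen W ∧ η ∈ W ∧ ∀ z ∈ W, ∀ η' ∈ G, z ∈ closure {η'} → η' = η := by
    intro η hη
    let Z : Set X := ⋃ η' ∈ G \ {η}, closure {η'}
    have hZ : IsClosed Z := (hG.subset Set.diff_subset).isClosed_biUnion fun _ _ => isClosed_closure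
    have hηZ : η ∉ Z := fun h => by
      obtain ⟨η', hη', hc⟩ := Set.mem_iUnion₂.1 h
      have h1 : closure {η} ⊆ closure {η'} := closure_minimal (Set.singleton_subset_iff.2 hc) isClosed_closure
      have h2 : closure {η'} ⊆ closure {η} :=
        (genericPoints.component ⟨η, hη⟩).2.2 (genericPoints.component ⟨η', hη'.1⟩).2.1 h1
      exact hη'.2 ((show IsGenericPoint η' (closure {η'}) from rfl).eq
        (show IsGenericPoint η (closure {η'}) from h1.antisymm h2))
    obtain ⟨W, hW, hηW, hle⟩ := exists_isAffineOpen_mem_and_subset (x := η) (U := ⟨Zᶜ, hZ.isOpen_compl⟩) hηZ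
    refine ⟨W, hW, hηW, fun z hz η' hη' hc => ?_⟩
    by_contra hne
    exact hle hz (Set.mem_iUnion₂.2 ⟨η', ⟨hη', hne⟩, hc⟩)
  choose! W hWaff hWmem hWuniq using hW
  obtain ⟨k, V, hV, hcov⟩ := exists_fin_affine_cover (X := X)
  have hdis : ∀ η ∈ G, ∀ η' ∈ G, η ≠ η' → Disjoint (W η) (W η') := fun η hη η' hη' hne => by
    rw [← Opens.coe_disjoint, Set.disjoint_left]
    intro z hz hz'
    obtain ⟨η'', hη'', hzc⟩ := hcovG z
    exact hne ((hWuniq η hη z hz η'' hη'' hzc).symm.trans (hWuniq η' hη' z hz' η'' hη'' hzc))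
  let V' : Fin k → X.Opens := fun i => V i ⊔ ⨆ η ∈ {η ∈ G | η ∉ V i}, W η
  have hV' : ∀ i, IsAffineOpen (V' i) := fun i => by
    refine (hV i).sup_of_disjoint (IsAffineOpen.biSup_of_disjoint (hG.subset (Set.sep_subset _ _))
      (fun η hη => hWaff η hη.1) fun η hη η' hη' hne => hdis η hη.1 η' hη'.1 hne) ?_
    rw [← Opens.coe_disjoint, Set.disjoint_left]
    intro z hz hz'
    simp only [Opens.coe_iSup, Set.mem_iUnion, SetLike.mem_coe, Opens.mem_iSup] at hz'
    obtain ⟨η, hη, hzη⟩ := hz'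
    obtain ⟨η'', hη'', hzc⟩ := hcovG z
    rw [hWuniq η hη.1 z hzη η'' hη'' hzc] at hzc
    exact hη.2 ((specializes_iff_mem_closure.2 hzc).mem_open (V i).2 hz)
  have hmem : ∀ η ∈ G, ∀ i, η ∈ V' i := fun η hη i => by
    by_cases h : η ∈ V i
    · exact (le_sup_left : V i ≤ V' i) h
    · exact (le_sup_right : (⨆ η ∈ {η ∈ G | η ∉ V i}, W η) ≤ V' i)
        (Opens.mem_iSup.2 ⟨η, Opens.mem_iSup.2 ⟨⟨hη, h⟩, hWmem η hη⟩⟩)
  have hU : ∀ η ∈ G, ∃ O : X.Opens, IsAffineOpen O ∧ η ∈ O ∧ O ≤ Finset.univ.inf V' := fun η hη =>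
    exists_isAffineOpen_mem_and_subset (x := η) (U := Finset.univ.inf V') (by
      rw [← SetLike.mem_coe, Opens.coe_finset_inf]
      simpa using hmem η hη)
  choose! O hOaff hηO hO using hU
  refine ⟨k, V', ⨆ η ∈ G, O η, hV', fun x => ?_, ?_, fun i => ?_, ?_⟩
  · obtain ⟨i, hi⟩ := hcov x
    exact ⟨i, (le_sup_left : V i ≤ V' i) hi⟩
  · simp only [Opens.coe_iSup]
    exact hG.isCompact_biUnion fun η hη => (hOaff η hη).isCompact
  · exact iSup₂_le fun η hη => (hO η hη).trans (Finset.inf_le (Finset.mem_univ i))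
  · refine Dense.mono (fun η hη => ?_) (dense_iff_closure_eq.2 (genericPoints.closure (α := X)))
    exact Opens.mem_iSup.2 ⟨η, Opens.mem_iSup.2 ⟨hη, hηO η hη⟩⟩

/-- Chow's lemma with a dense open. -/
theorem exists_chow_dense {S : Scheme.{u}} (r : X ⟶ S) [IsSeparated r] [LocallyOfFiniteType r] [QuasiCompact r]
    (h : IsNoetherian S ∨ (CompactSpace S ∧ S.IsSeparated ∧ (irreducibleComponents X).Finite)) :
    ∃ (X' : Scheme.{u}) (f : X' ⟶ X), RelProj.IsProjective f ∧ RelProj.IsQuasiProjective (f ≫ r) ∧ Surjective f ∧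
      (∃ U : X.Opens, Dense (U : Set X) ∧ Dense ((f ⁻¹ᵁ U : X'.Opens) : Set X') ∧ IsIso (f ∣_ U)) ∧
      (IsReduced X → IsReduced X') ∧ (IrreducibleSpace X → IrreducibleSpace X') ∧
      (IsProper r → RelProj.IsProjective (f ≫ r)) := by
  obtain ⟨hS, hSq, hfin⟩ : CompactSpace S ∧ QuasiSeparatedSpace S ∧ (irreducibleComponents X).Finite := by
    rcases h with h | ⟨h₁, h₂, h₃⟩
    · have : CompactSpace X := QuasiCompact.compactSpace_of_compactSpace r
      have : IsLocallyNoetherian X := LocallyOfFiniteType.isLocallyNoetherian r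
      have : AlgebraicGeometry.IsNoetherian X := {}
      exact ⟨inferInstance, inferInstance, finite_irreducibleComponents_of_isNoetherian⟩
    · exact ⟨h₁, inferInstance, h₃⟩
  have : CompactSpace X := QuasiCompact.compactSpace_of_compactSpace r
  obtain ⟨k, V, U, hV, hcov, hUc, hUV, hUd⟩ := exists_cover_dense_open hfin
  obtain ⟨X', f, σ, hf, hfr, hiso, hσf, hσq, hσ, hd, hpr⟩ := exists_chow r V hV hcov U hUc hUV
  have := isProper_of_isProjective hf
  refine ⟨X', f, hf, hfr, ⟨?_⟩, ⟨U, hUd, hd, hiso⟩, fun _ => IsSchemeTheoreticallyDominant.isReduced σ, fun hX => ?_,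
    hpr⟩
  · rw [← Set.range_eq_univ, ← Set.univ_subset_iff, ← hUd.closure_eq,
      f.isClosedMap.isClosed_range.closure_subset_iff]
    intro x hx
    refine ⟨σ ⟨x, hx⟩, ?_⟩
    rw [← Scheme.Hom.comp_apply, hσf]
    rfl
  · obtain ⟨x, hx⟩ := hUd.nonempty
    have hUi : IsIrreducible (U : Set X) :=
      ⟨⟨x, hx⟩, (PreirreducibleSpace.isPreirreducible_univ (X := X)).open_subset U.isOpen (Set.subset_univ _)⟩
    have hU' : IrreducibleSpace (U : Scheme.{u}) := Subtype.irreducibleSpace hUi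
    have hr : IsIrreducible (Set.range σ) := by
      rw [← Set.image_univ]
      exact (IrreducibleSpace.isIrreducible_univ _).image σ σ.continuous.continuousOn
    exact (irreducibleSpace_def X').2 ((σ.denseRange.closure_eq).subst (motive := IsIrreducible) hr.closure)

end Groth.Agent.RelVALib
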