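import Groth.Agent.TwistLib.G.RelGen
import Groth.Agent.AmpleLib.Ample
import Groth.Agent.UPLib.Basic

/-!
# `O(1)` on `Proj` of a graded ring generated in degree one, and on the charts of a relative `Proj`
-/

set_option autoImplicit false
set_option linter.unusedSectionVars false
set_option backward.isDefEq.respectTransparency.types false
set_option maxHeartbeats 1000000

universe u

open AlgebraicGeometry CategoryTheory CategoryTheory.Limits TopologicalSpace Opposite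
open Groth.Agent.Coherent Groth.Agent.PicLib Groth.Agent.AmpleLib
open Groth.Agent.TwistLib

namespace Groth.Agent.RelVALib

section proj

variable {A σ₀ : Type u} [CommRing A] [SetLike σ₀ A] [AddSubgroupClass σ₀ A] {𝒜 : ℕ → σ₀} [GradedRing 𝒜]

/-- The degree one cover. -/
abbrev DegOneCov (𝒜 : ℕ → σ₀) [GradedRing 𝒜] : Prop :=
  ∀ x : ProjectiveSpectrum 𝒜, ∃ g ∈ 𝒜 1, g ∉ x.asHomogeneousIdeal.toIdeal

theorem glocus_globalOf_deg (hcov : DegOneCov 𝒜) {d : ℕ} {f : A} (hf : f ∈ 𝒜 d) :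
    glocus (GrTwist.twist 𝒜 (d : ℤ))
      (show Γ(GrTwist.twist 𝒜 (d : ℤ), ⊤) from GrTwist.globalOf 𝒜 ⟨f, hf⟩) = Proj.basicOpen 𝒜 f := by
  have key : ∀ g (hg : g ∈ 𝒜 1), glocus (GrTwist.twist 𝒜 (d : ℤ))
      (show Γ(GrTwist.twist 𝒜 (d : ℤ), ⊤) from GrTwist.globalOf 𝒜 ⟨f, hf⟩) ⊓ Proj.basicOpen 𝒜 g =
      Proj.basicOpen 𝒜 g ⊓ Proj.basicOpen 𝒜 f := by
    intro g hg
    have hgen : IsGen (GrTwist.twist 𝒜 (d : ℤ)) (Proj.basicOpen 𝒜 g)
        (resM (GrTwist.twist 𝒜 (d : ℤ)) le_top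
          (show Γ(GrTwist.twist 𝒜 (d : ℤ), ⊤) from GrTwist.globalOf 𝒜 ⟨g ^ d, by simpa using SetLike.pow_mem_graded d hg⟩)) :=
      (le_glocus_iff _ _).1 (G.basicOpen_le_glocus_globalOf (i := d) hg)
    have hP : f ∈ 𝒜 (d • 1) := by simpa using hf
    rw [glocus_inf _ hgen]
    have hc : hgen.coef le_rfl (resM (GrTwist.twist 𝒜 (d : ℤ)) le_top
          (show Γ(GrTwist.twist 𝒜 (d : ℤ), ⊤) from GrTwist.globalOf 𝒜 ⟨f, hf⟩)) =
        (Proj.awayToSection 𝒜 g).hom (HomogeneousLocalization.Away.mk 𝒜 hg d f hP) := by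
      refine hgen.coef_eq _ (G.sectN_ext fun y => ?_)
      refine (GrTwist.coe_smul_val _ y.1 _ _).trans ?_
      refine (congrArg (· * _) (G.val_awayToSection_mk hg d f hP y)).trans ?_
      exact (Localization.mk_mul _ _ _ _).trans (Localization.mk_eq_mk_iff.2 (Localization.r_iff_exists.2
        ⟨1, by simp only [Submonoid.coe_mul, Submonoid.coe_one]; ring⟩))
    rw [hc, G.basicOpen_away hg d f hP, Proj.basicOpen_mul]
  refine Opens.ext (Set.ext fun x => ?_)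
  obtain ⟨g, hg, hgx⟩ := hcov x
  exact ⟨fun h => ((key g hg).le ⟨h, hgx⟩).2, fun h => ((key g hg).ge ⟨hgx, h⟩).1⟩

/-- Standard opens of elements of positive degree are loci of sections of powers of `O(1)`. -/
theorem exists_pow_section (hcov : DegOneCov 𝒜) {d : ℕ} {f : A} (hf : f ∈ 𝒜 d) :
    ∃ b : Γ(CohB1.tensorPow (GrTwist.twist 𝒜 1) d, ⊤), glocus _ b = Proj.basicOpen 𝒜 f := by
  obtain ⟨e⟩ := G.nonempty_twist_pow_iso hcov d
  exact ⟨_, (glocus_map_iso e _).trans (glocus_globalOf_deg hcov hf)⟩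

/-- The standard opens of homogeneous elements of positive degree form a basis. -/
theorem exists_basicOpen_subset (x : Proj 𝒜) {O : (Proj 𝒜).Opens} (hx : x ∈ O) :
    ∃ (d : ℕ) (f : A), 0 < d ∧ f ∈ 𝒜 d ∧ x ∈ Proj.basicOpen 𝒜 f ∧ Proj.basicOpen 𝒜 f ≤ O := by
  classical
  obtain ⟨_, ⟨r, rfl⟩, hxr, hrO⟩ :=
    (ProjectiveSpectrum.isTopologicalBasis_basic_opens 𝒜).exists_subset_of_mem_open hx O.2
  obtain ⟨k, hk⟩ := G.exists_homogeneous_component_notMem 𝒜 x hxr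
  obtain ⟨e, t, he, ht, htx⟩ := G.exists_pos_homogeneous_notMem 𝒜 x
  refine ⟨k + e, (DirectSum.decompose 𝒜 r k : A) * t, by omega, SetLike.mul_mem_graded (SetLike.coe_mem _) ht,
    fun h => (x.isPrime.mem_or_mem h).elim hk htx, fun y hy => hrO fun h => hy ?_⟩
  exact Ideal.mul_mem_right _ _ (y.asHomogeneousIdeal.isHomogeneous k h)

theorem exists_gen_twist {g : A} (hg : g ∈ 𝒜 1) (n : ℤ) :
    ∃ t : Γ(GrTwist.twist 𝒜 n, Proj.basicOpen 𝒜 g), IsGen (GrTwist.twist 𝒜 n) (Proj.basicOpen 𝒜 g) t := by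
  obtain ⟨m, rfl⟩ : ∃ m : ℤ, n = m * (1 : ℕ) := ⟨n, by simp⟩
  exact ⟨_, G.isGen_tau hg m⟩

/-- `O(1)` restricts to ample modules along topological embeddings of quasi-compact schemes. -/
theorem isAmple_pullback_of_isEmbedding (hcov : DegOneCov 𝒜) {Z : Scheme.{u}} [CompactSpace Z] (g : Z ⟶ Proj 𝒜)
    (hg : Topology.IsEmbedding g.base) :
    CohB1.IsAmple ((Scheme.Modules.pullback g).obj (GrTwist.twist 𝒜 1)) := by
  have hO := G.isInvertible_twist hcov 1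
  have hL := PicLoc.isInvertible_pullback g hO
  refine isAmple_iff_affGlocus.2 ⟨hL, inferInstance, fun z => ?_⟩
  obtain ⟨V, hzV, s, hs⟩ := exists_isGen hL z
  obtain ⟨W, hW, hzW, hWV⟩ := Opens.isBasis_iff_nbhd.1 Z.isBasis_affineOpens hzV
  obtain ⟨O, hO', hOW⟩ := hg.isInducing.isOpen_iff.1 W.2
  have hgO : g z ∈ O := by
    have : z ∈ g.base ⁻¹' O := by rw [hOW]; exact hzW
    exact this
  obtain ⟨d, f, hd, hf, hzf, hfO⟩ := exists_basicOpen_subset (𝒜 := 𝒜) (g z) (O := ⟨O, hO'⟩) hgO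
  obtain ⟨b, hb⟩ := exists_pow_section hcov hf
  obtain ⟨φ, -⟩ := exists_pullPowIso g hO d
  let c := φ.hom.app ⊤ (PicLib.pullSec g b)
  have hc : glocus _ c = g ⁻¹ᵁ Proj.basicOpen 𝒜 f := by
    rw [glocus_map_iso, glocus_pullSec g (isInvertible_tensorPow hO d), hb]
  have hle : glocus _ c ≤ W := by
    rw [hc]
    intro y hy
    have : y ∈ g.base ⁻¹' O := hfO hy
    rw [hOW] at this
    exact this
  refine ⟨d, hd, c, by rw [hc]; exact hzf, le_top, ?_⟩
  have hgen := (isGen_powSec (hs.restrict hWV) d)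
  rw [← inf_eq_left.2 hle, glocus_inf _ hgen]
  exact hW.basicOpen _

end proj

variable {Y P : Scheme.{u}} {𝒮 : RelProj.QCGrAlg Y} {p : P ⟶ Y}
  {chart : ∀ (U : Y.Opens) (hU : IsAffineOpen U), (((p ⁻¹ᵁ U : P.Opens) : Scheme.{u}) ≅ Proj (𝒮.deg U hU))}

theorem degOneCov (hgen : 𝒮.IsGenDegOne) (U : Y.Opens) (hU : IsAffineOpen U) : DegOneCov (𝒮.deg U hU) := fun z => by
  by_contra! h
  exact z.not_irrelevant_le (show (HomogeneousIdeal.irrelevant (𝒮.deg U hU)).toIdeal ≤ z.asHomogeneousIdeal.toIdeal from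
    (RelConeLib.irrelevant_le_span_degOne 𝒮 hgen U hU).trans (Ideal.span_le.mpr h))

/-- On a chart the fundamental sheaf is `O(1)`. -/
theorem nonempty_chartIso (hgen : 𝒮.IsGenDegOne) {n : ℤ} {L : P.Modules}
    {lam : ∀ (U : Y.Opens) (hU : IsAffineOpen U),
      L ⟶ (Scheme.Modules.pushforward (RelProj.emb p chart U hU)).obj (GrTwist.twist (𝒮.deg U hU) n)}
    (hL : RelProj.IsRelTwist 𝒮 p chart n L lam) (U : Y.Opens) (hU : IsAffineOpen U) :
    Nonempty ((Scheme.Modules.pullback (RelProj.emb p chart U hU)).obj L ≅ GrTwist.twist (𝒮.deg U hU) n) := by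
  let e := RelProj.emb p chart U hU
  let ψ := ((Scheme.Modules.pullbackPushforwardAdjunction e).homEquiv L _).symm (lam U hU)
  have hcov := degOneCov hgen U hU
  let ι := {g : 𝒮.presheaf.obj (op U) // g ∈ 𝒮.deg U hU 1}
  let O : ι → P.Opens := fun g => e ''ᵁ Proj.basicOpen (𝒮.deg U hU) g.1
  have hOU : ∀ g, O g ≤ p ⁻¹ᵁ U := fun g =>
    (e.image_le_opensRange _).trans (G.opensRange_emb (p := p) (chart := chart) U hU).le
  have hOg : ∀ g, e ⁻¹ᵁ O g = Proj.basicOpen (𝒮.deg U hU) g.1 := fun g => e.preimage_image_eq _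
  choose t ht using fun g : ι => exists_gen_twist (𝒜 := 𝒮.deg U hU) g.2 n
  choose s hs using fun g : ι => (hL.bijective U hU (O g) (hOU g)).2
    (resM (GrTwist.twist (𝒮.deg U hU) n) (hOg g).le (t g))
  have hgen' : ∀ g, IsGen (GrTwist.twist (𝒮.deg U hU) n) (e ⁻¹ᵁ O g) ((lam U hU).app (O g) (s g)) := fun g => by
    rw [hs]
    exact (ht g).restrict _
  have hgenL : ∀ g, IsGen L (O g) (s g) := fun g => G.isGen_of_lam hL hU (hOU g) (hgen' g)
  have hinv := G.isInvertible_relTwist hgen hL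
  have : IsIso ψ := isIso_of_gens ψ (fun g => e ⁻¹ᵁ O g)
    (top_le_iff.1 fun z _ => by
      obtain ⟨g, hg, hgz⟩ := hcov z
      exact Opens.mem_iSup.2 ⟨⟨g, hg⟩, (hOg ⟨g, hg⟩).ge hgz⟩)
    (fun g => PicLib.pullSec e (s g)) (fun g => isGen_pullSec e (hgenL g) hinv) fun g => by
      rw [homEquiv_symm_app_pullSec]
      exact hgen' g
  exact ⟨asIso ψ⟩

end Groth.Agent.RelVALib
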