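import Groth.Agent.RelVALib.UPGen
import Groth.Agent.RelVALib.ChartTwist
import Groth.Agent.SymAlgLib.Grading

/-!
# The standard affine opens of a projective bundle
-/

set_option autoImplicit false
set_option linter.unusedSectionVars false
set_option backward.isDefEq.respectTransparency.types false
set_option maxHeartbeats 1000000

universe u

open AlgebraicGeometry CategoryTheory TopologicalSpace Opposite HomogeneousLocalization
open Groth.Agent.Coherent Groth.Agent.PicLib Groth.Agent.AmpleLib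
open Groth.Agent.TwistLib

namespace Groth.Agent.RelVALib

variable {Y P : Scheme.{u}}

/-- The data of a projective bundle with its fundamental sheaf and canonical map. -/
structure PBundle (E : Y.Modules) (𝒮 : RelProj.QCGrAlg Y) (j : E ⟶ 𝒮.toModule) (p : P ⟶ Y)
    (chart : ∀ (U : Y.Opens) (hU : IsAffineOpen U), ((p ⁻¹ᵁ U : P.Opens) : Scheme.{u}) ≅ Proj (𝒮.deg U hU))
    (O1 : P.Modules)
    (lam : ∀ (U : Y.Opens) (hU : IsAffineOpen U),
      O1 ⟶ (Scheme.Modules.pushforward (RelProj.emb p chart U hU)).obj (GrTwist.twist (𝒮.deg U hU) 1))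
    (φ : E ⟶ (Scheme.Modules.pushforward p).obj O1) : Prop where
  hE : Coh.IsQCoh E
  hj : RelProj.IsGrSymAlg E 𝒮 j
  hP : RelProj.IsRelProj 𝒮 p chart
  hO1 : RelProj.IsRelTwist 𝒮 p chart 1 O1 lam
  hφ : ∀ (U : Y.Opens) (hU : IsAffineOpen U) (e : Γ(E, U))
      (y : ↥(RelProj.emb p chart U hU ⁻¹ᵁ (p ⁻¹ᵁ U))),
      GrTwist.val (V := RelProj.emb p chart U hU ⁻¹ᵁ (p ⁻¹ᵁ U))
          ((lam U hU).app (p ⁻¹ᵁ U) ((φ.app U) e)) y =
        algebraMap (𝒮.presheaf.obj (op U)) (GrTwist.Loc (𝒮.deg U hU) y.1)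
          ((j.app U) e : 𝒮.presheaf.obj (op U))

variable {E : Y.Modules} {𝒮 : RelProj.QCGrAlg Y} {j : E ⟶ 𝒮.toModule} {p : P ⟶ Y}
  {chart : ∀ (U : Y.Opens) (hU : IsAffineOpen U), ((p ⁻¹ᵁ U : P.Opens) : Scheme.{u}) ≅ Proj (𝒮.deg U hU)}
  {O1 : P.Modules}
  {lam : ∀ (U : Y.Opens) (hU : IsAffineOpen U),
    O1 ⟶ (Scheme.Modules.pushforward (RelProj.emb p chart U hU)).obj (GrTwist.twist (𝒮.deg U hU) 1)}
  {φ : E ⟶ (Scheme.Modules.pushforward p).obj O1}
  {U : Y.Opens}

/-- Generation in degree one as generation of an algebra over degree zero. -/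
theorem adjoin_degOne_eq_top (hgen : 𝒮.IsGenDegOne) (hU : IsAffineOpen U) :
    Algebra.adjoin (𝒮.deg U hU 0) (𝒮.deg U hU 1 : Set (𝒮.presheaf.obj (op U))) = ⊤ := by
  refine top_le_iff.1 fun x _ => ?_
  refine (Subring.closure_le (t := (Algebra.adjoin (𝒮.deg U hU 0)
    (𝒮.deg U hU 1 : Set (𝒮.presheaf.obj (op U)))).toSubring)).2 ?_ ((hgen U hU).ge (Subring.mem_top x))
  rintro y (hy | hy)
  · exact (Algebra.adjoin (𝒮.deg U hU 0) (𝒮.deg U hU 1 : Set (𝒮.presheaf.obj (op U)))).algebraMap_mem ⟨y, hy⟩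
  · exact Algebra.subset_adjoin hy

/-- The generator attached to a section of the module. -/
noncomputable abbrev gen1 (j : E ⟶ 𝒮.toModule) (U : Y.Opens) (e : Γ(E, U)) : 𝒮.presheaf.obj (op U) := j.app U e

variable (j p chart) in
/-- The open where a section of the module generates the fundamental sheaf. -/
noncomputable def opn (hU : IsAffineOpen U) (e : Γ(E, U)) : P.Opens :=
  RelProj.emb p chart U hU ''ᵁ Proj.basicOpen (𝒮.deg U hU) (gen1 j U e)

namespace PBundle

variable (D : PBundle E 𝒮 j p chart O1 lam φ)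
include D

theorem hgen : 𝒮.IsGenDegOne :=
  have := D.hE
  SymAlgLib.isGenDegOne_of_isGrSymAlg D.hj

theorem gen1_mem (hU : IsAffineOpen U) (e : Γ(E, U)) : gen1 j U e ∈ 𝒮.deg U hU 1 := D.hj.2 U hU e

theorem invertible : PicF.IsInvertible O1 := G.isInvertible_relTwist D.hgen D.hO1

theorem opn_le (hU : IsAffineOpen U) (e : Γ(E, U)) : opn j p chart hU e ≤ p ⁻¹ᵁ U :=
  ((RelProj.emb p chart U hU).image_le_opensRange _).trans (G.opensRange_emb (p := p) (chart := chart) U hU).le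

theorem preimage_opn (hU : IsAffineOpen U) (e : Γ(E, U)) :
    RelProj.emb p chart U hU ⁻¹ᵁ opn j p chart hU e = Proj.basicOpen (𝒮.deg U hU) (gen1 j U e) :=
  (RelProj.emb p chart U hU).preimage_image_eq _

theorem isAffineOpen_opn (hU : IsAffineOpen U) (e : Γ(E, U)) : IsAffineOpen (opn j p chart hU e) :=
  (Proj.isAffineOpen_basicOpen (𝒮.deg U hU) (gen1 j U e) (D.gen1_mem hU e) one_pos).image_of_isOpenImmersion _

/-- The canonical section in the chart. -/
theorem lam_phi (hU : IsAffineOpen U) (e : Γ(E, U)) :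
    (lam U hU).app (p ⁻¹ᵁ U) (φ.app U e) =
      resM (GrTwist.twist (𝒮.deg U hU) 1) (le_top : RelProj.emb p chart U hU ⁻¹ᵁ (p ⁻¹ᵁ U) ≤ ⊤)
        (show Γ(GrTwist.twist (𝒮.deg U hU) 1, ⊤) from GrTwist.globalOf (𝒮.deg U hU) ⟨gen1 j U e, D.gen1_mem hU e⟩) :=
  G.sectN_ext fun y => (D.hφ U hU e y).trans
    (Localization.mk_one_eq_algebraMap (M := y.1.asHomogeneousIdeal.toIdeal.primeCompl) (gen1 j U e)).symm

theorem isGen_phi (hU : IsAffineOpen U) (e : Γ(E, U)) :
    IsGen O1 (opn j p chart hU e) (resM O1 (D.opn_le hU e) (φ.app U e)) := by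
  refine G.isGen_of_lam D.hO1 hU (D.opn_le hU e) ?_
  rw [app_resM, D.lam_phi hU e]
  show IsGen (GrTwist.twist (𝒮.deg U hU) 1) _ (resM (GrTwist.twist (𝒮.deg U hU) 1) _ (resM _ _ _))
  rw [resM_resM]
  refine (le_glocus_iff _ _).1 ?_
  rw [D.preimage_opn hU e]
  exact (glocus_globalOf_deg (d := 1) (degOneCov D.hgen U hU) (D.gen1_mem hU e)).ge

/-- An open lies in `opn` exactly when the canonical section generates over it. -/
theorem le_opn (hU : IsAffineOpen U) (e : Γ(E, U)) {W : P.Opens} (hW : W ≤ p ⁻¹ᵁ U)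
    (h : IsGen O1 W (resM O1 hW (φ.app U e))) : W ≤ opn j p chart hU e := by
  have hg := isGen_app_of_bijective (RelProj.emb p chart U hU) (lam U hU)
    (hW.trans (G.opensRange_emb (p := p) (chart := chart) U hU).ge)
    (fun V hV => D.hO1.bijective U hU V (hV.trans hW)) h
  rw [app_resM, D.lam_phi hU e] at hg
  change IsGen (GrTwist.twist (𝒮.deg U hU) 1) _ (resM (GrTwist.twist (𝒮.deg U hU) 1) _ (resM _ _ _)) at hg
  rw [resM_resM] at hg
  have hle : RelProj.emb p chart U hU ⁻¹ᵁ W ≤ Proj.basicOpen (𝒮.deg U hU) (gen1 j U e) :=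
    ((le_glocus_iff _ _).2 hg).trans (glocus_globalOf_deg (d := 1) (degOneCov D.hgen U hU) (D.gen1_mem hU e)).le
  intro x hx
  obtain ⟨z, rfl⟩ := G.exists_preimage (chart := chart) hU (hW hx)
  exact ⟨z, hle hx, rfl⟩

/-- The opens over an affine open cover its preimage. -/
theorem exists_mem_opn (hU : IsAffineOpen U) {x : P} (hx : p.base x ∈ U) : ∃ e : Γ(E, U), x ∈ opn j p chart hU e := by
  have := D.hE
  obtain ⟨z, rfl⟩ := G.exists_preimage (chart := chart) hU hx
  obtain ⟨g, hg, hgz⟩ := degOneCov D.hgen U hU z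
  obtain ⟨e, rfl⟩ := (SymAlgLib.deg_zero_one D.hj hU g).2 hg
  exact ⟨e, z, hgz, rfl⟩

theorem iSup_opn : ⨆ k : Σ U : Y.affineOpens, Γ(E, U.1), opn j p chart k.1.2 k.2 = ⊤ :=
  top_le_iff.1 fun x _ => by
    obtain ⟨U, hU, hxU⟩ := G.exists_affine (p := p) x
    obtain ⟨e, he⟩ := D.exists_mem_opn hU hxU
    exact Opens.mem_iSup.2 ⟨⟨⟨U, hU⟩, e⟩, he⟩

theorem phi_res {V : Y.Opens} (hV : V ≤ U) (e : Γ(E, U)) :
    φ.app V (resM E hV e) = resM O1 (p.preimage_mono hV) (φ.app U e) :=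
  app_resM φ hV e

theorem opn_res (hU : IsAffineOpen U) {V : Y.Opens} (hV : IsAffineOpen V) (hVU : V ≤ U) (e : Γ(E, U)) :
    opn j p chart hV (resM E hVU e) = opn j p chart hU e ⊓ p ⁻¹ᵁ V := by
  refine le_antisymm (le_inf ?_ (D.opn_le hV _)) ?_
  · refine D.le_opn hU e ((D.opn_le hV _).trans (p.preimage_mono hVU)) ?_
    refine isGen_congr ?_ (D.isGen_phi hV (resM E hVU e))
    rw [D.phi_res hVU, resM_resM]
  · refine D.le_opn hV _ inf_le_right ?_
    refine isGen_congr ?_ ((D.isGen_phi hU e).restrict (inf_le_left : opn j p chart hU e ⊓ p ⁻¹ᵁ V ≤ _))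
    rw [D.phi_res hVU, resM_resM, resM_resM]

omit D in
/-- Functions on `opn` as the homogeneous localization. -/
noncomputable def theta (hj : RelProj.IsGrSymAlg E 𝒮 j) (hU : IsAffineOpen U) (e : Γ(E, U)) :
    Away (𝒮.deg U hU) (gen1 j U e) →+* Γ(P, opn j p chart hU e) :=
  ((Proj.basicOpenIsoAway (𝒮.deg U hU) (gen1 j U e) (hj.2 U hU e) one_pos).hom ≫
    ((RelProj.emb p chart U hU).appIso (Proj.basicOpen (𝒮.deg U hU) (gen1 j U e))).inv).hom

theorem theta_bijective (hU : IsAffineOpen U) (e : Γ(E, U)) :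
    Function.Bijective (theta (p := p) (chart := chart) D.hj hU e) :=
  ConcreteCategory.bijective_of_isIso
    ((Proj.basicOpenIsoAway (𝒮.deg U hU) (gen1 j U e) (D.hj.2 U hU e) one_pos).hom ≫
      ((RelProj.emb p chart U hU).appIso (Proj.basicOpen (𝒮.deg U hU) (gen1 j U e))).inv)

theorem theta_zero (hU : IsAffineOpen U) (e : Γ(E, U)) (r : Γ(Y, U))
    (ha : 𝒮.str.app (op U) r ∈ 𝒮.deg U hU (0 • 1)) :
    theta (p := p) (chart := chart) D.hj hU e (Away.mk (𝒮.deg U hU) (D.gen1_mem hU e) 0 (𝒮.str.app (op U) r) ha) =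
      p.appLE U (opn j p chart hU e) (D.opn_le hU e) r := by
  let O := opn j p chart hU e
  let emb := RelProj.emb p chart U hU
  let f := gen1 j U e
  have hf := D.gen1_mem hU e
  let D₀ := Proj.basicOpen (𝒮.deg U hU) f
  let θ : Away (𝒮.deg U hU) f →+* Γ(P, O) := theta (p := p) (chart := chart) D.hj hU e
  have hinj : ∀ c c' : Γ(P, O), emb.appLE O D₀ (D.preimage_opn hU e).ge c = emb.appLE O D₀ (D.preimage_opn hU e).ge c' →
      c = c' := by
    have : IsIso (emb.appLE O D₀ (D.preimage_opn hU e).ge) := by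
      have h := Scheme.Hom.appIso_hom' emb D₀
      rw [show emb.appLE O D₀ (D.preimage_opn hU e).ge = (emb.appIso D₀).hom from h.symm]
      infer_instance
    exact (ConcreteCategory.bijective_of_isIso (emb.appLE O D₀ (D.preimage_opn hU e).ge)).1
  have hθ : ∀ q, emb.appLE O D₀ (D.preimage_opn hU e).ge (θ q) = Proj.awayToSection (𝒮.deg U hU) f q := by
    intro q
    have h := Scheme.Hom.appIso_hom' emb D₀
    show emb.appLE O D₀ _ ((emb.appIso D₀).inv _) = _
    rw [show emb.appLE O D₀ (D.preimage_opn hU e).ge = (emb.appIso D₀).hom from h.symm]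
    exact ConcreteCategory.congr_hom (emb.appIso D₀).inv_hom_id _
  refine hinj _ _ ((hθ _).trans ?_)
  rw [UPLib.away_mk_zero]
  have hL : p.appLE U O (D.opn_le hU e) ≫ emb.appLE O D₀ (D.preimage_opn hU e).ge =
      𝒮.strZero U hU ≫ CommRingCat.ofHom (fromZeroRingHom (𝒮.deg U hU) _) ≫
        Proj.awayToSection (𝒮.deg U hU) f := by
    rw [Scheme.Hom.appLE_comp_appLE]
    refine UPLib.toSpecΓ_map_injective ((cancel_mono hU.fromSpec).1 ?_)
    rw [Spec.map_comp, Category.assoc, Category.assoc, Scheme.Opens.toSpecΓ_SpecMap_appLE_assoc,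
      IsAffineOpen.toSpecΓ_fromSpec, Scheme.Hom.resLE_comp_ι]
    have hover : emb ≫ p = Proj.toSpecZero (𝒮.deg U hU) ≫ Spec.map (𝒮.strZero U hU) ≫ hU.fromSpec := by
      show ((chart U hU).inv ≫ (p ⁻¹ᵁ U).ι) ≫ p = _
      rw [Category.assoc, ← D.hP.chart_over U hU, Iso.inv_hom_id_assoc]
    rw [hover]
    have hz := UPLib.appLE_fromZero hf (𝟙 (Proj (𝒮.deg U hU))) D₀ le_rfl
    rw [Category.id_comp] at hz
    rw [reassoc_of% hz]
    simp [Spec.map_comp]
    rfl
  exact (ConcreteCategory.congr_hom hL r).symm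

theorem theta_one (hU : IsAffineOpen U) (e e' : Γ(E, U)) (ha : gen1 j U e' ∈ 𝒮.deg U hU (1 • 1)) :
    theta (p := p) (chart := chart) D.hj hU e (Away.mk (𝒮.deg U hU) (D.gen1_mem hU e) 1 (gen1 j U e') ha) •
      resM O1 (D.opn_le hU e) (φ.app U e) = resM O1 (D.opn_le hU e) (φ.app U e') := by
  let O := opn j p chart hU e
  let emb := RelProj.emb p chart U hU
  let f := gen1 j U e
  have hf := D.gen1_mem hU e
  let D₀ := Proj.basicOpen (𝒮.deg U hU) f
  let θ : Away (𝒮.deg U hU) f →+* Γ(P, O) := theta (p := p) (chart := chart) D.hj hU e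
  have hθ : ∀ q, emb.appLE O D₀ (D.preimage_opn hU e).ge (θ q) = Proj.awayToSection (𝒮.deg U hU) f q := by
    intro q
    have h := Scheme.Hom.appIso_hom' emb D₀
    show emb.appLE O D₀ _ ((emb.appIso D₀).inv _) = _
    rw [show emb.appLE O D₀ (D.preimage_opn hU e).ge = (emb.appIso D₀).hom from h.symm]
    exact ConcreteCategory.congr_hom (emb.appIso D₀).inv_hom_id _
  refine (D.hO1.bijective U hU O (D.opn_le hU e)).1 ?_
  refine (Scheme.Modules.Hom.app_smul (lam U hU) _ _).trans ?_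
  rw [app_resM, app_resM, D.lam_phi hU e, D.lam_phi hU e']
  let q := Away.mk (𝒮.deg U hU) hf 1 (gen1 j U e') ha
  have hr := congrArg (resM (GrTwist.twist (𝒮.deg U hU) 1) (D.preimage_opn hU e).le)
    (UPLib.mk_smul_sec (𝒜 := 𝒮.deg U hU) hf (gen1 j U e') ha)
  have hc : (show Γ(Proj (𝒮.deg U hU), emb ⁻¹ᵁ O) from emb.app O (θ q)) =
      res (D.preimage_opn hU e).le (show Γ(Proj (𝒮.deg U hU), D₀) from Proj.awayToSection (𝒮.deg U hU) f q) := by
    rw [← hθ q, Scheme.Hom.appLE, ConcreteCategory.comp_apply]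
    exact ((res_res _ _ _).trans (ConcreteCategory.congr_hom ((Proj (𝒮.deg U hU)).presheaf.map_id _) _)).symm
  erw [resM_smul, resM_resM, resM_resM] at hr
  have key2 : ∀ (h1 h2 : emb ⁻¹ᵁ O ≤ emb ⁻¹ᵁ (p ⁻¹ᵁ U)),
      (show Γ(Proj (𝒮.deg U hU), emb ⁻¹ᵁ O) from emb.app O (θ q)) •
        resM (GrTwist.twist (𝒮.deg U hU) 1) h1 (resM (GrTwist.twist (𝒮.deg U hU) 1) le_top
          (show Γ(GrTwist.twist (𝒮.deg U hU) 1, ⊤) from GrTwist.globalOf (𝒮.deg U hU) ⟨gen1 j U e, D.gen1_mem hU e⟩)) =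
      resM (GrTwist.twist (𝒮.deg U hU) 1) h2 (resM (GrTwist.twist (𝒮.deg U hU) 1) le_top
          (show Γ(GrTwist.twist (𝒮.deg U hU) 1, ⊤) from GrTwist.globalOf (𝒮.deg U hU) ⟨gen1 j U e', D.gen1_mem hU e'⟩)) := by
    intro h1 h2
    rw [resM_resM, resM_resM, hc]
    exact hr
  exact key2 (emb.preimage_mono (D.opn_le hU e)) (emb.preimage_mono (D.opn_le hU e))

/-- Homomorphisms out of the functions on `opn` are determined on the base and the coordinates. -/
theorem ringHom_ext (hU : IsAffineOpen U) (e : Γ(E, U)) {C : Type u} [CommRing C]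
    {F G' : Γ(P, opn j p chart hU e) →+* C}
    (h0 : ∀ r : Γ(Y, U), F (p.appLE U _ (D.opn_le hU e) r) = G' (p.appLE U _ (D.opn_le hU e) r))
    (h1 : ∀ (e' : Γ(E, U)) (c : Γ(P, opn j p chart hU e)),
      c • resM O1 (D.opn_le hU e) (φ.app U e) = resM O1 (D.opn_le hU e) (φ.app U e') → F c = G' c) : F = G' := by
  have := D.hE
  have key : F.comp (theta D.hj hU e) = G'.comp (theta D.hj hU e) := by
    refine UPLib.away_ext (adjoin_degOne_eq_top D.hgen hU) (D.gen1_mem hU e) (fun a ha => ?_) fun a ha => ?_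
    · obtain ⟨r, rfl⟩ := (SymAlgLib.deg_zero_one D.hj hU a).1 (by simpa using ha)
      show F (theta D.hj hU e _) = G' (theta D.hj hU e _)
      rw [D.theta_zero hU e r ha]
      exact h0 r
    · obtain ⟨e', rfl⟩ := (SymAlgLib.deg_zero_one D.hj hU a).2 (by simpa using ha)
      exact h1 e' _ (D.theta_one hU e e' ha)
  refine RingHom.ext fun c => ?_
  obtain ⟨q, rfl⟩ := (D.theta_bijective hU e).2 c
  exact RingHom.congr_fun key q

end PBundle

end Groth.Agent.RelVALib
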