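import Groth.Agent.TwistLib.G.RelComap
import Groth.Agent.TwistLib.G.RelGen
import Groth.Agent.ProjLib.MapLocal
import Groth.Agent.ProjLib.RelProjMap
import Groth.Agent.RelVALib.UPChart
import Groth.Agent.ProjLib.GenDegOne
import Groth.Agent.UPLib.Basic

/-!
# Maps of relative Proj's and twisting sheaves
-/

set_option autoImplicit false
set_option linter.unusedSectionVars false
set_option backward.isDefEq.respectTransparency.types false
set_option maxHeartbeats 1000000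

universe u

open AlgebraicGeometry CategoryTheory TopologicalSpace Opposite
open Groth.Agent.Coherent Groth.Agent.PicLib Groth.Agent.AmpleLib
open Groth.Agent.TwistLib
open scoped HomogeneousIdeal

namespace Groth.Agent.RelVALib

variable {Y PA PB : Scheme.{u}} {𝒜 ℬ : RelProj.QCGrAlg Y} {φ : 𝒜.toQCAlg ⟶ ℬ.toQCAlg}
  {hφ : RelProj.IsGradedHom φ}
  {hirr : ∀ (U : Y.Opens) (hU : IsAffineOpen U),
    (ℬ.deg U hU)₊ ≤ ((𝒜.deg U hU)₊).map (RelProj.gradedHomAt φ hφ U hU)}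
  {pA : PA ⟶ Y} {pB : PB ⟶ Y}
  {chartA : ∀ (U : Y.Opens) (hU : IsAffineOpen U), (((pA ⁻¹ᵁ U : PA.Opens) : Scheme.{u}) ≅ Proj (𝒜.deg U hU))}
  {chartB : ∀ (U : Y.Opens) (hU : IsAffineOpen U), (((pB ⁻¹ᵁ U : PB.Opens) : Scheme.{u}) ≅ Proj (ℬ.deg U hU))}
  {h : PB ⟶ PA} {n : ℤ} {LA : PA.Modules} {LB : PB.Modules}
  {lamA : ∀ (U : Y.Opens) (hU : IsAffineOpen U),
    LA ⟶ (Scheme.Modules.pushforward (RelProj.emb pA chartA U hU)).obj (GrTwist.twist (𝒜.deg U hU) n)}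
  {lamB : ∀ (U : Y.Opens) (hU : IsAffineOpen U),
    LB ⟶ (Scheme.Modules.pushforward (RelProj.emb pB chartB U hU)).obj (GrTwist.twist (ℬ.deg U hU) n)}

/-- Twisting sheaves pull back to twisting sheaves along induced morphisms. -/
theorem nonempty_pullback_twist_iso (hgen : 𝒜.IsGenDegOne) (hA : RelProj.IsRelProj 𝒜 pA chartA)
    (hB : RelProj.IsRelProj ℬ pB chartB) (hh : RelProj.IsRelProjMap φ hφ hirr chartA chartB h)
    (hLA : RelProj.IsRelTwist 𝒜 pA chartA n LA lamA) (hLB : RelProj.IsRelTwist ℬ pB chartB n LB lamB) :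
    Nonempty ((Scheme.Modules.pullback h).obj LA ≅ LB) := by
  obtain ⟨θ, hθ, -⟩ := G.existsUnique_comap hA hB hh lamA hLA lamB hLB
  let ψ := ((Scheme.Modules.pullbackPushforwardAdjunction h).homEquiv LA LB).symm θ
  obtain ⟨m, rfl⟩ : ∃ m : ℤ, n = m * (1 : ℕ) := ⟨n, by simp⟩
  let O : (Σ U : Y.affineOpens, 𝒜.deg U.1 U.2 1) → PA.Opens := fun k =>
    RelProj.emb pA chartA k.1.1 k.1.2 ''ᵁ Proj.basicOpen (𝒜.deg k.1.1 k.1.2) (k.2 : 𝒜.presheaf.obj (op k.1.1))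
  have hO : ∀ k, O k ≤ pA ⁻¹ᵁ k.1.1 := fun k =>
    (Scheme.Hom.image_le_opensRange _ _).trans (G.opensRange_emb (p := pA) (chart := chartA) _ k.1.2).le
  have hOD : ∀ k, RelProj.emb pA chartA k.1.1 k.1.2 ⁻¹ᵁ O k = Proj.basicOpen (𝒜.deg k.1.1 k.1.2) (k.2 : 𝒜.presheaf.obj (op k.1.1)) :=
    fun k => Scheme.Hom.preimage_image_eq _ _
  choose s hs using fun k => (hLA.bijective k.1.1 k.1.2 (O k) (hO k)).2
    (resM (GrTwist.twist (𝒜.deg k.1.1 k.1.2) (m * (1 : ℕ))) (hOD k).le (G.tau k.2.2 m _ le_rfl))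
  have hsg : ∀ k, IsGen LA (O k) (s k) := fun k =>
    G.isGen_of_lam hLA k.1.2 (hO k) (hs k ▸ (G.isGen_tau k.2.2 m).restrict (hOD k).le)
  have : IsIso ψ := by
    refine PicLib.isIso_of_gens ψ (fun k => h ⁻¹ᵁ O k) ?_ (fun k => PicLib.pullSec h (s k))
      (fun k => isGen_pullSec h (hsg k) (G.isInvertible_relTwist hgen hLA)) fun k => ?_
    · refine eq_top_iff.2 fun x _ => ?_
      obtain ⟨U, hU, hxU⟩ := G.exists_affine (p := pA) (h.base x)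
      obtain ⟨z, hz⟩ := G.exists_preimage (chart := chartA) hU hxU
      obtain ⟨f, hf, hfz⟩ := degOneCov hgen U hU z
      exact Opens.mem_iSup.2 ⟨⟨⟨U, hU⟩, ⟨f, hf⟩⟩, ⟨z, hfz, hz⟩⟩
    · obtain ⟨⟨U, hU⟩, ⟨f, hf⟩⟩ := k
      rw [homEquiv_symm_app_pullSec]
      let g := RelProj.gradedHomAt φ hφ U hU
      have hg : g f ∈ ℬ.deg U hU 1 := g.map_mem hf
      let O' := h ⁻¹ᵁ O ⟨⟨U, hU⟩, ⟨f, hf⟩⟩
      have hO' : O' ≤ pB ⁻¹ᵁ U := by
        refine (h.preimage_mono (hO ⟨⟨U, hU⟩, ⟨f, hf⟩⟩)).trans ?_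
        rw [← Scheme.Hom.comp_preimage, ProjLib.relProjMap_comp φ hφ hirr hA hB hh]
      have hmem : ∀ y : ProjectiveSpectrum (ℬ.deg U hU), (RelProj.emb pB chartB U hU).base y ∈ O' →
          (RelProj.emb pA chartA U hU).base (ProjectiveSpectrum.comap g (hirr U hU) y) ∈ O ⟨⟨U, hU⟩, ⟨f, hf⟩⟩ := by
        intro y hy
        have e := congrArg (fun q : Proj (ℬ.deg U hU) ⟶ PA => q.base y) (G.map_emb_relProjMap hh U hU)
        exact Eq.mpr (congrArg (· ∈ O ⟨⟨U, hU⟩, ⟨f, hf⟩⟩) e) hy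
      have hD : RelProj.emb pB chartB U hU ⁻¹ᵁ O' ≤ Proj.basicOpen (ℬ.deg U hU) (g f) := by
        intro y hy
        exact (hOD ⟨⟨U, hU⟩, ⟨f, hf⟩⟩).le (hmem y hy)
      refine G.isGen_of_lam hLB hU hO' (isGen_congr ?_ ((G.isGen_tau hg m).restrict hD))
      refine G.sectN_ext fun y => ?_
      obtain ⟨y, hy⟩ := y
      refine Eq.trans ?_ (hθ U hU (O ⟨⟨U, hU⟩, ⟨f, hf⟩⟩) (s ⟨⟨U, hU⟩, ⟨f, hf⟩⟩) y hy (hmem y hy)).symm
      rw [hs ⟨⟨U, hU⟩, ⟨f, hf⟩⟩]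
      refine Eq.trans ?_ (GrTwist.locMap_mk g (hirr U hU) y _ _).symm
      exact congrArg₂ Localization.mk (map_pow g f _).symm (Subtype.ext (map_pow g f _).symm)
  exact ⟨asIso ψ⟩

/-- Surjectivity in positive degrees from surjectivity in degree one. -/
theorem exists_preimage_of_degOne {A B σ τ : Type u} [CommRing A] [SetLike σ A] [AddSubgroupClass σ A] {𝒜₀ : ℕ → σ}
    [GradedRing 𝒜₀] [CommRing B] [SetLike τ B] [AddSubgroupClass τ B] {ℬ₀ : ℕ → τ} [GradedRing ℬ₀]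
    (hgenB : Algebra.adjoin (ℬ₀ 0) (ℬ₀ 1 : Set B) = ⊤) (g : 𝒜₀ →+*ᵍ ℬ₀)
    (h1 : ∀ b ∈ ℬ₀ 1, ∃ a ∈ 𝒜₀ 1, g a = b) (n : ℕ) (hn : 0 < n) (b : B) (hb : b ∈ ℬ₀ n) :
    ∃ a ∈ 𝒜₀ n, g a = b := by
  refine UPLib.deg_induction hgenB (P := fun n b => 0 < n → ∃ a ∈ 𝒜₀ n, g a = b)
    (fun a _ h => absurd h (lt_irrefl 0)) ?_ ?_ ?_ hb hn
  · intro k a c ha hc ih _
    rcases Nat.eq_zero_or_pos k with hk | hk
    · subst hk
      obtain ⟨d, hd, hd'⟩ := h1 (a * c) (by simpa using SetLike.mul_mem_graded ha hc)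
      exact ⟨d, hd, hd'⟩
    · obtain ⟨a', ha', e⟩ := ih hk
      obtain ⟨c', hc', e'⟩ := h1 c hc
      exact ⟨a' * c', SetLike.mul_mem_graded ha' hc', by rw [map_mul, e, e']⟩
  · exact fun k _ => ⟨0, zero_mem _, map_zero g⟩
  · intro k a c _ _ iha ihc hk
    obtain ⟨a', ha', e⟩ := iha hk
    obtain ⟨c', hc', e'⟩ := ihc hk
    exact ⟨a' + c', add_mem ha' hc', by rw [map_add, e, e']⟩

/-- Irrelevant ideals are covered once degree one is. -/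
theorem irrelevant_le_of_degOne (hgen : ℬ.IsGenDegOne) (hφ : RelProj.IsGradedHom φ)
    (h1 : ∀ (U : Y.Opens) (hU : IsAffineOpen U), ∀ b ∈ ℬ.deg U hU 1,
      ∃ a ∈ 𝒜.deg U hU 1, RelProj.gradedHomAt φ hφ U hU a = b) (U : Y.Opens) (hU : IsAffineOpen U) :
    (ℬ.deg U hU)₊ ≤ ((𝒜.deg U hU)₊).map (RelProj.gradedHomAt φ hφ U hU) := by
  intro b hb
  refine (ProjLib.mem_irrelevant_le_span_degree_one (hgen U hU)).trans (Ideal.span_le.2 fun b hb => ?_) hb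
  obtain ⟨a, ha, rfl⟩ := h1 U hU b hb
  exact Ideal.mem_map_of_mem _ (HomogeneousIdeal.mem_irrelevant_of_mem _ one_pos ha)

/-- Induced morphisms that are surjective in degree one are closed immersions. -/
theorem isClosedImmersion_relProjMap (hgen : ℬ.IsGenDegOne) (hA : RelProj.IsRelProj 𝒜 pA chartA)
    (hB : RelProj.IsRelProj ℬ pB chartB) (hh : RelProj.IsRelProjMap φ hφ hirr chartA chartB h)
    (h1 : ∀ (U : Y.Opens) (hU : IsAffineOpen U), ∀ b ∈ ℬ.deg U hU 1,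
      ∃ a ∈ 𝒜.deg U hU 1, RelProj.gradedHomAt φ hφ U hU a = b) :
    IsClosedImmersion h :=
  ProjLib.relProjMap_property φ hφ hirr hA hB hh (Q := @IsClosedImmersion) fun U hU =>
    ProjLib.map_isClosedImmersion _ (hirr U hU)
      (exists_preimage_of_degOne (adjoin_degOne_eq_top hgen hU) _ (h1 U hU))

end Groth.Agent.RelVALib
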