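import Mathlib
import Groth.Agent.RelVALib.SurjTwist
import Groth.Agent.SymAlgLib.Grading

/-!
# The sum of two projective bundles in the bundle of the direct sum
-/

set_option autoImplicit false
set_option linter.unusedSectionVars false
set_option backward.isDefEq.respectTransparency.types false
set_option maxHeartbeats 800000

universe u

open AlgebraicGeometry CategoryTheory CategoryTheory.Limits TopologicalSpace Opposite Topology
open Groth.Agent.TwistLib
open scoped HomogeneousIdeal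

namespace Groth.Agent.RelVALib

/-- Closed immersions with disjoint images give a closed immersion of the sum. -/
theorem isClosedImmersion_coprod_desc {A B Z : Scheme.{u}} (a : A ⟶ Z) (b : B ⟶ Z) [IsClosedImmersion a]
    [IsClosedImmersion b] (h : Disjoint (Set.range a) (Set.range b)) :
    IsClosedImmersion (coprod.desc a b) := by
  let i : A ⟶ A ⨿ B := coprod.inl
  let k : B ⟶ A ⨿ B := coprod.inr
  have hs : SurjectiveOnStalks (coprod.desc a b) := by
    refine IsZariskiLocalAtSource.of_iSup_eq_top (P := @SurjectiveOnStalks)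
      (fun t : Bool => if t then i.opensRange else k.opensRange) ?_ fun t => ?_
    · refine eq_top_iff.2 fun z hz => ?_
      rcases ((isCompl_opensRange_inl_inr A B).sup_eq_top.ge hz : _ ∈ _ ⊔ _) with h' | h'
      · exact Opens.mem_iSup.2 ⟨true, h'⟩
      · exact Opens.mem_iSup.2 ⟨false, h'⟩
    · cases t
      · show SurjectiveOnStalks (k.opensRange.ι ≫ _)
        rw [← k.isoOpensRange_inv_comp, Category.assoc, coprod.inr_desc]
        infer_instance
      · show SurjectiveOnStalks (i.opensRange.ι ≫ _)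
        rw [← i.isoOpensRange_inv_comp, Category.assoc, coprod.inl_desc]
        infer_instance
  have he : (coprod.desc a b : A ⨿ B ⟶ Z) ∘ coprodMk A B = Sum.elim a b := by
    funext x
    rcases x with x | x
    · rw [Function.comp_apply, coprodMk_inl, Sum.elim_inl, ← Scheme.Hom.comp_apply, coprod.inl_desc]
    · rw [Function.comp_apply, coprodMk_inr, Sum.elim_inr, ← Scheme.Hom.comp_apply, coprod.inr_desc]
  have hemb : IsClosedEmbedding ((coprod.desc a b : A ⨿ B ⟶ Z) ∘ coprodMk A B) := by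
    rw [he]
    have ha := a.isClosedEmbedding
    have hb := b.isClosedEmbedding
    refine IsClosedEmbedding.of_continuous_injective_isClosedMap (ha.continuous.sumElim hb.continuous)
      (Function.Injective.sumElim ha.injective hb.injective fun x y e =>
        Set.disjoint_left.1 h ⟨x, rfl⟩ ⟨y, e.symm⟩) (ha.isClosedMap.sumElim hb.isClosedMap)
  have hd : IsClosedEmbedding (coprod.desc a b : A ⨿ B ⟶ Z) := by
    have e2 := hemb.comp (coprodMk A B).symm.isClosedEmbedding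
    rwa [Function.comp_assoc, Homeomorph.self_comp_symm, Function.comp_id] at e2
  exact { toSurjectiveOnStalks := hs, isClosedEmbedding := hd }

variable {Y PE PF P : Scheme.{u}} {E F : Y.Modules} {𝒮E 𝒮F 𝒮 : RelProj.QCGrAlg Y}
  {jE : E ⟶ 𝒮E.toModule} {jF : F ⟶ 𝒮F.toModule} {j : E ⊞ F ⟶ 𝒮.toModule}
  {πE : 𝒮.toQCAlg ⟶ 𝒮E.toQCAlg} {hπE : RelProj.IsGradedHom πE}
  {πF : 𝒮.toQCAlg ⟶ 𝒮F.toQCAlg} {hπF : RelProj.IsGradedHom πF}

/-- The value of a graded homomorphism on a degree one generator. -/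
theorem gradedHomAt_gen {G : Y.Modules} {𝒯 : RelProj.QCGrAlg Y} {k : G ⟶ 𝒯.toModule}
    {M : Y.Modules} {m : M ⟶ 𝒮.toModule} {π : 𝒮.toQCAlg ⟶ 𝒯.toQCAlg} {hπ : RelProj.IsGradedHom π}
    {c : M ⟶ G} (hc : m ≫ RelSpec.QCAlg.Hom.toModuleMap π = c ≫ k) {U : Y.Opens} (hU : IsAffineOpen U)
    (x : Γ(M, U)) :
    RelProj.gradedHomAt π hπ U hU (show 𝒮.presheaf.obj (op U) from m.app U x) =
      (show 𝒯.presheaf.obj (op U) from k.app U (c.app U x)) := by
  have h := congr(($hc).app U x)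
  exact h

theorem comp_app_eq {M N K : Y.Modules} {a : M ⟶ N} {b : N ⟶ K} {c : M ⟶ K} (h : a ≫ b = c) (U : Y.Opens)
    (x : Γ(M, U)) : b.app U (a.app U x) = c.app U x :=
  congr(($h).app U x)

theorem isClosedImmersion_sum_bundles [Coh.IsQCoh E] [Coh.IsQCoh F]
    (hjE : RelProj.IsGrSymAlg E 𝒮E jE) (hjF : RelProj.IsGrSymAlg F 𝒮F jF)
    (hj : RelProj.IsGrSymAlg (E ⊞ F) 𝒮 j)
    (hjπE : j ≫ RelSpec.QCAlg.Hom.toModuleMap πE = biprod.fst ≫ jE)
    (hjπF : j ≫ RelSpec.QCAlg.Hom.toModuleMap πF = biprod.snd ≫ jF)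
    {hirrE : ∀ (U : Y.Opens) (hU : IsAffineOpen U),
      (𝒮E.deg U hU)₊ ≤ ((𝒮.deg U hU)₊).map (RelProj.gradedHomAt πE hπE U hU)}
    {hirrF : ∀ (U : Y.Opens) (hU : IsAffineOpen U),
      (𝒮F.deg U hU)₊ ≤ ((𝒮.deg U hU)₊).map (RelProj.gradedHomAt πF hπF U hU)}
    {p : P ⟶ Y} {pE : PE ⟶ Y} {pF : PF ⟶ Y}
    {chart : ∀ (U : Y.Opens) (hU : IsAffineOpen U), ((p ⁻¹ᵁ U : P.Opens) : Scheme.{u}) ≅ Proj (𝒮.deg U hU)}
    {chartE : ∀ (U : Y.Opens) (hU : IsAffineOpen U), ((pE ⁻¹ᵁ U : PE.Opens) : Scheme.{u}) ≅ Proj (𝒮E.deg U hU)}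
    {chartF : ∀ (U : Y.Opens) (hU : IsAffineOpen U), ((pF ⁻¹ᵁ U : PF.Opens) : Scheme.{u}) ≅ Proj (𝒮F.deg U hU)}
    (hP : RelProj.IsRelProj 𝒮 p chart) (hPE : RelProj.IsRelProj 𝒮E pE chartE)
    (hPF : RelProj.IsRelProj 𝒮F pF chartF)
    {hE' : PE ⟶ P} (hhE : RelProj.IsRelProjMap πE hπE hirrE chart chartE hE')
    {hF' : PF ⟶ P} (hhF : RelProj.IsRelProjMap πF hπF hirrF chart chartF hF') :
    IsClosedImmersion (coprod.desc hE' hF') := by
  have hgE := SymAlgLib.isGenDegOne_of_isGrSymAlg hjE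
  have hgF := SymAlgLib.isGenDegOne_of_isGrSymAlg hjF
  have hinlfst : ∀ (U : Y.Opens) (e : Γ(E, U)),
      (biprod.fst : E ⊞ F ⟶ E).app U ((biprod.inl : E ⟶ E ⊞ F).app U e) = e := fun U e =>
    comp_app_eq biprod.inl_fst U e
  have hinrsnd : ∀ (U : Y.Opens) (e : Γ(F, U)),
      (biprod.snd : E ⊞ F ⟶ F).app U ((biprod.inr : F ⟶ E ⊞ F).app U e) = e := fun U e =>
    comp_app_eq biprod.inr_snd U e
  have hinlsnd : ∀ (U : Y.Opens) (e : Γ(E, U)),
      (biprod.snd : E ⊞ F ⟶ F).app U ((biprod.inl : E ⟶ E ⊞ F).app U e) = 0 := fun U e =>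
    comp_app_eq biprod.inl_snd U e
  have h1E : ∀ (U : Y.Opens) (hU : IsAffineOpen U), ∀ b ∈ 𝒮E.deg U hU 1,
      ∃ a ∈ 𝒮.deg U hU 1, RelProj.gradedHomAt πE hπE U hU a = b := fun U hU b hb => by
    obtain ⟨e, rfl⟩ := (SymAlgLib.deg_zero_one hjE hU b).2 hb
    refine ⟨_, hj.2 U hU ((biprod.inl : E ⟶ E ⊞ F).app U e), (gradedHomAt_gen hjπE hU _).trans ?_⟩
    rw [hinlfst]
  have h1F : ∀ (U : Y.Opens) (hU : IsAffineOpen U), ∀ b ∈ 𝒮F.deg U hU 1,
      ∃ a ∈ 𝒮.deg U hU 1, RelProj.gradedHomAt πF hπF U hU a = b := fun U hU b hb => by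
    obtain ⟨e, rfl⟩ := (SymAlgLib.deg_zero_one hjF hU b).2 hb
    refine ⟨_, hj.2 U hU ((biprod.inr : F ⟶ E ⊞ F).app U e), (gradedHomAt_gen hjπF hU _).trans ?_⟩
    rw [hinrsnd]
  have := isClosedImmersion_relProjMap hgE hP hPE hhE h1E
  have := isClosedImmersion_relProjMap hgF hP hPF hhF h1F
  refine isClosedImmersion_coprod_desc hE' hF' (Set.disjoint_left.2 ?_)
  rintro z ⟨x, rfl⟩ ⟨y, hy⟩
  obtain ⟨U, hU, hxU⟩ := G.exists_affine (p := pE) x
  obtain ⟨x', rfl⟩ := G.exists_preimage (chart := chartE) hU hxU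
  have hyU : pF y ∈ U := by
    have e1 : hE' ≫ p = pE := ProjLib.relProjMap_comp πE hπE hirrE hP hPE hhE
    have e2 : hF' ≫ p = pF := ProjLib.relProjMap_comp πF hπF hirrF hP hPF hhF
    rw [← e2, Scheme.Hom.comp_apply, hy, ← Scheme.Hom.comp_apply, e1]
    exact hxU
  obtain ⟨y', rfl⟩ := G.exists_preimage (chart := chartF) hU hyU
  have e3 : RelProj.emb p chart U hU (ProjectiveSpectrum.comap _ (hirrE U hU) x') =
      RelProj.emb p chart U hU (ProjectiveSpectrum.comap _ (hirrF U hU) y') :=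
    (congrArg (fun q : Proj (𝒮E.deg U hU) ⟶ P => q x') (G.map_emb_relProjMap hhE U hU)).trans
      (hy.symm.trans (congrArg (fun q : Proj (𝒮F.deg U hU) ⟶ P => q y') (G.map_emb_relProjMap hhF U hU)).symm)
  have e4 := (RelProj.emb p chart U hU).isOpenEmbedding.injective e3
  obtain ⟨f, hf, hfx⟩ := degOneCov hgE U hU x'
  obtain ⟨e, rfl⟩ := (SymAlgLib.deg_zero_one hjE hU f).2 hf
  let a : 𝒮.presheaf.obj (op U) := j.app U ((biprod.inl : E ⟶ E ⊞ F).app U e)
  have ha1 : a ∉ (ProjectiveSpectrum.comap _ (hirrE U hU) x').asHomogeneousIdeal := fun h => hfx (by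
    have h' : RelProj.gradedHomAt πE hπE U hU a ∈ x'.asHomogeneousIdeal := h
    rw [gradedHomAt_gen hjπE hU, hinlfst] at h'
    exact h')
  rw [e4] at ha1
  refine ha1 ?_
  show RelProj.gradedHomAt πF hπF U hU a ∈ y'.asHomogeneousIdeal
  rw [gradedHomAt_gen hjπF hU, hinlsnd, map_zero]
  exact zero_mem y'.asHomogeneousIdeal

end Groth.Agent.RelVALib
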