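import Groth.Agent.RelVALib.QuasiProj
import Groth.Agent.RelVALib.ChowPn
import Groth.Agent.AmpleLib.Compose

/-!
# Projective space over a base with an ample module
-/

set_option autoImplicit false
set_option linter.unusedSectionVars false
set_option linter.deprecated false
set_option backward.isDefEq.respectTransparency.types false
set_option maxHeartbeats 1000000

universe u

open AlgebraicGeometry CategoryTheory CategoryTheory.Limits TopologicalSpace Opposite
open Groth.Agent.Coherent Groth.Agent.PicLib Groth.Agent.AmpleLib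

namespace Groth.Agent.RelVALib

variable {X Y : Scheme.{u}}

/-- Quasi-projective morphisms over a base with an ample module are immersions into projective spaces. -/
theorem exists_immersion_pn {f : X ⟶ Y} (hf : RelProj.IsQuasiProjective f) {M : Y.Modules} (hM : CohB1.IsAmple M) :
    ∃ (r : ℕ) (i : X ⟶ CohB1.ProjSpaceOver r Y), IsImmersion i ∧ i ≫ CohB1.ProjSpaceOver.toBase r Y = f := by
  obtain ⟨h1, h2, L, hL⟩ := hf
  have := h1
  obtain ⟨N, hN⟩ := eventually_isAmple_tensor_pullback f hM hL
  obtain ⟨N', hN'⟩ := MorProj.eventually_isRelVeryAmplePn_pow f (hN N le_rfl)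
  obtain ⟨r, i, hi, hif, -⟩ := hN' N' le_rfl
  exact ⟨r, i, hi, hif⟩

theorem isQuasiProjective_of_immersion_pn {f : X ⟶ Y} [LocallyOfFiniteType f] [QuasiCompact f] {r : ℕ}
    (i : X ⟶ CohB1.ProjSpaceOver r Y) [IsImmersion i] (hi : i ≫ CohB1.ProjSpaceOver.toBase r Y = f) :
    RelProj.IsQuasiProjective f :=
  ⟨inferInstance, inferInstance, (Scheme.Modules.pullback i).obj (Twist.twistOver r Y 1),
    isRelAmple_of_isRelVeryAmple f (isRelVeryAmple_of_isRelVeryAmplePn f _
      (PicLoc.isInvertible_pullback i (PicLoc.isInvertible_pullback _ (MorProj.isAmple_twistProjSpace.{u} r).1))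
      ⟨r, i, inferInstance, hi, ⟨Iso.refl _⟩⟩)⟩

theorem isQuasiProjective_iff_pn {M : Y.Modules} (hM : CohB1.IsAmple M) (f : X ⟶ Y) :
    RelProj.IsQuasiProjective f ↔ (LocallyOfFiniteType f ∧ QuasiCompact f ∧
      ∃ (r : ℕ) (i : X ⟶ CohB1.ProjSpaceOver r Y), IsImmersion i ∧ i ≫ CohB1.ProjSpaceOver.toBase r Y = f) := by
  refine ⟨fun h => ⟨h.1, h.2.1, exists_immersion_pn h hM⟩, ?_⟩
  rintro ⟨h1, h2, r, i, hi, hif⟩
  exact isQuasiProjective_of_immersion_pn i hif

theorem isProjective_iff_isHProjective [CompactSpace Y] [QuasiSeparatedSpace Y] {M : Y.Modules} (hM : CohB1.IsAmple M)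
    (f : X ⟶ Y) : RelProj.IsProjective f ↔ RelProj.IsHProjective f := by
  constructor
  · intro hf
    obtain ⟨r, i, hi, hif⟩ := exists_immersion_pn (isQuasiProjective_of_isProjective hf) hM
    have := isProper_of_isProjective hf
    have := isProper_toBase r Y
    have := hi
    have : IsProper (i ≫ CohB1.ProjSpaceOver.toBase r Y) := by rw [hif]; infer_instance
    have : IsProper i := IsProper.of_comp i (CohB1.ProjSpaceOver.toBase r Y)
    exact ⟨r, i, IsClosedImmersion.of_isPreimmersion i i.isClosedMap.isClosed_range, hif⟩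
  · rintro ⟨r, i, hi, hif⟩
    have := isProper_toBase r Y
    have : IsProper f := by rw [← hif]; infer_instance
    obtain ⟨N, hN⟩ := exists_hasBundleImmersion_of_isQuasiProjective (Or.inl ⟨inferInstance, inferInstance⟩)
      (isQuasiProjective_of_immersion_pn i hif)
    exact isProjective_of_hasBundleImmersion hN.closed_of_isProper

end Groth.Agent.RelVALib
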