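import Groth.Agent.RelVALib.Contract

/-!
# Functions on a line bundle from sections of powers of the line bundle
-/

set_option autoImplicit false
set_option linter.unusedSectionVars false
set_option backward.isDefEq.respectTransparency.types false
set_option maxHeartbeats 1000000

universe u

open AlgebraicGeometry CategoryTheory CategoryTheory.Limits TopologicalSpace Opposite
open Groth.Agent.Coherent Groth.Agent.PicLib Groth.Agent.AmpleLib

namespace Groth.Agent.RelVALib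

section spec

variable {X : Scheme.{u}} (A : RelSpec.QCAlg X)

/-- Sections of an algebra as functions on its spectrum. -/
noncomputable def specEv : A.presheaf ⟶ A.π.base _* A.spec.presheaf :=
  haveI := RelSpecLib.isIso_gammaMap A
  inv A.gammaMap

theorem gammaMap_specEv {U : X.Opens} (a : A.presheaf.obj (op U)) :
    A.gammaMap.app (op U) ((specEv A).app (op U) a) = a := by
  have := RelSpecLib.isIso_gammaMap A
  exact ConcreteCategory.congr_hom (NatTrans.congr_app (IsIso.inv_hom_id A.gammaMap) (op U)) a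

theorem specEv_gammaMap {U : X.Opens} (v : Γ(A.spec, A.π ⁻¹ᵁ U)) :
    (specEv A).app (op U) (A.gammaMap.app (op U) v) = v := by
  have := RelSpecLib.isIso_gammaMap A
  exact ConcreteCategory.congr_hom (NatTrans.congr_app (IsIso.hom_inv_id A.gammaMap) (op U)) v

/-- The functions of `A` on the preimage of an open. -/
noncomputable def secVal (U : X.Opens) : A.presheaf.obj (op U) →+* Γ(A.spec, A.π ⁻¹ᵁ U) :=
  ((specEv A).app (op U)).hom

theorem secVal_surjective (U : X.Opens) (v : Γ(A.spec, A.π ⁻¹ᵁ U)) : ∃ a, secVal A U a = v :=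
  ⟨_, specEv_gammaMap A v⟩

theorem secVal_str (U : X.Opens) (r : Γ(X, U)) : secVal A U (A.str.app (op U) r) = A.π.app U r := by
  refine (congrArg (secVal A U) ?_).trans (specEv_gammaMap A (A.π.app U r))
  exact (ConcreteCategory.congr_hom (NatTrans.congr_app A.π_c_gammaMap (op U)) r).symm

theorem secVal_res {U V : X.Opens} (h : V ≤ U) (a : A.presheaf.obj (op U)) :
    res (A.π.preimage_mono h) (secVal A U a) = secVal A V (A.presheaf.map (homOfLE h).op a) :=
  (ConcreteCategory.congr_hom ((specEv A).naturality (homOfLE h).op) a).symm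

theorem valAt_ι {U : X.Opens} (hU : IsAffineOpen U) (a : A.presheaf.obj (op U)) :
    valAt (A.ι U hU) (A.π ⁻¹ᵁ U) (A.top_le_preimage U hU) (secVal A U a) = a := by
  refine Eq.trans ?_ (gammaMap_specEv A a)
  rw [A.gammaMap_app U hU]
  rfl

theorem ι_mem_basicOpen_ev {U : X.Opens} (hU : IsAffineOpen U) (a : A.presheaf.obj (op U))
    (P : Spec (A.presheaf.obj (op U))) : A.ι U hU P ∈ A.spec.basicOpen (secVal A U a) ↔ a ∉ P.asIdeal := by
  rw [mem_basicOpen_iff_valAt _ _ (A.top_le_preimage U hU), valAt_ι]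

theorem valAt_fromSpec {U : X.Opens} (hU : IsAffineOpen U) (e : ⊤ ≤ hU.fromSpec ⁻¹ᵁ U) :
    valAt hU.fromSpec U e = 𝟙 _ := by
  rw [valAt, Scheme.Hom.appLE, hU.fromSpec_app_self, Category.assoc, Category.assoc]
  rw [← Functor.map_comp_assoc]
  have hk : ∀ k : (op ⊤ : (Spec Γ(X, U)).Opensᵒᵖ) ⟶ op ⊤, (Spec Γ(X, U)).presheaf.map k = 𝟙 _ := fun k => by
    rw [Subsingleton.elim k (𝟙 _)]; exact CategoryTheory.Functor.map_id _ _
  erw [hk, Category.id_comp, Iso.inv_hom_id]

end spec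

variable {X : Scheme.{u}} {L : X.Modules} {𝒜 : RelProj.QCGrAlg X} {jL : L ⟶ 𝒜.toModule}
  {aug : 𝒜.toQCAlg ⟶ RelSpec.QCAlg.unit X} {j0 : X ⟶ 𝒜.toQCAlg.spec}

theorem le_preimage_vertex (hj0 : RelCone.IsVertex 𝒜 aug j0) (W : X.Opens) :
    W ≤ j0 ⁻¹ᵁ (𝒜.toQCAlg.π ⁻¹ᵁ W) := by
  rw [← Scheme.Hom.comp_preimage, hj0.comp_π]
  exact fun x hx => hx

/-- On the zero section a function is given by the augmentation. -/
theorem vertex_ev_affine (hj0 : RelCone.IsVertex 𝒜 aug j0) {U : X.Opens} (hU : IsAffineOpen U)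
    (a : 𝒜.presheaf.obj (op U)) :
    j0.appLE _ U (le_preimage_vertex hj0 U) (secVal 𝒜.toQCAlg U a) = aug.hom.app (op U) a := by
  have e : (⊤ : (Spec Γ(X, U)).Opens) ≤ (hU.fromSpec ≫ j0) ⁻¹ᵁ (𝒜.toQCAlg.π ⁻¹ᵁ U) := by
    rw [Scheme.Hom.comp_preimage]
    exact le_trans hU.fromSpec_preimage_self.ge (hU.fromSpec.preimage_mono (le_preimage_vertex hj0 U))
  have h1 := valAt_comp (aug.hom.app (op U)) (𝒜.toQCAlg.ι U hU) (hU.fromSpec ≫ j0) (hj0.chart U hU).symm
    (𝒜.toQCAlg.π ⁻¹ᵁ U) (𝒜.toQCAlg.top_le_preimage U hU) e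
  have h2 : valAt (hU.fromSpec ≫ j0) (𝒜.toQCAlg.π ⁻¹ᵁ U) e =
      j0.appLE _ U (le_preimage_vertex hj0 U) ≫ valAt hU.fromSpec U hU.fromSpec_preimage_self.ge := by
    rw [valAt, valAt, ← Category.assoc, Scheme.Hom.appLE_comp_appLE]
  rw [valAt_fromSpec, Category.comp_id] at h2
  have h3 := ConcreteCategory.congr_hom (h2.symm.trans h1) (secVal 𝒜.toQCAlg U a)
  refine h3.trans ?_
  exact congrArg (aug.hom.app (op U)) (valAt_ι 𝒜.toQCAlg hU a)

theorem aug_res {U V : X.Opens} (h : V ≤ U) (a : 𝒜.presheaf.obj (op U)) :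
    aug.hom.app (op V) (𝒜.presheaf.map (homOfLE h).op a) = res h (aug.hom.app (op U) a) :=
  ConcreteCategory.congr_hom (aug.hom.naturality (homOfLE h).op) a

theorem vertex_ev (hj0 : RelCone.IsVertex 𝒜 aug j0) (W : X.Opens) (a : 𝒜.presheaf.obj (op W)) :
    j0.appLE _ W (le_preimage_vertex hj0 W) (secVal 𝒜.toQCAlg W a) = aug.hom.app (op W) a := by
  refine AmpleLib.sec_ext (Coh.structureModule X) _ _ fun x hx => ?_
  obtain ⟨U, hU, hxU, hUW⟩ := exists_isAffineOpen_mem_and_subset (X := X) (x := x) (U := W) hx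
  refine ⟨U, hUW, hxU, ?_⟩
  show res hUW _ = res hUW (aug.hom.app (op W) a)
  rw [← aug_res hUW, ← vertex_ev_affine hj0 hU]
  have h1 := ConcreteCategory.congr_hom (j0.appLE_map (le_preimage_vertex hj0 W) (homOfLE hUW).op) (secVal 𝒜.toQCAlg W a)
  have h2 := ConcreteCategory.congr_hom
    (j0.map_appLE (le_preimage_vertex hj0 U) (homOfLE (𝒜.toQCAlg.π.preimage_mono hUW)).op) (secVal 𝒜.toQCAlg W a)
  refine h1.trans (h2.symm.trans ?_)
  exact congrArg (j0.appLE _ U (le_preimage_vertex hj0 U)) (secVal_res 𝒜.toQCAlg hUW a)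

/-- The zero section consists of the points where the generator vanishes. -/
theorem mem_compl_vertex_iff [Coh.IsQCoh L] (hA : RelProj.IsGrSymAlg L 𝒜 jL) (haug : RelCone.IsAugmentation 𝒜 aug)
    (hj0 : RelCone.IsVertex 𝒜 aug j0) {U : X.Opens} (hU : IsAffineOpen U) {g : Γ(L, U)} (hg : IsGen L U g)
    (P : Spec (𝒜.presheaf.obj (op U))) :
    𝒜.toQCAlg.ι U hU P ∈ Set.range j0.base ↔ (show 𝒜.presheaf.obj (op U) from jL.app U g) ∈ P.asIdeal := by
  let T : 𝒜.presheaf.obj (op U) := jL.app U g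
  let au : 𝒜.presheaf.obj (op U) →+* Γ(X, U) := (aug.hom.app (op U)).hom
  have haugT : au T = 0 := haug U hU 0 _ (hA.2 U hU g)
  constructor
  · rintro ⟨y, hy⟩
    have hyU : y ∈ U := by
      have h1 : 𝒜.toQCAlg.π (j0 y) ∈ U := by
        show 𝒜.toQCAlg.π (j0.base y) ∈ U
        rw [hy]
        exact RelSpecLib.π_ι_mem 𝒜.toQCAlg U hU P
      rw [← Scheme.Hom.comp_apply, hj0.comp_π] at h1
      exact h1
    let P₁ : Spec Γ(X, U) := hU.primeIdealOf ⟨y, hyU⟩
    have e1 : P = Spec.map (aug.hom.app (op U)) P₁ := by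
      refine (𝒜.toQCAlg.ι U hU).isOpenEmbedding.injective ?_
      refine hy.symm.trans ?_
      exact (congrArg j0 (hU.fromSpec_primeIdealOf ⟨y, hyU⟩).symm).trans
        (congrArg (fun q : Spec Γ(X, U) ⟶ 𝒜.toQCAlg.spec => q P₁) (hj0.chart U hU))
    rw [e1]
    show au T ∈ P₁.asIdeal
    rw [haugT]
    exact P₁.asIdeal.zero_mem
  · intro hT
    have hs : Function.Surjective au := fun r => ⟨𝒜.str.app (op U) r,
      ConcreteCategory.congr_hom (NatTrans.congr_app aug.comm (op U)) r⟩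
    have hker : RingHom.ker au ≤ P.asIdeal := by
      have key : ∀ a, a - 𝒜.str.app (op U) (au a) ∈ Ideal.span {T} := by
        have e : (Ideal.Quotient.mk (Ideal.span {T})).comp (RingHom.id _) =
            (Ideal.Quotient.mk (Ideal.span {T})).comp ((𝒜.str.app (op U)).hom.comp au) := by
          refine SymAlgLib.sectionsHom_ext hA.1 hU (fun r => ?_) fun m => ?_
          · show Ideal.Quotient.mk _ (𝒜.str.app (op U) r) =
              Ideal.Quotient.mk _ (𝒜.str.app (op U) (au (𝒜.str.app (op U) r)))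
            rw [show au (𝒜.str.app (op U) r) = r from
              ConcreteCategory.congr_hom (NatTrans.congr_app aug.comm (op U)) r]
          · show Ideal.Quotient.mk _ (show 𝒜.presheaf.obj (op U) from jL.app U m) =
              Ideal.Quotient.mk _ (𝒜.str.app (op U) (au (show 𝒜.presheaf.obj (op U) from jL.app U m)))
            rw [show au (show 𝒜.presheaf.obj (op U) from jL.app U m) = 0 from haug U hU 0 _ (hA.2 U hU m),
              map_zero, map_zero, Ideal.Quotient.eq_zero_iff_mem, Ideal.mem_span_singleton]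
            have hm := hg.coef_spec le_rfl m
            rw [resM_self] at hm
            refine ⟨𝒜.str.app (op U) (hg.coef le_rfl m), ?_⟩
            refine Eq.trans ?_ (mul_comm (𝒜.str.app (op U) (hg.coef le_rfl m)) T)
            conv_lhs => rw [← hm, Scheme.Modules.Hom.app_smul]
            rfl
        intro a
        rw [← Ideal.Quotient.eq_zero_iff_mem, map_sub, sub_eq_zero]
        exact RingHom.congr_fun e a
      intro a ha
      have h := key a
      rw [RingHom.mem_ker.1 ha, map_zero, sub_zero] at h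
      exact (Ideal.span_singleton_le_iff_mem P.asIdeal).2 hT h
    have hmem : (P : PrimeSpectrum _) ∈ Set.range (PrimeSpectrum.comap au) := by
      rw [range_comap_of_surjective _ au hs]
      exact hker
    obtain ⟨P₁, hP₁⟩ := hmem
    refine ⟨hU.fromSpec P₁, ?_⟩
    refine (congrArg (fun q : Spec Γ(X, U) ⟶ 𝒜.toQCAlg.spec => q P₁) (hj0.chart U hU)).trans ?_
    show 𝒜.toQCAlg.ι U hU (PrimeSpectrum.comap au P₁) = _
    rw [hP₁]

/-- The complement of the zero section is affine over the line bundle. -/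
theorem isAffineHom_compl_vertex [Coh.IsQCoh L] (hL : PicF.IsInvertible L) (hA : RelProj.IsGrSymAlg L 𝒜 jL)
    (haug : RelCone.IsAugmentation 𝒜 aug) (hj0 : RelCone.IsVertex 𝒜 aug j0) (V0 : 𝒜.toQCAlg.spec.Opens)
    (hV0 : (V0 : Set 𝒜.toQCAlg.spec) = (Set.range j0.base)ᶜ) : IsAffineHom V0.ι := by
  refine isAffineHom_of_forall_exists_isAffineOpen V0.ι fun v => ?_
  obtain ⟨U₀, hv₀, g₀, hg₀⟩ := exists_isGen hL (𝒜.toQCAlg.π v)
  obtain ⟨U, hU, hvU, hle⟩ := exists_isAffineOpen_mem_and_subset (X := X) (x := 𝒜.toQCAlg.π v) (U := U₀) hv₀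
  let T : 𝒜.presheaf.obj (op U) := jL.app U (resM L hle g₀)
  refine ⟨𝒜.toQCAlg.π ⁻¹ᵁ U, hvU, hU.preimage _, ?_⟩
  have e : V0.ι ''ᵁ (V0.ι ⁻¹ᵁ (𝒜.toQCAlg.π ⁻¹ᵁ U)) = 𝒜.toQCAlg.spec.basicOpen (secVal 𝒜.toQCAlg U T) := by
    rw [Scheme.Hom.image_preimage_eq_opensRange_inf, Scheme.Opens.opensRange_ι]
    ext z
    constructor
    · rintro ⟨hz0, hzU⟩
      obtain ⟨P, rfl⟩ := RelSpecLib.exists_chart_eq 𝒜.toQCAlg hU z hzU
      show 𝒜.toQCAlg.ι U hU P ∈ 𝒜.toQCAlg.spec.basicOpen (secVal 𝒜.toQCAlg U T)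
      rw [ι_mem_basicOpen_ev]
      rw [hV0] at hz0
      exact fun h => hz0 ((mem_compl_vertex_iff hA haug hj0 hU (hg₀.restrict hle) P).2 h)
    · intro hz
      have hzU : z ∈ 𝒜.toQCAlg.π ⁻¹ᵁ U := Scheme.basicOpen_le _ _ hz
      obtain ⟨P, rfl⟩ := RelSpecLib.exists_chart_eq 𝒜.toQCAlg hU z hzU
      refine ⟨?_, hzU⟩
      rw [SetLike.mem_coe, ι_mem_basicOpen_ev] at hz
      rw [hV0]
      exact fun h => hz ((mem_compl_vertex_iff hA haug hj0 hU (hg₀.restrict hle) P).1 h)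
  exact (Scheme.Hom.isAffineOpen_iff_of_isOpenImmersion V0.ι).1 (e ▸ (hU.preimage 𝒜.toQCAlg.π).basicOpen _)

/-- Multiplication by degree one. -/
noncomputable def mulGen (𝒜 : RelProj.QCGrAlg X) (jL : L ⟶ 𝒜.toModule) : Bilin 𝒜.toModule L 𝒜.toModule where
  app U a l := (show 𝒜.presheaf.obj (op U) from a) * (show 𝒜.presheaf.obj (op U) from jL.app U l)
  add_left U a a' b := add_mul (show 𝒜.presheaf.obj (op U) from a) a' _
  add_right U a b b' := by rw [map_add]; exact mul_add (show 𝒜.presheaf.obj (op U) from a) _ _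
  smul_left U r a b := mul_assoc (𝒜.str.app (op U) r) (show 𝒜.presheaf.obj (op U) from a) _
  smul_right U r a b := by
    rw [Scheme.Modules.Hom.app_smul]
    exact mul_left_comm (show 𝒜.presheaf.obj (op U) from a) (𝒜.str.app (op U) r) _
  res U V h a b := by
    refine (map_mul (𝒜.presheaf.map (homOfLE h).op).hom _ _).trans ?_
    exact congrArg (_ * ·) (app_resM jL h b).symm

theorem exists_powMap (𝒜 : RelProj.QCGrAlg X) (jL : L ⟶ 𝒜.toModule) :
    ∀ m : ℕ, ∃ μ : CohB1.tensorPow L m ⟶ 𝒜.toModule, ∀ (U : X.Opens) (g : Γ(L, U)),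
      (show 𝒜.presheaf.obj (op U) from μ.app U (powSec g m)) = (show 𝒜.presheaf.obj (op U) from jL.app U g) ^ m
  | 0 => by
    let one : Γ(𝒜.toModule, ⊤) := (1 : 𝒜.presheaf.obj (op ⊤))
    refine ⟨unitDesc 𝒜.toModule one, fun U g => ?_⟩
    rw [pow_zero]
    exact (unitVal_unitDesc 𝒜.toModule one U).trans (map_one (𝒜.presheaf.map (homOfLE (le_top : U ≤ ⊤)).op).hom)
  | m + 1 => by
    obtain ⟨μ, hμ⟩ := exists_powMap 𝒜 jL m
    refine ⟨tensorMap μ (𝟙 L) ≫ (mulGen 𝒜 jL).desc, fun U g => ?_⟩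
    have e1 : (tensorMap μ (𝟙 L) ≫ (mulGen 𝒜 jL).desc).app U (powSec g (m + 1)) =
        (mulGen 𝒜 jL).desc.app U (tmul (μ.app U (powSec g m)) g) :=
      congrArg ((mulGen 𝒜 jL).desc.app U) (tensorMap_tmul μ (𝟙 L) (powSec g m) g)
    refine e1.trans ((Bilin.desc_tmul _ U _ _).trans ?_)
    rw [pow_succ, ← hμ U g]
    rfl

/-- A section of a power of the line bundle as a function: it vanishes on the zero section and its non-vanishing
locus is the punctured line bundle over the non-vanishing locus of the section. -/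
theorem exists_secFun [Coh.IsQCoh L] (hL : PicF.IsInvertible L) (hA : RelProj.IsGrSymAlg L 𝒜 jL)
    (haug : RelCone.IsAugmentation 𝒜 aug) (hj0 : RelCone.IsVertex 𝒜 aug j0) {W : X.Opens} {m : ℕ} (hm : 0 < m)
    (s : Γ(CohB1.tensorPow L m, W)) :
    ∃ a : 𝒜.presheaf.obj (op W), j0.appLE _ W (le_preimage_vertex hj0 W) (secVal 𝒜.toQCAlg W a) = 0 ∧
      ∀ (U : X.Opens), IsAffineOpen U → ∀ (hUW : U ≤ W) (g : Γ(L, U)) (hg : IsGen L U g),
        𝒜.presheaf.map (homOfLE hUW).op a =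
          𝒜.str.app (op U) ((isGen_powSec hg m).coef le_rfl (resM _ hUW s)) *
            (show 𝒜.presheaf.obj (op U) from jL.app U g) ^ m := by
  obtain ⟨μ, hμ⟩ := exists_powMap 𝒜 jL m
  let a : 𝒜.presheaf.obj (op W) := μ.app W s
  have hloc : ∀ (U : X.Opens), IsAffineOpen U → ∀ (hUW : U ≤ W) (g : Γ(L, U)) (hg : IsGen L U g),
      𝒜.presheaf.map (homOfLE hUW).op a =
        𝒜.str.app (op U) ((isGen_powSec hg m).coef le_rfl (resM _ hUW s)) *
          (show 𝒜.presheaf.obj (op U) from jL.app U g) ^ m := by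
    intro U hU hUW g hg
    have h0 := (isGen_powSec hg m).coef_spec le_rfl (resM _ hUW s)
    rw [resM_self] at h0
    refine (app_resM μ hUW s).symm.trans ?_
    conv_lhs => rw [← h0, Scheme.Modules.Hom.app_smul]
    rw [← hμ U g]
    rfl
  refine ⟨a, ?_, hloc⟩
  rw [vertex_ev hj0]
  refine AmpleLib.sec_ext (Coh.structureModule X) (show Γ(Coh.structureModule X, W) from aug.hom.app (op W) a) 0
    fun x hx => ?_
  obtain ⟨U₀, hx₀, g₀, hg₀⟩ := exists_isGen hL x
  obtain ⟨U, hU, hxU, hle⟩ := exists_isAffineOpen_mem_and_subset (X := X) (x := x) (U := U₀ ⊓ W) ⟨hx₀, hx⟩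
  have h0 : U ≤ U₀ := fun z hz => (hle hz).1
  have hUW : U ≤ W := fun z hz => (hle hz).2
  refine ⟨U, hUW, hxU, ?_⟩
  show res hUW (aug.hom.app (op W) a) = res hUW 0
  rw [← aug_res hUW, hloc U hU hUW _ (hg₀.restrict h0), map_mul, map_pow, map_zero]
  have hT : aug.hom.app (op U) (show 𝒜.presheaf.obj (op U) from jL.app U (resM L h0 g₀)) = 0 :=
    haug U hU 0 _ (hA.2 U hU _)
  rw [hT, zero_pow hm.ne', mul_zero]
  rfl

end Groth.Agent.RelVALib
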