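import Groth.Agent.RelVALib.UPHom

/-!
# The universal property of a projective bundle
-/

set_option autoImplicit false
set_option linter.unusedSectionVars false
set_option backward.isDefEq.respectTransparency.types false
set_option maxHeartbeats 1000000

universe u

open AlgebraicGeometry CategoryTheory TopologicalSpace Opposite
open Groth.Agent.Coherent Groth.Agent.PicLib Groth.Agent.AmpleLib

namespace Groth.Agent.RelVALib

variable {Y P X : Scheme.{u}} {E : Y.Modules} {𝒮 : RelProj.QCGrAlg Y} {j : E ⟶ 𝒮.toModule} {p : P ⟶ Y}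
  {chart : ∀ (U : Y.Opens) (hU : IsAffineOpen U), ((p ⁻¹ᵁ U : P.Opens) : Scheme.{u}) ≅ Proj (𝒮.deg U hU)}
  {O1 : P.Modules}
  {lam : ∀ (U : Y.Opens) (hU : IsAffineOpen U),
    O1 ⟶ (Scheme.Modules.pushforward (RelProj.emb p chart U hU)).obj (GrTwist.twist (𝒮.deg U hU) 1)}
  {φ : E ⟶ (Scheme.Modules.pushforward p).obj O1}

variable {L : X.Modules}

theorem le_of_over {r : X ⟶ P} {g : X ⟶ Y} (hr : r ≫ p = g) (U : Y.Opens) : r ⁻¹ᵁ (p ⁻¹ᵁ U) ≤ g ⁻¹ᵁ U := by
  subst hr; exact le_rfl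

theorem ge_of_over {r : X ⟶ P} {g : X ⟶ Y} (hr : r ≫ p = g) (U : Y.Opens) : g ⁻¹ᵁ U ≤ r ⁻¹ᵁ (p ⁻¹ᵁ U) := by
  subst hr; exact le_rfl

/-- The identification carries the canonical sections to the given ones. -/
def Classifies (φ : E ⟶ (Scheme.Modules.pushforward p).obj O1) (g : X ⟶ Y)
    (t : E ⟶ (Scheme.Modules.pushforward g).obj L) (r : X ⟶ P) (hr : r ≫ p = g)
    (τ : (Scheme.Modules.pullback r).obj O1 ≅ L) : Prop :=
  ∀ (U : Y.Opens), IsAffineOpen U → ∀ e : Γ(E, U),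
    τ.hom.app (r ⁻¹ᵁ (p ⁻¹ᵁ U)) (PicLib.pullSec r (show Γ(O1, p ⁻¹ᵁ U) from φ.app U e)) =
      resM L (le_of_over hr U) (t.app U e)

/-- The ring map of a restriction. -/
theorem ev_restrict (r : X ⟶ P) {W : X.Opens} {O : P.Opens} (h : (⊤ : W.toScheme.Opens) ≤ (W.ι ≫ r) ⁻¹ᵁ O)
    (hW : W ≤ r ⁻¹ᵁ O) (c : Γ(P, O)) : ev (W.ι ≫ r) O h c = r.appLE O W hW c :=
  (congrArg (ev (W.ι ≫ r) O h) (ConcreteCategory.congr_hom (show 𝟙 _ = (𝟙 P : P ⟶ P).appLE O O le_rfl by
    simp [Scheme.Hom.appLE]; exact (P.presheaf.map_id _).symm) c)).trans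
    (ev_comp (W.ι ≫ r) (𝟙 P) r (Category.comp_id _) le_rfl h hW c)

theorem range_le_iff (r : X ⟶ P) {W : X.Opens} (O : P.Opens) :
    (⊤ : W.toScheme.Opens) ≤ (W.ι ≫ r) ⁻¹ᵁ O ↔ W ≤ r ⁻¹ᵁ O :=
  ⟨fun h x hx => h (Set.mem_univ (⟨x, hx⟩ : W.toScheme)), fun h y _ => h y.2⟩

theorem isGen_of_iso {M : X.Modules} (e : L ≅ M) {U : X.Opens} {s : Γ(L, U)} (hs : IsGen L U s) :
    IsGen M U (e.hom.app U s) := fun V hV => by
  have h : (fun c : Γ(X, V) => c • resM M hV (e.hom.app U s)) = e.hom.app V ∘ fun c : Γ(X, V) => c • resM L hV s := by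
    funext c
    rw [Function.comp_apply, Scheme.Modules.Hom.app_smul, app_resM]
  rw [h]
  exact (ConcreteCategory.bijective_of_isIso (e.hom.app V)).comp (hs V hV)

variable (D : PBundle E 𝒮 j p chart O1 lam φ) {g : X ⟶ Y}
  {t : E ⟶ (Scheme.Modules.pushforward g).obj L}

include D

/-- A classifying morphism restricts to local ones. -/
theorem good_of_classifies {r : X ⟶ P} {hr : r ≫ p = g} {τ : (Scheme.Modules.pullback r).obj O1 ≅ L}
    (h : Classifies φ g t r hr τ) {U : Y.Opens} (hU : IsAffineOpen U) (e : Γ(E, U)) {W : X.Opens}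
    (hW : W ≤ g ⁻¹ᵁ U) (hgen : IsGen L W (resM L hW (t.app U e))) : Good D g t W (W.ι ≫ r) hU e := by
  have hWr : W ≤ r ⁻¹ᵁ (p ⁻¹ᵁ U) := hW.trans (ge_of_over hr U)
  have hτ : ∀ e' : Γ(E, U), τ.hom.app W (resM _ hWr (PicLib.pullSec r (show Γ(O1, p ⁻¹ᵁ U) from φ.app U e'))) =
      resM L hW (t.app U e') := fun e' => by
    rw [app_resM, h U hU e']
    exact resM_resM L _ _ _
  have hgen' : IsGen ((Scheme.Modules.pullback r).obj O1) W
      (resM _ hWr (PicLib.pullSec r (show Γ(O1, p ⁻¹ᵁ U) from φ.app U e))) := by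
    have h1 := isGen_of_iso τ.symm hgen
    rw [← hτ e, ← ConcreteCategory.comp_apply] at h1
    have h2 : τ.hom.app W ≫ τ.inv.app W = 𝟙 _ :=
      congrArg (fun q => Scheme.Modules.Hom.app q W) τ.hom_inv_id
    refine isGen_congr ?_ h1
    exact ConcreteCategory.congr_hom h2 _
  have hle : W ≤ r ⁻¹ᵁ opn j p chart hU e := fun x hx => by
    obtain ⟨O, hO, hxO, hgO⟩ := exists_isGen_of_pullSec r D.invertible _ hWr hgen' hx
    exact D.le_opn hU e hO hgO hxO
  refine ⟨hW, by rw [Category.assoc, hr], (range_le_iff r _).2 hle, hgen, fun e' c hc => ?_⟩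
  rw [ev_restrict r _ hle, ← hτ e, ← hτ e', ← Scheme.Modules.Hom.app_smul]
  refine congrArg (τ.hom.app W) ?_
  have h1 := congrArg (fun z => resM _ hle (PicLib.pullSec r z)) hc
  simp only [pullSec_smul, resM_smul, ← resM_pullSec, resM_resM] at h1
  exact h1

/-- Uniqueness of the classifying morphism. -/
theorem eq_of_classifies (hcov : ∀ x : X, ∃ (U : Y.Opens) (_ : IsAffineOpen U) (e : Γ(E, U)) (W : X.Opens)
      (hW : W ≤ g ⁻¹ᵁ U), x ∈ W ∧ IsGen L W (resM L hW (t.app U e)))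
    {r r' : X ⟶ P} {hr : r ≫ p = g} {hr' : r' ≫ p = g} {τ : (Scheme.Modules.pullback r).obj O1 ≅ L}
    {τ' : (Scheme.Modules.pullback r').obj O1 ≅ L} (h : Classifies φ g t r hr τ) (h' : Classifies φ g t r' hr' τ') :
    r = r' := by
  choose U hU e W hW hxW hgen using hcov
  have hc : IsOpenCover W := eq_top_iff.2 fun x _ => Opens.mem_iSup.2 ⟨x, hxW x⟩
  exact (X.openCoverOfIsOpenCover W hc).hom_ext _ _ fun x =>
    (good_of_classifies D h (hU x) (e x) (hW x) (hgen x)).eq (good_of_classifies D h' (hU x) (e x) (hW x) (hgen x))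

/-- Existence of the classifying morphism. -/
theorem exists_classifies
    (hcov : ∀ x : X, ∃ (U : Y.Opens) (_ : IsAffineOpen U) (e : Γ(E, U)) (W : X.Opens)
      (hW : W ≤ g ⁻¹ᵁ U), x ∈ W ∧ IsGen L W (resM L hW (t.app U e))) :
    ∃ (r : X ⟶ P) (hr : r ≫ p = g) (τ : (Scheme.Modules.pullback r).obj O1 ≅ L), Classifies φ g t r hr τ := by
  choose U hU e W hW hxW hgen using hcov
  choose f hf using fun x => exists_good (D := D) (hU x) (e x) (hW x) (hgen x)
  have hc : IsOpenCover W := eq_top_iff.2 fun x _ => Opens.mem_iSup.2 ⟨x, hxW x⟩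
  let r : X ⟶ P := (X.openCoverOfIsOpenCover W hc).glueMorphisms f fun x y => by
    let i : Limits.pullback ((X.openCoverOfIsOpenCover W hc).f x) ((X.openCoverOfIsOpenCover W hc).f y) ≅
        ((W x ⊓ W y : X.Opens) : Scheme.{u}) := (isPullback_opens_inf _ _).isoPullback.symm
    rw [← cancel_epi i.inv]
    simpa [i, Scheme.openCoverOfIsOpenCover] using (hf x).agree (hf y)
  have hr0 : ∀ x, (W x).ι ≫ r = f x := fun x => (X.openCoverOfIsOpenCover W hc).ι_glueMorphisms f _ x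
  have hr : r ≫ p = g := by
    refine (X.openCoverOfIsOpenCover W hc).hom_ext _ _ fun x => ?_
    show (W x).ι ≫ r ≫ p = (W x).ι ≫ g
    rw [← Category.assoc, hr0 x, (hf x).isOver]
  have hany : ∀ {V : Y.Opens} (hV : IsAffineOpen V) (b : Γ(E, V)) {T : X.Opens} (hT : T ≤ g ⁻¹ᵁ V),
      IsGen L T (resM L hT (t.app V b)) → Good D g t T (T.ι ≫ r) hV b := by
    intro V hV b T hT hg'
    obtain ⟨f', hf'⟩ := exists_good (D := D) hV b hT hg'
    suffices f' = T.ι ≫ r from this ▸ hf'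
    let M : X → T.toScheme.Opens := fun x => T.ι ⁻¹ᵁ W x
    have hM : IsOpenCover M := eq_top_iff.2 fun y _ => Opens.mem_iSup.2 ⟨y.1, hxW y.1⟩
    refine (T.toScheme.openCoverOfIsOpenCover M hM).hom_ext _ _ fun x => ?_
    let l : (M x).toScheme ⟶ (T ⊓ W x).toScheme := IsOpenImmersion.lift (T ⊓ W x).ι ((M x).ι ≫ T.ι) (by
      rintro _ ⟨z, rfl⟩
      rw [Scheme.Opens.range_ι]
      exact ⟨((M x).ι z).2, z.2⟩)
    have hl : (M x).ι = l ≫ X.homOfLE (inf_le_left : T ⊓ W x ≤ T) := by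
      rw [← cancel_mono T.ι, Category.assoc, Scheme.homOfLE_ι]
      exact (IsOpenImmersion.lift_fac _ _ _).symm
    show (M x).ι ≫ f' = (M x).ι ≫ T.ι ≫ r
    rw [hl, Category.assoc, Category.assoc, hf'.agree (hf x), ← hr0 x, Scheme.homOfLE_ι_assoc,
      Scheme.homOfLE_ι_assoc]
  have hgenO : ∀ {V : Y.Opens} (hV : IsAffineOpen V) (b : Γ(E, V)), ∃ hle : r ⁻¹ᵁ opn j p chart hV b ≤ g ⁻¹ᵁ V,
      IsGen L (r ⁻¹ᵁ opn j p chart hV b) (resM L hle (t.app V b)) := by
    intro V hV b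
    have hle : r ⁻¹ᵁ opn j p chart hV b ≤ g ⁻¹ᵁ V := (r.preimage_mono (D.opn_le hV b)).trans (le_of_over hr V)
    have hloc : ∀ x ∈ r ⁻¹ᵁ opn j p chart hV b, ∃ (T : X.Opens) (hT : T ≤ g ⁻¹ᵁ V),
        x ∈ T ∧ IsGen L T (resM L hT (t.app V b)) := by
      intro x hx
      obtain ⟨s, s', hs, hxs⟩ := exists_basicOpen_le_affine_inter (hU x) hV (g x) ⟨hW x (hxW x), hle hx⟩
      have hAV : Y.basicOpen s ≤ V := hs.le.trans (Y.basicOpen_le s')
      let T := W x ⊓ g ⁻¹ᵁ Y.basicOpen s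
      have hA := (hany (hU x) (e x) (inf_le_left.trans (hW x) : T ≤ _)
        (isGen_congr (resM_resM L _ _ _) ((hgen x).restrict inf_le_left))).basic s inf_le_right
      let hA' := (hU x).basicOpen s
      let b' := resM E hAV b
      let c := (D.isGen_phi hA' (resM E (Y.basicOpen_le s) (e x))).coef le_rfl
        (resM O1 (D.opn_le hA' (resM E (Y.basicOpen_le s) (e x))) (φ.app (Y.basicOpen s) b'))
      have hc : c • resM O1 (D.opn_le hA' _) (φ.app (Y.basicOpen s) (resM E (Y.basicOpen_le s) (e x))) =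
          resM O1 (D.opn_le hA' (resM E (Y.basicOpen_le s) (e x))) (φ.app (Y.basicOpen s) b') := by
        simpa only [resM_self] using (D.isGen_phi hA' (resM E (Y.basicOpen_le s) (e x))).coef_spec le_rfl
          (resM O1 (D.opn_le hA' (resM E (Y.basicOpen_le s) (e x))) (φ.app (Y.basicOpen s) b'))
      refine ⟨X.basicOpen (ev (T.ι ≫ r) _ hA.range c), (X.basicOpen_le _).trans (inf_le_right.trans (g.preimage_mono hAV)),
        ?_, ?_⟩
      · have hTO := (range_le_iff r _).1 hA.range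
        rw [ev_restrict r _ hTO, Scheme.basicOpen_appLE]
        have hxT : x ∈ T := ⟨hxW x, hxs⟩
        refine ⟨hxT, ?_⟩
        have hin : r x ∈ opn j p chart hA' (resM E (Y.basicOpen_le s) (e x)) ⊓ opn j p chart hA' b' := by
          refine ⟨hTO hxT, ?_⟩
          rw [D.opn_res hV hA' hAV b]
          exact ⟨hx, ge_of_over hr (Y.basicOpen s) hxs⟩
        refine le_basicOpen_of_isGen (D.isGen_phi hA' (resM E (Y.basicOpen_le s) (e x))) hc inf_le_left ?_ hin
        exact isGen_congr ((resM_resM O1 _ _ _).trans (resM_resM O1 _ _ _).symm)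
          ((D.isGen_phi hA' b').restrict inf_le_right)
      · refine isGen_congr ?_ (isGen_basicOpen_of_smul hA.gen (hA.rel b' c hc))
        rw [t_res hAV, resM_resM, resM_resM]
    choose T hT hxT hgT using hloc
    refine ⟨hle, isGen_of_cover (fun x : (r ⁻¹ᵁ opn j p chart hV b : X.Opens) => r ⁻¹ᵁ opn j p chart hV b ⊓ T x.1 x.2)
      (fun _ => inf_le_left) (fun x hx => Opens.mem_iSup.2 ⟨⟨x, hx⟩, hx, hxT x hx⟩) fun x => ?_⟩
    refine isGen_congr ?_ ((hgT x.1 x.2).restrict (inf_le_right : r ⁻¹ᵁ opn j p chart hV b ⊓ T x.1 x.2 ≤ _))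
    rw [resM_resM, resM_resM]
  choose hle hgO using fun (k : Σ U : Y.affineOpens, Γ(E, U.1)) => hgenO k.1.2 k.2
  obtain ⟨θ, hθ⟩ := exists_hom_of_gen (L := O1) (M := (Scheme.Modules.pushforward r).obj L)
    (fun k : Σ U : Y.affineOpens, Γ(E, U.1) => opn j p chart k.1.2 k.2) D.iSup_opn
    (fun k => resM O1 (D.opn_le k.1.2 k.2) (φ.app k.1.1 k.2)) (fun k => D.isGen_phi k.1.2 k.2)
    (fun k => resM L (hle k) (t.app k.1.1 k.2)) fun a b O ha hb c hc => by
      rw [resM_resM, resM_resM] at hc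
      show resM L (r.preimage_mono ha) (resM L (hle a) (t.app a.1.1 a.2)) =
        r.app O c • resM L (r.preimage_mono hb) (resM L (hle b) (t.app b.1.1 b.2))
      rw [resM_resM, resM_resM]
      refine AmpleLib.sec_ext L _ _ fun x hx => ?_
      have hxa : g x ∈ a.1.1 := hle a (r.preimage_mono ha hx)
      have hxb : g x ∈ b.1.1 := hle b (r.preimage_mono hb hx)
      obtain ⟨s, s', hs, hxs⟩ := exists_basicOpen_le_affine_inter b.1.2 a.1.2 (g x) ⟨hxb, hxa⟩
      have hAa : Y.basicOpen s ≤ a.1.1 := hs.le.trans (Y.basicOpen_le s')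
      let T := r ⁻¹ᵁ O ⊓ g ⁻¹ᵁ Y.basicOpen s
      refine ⟨T, inf_le_left, ⟨hx, hxs⟩, ?_⟩
      have hTb : T ≤ r ⁻¹ᵁ opn j p chart b.1.2 b.2 := inf_le_left.trans (r.preimage_mono hb)
      have hA := (hany b.1.2 b.2 (hTb.trans (hle b)) (isGen_congr (resM_resM L _ _ _) ((hgO b).restrict hTb))).basic s
        inf_le_right
      let hA' := b.1.2.basicOpen s
      let Ob := opn j p chart hA' (resM E (Y.basicOpen_le s) b.2)
      let c' := (D.isGen_phi hA' (resM E (Y.basicOpen_le s) b.2)).coef le_rfl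
        (resM O1 (D.opn_le hA' (resM E (Y.basicOpen_le s) b.2)) (φ.app (Y.basicOpen s) (resM E hAa a.2)))
      have hc' : c' • resM O1 (D.opn_le hA' _) (φ.app (Y.basicOpen s) (resM E (Y.basicOpen_le s) b.2)) =
          resM O1 (D.opn_le hA' (resM E (Y.basicOpen_le s) b.2)) (φ.app (Y.basicOpen s) (resM E hAa a.2)) := by
        simpa only [resM_self] using (D.isGen_phi hA' (resM E (Y.basicOpen_le s) b.2)).coef_spec le_rfl
          (resM O1 (D.opn_le hA' (resM E (Y.basicOpen_le s) b.2)) (φ.app (Y.basicOpen s) (resM E hAa a.2)))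
      have hTO := (range_le_iff r _).1 hA.range
      let O' := O ⊓ Ob
      have hcc : res (inf_le_left : O' ≤ O) c = res (inf_le_right : O' ≤ Ob) c' := by
        refine ((D.isGen_phi b.1.2 b.2) O' (inf_le_left.trans hb)).1 ?_
        show res inf_le_left c • resM O1 _ _ = res inf_le_right c' • resM O1 _ _
        have h1 := congrArg (resM O1 (inf_le_left : O' ≤ O)) hc
        have h2 := congrArg (resM O1 (inf_le_right : O' ≤ Ob)) hc'
        rw [resM_smul, resM_resM, resM_resM] at h1 h2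
        rw [D.phi_res, D.phi_res, resM_resM, resM_resM] at h2
        rw [resM_resM, ← h1, h2]
      have hTO' : T ≤ r ⁻¹ᵁ O' := fun y hy => ⟨hy.1, hTO hy⟩
      have hev := congrArg (r.appLE O' T hTO') hcc
      rw [← ConcreteCategory.comp_apply, ← ConcreteCategory.comp_apply, Scheme.Hom.map_appLE,
        Scheme.Hom.map_appLE] at hev
      have hrel := hA.rel _ c' hc'
      rw [ev_restrict r _ hTO, ← hev, t_res, t_res, resM_resM, resM_resM] at hrel
      rw [resM_smul, resM_resM, resM_resM, ← hrel]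
      rfl
  let ψ := ((Scheme.Modules.pullbackPushforwardAdjunction r).homEquiv _ _).symm θ
  have : IsIso ψ := by
    refine PicLib.isIso_of_gens ψ (fun k : Σ U : Y.affineOpens, Γ(E, U.1) => r ⁻¹ᵁ opn j p chart k.1.2 k.2) ?_
      (fun k => PicLib.pullSec r (resM O1 (D.opn_le k.1.2 k.2) (φ.app k.1.1 k.2)))
      (fun k => isGen_pullSec r (D.isGen_phi k.1.2 k.2) D.invertible) fun k => ?_
    · rw [eq_top_iff]
      intro x _
      obtain ⟨k, hk⟩ := Opens.mem_iSup.1 (D.iSup_opn.ge (Set.mem_univ (r x)))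
      exact Opens.mem_iSup.2 ⟨k, hk⟩
    · rw [homEquiv_symm_app_pullSec, hθ]
      exact hgO k
  refine ⟨r, hr, asIso ψ, fun V hV b => ?_⟩
  refine (homEquiv_symm_app_pullSec r θ (show Γ(O1, p ⁻¹ᵁ V) from φ.app V b)).trans ?_
  refine AmpleLib.sec_ext L _ _ fun x hx => ?_
  obtain ⟨b', hb'⟩ := D.exists_mem_opn hV (show p.base (r x) ∈ V from hx)
  let O := opn j p chart hV b'
  refine ⟨r ⁻¹ᵁ O, r.preimage_mono (D.opn_le hV b'), hb', ?_⟩
  let c := (D.isGen_phi hV b').coef le_rfl (resM O1 (D.opn_le hV b') (φ.app V b))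
  have hc : c • resM O1 (D.opn_le hV b') (φ.app V b') = resM O1 (D.opn_le hV b') (φ.app V b) := by
    simpa only [resM_self] using (D.isGen_phi hV b').coef_spec le_rfl (resM O1 (D.opn_le hV b') (φ.app V b))
  have hG := hany hV b' (hle ⟨⟨V, hV⟩, b'⟩) (hgO ⟨⟨V, hV⟩, b'⟩)
  have hrel := hG.rel b c hc
  rw [ev_restrict r _ le_rfl] at hrel
  refine (app_resM θ (D.opn_le hV b') (φ.app V b)).symm.trans ?_
  rw [← hc, Scheme.Modules.Hom.app_smul, hθ ⟨⟨V, hV⟩, b'⟩]
  rw [resM_resM, ← hrel]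
  exact congrArg (fun z : Γ(X, r ⁻¹ᵁ O) => z • resM L (hle ⟨⟨V, hV⟩, b'⟩) (t.app V b'))
    (ConcreteCategory.congr_hom (Scheme.Hom.app_eq_appLE (f := r) (U := O)) c)

omit D in
theorem map_app_pullSec (r : X ⟶ P) {M N : P.Modules} (a : M ⟶ N) (U : P.Opens) (m : Γ(M, U)) :
    ((Scheme.Modules.pullback r).map a).app (r ⁻¹ᵁ U) (PicLib.pullSec r m) = PicLib.pullSec r (a.app U m) :=
  congr(($((Scheme.Modules.pullbackPushforwardAdjunction r).unit.naturality a)).app U m).symm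

omit D in
/-- Morphisms out of a module agree once they agree over affine opens. -/
theorem hom_ext_affine {M N : Y.Modules} (a b : M ⟶ N)
    (h : ∀ (U : Y.Opens), IsAffineOpen U → ∀ x : Γ(M, U), a.app U x = b.app U x) : a = b := by
  refine Scheme.Modules.hom_ext _ _ fun V => ConcreteCategory.hom_ext _ _ fun x => ?_
  refine AmpleLib.sec_ext N _ _ fun y hy => ?_
  obtain ⟨A, hA, hyA, hAV⟩ := Opens.isBasis_iff_nbhd.1 Y.isBasis_affineOpens hy
  refine ⟨A, hAV, hyA, ?_⟩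
  rw [← app_resM, ← app_resM]
  exact h A hA _

omit D in
/-- The two forms of the classifying condition agree. -/
theorem classifies_iff {r : X ⟶ P} (hr : r ≫ p = g) (τ : (Scheme.Modules.pullback r).obj O1 ≅ L)
    (s : (Scheme.Modules.pullback g).obj E ⟶ L) :
    ((Scheme.Modules.pullbackCongr hr).inv.app E ≫ (Scheme.Modules.pullbackComp r p).inv.app E ≫
      (Scheme.Modules.pullback r).map
        (((Scheme.Modules.pullbackPushforwardAdjunction p).homEquiv E O1).symm φ) ≫ τ.hom = s) ↔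
      Classifies φ g ((Scheme.Modules.pullbackPushforwardAdjunction g).homEquiv E L s) r hr τ := by
  subst hr
  let A := (Scheme.Modules.pullbackPushforwardAdjunction (r ≫ p)).homEquiv E L
  let a := ((Scheme.Modules.pullbackPushforwardAdjunction p).homEquiv E O1).symm φ
  let c := (Scheme.Modules.pullbackComp r p).inv.app E ≫ (Scheme.Modules.pullback r).map a ≫ τ.hom
  have hc : (Scheme.Modules.pullbackCongr (rfl : r ≫ p = r ≫ p)).inv.app E ≫ c = c := by
    have : (Scheme.Modules.pullbackCongr (rfl : r ≫ p = r ≫ p)).inv.app E = 𝟙 _ := by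
      simp [Scheme.Modules.pullbackCongr]
    rw [this, Category.id_comp]
  have key : ∀ (U : Y.Opens) (e : Γ(E, U)), (A c).app U e =
      τ.hom.app (r ⁻¹ᵁ (p ⁻¹ᵁ U)) (PicLib.pullSec r (show Γ(O1, p ⁻¹ᵁ U) from φ.app U e)) := by
    intro U e
    show c.app ((r ≫ p) ⁻¹ᵁ U) (PicLib.pullSec (r ≫ p) e) = _
    show τ.hom.app _ (((Scheme.Modules.pullback r).map a).app _
      (((Scheme.Modules.pullbackComp r p).inv.app E).app _ (PicLib.pullSec (r ≫ p) e))) = _
    rw [pullbackComp_inv_app_pullSec]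
    refine congrArg (τ.hom.app _) ?_
    refine (map_app_pullSec r a (p ⁻¹ᵁ U) (PicLib.pullSec p e)).trans ?_
    rw [homEquiv_symm_app_pullSec]
  show (Scheme.Modules.pullbackCongr (rfl : r ≫ p = r ≫ p)).inv.app E ≫ c = s ↔ _
  rw [hc, ← A.apply_eq_iff_eq]
  constructor
  · intro h U hU e
    rw [← key U e, h]
    exact (resM_self L _ _).symm
  · intro h
    refine hom_ext_affine _ _ fun U hU e => ?_
    rw [key U e, h U hU e]
    exact resM_self L _ _

end Groth.Agent.RelVALib
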