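import Groth.Agent.RelVALib.UPChart

/-!
# The canonical map of a projective bundle
-/

set_option autoImplicit false
set_option linter.unusedSectionVars false
set_option backward.isDefEq.respectTransparency.types false
set_option maxHeartbeats 1000000

universe u

open AlgebraicGeometry CategoryTheory TopologicalSpace Opposite
open Groth.Agent.Coherent Groth.Agent.PicLib Groth.Agent.AmpleLib
open Groth.Agent.TwistLib

namespace Groth.Agent.RelVALib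

variable {Y P : Scheme.{u}}

/-- A morphism of modules from its values on affine opens. -/
theorem exists_hom_of_affine (M N : Y.Modules) (f : ∀ U : Y.Opens, IsAffineOpen U → (Γ(M, U) →+ Γ(N, U)))
    (hlin : ∀ (U : Y.Opens) (hU : IsAffineOpen U) (r : Γ(Y, U)) (x : Γ(M, U)), f U hU (r • x) = r • f U hU x)
    (hres : ∀ (U V : Y.Opens) (hU : IsAffineOpen U) (hV : IsAffineOpen V) (h : V ≤ U) (x : Γ(M, U)),
      f V hV (resM M h x) = resM N h (f U hU x)) :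
    ∃ φ : M ⟶ N, ∀ (U : Y.Opens) (hU : IsAffineOpen U) (x : Γ(M, U)), φ.app U x = f U hU x := by
  let I : Y.Opens → Type u := fun V => {A : Y.Opens // IsAffineOpen A ∧ A ≤ V}
  have hcov : ∀ V : Y.Opens, V ≤ ⨆ A : I V, A.1 := fun V y hy => by
    obtain ⟨A, hA, hyA, hAV⟩ := Opens.isBasis_iff_nbhd.1 Y.isBasis_affineOpens hy
    exact Opens.mem_iSup.2 ⟨⟨A, hA, hAV⟩, hyA⟩
  have hext : ∀ {V : Y.Opens} {a b : Γ(N, V)}, (∀ A : I V, resM N A.2.2 a = resM N A.2.2 b) → a = b :=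
    fun {V a b} h => TopCat.Sheaf.eq_of_locally_eq' (⟨N.presheaf, N.isSheaf⟩ : TopCat.Sheaf Ab Y)
      (fun A : I V => A.1) V (fun A => homOfLE A.2.2) (hcov V) a b h
  have hex : ∀ (V : Y.Opens) (x : Γ(M, V)), ∃ y : Γ(N, V), ∀ A : I V, resM N A.2.2 y = f A.1 A.2.1 (resM M A.2.2 x) := by
    intro V x
    refine (TopCat.Sheaf.existsUnique_gluing' (⟨N.presheaf, N.isSheaf⟩ : TopCat.Sheaf Ab Y)
      (fun A : I V => A.1) V (fun A => homOfLE A.2.2) (hcov V) (fun A => f A.1 A.2.1 (resM M A.2.2 x))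
      fun A B => ?_).exists
    show resM N (inf_le_left : A.1 ⊓ B.1 ≤ A.1) (f A.1 A.2.1 _) = resM N (inf_le_right : A.1 ⊓ B.1 ≤ B.1) (f B.1 B.2.1 _)
    refine AmpleLib.sec_ext N _ _ fun y hy => ?_
    obtain ⟨C, hC, hyC, hCle⟩ := Opens.isBasis_iff_nbhd.1 Y.isBasis_affineOpens hy
    refine ⟨C, hCle, hyC, ?_⟩
    rw [resM_resM, resM_resM, ← hres _ _ A.2.1 hC, ← hres _ _ B.2.1 hC, resM_resM, resM_resM]
  choose y hy using hex
  let app : ∀ V : Y.Opens, Γ(M, V) →+ Γ(N, V) := fun V => AddMonoidHom.mk' (y V) fun a b => hext fun A => by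
    rw [map_add, hy, hy, hy, map_add, map_add]
  have hnat : ∀ {V W : Y.Opens} (h : W ≤ V) (x : Γ(M, V)), y W (resM M h x) = resM N h (y V x) :=
    fun {V W} h x => hext fun A => by
      rw [hy, resM_resM, resM_resM]
      exact (hy V x ⟨A.1, A.2.1, A.2.2.trans h⟩).symm
  have hl : ∀ (V : Y.Opens) (r : Γ(Y, V)) (x : Γ(M, V)), y V (r • x) = r • y V x := fun V r x => hext fun A => by
    rw [hy, resM_smul, resM_smul, hy, hlin]
  let φ₀ : M.val ⟶ N.val := PresheafOfModules.homMk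
    { app := fun V => AddCommGrpCat.ofHom (app V.unop)
      naturality := fun V W f => ConcreteCategory.hom_ext _ _ fun x => hnat (leOfHom f.unop) x }
    (fun V r x => hl V.unop r x)
  refine ⟨⟨φ₀⟩, fun U hU x => ?_⟩
  have h := hy U x ⟨U, hU, le_rfl⟩
  rw [resM_self, resM_self] at h
  exact h

variable {E : Y.Modules} {𝒮 : RelProj.QCGrAlg Y} {j : E ⟶ 𝒮.toModule} {p : P ⟶ Y}
  {chart : ∀ (U : Y.Opens) (hU : IsAffineOpen U), ((p ⁻¹ᵁ U : P.Opens) : Scheme.{u}) ≅ Proj (𝒮.deg U hU)}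
  {O1 : P.Modules}
  {lam : ∀ (U : Y.Opens) (hU : IsAffineOpen U),
    O1 ⟶ (Scheme.Modules.pushforward (RelProj.emb p chart U hU)).obj (GrTwist.twist (𝒮.deg U hU) 1)}

section value

variable {A σ₀ : Type u} [CommRing A] [SetLike σ₀ A] [AddSubgroupClass σ₀ A] {𝒜 : ℕ → σ₀} [GradedRing 𝒜]

/-- Functions of the base on a standard open. -/
theorem appLE_over {U : Y.Opens} (hU : IsAffineOpen U) (ψ : Γ(Y, U) ⟶ CommRingCat.of (𝒜 0)) (q : Proj 𝒜 ⟶ Y)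
    (hq : q = Proj.toSpecZero 𝒜 ≫ Spec.map ψ ≫ hU.fromSpec) {f : A} (hf : f ∈ 𝒜 1)
    (h : Proj.basicOpen 𝒜 f ≤ q ⁻¹ᵁ U) :
    q.appLE U (Proj.basicOpen 𝒜 f) h =
      ψ ≫ CommRingCat.ofHom (HomogeneousLocalization.fromZeroRingHom 𝒜 _) ≫ Proj.awayToSection 𝒜 f := by
  refine UPLib.toSpecΓ_map_injective ((cancel_mono hU.fromSpec).1 ?_)
  rw [Spec.map_comp, Category.assoc, Category.assoc, Scheme.Opens.toSpecΓ_SpecMap_appLE_assoc,
    IsAffineOpen.toSpecΓ_fromSpec, Scheme.Hom.resLE_comp_ι, hq]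
  have hz := UPLib.appLE_fromZero hf (𝟙 (Proj 𝒜)) (Proj.basicOpen 𝒜 f) le_rfl
  rw [Category.id_comp] at hz
  rw [reassoc_of% hz]
  simp [Spec.map_comp]

theorem val_res {O : (Proj 𝒜).Opens} (hd : O ≤ ⊤) {a : 𝒜 1} (y : O) :
    GrTwist.val (V := O) (resM (GrTwist.twist 𝒜 1) hd
      (show Γ(GrTwist.twist 𝒜 1, ⊤) from GrTwist.globalOf 𝒜 a)) y = algebraMap A (GrTwist.Loc 𝒜 y.1) a :=
  Localization.mk_one_eq_algebraMap (a : A)

/-- Functions of the base act by their value. -/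
theorem val_smul_over (hcov : DegOneCov 𝒜) {U : Y.Opens} (hU : IsAffineOpen U)
    (ψ : Γ(Y, U) ⟶ CommRingCat.of (𝒜 0)) (q : Proj 𝒜 ⟶ Y)
    (hq : q = Proj.toSpecZero 𝒜 ≫ Spec.map ψ ≫ hU.fromSpec) (O : (Proj 𝒜).Opens) (hO : O = q ⁻¹ᵁ U)
    (c : Γ(Y, U)) (s : Γ(GrTwist.twist 𝒜 1, O)) (y : O) :
    GrTwist.val (V := O) ((show Γ(Proj 𝒜, O) from q.appLE U O hO.le c) • s) y =
      algebraMap A (GrTwist.Loc 𝒜 y.1) (ψ c : A) * GrTwist.val (V := O) s y := by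
  obtain ⟨f, hf, hfy⟩ := hcov y.1
  refine (GrTwist.coe_smul_val _ y.1 _ _).trans (congrArg (· * _) ?_)
  let V := O ⊓ Proj.basicOpen 𝒜 f
  have hy : y.1 ∈ V := ⟨y.2, hfy⟩
  have h1 : res (inf_le_left : V ≤ O) (q.appLE U O hO.le c) = q.appLE U V (inf_le_left.trans hO.le) c := by
    rw [← ConcreteCategory.comp_apply (q.appLE U O hO.le), Scheme.Hom.appLE_map]
  have hD : Proj.basicOpen 𝒜 f ≤ q ⁻¹ᵁ U := by
    intro z _
    show q z ∈ U
    rw [hq]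
    exact hU.range_fromSpec.le ⟨_, rfl⟩
  have h2 : q.appLE U V (inf_le_left.trans hO.le) c =
      res (inf_le_right : V ≤ Proj.basicOpen 𝒜 f) (Proj.awayToSection 𝒜 f
        (HomogeneousLocalization.fromZeroRingHom 𝒜 _ (ψ c))) := by
    rw [← Scheme.Hom.appLE_map q hD (homOfLE (inf_le_right : V ≤ Proj.basicOpen 𝒜 f)).op,
      ConcreteCategory.comp_apply, appLE_over hU ψ q hq hf hD]
    rfl
  have h3 := congrArg (fun z : Γ(Proj 𝒜, V) => ((z : GrTwist.O (op V)).1 ⟨y.1, hy⟩).val) (h1.trans h2)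
  refine Eq.trans h3 ?_
  rw [← UPLib.away_mk_zero hf (ψ c : A) (by simpa using (ψ c).2)]
  refine Eq.trans (TwistLib.G.val_awayToSection_mk hf 0 _ _ ⟨y.1, hfy⟩) ?_
  rw [← Localization.mk_one_eq_algebraMap]
  exact congrArg _ (Subtype.ext (pow_zero f))

end value

/-- The characterisation of the canonical section. -/
def IsCan (j : E ⟶ 𝒮.toModule) (lam : ∀ (U : Y.Opens) (hU : IsAffineOpen U),
    O1 ⟶ (Scheme.Modules.pushforward (RelProj.emb p chart U hU)).obj (GrTwist.twist (𝒮.deg U hU) 1))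
    (U : Y.Opens) (hU : IsAffineOpen U) (e : Γ(E, U)) (s : Γ(O1, p ⁻¹ᵁ U)) : Prop :=
  ∀ y : ↥(RelProj.emb p chart U hU ⁻¹ᵁ (p ⁻¹ᵁ U)),
    GrTwist.val (V := RelProj.emb p chart U hU ⁻¹ᵁ (p ⁻¹ᵁ U)) ((lam U hU).app (p ⁻¹ᵁ U) s) y =
      algebraMap (𝒮.presheaf.obj (op U)) (GrTwist.Loc (𝒮.deg U hU) y.1) (gen1 j U e)

section can

variable (hO1 : RelProj.IsRelTwist 𝒮 p chart 1 O1 lam)
include hO1

theorem IsCan.unique {U : Y.Opens} {hU : IsAffineOpen U} {e : Γ(E, U)} {s s' : Γ(O1, p ⁻¹ᵁ U)}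
    (h : IsCan j lam U hU e s) (h' : IsCan j lam U hU e s') : s = s' :=
  (hO1.bijective U hU _ le_rfl).1 (G.sectN_ext fun y => (h y).trans (h' y).symm)

theorem exists_isCan (hj : RelProj.IsGrSymAlg E 𝒮 j) (U : Y.Opens) (hU : IsAffineOpen U) (e : Γ(E, U)) :
    ∃ s, IsCan j lam U hU e s := by
  obtain ⟨s, hs⟩ := (hO1.bijective U hU (p ⁻¹ᵁ U) le_rfl).2 (resM (GrTwist.twist (𝒮.deg U hU) 1) le_top
      (show Γ(GrTwist.twist (𝒮.deg U hU) 1, ⊤) from GrTwist.globalOf (𝒮.deg U hU) ⟨gen1 j U e, hj.2 U hU e⟩))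
  exact ⟨s, fun y => by rw [hs]; exact val_res _ y⟩

theorem IsCan.add {U : Y.Opens} {hU : IsAffineOpen U} {a b : Γ(E, U)} {s t : Γ(O1, p ⁻¹ᵁ U)}
    (h : IsCan j lam U hU a s) (h' : IsCan j lam U hU b t) : IsCan j lam U hU (a + b) (s + t) := fun y => by
  rw [map_add]
  refine Eq.trans (congrArg₂ (· + ·) (h y) (h' y)) ?_
  simp only [gen1, map_add]
  exact (map_add _ _ _).symm

theorem IsCan.smul (hgen : 𝒮.IsGenDegOne) (hP : RelProj.IsRelProj 𝒮 p chart) {U : Y.Opens} {hU : IsAffineOpen U}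
    {a : Γ(E, U)} {s : Γ(O1, p ⁻¹ᵁ U)} (h : IsCan j lam U hU a s) (c : Γ(Y, U)) :
    IsCan j lam U hU (c • a) ((show Γ(P, p ⁻¹ᵁ U) from p.app U c) • s) := fun y => by
  let e := RelProj.emb p chart U hU
  have hover : e ≫ p = Proj.toSpecZero (𝒮.deg U hU) ≫ Spec.map (𝒮.strZero U hU) ≫ hU.fromSpec := by
    show ((chart U hU).inv ≫ (p ⁻¹ᵁ U).ι) ≫ p = _
    rw [Category.assoc, ← hP.chart_over U hU, Iso.inv_hom_id_assoc]
  have hc : (show Γ(Proj (𝒮.deg U hU), e ⁻¹ᵁ (p ⁻¹ᵁ U)) from e.app (p ⁻¹ᵁ U) (p.app U c)) =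
      (e ≫ p).appLE U (e ⁻¹ᵁ (p ⁻¹ᵁ U)) le_rfl c := by
    show _ = (e ≫ p).appLE U ((e ≫ p) ⁻¹ᵁ U) le_rfl c
    rw [← Scheme.Hom.app_eq_appLE, Scheme.Hom.comp_app]
    rfl
  have h1 := val_smul_over (degOneCov hgen U hU) hU (𝒮.strZero U hU) (e ≫ p) hover (e ⁻¹ᵁ (p ⁻¹ᵁ U)) rfl c
    ((lam U hU).app (p ⁻¹ᵁ U) s) y
  rw [← hc, h y] at h1
  refine Eq.trans (congrArg (fun z => GrTwist.val (V := e ⁻¹ᵁ (p ⁻¹ᵁ U)) z y)
    (Scheme.Modules.Hom.app_smul (lam U hU) _ s)) (h1.trans ?_)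
  have hg : gen1 j U (c • a) = 𝒮.str.app (op U) c * gen1 j U a := Scheme.Modules.Hom.app_smul j c a
  rw [hg, map_mul]
  rfl

theorem IsCan.basic (hP : RelProj.IsRelProj 𝒮 p chart) {U : Y.Opens} {hU : IsAffineOpen U} {a : Γ(E, U)}
    {s : Γ(O1, p ⁻¹ᵁ U)} (h : IsCan j lam U hU a s) (r : Γ(Y, U)) :
    IsCan j lam (Y.basicOpen r) (hU.basicOpen r) (resM E (Y.basicOpen_le r) a)
      (resM O1 (p.preimage_mono (Y.basicOpen_le r)) s) := fun y => by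
  have hy' : (RelProj.emb p chart U hU).base (ProjectiveSpectrum.comap
      (𝒮.res hU (hU.basicOpen r) (Y.basicOpen_le r)) (𝒮.irrelevant_le_map U hU r) y.1) ∈ p ⁻¹ᵁ Y.basicOpen r :=
    G.emb_comap_mem (p := p) (chart := chart) hP hU (hU.basicOpen r) r rfl y.2
  refine (hO1.compat U hU r _ (resM O1 (p.preimage_mono (Y.basicOpen_le r)) s) y.1 y.2 hy').trans ?_
  rw [app_resM]
  refine Eq.trans (congrArg _ (h ⟨_, p.preimage_mono (Y.basicOpen_le r) hy'⟩)) ?_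
  rw [← Localization.mk_one_eq_algebraMap, ← Localization.mk_one_eq_algebraMap]
  refine (GrTwist.locMap_mk _ _ _ _ _).trans ?_
  rw [show gen1 j (Y.basicOpen r) (resM E (Y.basicOpen_le r) a) =
      𝒮.res hU (hU.basicOpen r) (Y.basicOpen_le r) (gen1 j U a) from app_resM j (Y.basicOpen_le r) a]
  exact congrArg _ (Subtype.ext (map_one _))

theorem IsCan.restrict (hP : RelProj.IsRelProj 𝒮 p chart) {U V : Y.Opens} {hU : IsAffineOpen U}
    {hV : IsAffineOpen V} (hle : V ≤ U) {a : Γ(E, U)} {s : Γ(O1, p ⁻¹ᵁ U)} (h : IsCan j lam U hU a s)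
    {t : Γ(O1, p ⁻¹ᵁ V)} (ht : IsCan j lam V hV (resM E hle a) t) : t = resM O1 (p.preimage_mono hle) s := by
  refine AmpleLib.sec_ext O1 _ _ fun z hz => ?_
  obtain ⟨r, r', he, hzr⟩ := exists_basicOpen_le_affine_inter hU hV (p.base z) ⟨hle hz, hz⟩
  refine ⟨p ⁻¹ᵁ Y.basicOpen r', p.preimage_mono (Y.basicOpen_le r'), by rwa [← he], ?_⟩
  have h1 := IsCan.basic hO1 hP ht r'
  have h2 := IsCan.basic hO1 hP h r
  revert h2
  generalize Y.basicOpen_le r = hr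
  generalize hU.basicOpen r = hD
  revert hr hD
  rw [he]
  intro hr hD h2
  rw [resM_resM] at h1
  rw [resM_resM]
  exact IsCan.unique hO1 h1 h2

end can

/-- The canonical map exists. -/
theorem exists_pBundle (hE : Coh.IsQCoh E) (hj : RelProj.IsGrSymAlg E 𝒮 j) (hP : RelProj.IsRelProj 𝒮 p chart)
    (hO1 : RelProj.IsRelTwist 𝒮 p chart 1 O1 lam) :
    ∃ φ : E ⟶ (Scheme.Modules.pushforward p).obj O1, PBundle E 𝒮 j p chart O1 lam φ := by
  have := hE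
  have hgen := SymAlgLib.isGenDegOne_of_isGrSymAlg hj
  choose σ hσ using exists_isCan hO1 hj
  have hadd : ∀ (U : Y.Opens) (hU : IsAffineOpen U) (a b : Γ(E, U)), σ U hU (a + b) = σ U hU a + σ U hU b :=
    fun U hU a b => IsCan.unique hO1 (hσ U hU (a + b)) (IsCan.add hO1 (hσ U hU a) (hσ U hU b))
  obtain ⟨φ, hφ⟩ := exists_hom_of_affine E ((Scheme.Modules.pushforward p).obj O1)
    (fun U hU => AddMonoidHom.mk' (σ U hU) (hadd U hU))
    (fun U hU c x => IsCan.unique hO1 (hσ U hU (c • x)) (IsCan.smul hO1 hgen hP (hσ U hU x) c))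
    (fun U V hU hV h x => IsCan.restrict hO1 hP h (hσ U hU x) (hσ V hV (resM E h x)))
  exact ⟨φ, hE, hj, hP, hO1, fun U hU e y => by rw [hφ]; exact hσ U hU e y⟩

end Groth.Agent.RelVALib
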