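import Groth.Agent.RelVALib.Projective
import Groth.Agent.PnEmb.Criterion
import Groth.Agent.UPLib.ProjSpace

/-!
# Very ampleness from immersions into projective spaces
-/

set_option autoImplicit false
set_option linter.unusedSectionVars false
set_option linter.deprecated false
set_option backward.isDefEq.respectTransparency.types false
set_option maxHeartbeats 1000000

universe u

open AlgebraicGeometry CategoryTheory CategoryTheory.Limits TopologicalSpace Opposite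
open Groth.Agent.Coherent Groth.Agent.PicLib Groth.Agent.AmpleLib

namespace Groth.Agent.RelVALib

variable {X Z S : Scheme.{u}}

/-- Morphisms to projective space with matching coordinates are equal. -/
theorem eq_of_coords {n : ℕ} {L : Z.Modules} {g g' : Z ⟶ CohB1.ProjSpace n (ULift.{u} ℤ)}
    (τ : (Scheme.Modules.pullback g).obj (Twist.twistProjSpace n (ULift.{u} ℤ) 1) ≅ L)
    (τ' : (Scheme.Modules.pullback g').obj (Twist.twistProjSpace n (ULift.{u} ℤ) 1) ≅ L)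
    (h : ∀ l, τ.hom.app ⊤ (ProjUP.pullSec g _ (ProjUP.coord n _ l)) =
      τ'.hom.app ⊤ (ProjUP.pullSec g' _ (ProjUP.coord n _ l))) : g = g' := by
  refine UPLib.eq_of_iso_projSpace n (specULiftZIsTerminal.hom_ext _ _) (τ ≪≫ τ'.symm) fun l => ?_
  show τ'.inv.app ⊤ (τ.hom.app ⊤ _) = _
  rw [h l]
  show (τ'.hom ≫ τ'.inv).app ⊤ _ = _
  rw [τ'.hom_inv_id]
  rfl

/-- Coordinates along a composition. -/
theorem exists_coordIso {n : ℕ} (m : X ⟶ Z) (g : Z ⟶ CohB1.ProjSpace n (ULift.{u} ℤ)) {M : Z.Modules}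
    (τ : (Scheme.Modules.pullback g).obj (Twist.twistProjSpace n (ULift.{u} ℤ) 1) ≅ M) {N : X.Modules}
    (σ : (Scheme.Modules.pullback m).obj M ≅ N) :
    ∃ θ : (Scheme.Modules.pullback (m ≫ g)).obj (Twist.twistProjSpace n (ULift.{u} ℤ) 1) ≅ N,
      ∀ l, θ.hom.app ⊤ (ProjUP.pullSec (m ≫ g) _ (ProjUP.coord n _ l)) =
        σ.hom.app ⊤ (pullSec m (U := ⊤) (τ.hom.app ⊤ (ProjUP.pullSec g _ (ProjUP.coord n _ l)))) := by
  obtain ⟨c, hc⟩ := exists_compIso m g (m ≫ g) rfl (Twist.twistProjSpace n (ULift.{u} ℤ) 1)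
  refine ⟨c ≪≫ (Scheme.Modules.pullback m).mapIso τ ≪≫ σ, fun l => ?_⟩
  have h1 : c.hom.app ⊤ (ProjUP.pullSec (m ≫ g) _ (ProjUP.coord n _ l)) =
      pullSec m (U := ⊤) (ProjUP.pullSec g _ (ProjUP.coord n _ l)) :=
    (hc ⊤ _ le_rfl).trans (resM_self _ _ _)
  show σ.hom.app ⊤ (((Scheme.Modules.pullback m).map τ.hom).app ⊤ (c.hom.app ⊤ _)) = _
  rw [h1]
  exact congrArg _ (map_app_pullSec m τ.hom ⊤ _)

/-- Immersions into projective spaces give very ampleness. -/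
theorem isRelVeryAmple_of_isRelVeryAmplePn (q : X ⟶ S) [QuasiCompact q] (L : X.Modules) (hL : PicF.IsInvertible L)
    (h : RelAmple.IsRelVeryAmplePn q L) : RelProj.IsRelVeryAmple q L := by
  obtain ⟨n, i, hi, hiq, ⟨eL⟩⟩ := h
  let pr₁ := pullback.fst (CohB1.ProjSpace.toSpec n (ULift.{u} ℤ)) (specULiftZIsTerminal.from S)
  let pr₂ := pullback.snd (CohB1.ProjSpace.toSpec n (ULift.{u} ℤ)) (specULiftZIsTerminal.from S)
  have := hi
  have : IsSeparated (CohB1.ProjSpace.toSpec n (ULift.{u} ℤ)) := by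
    exact MorphismProperty.comp_mem @IsSeparated (Proj.toSpecZero (CohB1.polyGrading n (ULift.{u} ℤ)))
      (Spec.map (CommRingCat.ofHom (algebraMap (ULift.{u} ℤ) (CohB1.polyGrading n (ULift.{u} ℤ) 0)))) inferInstance inferInstance
  have : IsSeparated pr₂ := MorphismProperty.pullback_snd _ _ inferInstance
  have : IsSeparated q := by
    rw [← hiq]
    exact MorphismProperty.comp_mem @IsSeparated i pr₂ inferInstance ‹IsSeparated pr₂›
  have := isQCoh_of_isInvertible hL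
  let a := i ≫ pr₁
  let τa : (Scheme.Modules.pullback a).obj (Twist.twistProjSpace n (ULift.{u} ℤ) 1) ≅ L :=
    ((Scheme.Modules.pullbackComp i pr₁).app _).symm ≪≫ eL.symm
  let σ : Fin (n + 1) → Γ(L, ⊤) := fun l => τa.hom.app ⊤ (ProjUP.pullSec a _ (ProjUP.coord n _ l))
  have hpre : ∀ k, a ⁻¹ᵁ PnEmb.chartOpen n _ k = glocus L (σ k) :=
    fun k => PnEmb.preimage_chartOpen a τa (fun _ => rfl) k
  have hcov : ∀ x : X, ∃ (U : S.Opens) (_ : IsAffineOpen U) (k : Fin (n + 1)),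
      x ∈ q ⁻¹ᵁ U ⊓ glocus L (σ k) := fun x => by
    obtain ⟨U, hU, hxU, -⟩ := Opens.isBasis_iff_nbhd.1 S.isBasis_affineOpens (show q x ∈ (⊤ : S.Opens) from trivial)
    have htop : (⊤ : (CohB1.ProjSpace n (ULift.{u} ℤ)).Opens) ≤ ⨆ k, PnEmb.chartOpen n (ULift.{u} ℤ) k :=
      (Proj.iSup_basicOpen_eq_top (CohB1.polyGrading n (ULift.{u} ℤ)) _ (ProjLib.irrelevant_le_span_X n _)).ge
    obtain ⟨k, hk⟩ := Opens.mem_iSup.1 (htop (show a x ∈ (⊤ : (CohB1.ProjSpace n (ULift.{u} ℤ)).Opens) from trivial))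
    exact ⟨U, hU, k, hxU, (hpre k).le hk⟩
  refine isRelVeryAmple_of_classifies q L _ (isQCoh_push q L) (𝟙 _) (fun x => ?_)
    fun 𝒮 j P p chart O1 lam φ D r hr τ hτ => ?_
  · obtain ⟨U, hU, k, hx⟩ := hcov x
    refine ⟨U, hU, resM L le_top (σ k), q ⁻¹ᵁ U ⊓ glocus L (σ k), inf_le_left, hx, ?_⟩
    show IsGen L _ (resM L inf_le_left (resM L le_top (σ k)))
    rw [resM_resM]
    exact (le_glocus_iff (σ k) _).1 inf_le_right
  choose U hU k hx using hcov
  let e : ∀ (x : X) (l : Fin (n + 1)), Γ((Scheme.Modules.pushforward q).obj L, U x) := fun x l =>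
    resM L (le_top : q ⁻¹ᵁ U x ≤ ⊤) (σ l)
  refine isImmersion_of_cover r (fun x => opn j p chart (hU x) (e x (k x))) (fun x => ⟨x, ?_⟩) fun x => ?_
  · have hg : IsGen L (q ⁻¹ᵁ U x ⊓ glocus L (σ (k x))) (resM L inf_le_left
        (((𝟙 ((Scheme.Modules.pushforward q).obj L) : _ ⟶ _)).app (U x) (e x (k x)))) := by
      show IsGen L _ (resM L inf_le_left (resM L le_top (σ (k x))))
      rw [resM_resM]
      exact (le_glocus_iff (σ (k x)) _).1 inf_le_right
    exact (range_le_iff r _).1 (good_of_classifies D hτ (hU x) _ inf_le_left hg).range (hx x)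
  let G := opn j p chart (hU x) (e x (k x))
  let M := (Scheme.Modules.pullback G.ι).obj O1
  have hG : ∀ l, ∃ s : Γ(M, ⊤), resM M (le_top : G.ι ⁻¹ᵁ G ≤ ⊤) s =
      pullSec G.ι (resM O1 (D.opn_le (hU x) _) (φ.app (U x) (e x l))) := fun l => by
    have h : (⊤ : G.toScheme.Opens) ≤ G.ι ⁻¹ᵁ G := (Scheme.Opens.ι_preimage_self G).ge
    refine ⟨resM M h (pullSec G.ι (resM O1 (D.opn_le (hU x) _) (φ.app (U x) (e x l)))), ?_⟩
    rw [resM_resM, resM_self]
  choose s hs using hG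
  have hgen : IsGen M (G.ι ⁻¹ᵁ G) (resM M le_top (s (k x))) := by
    rw [hs]
    exact isGen_pullSec G.ι (D.isGen_phi (hU x) _) D.invertible
  obtain ⟨g, -, τg, hτg⟩ := UPLib.exists_hom_projSpace n (specULiftZIsTerminal.from G.toScheme)
    (PicLoc.isInvertible_pullback _ D.invertible) s fun z => ⟨k x, (le_glocus_iff (s (k x)) _).2 hgen z.2⟩
  let f : (G : Scheme.{u}) ⟶ CohB1.ProjSpaceOver n S :=
    pullback.lift g (G.ι ≫ p) (specULiftZIsTerminal.hom_ext _ _)
  let W := r ⁻¹ᵁ G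
  let m := r.resLE G W le_rfl
  have hmι : m ≫ G.ι = W.ι ≫ r := Scheme.Hom.resLE_comp_ι _ _
  have key : m ≫ f = W.ι ≫ i := by
    refine pullback.hom_ext ?_ ?_
    · refine (Category.assoc m f _).trans (Eq.trans ?_ (Category.assoc W.ι i _).symm)
      rw [show f ≫ pullback.fst _ _ = g from pullback.lift_fst _ _ _]
      show m ≫ g = W.ι ≫ a
      obtain ⟨c, hc⟩ := exists_compIso m G.ι (W.ι ≫ r) hmι O1
      obtain ⟨c', hc'⟩ := exists_compIso W.ι r (W.ι ≫ r) rfl O1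
      obtain ⟨θ, hθ⟩ := exists_coordIso m g τg (c.symm ≪≫ c' ≪≫ (Scheme.Modules.pullback W.ι).mapIso τ)
      obtain ⟨θ', hθ'⟩ := exists_coordIso W.ι a τa (Iso.refl _)
      refine eq_of_coords θ θ' fun l => ?_
      rw [hθ, hθ', hτg]
      show ((Scheme.Modules.pullback W.ι).map τ.hom).app ⊤ (c'.hom.app ⊤ (c.inv.app ⊤ (pullSec m (U := ⊤) (s l)))) =
        pullSec W.ι (U := ⊤) (σ l)
      have hW : (⊤ : W.toScheme.Opens) ≤ (W.ι ≫ r) ⁻¹ᵁ G := (range_le_iff r G).2 le_rfl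
      let v : Γ(O1, G) := resM O1 (D.opn_le (hU x) _) (φ.app (U x) (e x l))
      have h1 : pullSec m (U := ⊤) (s l) = c.hom.app ⊤ (resM _ hW (pullSec (W.ι ≫ r) v)) := by
        have hle : (W.ι ≫ r) ⁻¹ᵁ G ≤ m ⁻¹ᵁ (G.ι ⁻¹ᵁ G) := le_of_eq (by rw [← Scheme.Hom.comp_preimage, hmι])
        rw [app_resM, hc G v hle]
        rw [show pullSec G.ι v = resM M (le_top : G.ι ⁻¹ᵁ G ≤ ⊤) (s l) from (hs l).symm]
        erw [← resM_pullSec m (le_top : G.ι ⁻¹ᵁ G ≤ ⊤)]
        erw [resM_resM, resM_resM, resM_self]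
      rw [h1]
      erw [show c.inv.app ⊤ (c.hom.app ⊤ (resM _ hW (pullSec (W.ι ≫ r) v))) = resM _ hW (pullSec (W.ι ≫ r) v) by
        show (c.hom ≫ c.inv).app ⊤ _ = _
        rw [c.hom_inv_id]; rfl]
      rw [app_resM, hc' G v le_rfl]
      erw [resM_resM, app_resM, map_app_pullSec]
      have h2 : τ.hom.app (r ⁻¹ᵁ G) (pullSec r v) = resM L (le_top : r ⁻¹ᵁ G ≤ ⊤) (σ l) := by
        rw [show pullSec r v = resM _ (r.preimage_mono (D.opn_le (hU x) _)) (pullSec r (show Γ(O1, p ⁻¹ᵁ U x) from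
          φ.app (U x) (e x l))) from (resM_pullSec r _ _).symm, app_resM, hτ (U x) (hU x) (e x l)]
        show resM L _ (resM L _ (resM L le_top (σ l))) = _
        rw [resM_resM, resM_resM]
      rw [h2, ← resM_pullSec]
      erw [resM_resM, resM_self]
    · refine (Category.assoc m f _).trans (Eq.trans ?_ (Category.assoc W.ι i _).symm)
      rw [show f ≫ pullback.snd _ _ = G.ι ≫ p from pullback.lift_snd _ _ _, reassoc_of% hmι, hr]
      exact congrArg (W.ι ≫ ·) hiq.symm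
  have : IsImmersion (m ≫ f) := by rw [key]; infer_instance
  have : IsImmersion m := IsImmersion.of_comp m f
  show IsImmersion (W.ι ≫ r)
  rw [← hmι]
  infer_instance

end Groth.Agent.RelVALib
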