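import Groth.Agent.RelVALib.VAApps
import Groth.Agent.ProjLib.RelProjBasics
import Groth.Agent.AmpleLib.Compose

/-!
# Very ampleness is local on the base

The morphism into the projective bundle of the direct image classifying the counit.
-/

set_option autoImplicit false
set_option linter.unusedSectionVars false
set_option backward.isDefEq.respectTransparency.types false
set_option maxHeartbeats 1000000

universe u

open AlgebraicGeometry CategoryTheory CategoryTheory.Limits TopologicalSpace Opposite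
open Groth.Agent.Coherent Groth.Agent.PicLib Groth.Agent.AmpleLib

namespace Groth.Agent.RelVALib

variable {X Y X' Y' : Scheme.{u}}

theorem isSeparated_of_isRelVeryAmple {q : X ⟶ Y} {L : X.Modules} (h : RelProj.IsRelVeryAmple q L) :
    IsSeparated q := by
  obtain ⟨E, hE, 𝒮, j, hj, P, p, chart, hP, O1, lam, hO1, i, hi, hip, -⟩ := h
  have := ProjLib.isSeparated_relProj hP
  rw [← hip]
  infer_instance

section chart

variable (q : X ⟶ Y) (L : X.Modules) (hL : PicF.IsInvertible L)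
  (ψ : Y' ⟶ Y) [IsOpenImmersion ψ] (v : X' ⟶ X) [IsOpenImmersion v] (q' : X' ⟶ Y') (hsq : q' ≫ ψ = v ≫ q)
  (hrange : q ⁻¹ᵁ ψ.opensRange ≤ v.opensRange)

include hsq in
theorem preimage_eq (U : Y.Opens) : q' ⁻¹ᵁ (ψ ⁻¹ᵁ U) = v ⁻¹ᵁ (q ⁻¹ᵁ U) := by
  rw [← Scheme.Hom.comp_preimage, ← Scheme.Hom.comp_preimage, hsq]

include hsq in
theorem res_app_app (U : Y.Opens) (hle : v ⁻¹ᵁ (q ⁻¹ᵁ U) ≤ q' ⁻¹ᵁ (ψ ⁻¹ᵁ U)) (a : Γ(Y, U)) :
    res hle (q'.app (ψ ⁻¹ᵁ U) (ψ.app U a)) = v.app (q ⁻¹ᵁ U) (q.app U a) := by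
  have h1 : (q' ≫ ψ).appLE U (v ⁻¹ᵁ (q ⁻¹ᵁ U)) hle a = (v ≫ q).appLE U (v ⁻¹ᵁ (q ⁻¹ᵁ U)) le_rfl a := by
    have key : ∀ (f g : X' ⟶ Y) (_ : f = g) (h : v ⁻¹ᵁ (q ⁻¹ᵁ U) ≤ f ⁻¹ᵁ U) (h' : v ⁻¹ᵁ (q ⁻¹ᵁ U) ≤ g ⁻¹ᵁ U),
        f.appLE U _ h a = g.appLE U _ h' a := by
      rintro f g rfl h h'
      rfl
    exact key _ _ hsq hle le_rfl
  simp only [Scheme.Hom.appLE, Scheme.Hom.comp_app] at h1
  refine Eq.trans ?_ (h1.trans ?_)
  · rfl
  · show res le_rfl (v.app (q ⁻¹ᵁ U) (q.app U a)) = _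
    exact ConcreteCategory.congr_hom (X'.presheaf.map_id _) _

variable {E : Y'.Modules} (t : E ⟶ (Scheme.Modules.pushforward q').obj ((Scheme.Modules.pullback v).obj L))

include hL hsq hrange in
/-- Sections over the base chart come from sections of the direct image. -/
theorem exists_preSec : ∃ s : Γ(E, ψ ⁻¹ᵁ ψ.opensRange) →+ Γ((Scheme.Modules.pushforward q).obj L, ψ.opensRange),
    (∀ e (hle : v ⁻¹ᵁ (q ⁻¹ᵁ ψ.opensRange) ≤ q' ⁻¹ᵁ (ψ ⁻¹ᵁ ψ.opensRange)),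
      pullSec v (show Γ(L, q ⁻¹ᵁ ψ.opensRange) from s e) = resM _ hle (t.app _ e)) ∧
    ∀ (a : Γ(Y, ψ.opensRange)) (e), s (ψ.app ψ.opensRange a • e) = a • s e := by
  let A := ψ.opensRange
  have hb := bijective_pullSec_opensRange v hL (q ⁻¹ᵁ A) hrange
  have hle : v ⁻¹ᵁ (q ⁻¹ᵁ A) ≤ q' ⁻¹ᵁ (ψ ⁻¹ᵁ A) := (preimage_eq q ψ v q' hsq A).ge
  choose f hf using fun e : Γ(E, ψ ⁻¹ᵁ A) => hb.2 (resM _ hle (t.app _ e))
  have hadd : ∀ a b, f (a + b) = f a + f b := fun a b => hb.1 (by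
    rw [hf]
    refine Eq.trans ?_ (map_add (((Scheme.Modules.pullbackPushforwardAdjunction v).unit.app L).app (q ⁻¹ᵁ A)).hom
      (f a) (f b)).symm
    show _ = pullSec v (f a) + pullSec v (f b)
    rw [hf, hf, map_add]
    exact map_add (resM _ hle) _ _)
  refine ⟨AddMonoidHom.mk' f hadd, fun e _ => hf e, fun a e => hb.1 ?_⟩
  show pullSec v (f _) = pullSec v ((show Γ(X, q ⁻¹ᵁ A) from q.app A a) • (f e))
  rw [pullSec_smul, hf, hf, t_smul, resM_smul, res_app_app q ψ v q' hsq A hle a]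

end chart

section immersion

variable {q : X ⟶ Y} {L : X.Modules}
  (ψ : Y' ⟶ Y) [IsOpenImmersion ψ] [IsAffine Y'] (v : X' ⟶ X) [IsOpenImmersion v] (q' : X' ⟶ Y')
  (hsq : q' ≫ ψ = v ≫ q) (hrange : q ⁻¹ᵁ ψ.opensRange ≤ v.opensRange)

/-- A bundle and a map whose coordinates give an immersion over an affine base, at a point. -/
theorem exists_global_gen {P : Scheme.{u}} {E : Y'.Modules} {𝒮 : RelProj.QCGrAlg Y'} {j : E ⟶ 𝒮.toModule}
    {p : P ⟶ Y'}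
    {chart : ∀ (U : Y'.Opens) (hU : IsAffineOpen U), ((p ⁻¹ᵁ U : P.Opens) : Scheme.{u}) ≅ Proj (𝒮.deg U hU)}
    {O1 : P.Modules}
    {lam : ∀ (U : Y'.Opens) (hU : IsAffineOpen U),
      O1 ⟶ (Scheme.Modules.pushforward (RelProj.emb p chart U hU)).obj (GrTwist.twist (𝒮.deg U hU) 1)}
    {φ : E ⟶ (Scheme.Modules.pushforward p).obj O1} (D : PBundle E 𝒮 j p chart O1 lam φ)
    {L' : X'.Modules} {t : E ⟶ (Scheme.Modules.pushforward q').obj L'} {i : X' ⟶ P} {hi : i ≫ p = q'}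
    {σ : (Scheme.Modules.pullback i).obj O1 ≅ L'} (hσ : Classifies φ q' t i hi σ)
    {U : Y'.Opens} (hU : IsAffineOpen U) (x : X') (hx : q' x ∈ U) :
    ∃ (e : Γ(E, U)) (W : X'.Opens) (hW : W ≤ q' ⁻¹ᵁ U), x ∈ W ∧ IsGen L' W (resM L' hW (t.app U e)) := by
  subst hi
  obtain ⟨e, he⟩ := D.exists_mem_opn hU (show i x ∈ p ⁻¹ᵁ U from hx)
  refine ⟨e, i ⁻¹ᵁ opn j p chart hU e, i.preimage_mono (D.opn_le hU e), he, ?_⟩
  refine isGen_congr ?_ (isGen_of_iso σ (isGen_pullSec i (D.isGen_phi hU e) D.invertible))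
  rw [← resM_pullSec, app_resM, hσ U hU e]
  exact resM_resM L' _ _ _

theorem isAffineOpen_preimage_range : IsAffineOpen (ψ ⁻¹ᵁ ψ.opensRange) := by
  rw [Scheme.Hom.preimage_opensRange]
  exact isAffineOpen_top Y'

include hsq hrange in
/-- The counit generates over a very ample chart. -/
theorem exists_gen_of_chart (hL : PicF.IsInvertible L)
    (hva : RelProj.IsRelVeryAmple q' ((Scheme.Modules.pullback v).obj L)) (x : X') :
    ∃ (U : Y.Opens) (_ : IsAffineOpen U) (e : Γ((Scheme.Modules.pushforward q).obj L, U)) (W : X.Opens)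
      (hW : W ≤ q ⁻¹ᵁ U), v x ∈ W ∧
        IsGen L W (resM L hW ((𝟙 ((Scheme.Modules.pushforward q).obj L) :
          (Scheme.Modules.pushforward q).obj L ⟶ _).app U e)) := by
  obtain ⟨E, hE, 𝒮, j, hj, P, p, chart, hP, O1, lam, hO1, i, hi, hip, ⟨eL⟩⟩ := hva
  obtain ⟨φ, D⟩ := exists_pBundle hE hj hP hO1
  obtain ⟨t, ht⟩ := exists_classified (E := E) (φ := φ) i hip eL.symm
  obtain ⟨s, hs, -⟩ := exists_preSec q L hL ψ v q' hsq hrange t
  have hU := isAffineOpen_preimage_range ψ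
  have hxU : q' x ∈ ψ ⁻¹ᵁ ψ.opensRange := by
    rw [Scheme.Hom.preimage_opensRange]
    trivial
  obtain ⟨e, W, hW, hxW, hg⟩ := exists_global_gen q' D ht hU x hxU
  have hle := (preimage_eq q ψ v q' hsq ψ.opensRange).ge
  have hW' : W ≤ v ⁻¹ᵁ (q ⁻¹ᵁ ψ.opensRange) := hW.trans (preimage_eq q ψ v q' hsq ψ.opensRange).le
  have hWi : v ''ᵁ W ≤ q ⁻¹ᵁ ψ.opensRange := by
    rintro _ ⟨y, hy, rfl⟩
    exact hW' hy
  refine ⟨ψ.opensRange, isAffineOpen_opensRange ψ, s e, v ''ᵁ W, hWi, ⟨x, hxW, rfl⟩, ?_⟩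
  refine AmpleLib.isGen_of_pullSec v hL (v.image_le_opensRange W) ?_
  have key : ∀ (T : X'.Opens) (hT : T ≤ q' ⁻¹ᵁ (ψ ⁻¹ᵁ ψ.opensRange)) (hT' : T ≤ v ⁻¹ᵁ (q ⁻¹ᵁ ψ.opensRange)),
      W = T → IsGen ((Scheme.Modules.pullback v).obj L) T
        (resM _ hT' (pullSec v (show Γ(L, q ⁻¹ᵁ ψ.opensRange) from s e))) := by
    rintro T hT hT' rfl
    refine isGen_congr ?_ hg
    rw [hs e hle, resM_resM]
  have h1 := key (v ⁻¹ᵁ (v ''ᵁ W)) ((v.preimage_image_eq W).le.trans hW) (v.preimage_mono hWi)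
    (v.preimage_image_eq W).symm
  exact isGen_congr (resM_pullSec v hWi _) h1

variable {P₂ : Scheme.{u}} {𝒮₂ : RelProj.QCGrAlg Y} {j₂ : (Scheme.Modules.pushforward q).obj L ⟶ 𝒮₂.toModule}
  {p₂ : P₂ ⟶ Y}
  {chart₂ : ∀ (U : Y.Opens) (hU : IsAffineOpen U), ((p₂ ⁻¹ᵁ U : P₂.Opens) : Scheme.{u}) ≅ Proj (𝒮₂.deg U hU)}
  {O₂ : P₂.Modules}
  {lam₂ : ∀ (U : Y.Opens) (hU : IsAffineOpen U),
    O₂ ⟶ (Scheme.Modules.pushforward (RelProj.emb p₂ chart₂ U hU)).obj (GrTwist.twist (𝒮₂.deg U hU) 1)}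
  {φ₂ : (Scheme.Modules.pushforward q).obj L ⟶ (Scheme.Modules.pushforward p₂).obj O₂}

include hsq hrange in
/-- The classifier of the counit is an immersion over a very ample chart. -/
theorem isImmersion_of_chart (D₂ : PBundle ((Scheme.Modules.pushforward q).obj L) 𝒮₂ j₂ p₂ chart₂ O₂ lam₂ φ₂)
    {r : X ⟶ P₂} {hr : r ≫ p₂ = q} {τ : (Scheme.Modules.pullback r).obj O₂ ≅ L}
    (hτ : Classifies φ₂ q (𝟙 _) r hr τ) (hL : PicF.IsInvertible L)
    (hva : RelProj.IsRelVeryAmple q' ((Scheme.Modules.pullback v).obj L)) : IsImmersion (v ≫ r) := by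
  let E₂ := (Scheme.Modules.pushforward q).obj L
  let L' := (Scheme.Modules.pullback v).obj L
  let a := v ≫ r
  have hab : a ≫ p₂ = q' ≫ ψ := by rw [Category.assoc, hr, hsq]
  obtain ⟨c, hc⟩ := exists_compIso v r a rfl O₂
  let τa : (Scheme.Modules.pullback a).obj O₂ ≅ L' := c ≪≫ (Scheme.Modules.pullback v).mapIso τ
  obtain ⟨t₁, ht₁⟩ := exists_classified (E := E₂) (φ := φ₂) a hab τa
  have ht₁' : ∀ (U : Y.Opens), IsAffineOpen U → ∀ (m : Γ(E₂, U)) (hle : (q' ≫ ψ) ⁻¹ᵁ U ≤ v ⁻¹ᵁ (q ⁻¹ᵁ U)),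
      t₁.app U m = resM L' hle (pullSec v (show Γ(L, q ⁻¹ᵁ U) from m)) := by
    intro U hU m hle
    have h1 := ht₁ U hU m
    change ((Scheme.Modules.pullback v).map τ.hom).app _ (c.hom.app (a ⁻¹ᵁ (p₂ ⁻¹ᵁ U)) _) = _ at h1
    rw [hc (p₂ ⁻¹ᵁ U) _ le_rfl] at h1
    erw [resM_self] at h1
    have h1' := (map_app_pullSec v τ.hom (r ⁻¹ᵁ (p₂ ⁻¹ᵁ U)) _).symm.trans h1
    rw [hτ U hU m] at h1'
    change pullSec v (resM L (le_of_over hr U) (show Γ(L, q ⁻¹ᵁ U) from m)) = _ at h1'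
    rw [← resM_pullSec] at h1'
    have h2 := congrArg (resM L' (ge_of_over hab U)) h1'
    erw [resM_resM, resM_resM, resM_self] at h2
    exact h2.symm
  let u : (Scheme.Modules.pullback ψ).obj E₂ ⟶ (Scheme.Modules.pushforward q').obj L' :=
    ((Scheme.Modules.pullbackPushforwardAdjunction ψ).homEquiv E₂ ((Scheme.Modules.pushforward q').obj L')).symm t₁
  have hu : ∀ (U : Y.Opens) (m : Γ(E₂, U)), u.app (ψ ⁻¹ᵁ U) (PicLib.pullSec ψ m) = t₁.app U m :=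
    fun U m => homEquiv_symm_app_pullSec ψ (M := (Scheme.Modules.pushforward q').obj L') t₁ m
  have hE₂ : Coh.IsQCoh ((Scheme.Modules.pullback ψ).obj E₂) := by
    have := D₂.hE
    exact EGA43.InjFibre.isQCoh_pullback ψ E₂
  obtain ⟨𝒮', j', P', p', chart', O1', lam', φ', D'⟩ := exists_bundle _ hE₂
  let tg : E₂ ⟶ (Scheme.Modules.pushforward (p' ≫ ψ)).obj O1' :=
    (Scheme.Modules.pullbackPushforwardAdjunction ψ).homEquiv E₂ _ φ'
  have hcovg := (cover_iff tg p' rfl φ' (fun U _ e hle => (resM_self O1' hle (tg.app U e)).symm) D'.invertible).2 D'.cover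
  obtain ⟨g, hg, τg, hτg⟩ := exists_classifies D₂ hcovg
  have sq2 : IsPullback g p' p₂ ψ := IsPullback.mk' hg (fun T m m' => bundle_hom_ext D' g hg τg hτg)
    fun T m b => exists_bundle_lift D₂ D' g hg τg hτg m b
  have : IsOpenImmersion g := MorphismProperty.of_isPullback (P := @IsOpenImmersion) sq2.flip inferInstance
  have hcova : ∀ x : X', ∃ (U : Y.Opens) (_ : IsAffineOpen U) (e : Γ(E₂, U)) (W : X'.Opens)
      (hW : W ≤ (q' ≫ ψ) ⁻¹ᵁ U), x ∈ W ∧ IsGen L' W (resM L' hW (t₁.app U e)) := fun x => by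
    obtain ⟨U, hU, e, W, hW, hxW, hgW⟩ := D₂.cover (a x)
    refine ⟨U, hU, e, a ⁻¹ᵁ W, (a.preimage_mono hW).trans (le_of_over hab U), hxW, ?_⟩
    refine isGen_congr ?_ (isGen_of_iso τa (isGen_pullSec a hgW D₂.invertible))
    rw [← resM_pullSec, app_resM, ht₁ U hU e]
    exact resM_resM L' _ _ _
  have hL' := PicLoc.isInvertible_pullback v hL
  obtain ⟨l, hl, σl, hσl⟩ := exists_classifies D'
    ((cover_iff t₁ q' rfl u (fun U _ e hle => (hu U e).trans (resM_self L' hle _).symm) hL').1 hcova)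
  have hlg : l ≫ g = a := by
    obtain ⟨χ, hχ⟩ := exists_bridge g hg τg hτg l (l ≫ g) rfl
    have hover : (l ≫ g) ≫ p₂ = q' ≫ ψ := by rw [Category.assoc, hg, ← Category.assoc, hl]
    have h' : Classifies φ₂ (q' ≫ ψ) t₁ (l ≫ g) hover (χ ≪≫ σl) := fun U hU e => by
      have hle : (l ≫ g) ⁻¹ᵁ (p₂ ⁻¹ᵁ U) ≤ l ⁻¹ᵁ (p' ⁻¹ᵁ (ψ ⁻¹ᵁ U)) := l.preimage_mono (le_of_over hg U)
      show σl.hom.app _ (χ.hom.app _ _) = _
      rw [hχ U e hle, app_resM, hσl.on_opens (ψ ⁻¹ᵁ U) (PicLib.pullSec ψ e), hu, resM_resM]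
      rfl
    exact eq_of_classifies D₂ hcova h' ht₁
  suffices IsImmersion l by
    show IsImmersion a
    rw [← hlg]
    infer_instance
  obtain ⟨E, hE, 𝒮, j, hj, P, p, chart, hP, O1, lam, hO1, i, hi, hip, ⟨eL⟩⟩ := hva
  obtain ⟨φ, D⟩ := exists_pBundle hE hj hP hO1
  obtain ⟨t, ht⟩ := exists_classified (E := E) (φ := φ) i hip eL.symm
  obtain ⟨s, hs, hsmul⟩ := exists_preSec q L hL ψ v q' hsq hrange t
  let A := ψ.opensRange
  have hA : IsAffineOpen A := isAffineOpen_opensRange ψ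
  have hU := isAffineOpen_preimage_range ψ
  have := ψ.isIso_app A le_rfl
  have hψ := ConcreteCategory.bijective_of_isIso (ψ.app A)
  let κ : Γ(E, ψ ⁻¹ᵁ A) →ₗ[Γ(Y', ψ ⁻¹ᵁ A)] Γ((Scheme.Modules.pullback ψ).obj E₂, ψ ⁻¹ᵁ A) :=
    { toFun := fun e => pullSec ψ (s e)
      map_add' := fun e e' => by
        rw [map_add]
        exact map_add (((Scheme.Modules.pullbackPushforwardAdjunction ψ).unit.app E₂).app A).hom (s e) (s e')
      map_smul' := fun b e => by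
        obtain ⟨a₀, rfl⟩ := hψ.2 b
        rw [hsmul a₀ e]
        exact pullSec_smul ψ a₀ (s e) }
  have hκ : ∀ (W : X'.Opens) (hW : W ≤ q' ⁻¹ᵁ (ψ ⁻¹ᵁ A)) (e : Γ(E, ψ ⁻¹ᵁ A)),
      resM L' hW (u.app (ψ ⁻¹ᵁ A) (κ e)) = resM L' hW (t.app (ψ ⁻¹ᵁ A) e) := by
    intro W hW e
    show resM L' hW (u.app (ψ ⁻¹ᵁ A) (PicLib.pullSec ψ (s e))) = _
    rw [hu A (s e), ht₁' A hA (s e) (preimage_eq q ψ v q' hsq A).le, hs e (preimage_eq q ψ v q' hsq A).ge]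
    erw [resM_resM, resM_resM]
  refine isImmersion_of_dominates D D' ht hσl fun x => ?_
  have hxU : q' x ∈ ψ ⁻¹ᵁ A := by
    rw [Scheme.Hom.preimage_opensRange]
    trivial
  obtain ⟨e, W, hW, hxW, hgW⟩ := exists_global_gen q' D ht hU x hxU
  exact ⟨ψ ⁻¹ᵁ A, hU, e, κ, ⟨W, hW, hxW, isGen_congr (hκ W hW e).symm hgW⟩,
    fun W hW h => ⟨isGen_congr (hκ W hW e) h, fun e' c hc => by rw [hκ W hW e, hκ W hW e', hc]⟩⟩

end immersion

/-- The canonical morphism: an immersion into the bundle of the direct image. -/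
theorem isRelVeryAmple_of_charts (q : X ⟶ Y) [QuasiCompact q] (L : X.Modules) (hL : PicF.IsInvertible L)
    (A : X → Y.Opens) (hA : ∀ x, IsAffineOpen (A x)) (hxA : ∀ x, q x ∈ A x) [QuasiSeparated q]
    (hva : ∀ x, RelProj.IsRelVeryAmple (q ∣_ A x) ((Scheme.Modules.pullback (q ⁻¹ᵁ A x).ι).obj L)) :
    RelProj.IsRelVeryAmple q L := by
  have := isQCoh_of_isInvertible hL
  have hsq : ∀ x, (q ∣_ A x) ≫ (A x).ι = (q ⁻¹ᵁ A x).ι ≫ q := fun x => morphismRestrict_ι q (A x)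
  have hrange : ∀ x, q ⁻¹ᵁ (A x).ι.opensRange ≤ (q ⁻¹ᵁ A x).ι.opensRange := fun x => by
    rw [Scheme.Opens.opensRange_ι, Scheme.Opens.opensRange_ι]
  refine isRelVeryAmple_of_classifies q L _ (isQCoh_push q L) (𝟙 _) (fun x => ?_)
    fun 𝒮 j P p chart O1 lam φ D r hr τ hτ => ?_
  · have : IsAffine (A x).toScheme := hA x
    exact exists_gen_of_chart (A x).ι (q ⁻¹ᵁ A x).ι (q ∣_ A x) (hsq x) (hrange x) hL (hva x) ⟨x, hxA x⟩
  · refine isImmersion_of_cover r (fun x => p ⁻¹ᵁ A x) (fun x => ⟨x, ge_of_over hr (A x) (hxA x)⟩) fun x => ?_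
    have : IsAffine (A x).toScheme := hA x
    have h1 := isImmersion_of_chart (A x).ι (q ⁻¹ᵁ A x).ι (q ∣_ A x) (hsq x) (hrange x) D hτ hL (hva x)
    have he : r ⁻¹ᵁ (p ⁻¹ᵁ A x) = q ⁻¹ᵁ A x := le_antisymm (le_of_over hr _) (ge_of_over hr _)
    rw [← Scheme.isoOfEq_hom_ι X he, Category.assoc]
    infer_instance

theorem isRelVeryAmple_restrict_iff {L : X.Modules} (q : X' ⟶ Y') (v : X' ⟶ X) [IsOpenImmersion v] :
    RelProj.IsRelVeryAmple q (L.restrict v) ↔ RelProj.IsRelVeryAmple q ((Scheme.Modules.pullback v).obj L) :=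
  ⟨isRelVeryAmple_of_iso (restrictIsoPullback v L).symm, isRelVeryAmple_of_iso (restrictIsoPullback v L)⟩

theorem isRelVeryAmple_morphismRestrict {q : X ⟶ Y} {L : X.Modules} (h : RelProj.IsRelVeryAmple q L) (V : Y.Opens) :
    RelProj.IsRelVeryAmple (q ∣_ V) ((Scheme.Modules.pullback (q ⁻¹ᵁ V).ι).obj L) :=
  isRelVeryAmple_baseChange q V.ι (q ⁻¹ᵁ V).ι (q ∣_ V) (isPullback_morphismRestrict q V).flip L h

/-- Very ampleness is local on the base. -/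
theorem isRelVeryAmple_iff_of_openCover (q : X ⟶ Y) [QuasiCompact q] (L : X.Modules) (hL : PicF.IsInvertible L)
    {ι : Type u} (U : ι → Y.Opens) (hU : ⨆ i, U i = ⊤) :
    RelProj.IsRelVeryAmple q L ↔
      ∀ i, RelProj.IsRelVeryAmple (q ∣_ (U i)) (L.restrict (q ⁻¹ᵁ (U i)).ι) := by
  refine ⟨fun h i => (isRelVeryAmple_restrict_iff _ _).2 (isRelVeryAmple_morphismRestrict h (U i)), fun h => ?_⟩
  have : IsSeparated q := (IsZariskiLocalAtTarget.iff_of_iSup_eq_top (P := @IsSeparated) U hU).2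
    fun i => isSeparated_of_isRelVeryAmple (h i)
  have hloc : ∀ x : X, ∃ (i : ι) (A : Y.Opens), IsAffineOpen A ∧ q x ∈ A ∧ A ≤ U i := fun x => by
    obtain ⟨i, hi⟩ := Opens.mem_iSup.1 (hU.ge (Set.mem_univ (q x)))
    obtain ⟨A, hA, hxA, hAU⟩ := Opens.isBasis_iff_nbhd.1 Y.isBasis_affineOpens hi
    exact ⟨i, A, hA, hxA, hAU⟩
  choose i A hA hxA hAU using hloc
  refine isRelVeryAmple_of_charts q L hL A hA hxA fun x => ?_
  have hle : q ⁻¹ᵁ A x ≤ q ⁻¹ᵁ U (i x) := q.preimage_mono (hAU x)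
  have sq : IsPullback (X.homOfLE hle) (q ∣_ A x) (q ∣_ U (i x)) (Y.homOfLE (hAU x)) := by
    refine IsPullback.of_right (h₁₂ := (q ⁻¹ᵁ U (i x)).ι) (h₂₂ := (U (i x)).ι) (v₁₃ := q) ?_ ?_
      (isPullback_morphismRestrict q (U (i x))).flip
    · rw [Scheme.homOfLE_ι, Scheme.homOfLE_ι]
      exact (isPullback_morphismRestrict q (A x)).flip
    · rw [← cancel_mono (U (i x)).ι, Category.assoc, Category.assoc, morphismRestrict_ι, Scheme.homOfLE_ι,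
        morphismRestrict_ι, Scheme.homOfLE_ι_assoc]
  obtain ⟨c, -⟩ := exists_compIso (X.homOfLE hle) (q ⁻¹ᵁ U (i x)).ι (q ⁻¹ᵁ A x).ι (Scheme.homOfLE_ι _ _) L
  exact isRelVeryAmple_of_iso c
    (isRelVeryAmple_baseChange _ _ _ _ sq _ ((isRelVeryAmple_restrict_iff _ _).1 (h (i x))))

/-- The counit of a very ample module is an epimorphism. -/
theorem epi_counit_of_isRelVeryAmple (q : X ⟶ Y) (L : X.Modules) (h : RelProj.IsRelVeryAmple q L) :
    Epi ((Scheme.Modules.pullbackPushforwardAdjunction q).counit.app L) := by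
  obtain ⟨E, hE, 𝒮, j, hj, P, p, chart, hP, O1, lam, hO1, i, hi, hip, ⟨eL⟩⟩ := h
  obtain ⟨φ, D⟩ := exists_pBundle hE hj hP hO1
  obtain ⟨t, -, hcov⟩ := exists_gen_classified D i hip eL.symm
  have := epi_of_exists_gen q (E := (Scheme.Modules.pushforward q).obj L) (L := L) (𝟙 _) fun x => by
    obtain ⟨U, -, e, W, hW, hx, hg⟩ := hcov x
    exact ⟨U, t.app U e, W, hW, hx, hg⟩
  rwa [Adjunction.homEquiv_counit, CategoryTheory.Functor.map_id, Category.id_comp] at this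

end Groth.Agent.RelVALib
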