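import Groth.Agent.ProjLib.ClosedSubscheme
import Groth.Agent.ProjLib.RelProjBasics
import Groth.Agent.Coherent.ProjSpaceBase
import Groth.Agent.MorProj.VeryAmple

/-!
# Projective schemes over an affine base
-/

set_option autoImplicit false
set_option linter.unusedSectionVars false
set_option linter.deprecated false
set_option backward.isDefEq.respectTransparency.types false
set_option maxHeartbeats 1000000

universe u

open AlgebraicGeometry CategoryTheory CategoryTheory.Limits TopologicalSpace Opposite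
open HomogeneousIdeal HomogeneousLocalization
open Groth.Agent.PicLib Groth.Agent.AmpleLib

namespace Groth.Agent.RelVALib

section quotient

variable {R A : Type u} [CommRing R] [CommRing A] [Algebra R A] (𝒜 : ℕ → Submodule R A) [GradedAlgebra 𝒜]
  {s : Finset A} (hs1 : ∀ f ∈ s, f ∈ 𝒜 1) (hs : (irrelevant 𝒜).toIdeal = Ideal.span (s : Set A))

open ProjLib in
include hs1 hs in
/-- A closed subscheme of `Proj` is the Proj of a graded quotient, compatibly with the scalars. -/
theorem exists_quotient_algebra {Z : Scheme.{u}} (i : Z ⟶ Proj 𝒜) [IsClosedImmersion i] :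
    ∃ (B : Type u) (_ : CommRing B) (_ : Algebra R B) (ℬ : ℕ → Submodule R B) (_ : GradedAlgebra ℬ)
      (φ : 𝒜 →+*ᵍ ℬ) (_ : Function.Surjective φ) (_ : ∀ r : R, φ (algebraMap R A r) = algebraMap R B r)
      (_ : ∀ n, ∀ b ∈ ℬ n, ∃ a ∈ 𝒜 n, φ a = b)
      (hφ : irrelevant ℬ ≤ (irrelevant 𝒜).map φ)
      (e : Z ≅ Proj ℬ), e.hom ≫ Proj.map φ hφ = i := by
  classical
  let J := subschemeIdeal 𝒜 hs1 i.ker
  letI : GradedAlgebra (quotGrading 𝒜 J) :=
    quotGradedAlgebra 𝒜 (subschemeIdeal_isHomogeneous 𝒜 hs1 i.ker)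
  let φ := quotGradedHom 𝒜 (I := J)
  have hφ : irrelevant (quotGrading 𝒜 J) ≤ (irrelevant 𝒜).map φ :=
    toIdeal_le_toIdeal_iff.mp (irrelevant_le_of_homogeneous _ fun n hn b ⟨a, ha, hab⟩ =>
      hab ▸ Ideal.mem_map_of_mem φ (mem_irrelevant_of_pos 𝒜 hn ha))
  have hcl : IsClosedImmersion (Proj.map φ hφ) :=
    map_isClosedImmersion φ hφ fun n _ b ⟨a, ha, hab⟩ => ⟨a, ha, hab⟩
  have hker : (Proj.map φ hφ).ker = i.ker := by
    refine Scheme.IdealSheafData.ext_of_iSup_eq_top
      (fun f : s => affineBasic 𝒜 one_pos (hs1 f f.2)) ?_ fun f => ?_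
    · exact Proj.iSup_basicOpen_eq_top 𝒜 (fun f : s => (f : A))
        (by rw [Subtype.range_coe_subtype]; exact hs.le)
    · apply Ideal.comap_injective_of_surjective (Proj.awayToSection 𝒜 (f : A)).hom
        (awayToSection_bijective 𝒜 one_pos (hs1 f f.2)).2
      change chartIdeal 𝒜 (Proj.map φ hφ).ker one_pos (hs1 f f.2) =
        chartIdeal 𝒜 i.ker one_pos (hs1 f f.2)
      rw [chartIdeal_ker_map 𝒜 φ hφ one_pos (hs1 f f.2)]
      ext x
      obtain ⟨n, a, ha, rfl⟩ := Away.mk_surjective 𝒜 (hs1 f f.2) x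
      have han : a ∈ 𝒜 n := by simpa using ha
      rw [RingHom.mem_ker, Away.map_mk φ (f : A) (hs1 f f.2), away_mk_eq_zero_iff]
      constructor
      · rintro ⟨k, hk⟩
        have hmem : (f : A) ^ k * a ∈ J := Ideal.Quotient.eq_zero_iff_mem.mp (by
          rw [map_mul, map_pow]; exact hk)
        have h1 := (mem_subschemeIdeal_iff 𝒜 hs1 i.ker (n := k + n) (by
          simpa using SetLike.mul_mem_graded (SetLike.pow_mem_graded k (hs1 f f.2)) han)).mp hmem f f.2
        convert h1 using 1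
        apply val_injective
        rw [Away.val_mk, Away.val_mk, Localization.mk_eq_mk_iff, Localization.r_iff_exists]
        exact ⟨1, by simp [pow_add]; ring⟩
      · intro h
        obtain ⟨M, hM⟩ := exists_pow_mul_mem_subschemeIdeal 𝒜 hs1 i.ker han f.2 h
        refine ⟨M, ?_⟩
        have := Ideal.Quotient.eq_zero_iff_mem.mpr hM
        rwa [map_mul, map_pow] at this
  have := IsClosedImmersion.isIso_lift (Proj.map φ hφ) i hker
  exact ⟨A ⧸ J, inferInstance, inferInstance, quotGrading 𝒜 J, inferInstance, φ,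
    quotGradedHom_surjective 𝒜, fun _ => rfl, fun n b ⟨a, ha, hab⟩ => ⟨a, ha, hab⟩, hφ,
    asIso (IsClosedImmersion.lift (Proj.map φ hφ) i hker.le), IsClosedImmersion.lift_fac _ _ _⟩

end quotient

theorem isAmple_of_isRelAmple_of_isAffine {X S : Scheme.{u}} [IsAffine S] (f : X ⟶ S) {L : X.Modules}
    (h : RelAmple.IsRelAmple f L) : CohB1.IsAmple L := by
  have h1 := ((AmpleLib.isRelAmple_iff f).1 h).2 ⟨⊤, isAffineOpen_top S⟩
  have : IsIso (f ⁻¹ᵁ (⊤ : S.Opens)).ι := by
    show IsIso (⊤ : X.Opens).ι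
    rw [← Scheme.topIso_hom]
    infer_instance
  have h2 := AmpleLib.isAmple_pullback_of_isAffineHom (inv (f ⁻¹ᵁ (⊤ : S.Opens)).ι) h1
  rw [isAmple_pullback_comp_iff] at h2
  exact isAmple_of_iso ((Scheme.Modules.pullbackCongr (IsIso.inv_hom_id _)).app L ≪≫ (Scheme.Modules.pullbackId X).app L) h2

/-- A proper scheme with an ample module over an affine base is projective in the graded sense. -/
theorem exists_proj_of_isRelAmple {A : Type u} [CommRing A] {X : Scheme.{u}}
    (f : X ⟶ Spec (CommRingCat.of A)) [IsProper f] {L : X.Modules} (hamp : RelAmple.IsRelAmple f L) :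
    ∃ (S : Type u) (_ : CommRing S) (_ : Algebra A S) (𝒮 : ℕ → Submodule A S) (_ : GradedAlgebra 𝒮) (s : Finset S),
      Function.Surjective (algebraMap A (𝒮 0)) ∧ (∀ g ∈ s, g ∈ 𝒮 1) ∧
      (HomogeneousIdeal.irrelevant 𝒮).toIdeal = Ideal.span (s : Set S) ∧
      ∃ e : X ≅ Proj 𝒮, e.hom ≫ Proj.toSpecZero 𝒮 ≫ Spec.map (CommRingCat.ofHom (algebraMap A (𝒮 0))) = f := by
  classical
  obtain ⟨n₀, hn₀⟩ := MorProj.eventually_isRelVeryAmplePn_pow f (isAmple_of_isRelAmple_of_isAffine f hamp)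
  obtain ⟨n, i, hi, hiq, -⟩ := hn₀ n₀ le_rfl
  letI : Algebra (ULift.{u} ℤ) A := ((Int.castRingHom A).comp ULift.ringEquiv.toRingHom).toAlgebra
  have hsq := Coherent.isPullback_projSpace n (ULift.{u} ℤ) A
  have hspec : Spec.map (CommRingCat.ofHom (algebraMap (ULift.{u} ℤ) A)) =
      specULiftZIsTerminal.from (Spec (CommRingCat.of A)) := specULiftZIsTerminal.hom_ext _ _
  rw [hspec] at hsq
  let e₀ := hsq.isoPullback
  let j : X ⟶ CohB1.ProjSpace n A := i ≫ e₀.inv
  have hj : j ≫ CohB1.ProjSpace.toSpec n A = f := by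
    show (i ≫ e₀.inv) ≫ _ = f
    rw [Category.assoc]
    erw [hsq.isoPullback_inv_snd]
    exact hiq
  have : IsSeparated (CohB1.ProjSpace.toSpec n A) :=
    MorphismProperty.comp_mem @IsSeparated (Proj.toSpecZero (CohB1.polyGrading n A))
      (Spec.map (CommRingCat.ofHom (algebraMap A (CohB1.polyGrading n A 0)))) inferInstance inferInstance
  have := hi
  have : IsProper (j ≫ CohB1.ProjSpace.toSpec n A) := by rw [hj]; infer_instance
  have : IsProper j := IsProper.of_comp j (CohB1.ProjSpace.toSpec n A)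
  have : IsImmersion j := inferInstanceAs (IsImmersion (i ≫ e₀.inv))
  have : IsClosedImmersion j := IsClosedImmersion.of_isPreimmersion j j.isClosedMap.isClosed_range
  let s₀ : Finset (MvPolynomial (Fin (n + 1)) A) := Finset.univ.image MvPolynomial.X
  have hs1 : ∀ g ∈ s₀, g ∈ CohB1.polyGrading n A 1 := fun g hg => by
    obtain ⟨k, -, rfl⟩ := Finset.mem_image.1 hg
    exact MvPolynomial.isHomogeneous_X _ k
  have hs : (irrelevant (CohB1.polyGrading n A)).toIdeal = Ideal.span (s₀ : Set (MvPolynomial (Fin (n + 1)) A)) := by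
    rw [Finset.coe_image, Finset.coe_univ, Set.image_univ]
    refine le_antisymm (ProjLib.irrelevant_le_span_X n A) (Ideal.span_le.2 ?_)
    rintro _ ⟨k, rfl⟩
    exact HomogeneousIdeal.mem_irrelevant_of_mem (CohB1.polyGrading n A) Nat.one_pos (MvPolynomial.isHomogeneous_X _ k)
  obtain ⟨B, _, _, ℬ, _, φ, -, hC, hdeg, hφ, e, he⟩ := @exists_quotient_algebra _ _ _ _ _ (CohB1.polyGrading n A) _ _ hs1 hs X j (IsClosedImmersion.of_isPreimmersion j j.isClosedMap.isClosed_range)
  refine ⟨B, inferInstance, inferInstance, ℬ, inferInstance, s₀.image φ, fun b => ?_, fun g hg => ?_,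
    le_antisymm ?_ (Ideal.span_le.2 ?_), e, ?_⟩
  · obtain ⟨a, ha, hab⟩ := hdeg 0 b.1 b.2
    obtain ⟨c, hc⟩ : ∃ c, MvPolynomial.C c = a :=
      ⟨_, (MvPolynomial.totalDegree_eq_zero_iff_eq_C.1 (Nat.le_zero.1 (MvPolynomial.IsHomogeneous.totalDegree_le ha))).symm⟩
    exact ⟨c, Subtype.ext (by rw [← hab, ← hc]; exact (hC c).symm)⟩
  · obtain ⟨x, hx, rfl⟩ := Finset.mem_image.1 hg
    exact φ.map_mem (hs1 x hx)
  · rw [Finset.coe_image, ← Ideal.map_span, ← hs]
    exact hφ
  · intro g hg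
    obtain ⟨x, hx, rfl⟩ := Finset.mem_image.1 hg
    exact HomogeneousIdeal.mem_irrelevant_of_mem ℬ Nat.one_pos (φ.map_mem (hs1 x hx))
  · rw [← hj, ← he]
    refine Eq.trans ?_ (Category.assoc e.hom (Proj.map φ hφ) _).symm
    congr 1
    show _ = Proj.map φ hφ ≫ Proj.toSpecZero (CohB1.polyGrading n A) ≫
      Spec.map (CommRingCat.ofHom (algebraMap A (CohB1.polyGrading n A 0)))
    rw [reassoc_of% ProjLib.map_toSpecZero φ hφ, ← Spec.map_comp]
    congr 2
    ext c
    exact (hC c).symm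

end Groth.Agent.RelVALib
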