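import Groth.Agent.Coherent.PullUnit
import Groth.Agent.Coherent.QcohOps
import Groth.Agent.TwistLib.G.Map
import Groth.Agent.EGA43.Cons.FibFlatLocus
import Mathlib.AlgebraicGeometry.Morphisms.Flat

/-!
# Direct images by affine morphisms commute with base change
-/

set_option autoImplicit false
set_option backward.isDefEq.respectTransparency false
set_option maxHeartbeats 800000

universe u

open AlgebraicGeometry CategoryTheory CategoryTheory.Limits TopologicalSpace Opposite
open Groth.Agent.Coherent Groth.Agent.PicLib Groth.Agent.EGA43.InjFibre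

namespace Groth.Agent.RelVALib

variable {X S X' S' : Scheme.{u}} {f : X ⟶ S} {g : S' ⟶ S} {g' : X' ⟶ X} {f' : X' ⟶ S'}

/-- The base change map `g^* f_* F ⟶ f'_* g'^* F`. -/
noncomputable def bcHom (h : IsPullback g' f' f g) (F : X.Modules) :
    (Scheme.Modules.pullback g).obj ((Scheme.Modules.pushforward f).obj F) ⟶
      (Scheme.Modules.pushforward f').obj ((Scheme.Modules.pullback g').obj F) :=
  ((Scheme.Modules.pullbackPushforwardAdjunction g).homEquiv ((Scheme.Modules.pushforward f).obj F)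
      ((Scheme.Modules.pushforward f').obj ((Scheme.Modules.pullback g').obj F))).symm
    ((Scheme.Modules.pushforward f).map ((Scheme.Modules.pullbackPushforwardAdjunction g').unit.app F) ≫
      (Scheme.Modules.pushforwardComp g' f).hom.app ((Scheme.Modules.pullback g').obj F) ≫
      (Scheme.Modules.pushforwardCongr h.w).hom.app ((Scheme.Modules.pullback g').obj F) ≫
      (Scheme.Modules.pushforwardComp f' g).inv.app ((Scheme.Modules.pullback g').obj F))

theorem preimage_le_of_comm (h : IsPullback g' f' f g) {U : S.Opens} {U' : S'.Opens} (hle : U' ≤ g ⁻¹ᵁ U) :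
    f' ⁻¹ᵁ U' ≤ g' ⁻¹ᵁ (f ⁻¹ᵁ U) := by
  intro z hz
  have := hle hz
  rw [Scheme.Hom.mem_preimage] at this ⊢
  rw [Scheme.Hom.mem_preimage, ← Scheme.Hom.comp_apply, h.w]
  exact this

theorem pushforwardCongr_app_resM {p q : X' ⟶ S} (hpq : p = q) (M : X'.Modules) (U : S.Opens) {W : X'.Opens}
    (hp : W ≤ p ⁻¹ᵁ U) (hq : W ≤ q ⁻¹ᵁ U) (m : Γ(M, p ⁻¹ᵁ U)) :
    resM M hq (((Scheme.Modules.pushforwardCongr hpq).hom.app M).app U m) = resM M hp m := by
  subst hpq
  rw [Scheme.Modules.pushforwardCongr_hom_app_app]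
  exact resM_resM M le_rfl hp m

theorem bcHom_app (h : IsPullback g' f' f g) (F : X.Modules) {U : S.Opens} {U' : S'.Opens}
    (hle : U' ≤ g ⁻¹ᵁ U) (x : Γ((Scheme.Modules.pushforward f).obj F, U)) :
    (bcHom h F).app U' (resM _ hle (pullSec g x)) =
      resM ((Scheme.Modules.pullback g').obj F) (preimage_le_of_comm h hle)
        (pullSec g' (show Γ(F, f ⁻¹ᵁ U) from x)) := by
  rw [app_resM, bcHom, homEquiv_symm_app_pullSec]
  exact pushforwardCongr_app_resM h.w _ U _ _ _

theorem isIso_bcHom (h : IsPullback g' f' f g) [IsAffineHom f] (F : X.Modules) [Coh.IsQCoh F] :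
    IsIso (bcHom h F) := by
  have : IsAffineHom f' := MorphismProperty.IsStableUnderBaseChange.of_isPullback (P := @IsAffineHom) h inferInstance
  let M := (Scheme.Modules.pushforward f).obj F
  have hM : Coh.IsQCoh M := Groth.Agent.Coherent.isQCoh_push f F
  refine TwistLib.G.isIso_of_bijective_on_basis _
    (fun B => IsAffineOpen B ∧ ∃ U : S.Opens, IsAffineOpen U ∧ B ≤ g ⁻¹ᵁ U) ?_ ?_
  · intro V y hy
    obtain ⟨U, hU, hyU, -⟩ := exists_isAffineOpen_mem_and_subset (x := g y) (U := ⊤) trivial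
    obtain ⟨B, hB, hyB, hBle⟩ := exists_isAffineOpen_mem_and_subset (x := y) (U := V ⊓ g ⁻¹ᵁ U) ⟨hy, hyU⟩
    exact ⟨B, ⟨hB, U, hU, fun z hz => (hBle hz).2⟩, hyB, fun z hz => (hBle hz).1⟩
  rintro U' ⟨hU', U, hU, hle⟩
  let W : X.Opens := f ⁻¹ᵁ U
  let W' : X'.Opens := f' ⁻¹ᵁ U'
  let hW : IsAffineOpen W := hU.preimage f
  let hW' : IsAffineOpen W' := hU'.preimage f'
  let e : W' ≤ g' ⁻¹ᵁ W := preimage_le_of_comm h hle
  have hpo := (isIso_pushoutSection_iff h (US := U) (UT := U') (UX := W) hle le_rfl (UY := W')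
    (le_antisymm (le_inf e le_rfl) inf_le_right)).1
    (isIso_pushoutSection_of_isAffineOpen h _ _ _ hU hU' hW)
  let G := (Scheme.Modules.pullback g').obj F
  let N := (Scheme.Modules.pullback g).obj M
  let _ := (g.appLE U U' hle).hom.toAlgebra
  let _ := (f.appLE U W le_rfl).hom.toAlgebra
  let _ := (f'.appLE U' W' le_rfl).hom.toAlgebra
  let _ := (g'.appLE W W' e).hom.toAlgebra
  let _ : Algebra Γ(S, U) Γ(X', W') := (g.appLE U U' hle ≫ f'.appLE U' W' le_rfl).hom.toAlgebra
  have : IsScalarTower Γ(S, U) Γ(S', U') Γ(X', W') := .of_algebraMap_eq fun _ => rfl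
  have : IsScalarTower Γ(S, U) Γ(X, W) Γ(X', W') := .of_algebraMap_eq fun r =>
    (ConcreteCategory.congr_hom hpo.w r).symm
  have : Algebra.IsPushout Γ(S, U) Γ(X, W) Γ(S', U') Γ(X', W') := CommRingCat.isPushout_iff_isPushout.1 hpo
  have : Algebra.IsPushout Γ(S, U) Γ(S', U') Γ(X, W) Γ(X', W') := Algebra.IsPushout.symm inferInstance
  let _ : Module Γ(S, U) Γ(N, U') := Module.compHom _ (g.appLE U U' hle).hom
  have : IsScalarTower Γ(S, U) Γ(S', U') Γ(N, U') := .of_algebraMap_smul fun _ _ => rfl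
  obtain ⟨μ₁, hμ₁, hμ₁e⟩ := pullMap_isBaseChange g hU hU' hle M
  let _ : Module Γ(X, W) Γ(G, W') := Module.compHom _ (g'.appLE W W' e).hom
  let _ : Module Γ(S', U') Γ(G, W') := Module.compHom _ (f'.appLE U' W' le_rfl).hom
  let _ : Module Γ(S, U) Γ(G, W') := Module.compHom _ (g.appLE U U' hle ≫ f'.appLE U' W' le_rfl).hom
  let _ : Module Γ(S, U) Γ(F, W) := Module.compHom _ (f.appLE U W le_rfl).hom
  have : IsScalarTower Γ(X, W) Γ(X', W') Γ(G, W') := .of_algebraMap_smul fun _ _ => rfl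
  have : IsScalarTower Γ(S', U') Γ(X', W') Γ(G, W') := .of_algebraMap_smul fun _ _ => rfl
  have : IsScalarTower Γ(S, U) Γ(X, W) Γ(F, W) := .of_algebraMap_smul fun _ _ => rfl
  have : IsScalarTower Γ(S, U) Γ(S', U') Γ(G, W') := .of_algebraMap_smul fun _ _ => rfl
  have : IsScalarTower Γ(S, U) Γ(X, W) Γ(G, W') := .of_algebraMap_smul fun r m =>
    congrArg (fun t : Γ(X', W') => t • m) (ConcreteCategory.congr_hom hpo.w r)
  obtain ⟨μ₂, hμ₂, hμ₂e⟩ := pullMap_isBaseChange g' hW hW' e F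
  have hb := (EGA43.Cons.isBaseChange_iff_of_isPushout (R := Γ(S, U)) (T := Γ(S', U')) (R' := Γ(X, W))
    (T' := Γ(X', W')) μ₂).1 hμ₂
  let φ₀ : Γ(N, U') →+ Γ(G, W') := ((bcHom h F).app U').hom
  let Φ : Γ(N, U') →ₗ[Γ(S', U')] Γ(G, W') :=
    { toFun := φ₀
      map_add' := map_add φ₀
      map_smul' := fun r z => by
        refine (Scheme.Modules.Hom.app_smul (bcHom h F) r z).trans ?_
        show f'.app U' r • φ₀ z = f'.appLE U' W' le_rfl r • φ₀ z
        rw [← f'.app_eq_appLE] }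
  let eA : Γ(M, U) ≃+ Γ(F, W) := AddEquiv.refl Γ(F, W)
  let eM : Γ(M, U) ≃ₗ[Γ(S, U)] Γ(F, W) :=
    { eA with
      map_smul' := fun r x => by
        show f.app U r • (eA x) = f.appLE U W le_rfl r • (eA x)
        rw [← f.app_eq_appLE] }
  have key : ∀ x : Γ(F, W), Φ (μ₁ x) = μ₂ x := fun x => by
    show (bcHom h F).app U' (μ₁ x) = _
    rw [hμ₁e, pullMap_eq_resM_pullSec, hμ₂e, pullMap_eq_resM_pullSec]
    exact bcHom_app h F hle x
  have hΦ : ∀ z, Φ z = hb.equiv (LinearEquiv.baseChange Γ(S, U) Γ(S', U') _ _ eM (hμ₁.equiv.symm z)) := fun z => by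
    obtain ⟨t, rfl⟩ := hμ₁.equiv.surjective z
    rw [LinearEquiv.symm_apply_apply]
    induction t using TensorProduct.induction_on with
    | zero => simp
    | add a b ha hb => simp only [map_add, ha, hb]
    | tmul b x =>
      rw [IsBaseChange.equiv_tmul, map_smul, key]
      exact (hb.equiv_tmul b x).symm
  show Function.Bijective (fun z => Φ z)
  simp_rw [hΦ]
  exact hb.equiv.bijective.comp ((LinearEquiv.bijective _).comp hμ₁.equiv.symm.bijective)

end Groth.Agent.RelVALib
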