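import Groth.Agent.RelVALib.Projective
import Groth.Agent.RelVALib.OfPn
import Groth.Agent.MorProj.VeryAmple
import Groth.Agent.MorProj.FinFree

/-!
# Finite morphisms are projective
-/

set_option autoImplicit false
set_option linter.unusedSectionVars false
set_option linter.deprecated false
set_option backward.isDefEq.respectTransparency.types false
set_option maxHeartbeats 1000000

universe u

open AlgebraicGeometry CategoryTheory CategoryTheory.Limits TopologicalSpace Opposite
open Groth.Agent.Coherent Groth.Agent.PicLib Groth.Agent.AmpleLib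

namespace Groth.Agent.RelVALib

variable {X Y : Scheme.{u}}

/-- Every invertible module is very ample for an affine morphism of finite type. -/
theorem isRelVeryAmple_of_isAffineHom (f : X ⟶ Y) [IsAffineHom f] [LocallyOfFiniteType f] {L : X.Modules}
    (hL : PicF.IsInvertible L) : RelProj.IsRelVeryAmple f L := by
  have hb : ∀ y : Y, ∃ A : Y.Opens, IsAffineOpen A ∧ y ∈ A := fun y => by
    obtain ⟨A, hA, hy, -⟩ := exists_isAffineOpen_mem_and_subset (x := y) (U := (⊤ : Y.Opens)) trivial
    exact ⟨A, hA, hy⟩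
  choose A hA hyA using hb
  refine isRelVeryAmple_of_charts f L hL (fun x => A (f x)) (fun x => hA _) (fun x => hyA _) fun x => ?_
  have : IsAffine (f ⁻¹ᵁ A (f x)).toScheme := (hA (f x)).preimage f
  have : LocallyOfFiniteType (f ∣_ A (f x)) := IsZariskiLocalAtTarget.restrict ‹_› _
  have : QuasiCompact (f ∣_ A (f x)) := IsZariskiLocalAtTarget.restrict (inferInstance : QuasiCompact f) _
  have hL' := PicLoc.isInvertible_pullback (f ⁻¹ᵁ A (f x)).ι hL
  obtain ⟨n₀, hn₀⟩ := MorProj.eventually_isRelVeryAmplePn' (f ∣_ A (f x))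
    (isAmple_of_isQuasiAffine (isInvertible_structureModule (X := (f ⁻¹ᵁ A (f x)).toScheme))) hL'
  obtain ⟨e₁⟩ := PnEmb.nonempty_iso_of_isGen_top (isGen_powSec (isGen_oneSec (⊤ : (f ⁻¹ᵁ A (f x)).toScheme.Opens)) n₀)
  obtain ⟨e₂⟩ := PnEmb.nonempty_unit_tensorIso hL'
  exact isRelVeryAmple_of_isRelVeryAmplePn _ _ hL'
    (PnEmb.isRelVeryAmplePn_of_iso (AmpleLib.tensorIso e₁ (Iso.refl _) ≪≫ e₂) (hn₀ n₀ le_rfl))

/-- The direct image of the structure sheaf along a finite morphism is of finite type. -/
theorem isFT_push_of_isFinite (f : X ⟶ Y) [IsFinite f] :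
    CohB1.IsFT ((Scheme.Modules.pushforward f).obj (Coh.structureModule X)) := by
  have : Coh.IsQCoh (Coh.structureModule X) := isQCoh_structureModule (X := X)
  have : Coh.IsQCoh (MorProj.pushO f) := isQCoh_push f _
  refine isFT_of_locallyFinGen fun y => ?_
  obtain ⟨W, hW, hy, -⟩ := exists_isAffineOpen_mem_and_subset (x := y) (U := (⊤ : Y.Opens)) trivial
  letI := (f.app W).hom.toAlgebra
  obtain ⟨l⟩ := MorProj.sections_linearEquiv f W
  have : Module.Finite Γ(Y, W) Γ(X, f ⁻¹ᵁ W) := IsFinite.finite_app (f := f) W hW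
  have : Module.Finite Γ(Y, W) Γ(MorProj.pushO f, W) := Module.Finite.equiv l
  obtain ⟨r, s, hs⟩ := Module.Finite.exists_fin (R := Γ(Y, W)) (M := Γ(MorProj.pushO f, W))
  exact ⟨W, ULift.{u} (Fin r), inferInstance, fun i => s i.down, hy, genOn_of_span_top _ hW _ (by
    rw [← hs]; congr 1; exact Equiv.ulift.surjective.range_comp s)⟩

/-- Finite morphisms are projective. -/
theorem isProjective_of_isFinite (f : X ⟶ Y) [IsFinite f] : RelProj.IsProjective f :=
  isProjective_of_isProper_pushforward f _ isInvertible_structureModule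
    (isRelVeryAmple_of_isAffineHom f isInvertible_structureModule) (isFT_push_of_isFinite f)

end Groth.Agent.RelVALib
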