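import Groth.Agent.RelVALib.UPApps
import Groth.Agent.RelVALib.SurjTwist
import Groth.Agent.Coherent.SubFTApps
import Groth.Agent.Coherent.FiniteType

/-!
# Pieces of graded algebras as modules
-/

set_option autoImplicit false
set_option linter.unusedSectionVars false
set_option backward.isDefEq.respectTransparency.types false
set_option maxHeartbeats 1000000

universe u

open AlgebraicGeometry CategoryTheory CategoryTheory.Limits TopologicalSpace Opposite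
open Groth.Agent.Coherent Groth.Agent.PicLib Groth.Agent.AmpleLib
open scoped HomogeneousIdeal

namespace Groth.Agent.RelVALib

variable {Y : Scheme.{u}} (𝒮 : RelProj.QCGrAlg Y)

/-- The scalar action on the module underlying an algebra. -/
theorem toModule_smul (U : Y.Opens) (r : Γ(Y, U)) (x : Γ(𝒮.toModule, U)) :
    (show 𝒮.presheaf.obj (op U) from r • x) = 𝒮.str.app (op U) r * (show 𝒮.presheaf.obj (op U) from x) := rfl

/-- A piece is a quasi-coherent submodule. -/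
theorem exists_degPiece (d : ℕ) :
    ∃ (M : Y.Modules) (ι : M ⟶ 𝒮.toModule), Coh.IsQCoh M ∧ (∀ U : Y.Opens, Function.Injective (ι.app U)) ∧
      ∀ (U : Y.Opens) (hU : IsAffineOpen U),
        (∀ x : Γ(M, U), (show 𝒮.presheaf.obj (op U) from ι.app U x) ∈ 𝒮.deg U hU d) ∧
        ∀ s ∈ 𝒮.deg U hU d, ∃ x : Γ(M, U), (show 𝒮.presheaf.obj (op U) from ι.app U x) = s := by
  classical
  have := Coherent.isQCoh_toModule 𝒮.toQCAlg
  let f : ∀ U : Y.Opens, IsAffineOpen U → (Γ(𝒮.toModule, U) →+ Γ(𝒮.toModule, U)) := fun U hU =>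
    AddMonoidHom.mk' (fun x => (show Γ(𝒮.toModule, U) from
      (DirectSum.decompose (𝒮.deg U hU) (show 𝒮.presheaf.obj (op U) from x) d : 𝒮.presheaf.obj (op U))))
      fun a b => by
        show ((DirectSum.decompose (𝒮.deg U hU) ((show 𝒮.presheaf.obj (op U) from a) + _) d : _) : 𝒮.presheaf.obj (op U)) = _
        rw [DirectSum.decompose_add]
        rfl
  obtain ⟨π, hπ⟩ := exists_hom_of_affine 𝒮.toModule 𝒮.toModule f
    (fun U hU r x => by
      show ((DirectSum.decompose (𝒮.deg U hU)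
        (𝒮.str.app (op U) r * (show 𝒮.presheaf.obj (op U) from x)) d : _) : 𝒮.presheaf.obj (op U)) =
        𝒮.str.app (op U) r * (DirectSum.decompose (𝒮.deg U hU) (show 𝒮.presheaf.obj (op U) from x) d : 𝒮.presheaf.obj (op U))
      rw [← DirectSum.coe_decompose_mul_add_of_left_mem (𝒮.deg U hU) (j := d) (𝒮.str_mem U hU r), zero_add])
    fun U V hU hV h x => (GradedRingHom.map_directSumDecompose (𝒜 := 𝒮.deg U hU) (ℬ := 𝒮.deg V hV) (𝒮.res hU hV h)
      (x := (show 𝒮.presheaf.obj (op U) from x)) (i := d)).symm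
  let ψ : 𝒮.toModule ⟶ 𝒮.toModule := 𝟙 _ - π
  refine ⟨kernel ψ, kernel.ι ψ, isQCoh_kernel ψ, app_injective_of_mono _, fun U hU => ⟨fun x => ?_, fun s hs => ?_⟩⟩
  · have h0 := kernel_ι_app_zero ψ U x
    let y : Γ(𝒮.toModule, U) := (kernel.ι ψ).app U x
    change y - π.app U y = 0 at h0
    rw [sub_eq_zero, hπ U hU] at h0
    show (show 𝒮.presheaf.obj (op U) from y) ∈ _
    rw [h0]
    exact (DirectSum.decompose (𝒮.deg U hU) (show 𝒮.presheaf.obj (op U) from y) d).2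
  · refine kernel_sections_exact ψ (show Γ(𝒮.toModule, U) from s) ?_
    show (show Γ(𝒮.toModule, U) from s) - π.app U s = 0
    rw [sub_eq_zero, hπ U hU]
    exact (DirectSum.decompose_of_mem_same _ hs).symm

/-- A finitely generated piece gives a module of finite type. -/
theorem isFT_degPiece {d : ℕ} (hft : 𝒮.IsFTDeg d) {M : Y.Modules} (hM : Coh.IsQCoh M) (ι : M ⟶ 𝒮.toModule)
    (hinj : ∀ U : Y.Opens, Function.Injective (ι.app U))
    (hdeg : ∀ (U : Y.Opens) (hU : IsAffineOpen U),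
        (∀ x : Γ(M, U), (show 𝒮.presheaf.obj (op U) from ι.app U x) ∈ 𝒮.deg U hU d) ∧
        ∀ s ∈ 𝒮.deg U hU d, ∃ x : Γ(M, U), (show 𝒮.presheaf.obj (op U) from ι.app U x) = s) :
    CohB1.IsFT M := by
  classical
  refine isFT_of_locallyFinGen (locallyFinGen_of_finite_sections M (fun U : Y.affineOpens => U.1) (fun U => U.2)
    (fun y => ?_) fun U => ?_)
  · obtain ⟨U, hU, hy, -⟩ := Opens.isBasis_iff_nbhd.mp Y.isBasis_affineOpens (Opens.mem_top y)
    exact ⟨⟨U, hU⟩, hy⟩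
  · obtain ⟨T, hT, hspan⟩ := hft U.1 U.2
    choose g hg using fun t : T => (hdeg U.1 U.2).2 t.1 (hT t.2)
    refine ⟨⟨Finset.univ.image g, top_le_iff.1 fun x _ => ?_⟩⟩
    obtain ⟨c, hc⟩ := hspan _ ((hdeg U.1 U.2).1 x)
    have hx : x = ∑ t : T, c t.1 • g t := hinj U.1 (by
      rw [map_sum]
      refine hc.trans ?_
      rw [← Finset.sum_coe_sort]
      refine Finset.sum_congr rfl fun t _ => ?_
      rw [Scheme.Modules.Hom.app_smul]
      show _ = 𝒮.str.app (op U.1) (c t.1) * _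
      rw [← hg t])
    rw [hx]
    exact Submodule.sum_mem _ fun t _ =>
      Submodule.smul_mem _ _ (Submodule.subset_span (Finset.mem_image_of_mem g (Finset.mem_univ t)))

variable {𝒮}

/-- The homomorphism of a symmetric algebra given by a map into degree one is graded. -/
theorem exists_symMap {M : Y.Modules} (hM : Coh.IsQCoh M) {𝒯 : RelProj.QCGrAlg Y} {j : M ⟶ 𝒯.toModule}
    (hj : RelProj.IsGrSymAlg M 𝒯 j) (u : M ⟶ 𝒮.toModule)
    (hu : ∀ (U : Y.Opens) (hU : IsAffineOpen U) (x : Γ(M, U)),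
      (show 𝒮.presheaf.obj (op U) from u.app U x) ∈ 𝒮.deg U hU 1) :
    ∃ ubar : 𝒯.toQCAlg ⟶ 𝒮.toQCAlg, RelProj.IsGradedHom ubar ∧ j ≫ RelSpec.QCAlg.Hom.toModuleMap ubar = u := by
  have := hM
  obtain ⟨ubar, hub, -⟩ := hj.1 𝒮.toQCAlg u
  refine ⟨ubar, fun U hU d x hx => ?_, hub⟩
  have hgen := adjoin_degOne_eq_top (SymAlgLib.isGenDegOne_of_isGrSymAlg hj) hU
  let g : 𝒯.presheaf.obj (op U) →+* 𝒮.presheaf.obj (op U) := (ubar.hom.app (op U)).hom
  have h1 : ∀ b ∈ 𝒯.deg U hU 1, g b ∈ 𝒮.deg U hU 1 := fun b hb => by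
    obtain ⟨e, rfl⟩ := (SymAlgLib.deg_zero_one hj hU b).2 hb
    have h := ConcreteCategory.congr_hom (congrArg (fun z : M ⟶ 𝒮.toModule => z.app U) hub) e
    exact (show g (j.app U e) = u.app U e from h) ▸ hu U hU e
  refine UPLib.deg_induction hgen (P := fun n b => g b ∈ 𝒮.deg U hU n) ?_ ?_ ?_ ?_ hx
  · intro a ha
    obtain ⟨r, rfl⟩ := (SymAlgLib.deg_zero_one hj hU a).1 ha
    have h := ConcreteCategory.congr_hom (congrArg (fun z => z.app (op U)) ubar.comm) r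
    exact (show g (𝒯.str.app (op U) r) = 𝒮.str.app (op U) r from h) ▸ 𝒮.str_mem U hU r
  · intro k a c _ hc ih
    rw [map_mul]
    exact SetLike.mul_mem_graded ih (h1 c hc)
  · exact fun k => by rw [map_zero]; exact zero_mem _
  · intro k a c _ _ iha ihc
    rw [map_add]
    exact add_mem iha ihc

/-- A relative Proj of an algebra generated in degree one embeds in a projective bundle, compatibly with `O(1)`. -/
theorem exists_closedImmersion_bundle {P : Scheme.{u}} {p : P ⟶ Y}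
    {chart : ∀ (U : Y.Opens) (hU : IsAffineOpen U), ((p ⁻¹ᵁ U : P.Opens) : Scheme.{u}) ≅ Proj (𝒮.deg U hU)}
    (hgen : 𝒮.IsGenDegOne) (hP : RelProj.IsRelProj 𝒮 p chart) {M : Y.Modules} (hM : Coh.IsQCoh M)
    (u : M ⟶ 𝒮.toModule)
    (hu1 : ∀ (U : Y.Opens) (hU : IsAffineOpen U) (x : Γ(M, U)),
      (show 𝒮.presheaf.obj (op U) from u.app U x) ∈ 𝒮.deg U hU 1)
    (hsurj : ∀ (U : Y.Opens) (hU : IsAffineOpen U), ∀ s ∈ 𝒮.deg U hU 1,
      ∃ x : Γ(M, U), (show 𝒮.presheaf.obj (op U) from u.app U x) = s) :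
    ∃ (𝒯 : RelProj.QCGrAlg Y) (j : M ⟶ 𝒯.toModule) (P₂ : Scheme.{u}) (p₂ : P₂ ⟶ Y)
      (chart₂ : ∀ (U : Y.Opens) (hU : IsAffineOpen U), ((p₂ ⁻¹ᵁ U : P₂.Opens) : Scheme.{u}) ≅ Proj (𝒯.deg U hU))
      (O₂ : P₂.Modules)
      (lam₂ : ∀ (U : Y.Opens) (hU : IsAffineOpen U),
        O₂ ⟶ (Scheme.Modules.pushforward (RelProj.emb p₂ chart₂ U hU)).obj (GrTwist.twist (𝒯.deg U hU) 1))
      (φ : M ⟶ (Scheme.Modules.pushforward p₂).obj O₂) (h : P ⟶ P₂),
      PBundle M 𝒯 j p₂ chart₂ O₂ lam₂ φ ∧ IsClosedImmersion h ∧ h ≫ p₂ = p ∧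
        ∀ (O1 : P.Modules)
          (lam : ∀ (U : Y.Opens) (hU : IsAffineOpen U),
            O1 ⟶ (Scheme.Modules.pushforward (RelProj.emb p chart U hU)).obj (GrTwist.twist (𝒮.deg U hU) 1)),
          RelProj.IsRelTwist 𝒮 p chart 1 O1 lam → Nonempty ((Scheme.Modules.pullback h).obj O₂ ≅ O1) := by
  obtain ⟨𝒯, j, P₂, p₂, chart₂, O₂, lam₂, φ, D⟩ := exists_bundle M hM
  obtain ⟨ubar, hgr, hju⟩ := exists_symMap hM D.hj u hu1
  have h1 : ∀ (U : Y.Opens) (hU : IsAffineOpen U), ∀ b ∈ 𝒮.deg U hU 1,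
      ∃ a ∈ 𝒯.deg U hU 1, RelProj.gradedHomAt ubar hgr U hU a = b := by
    intro U hU b hb
    obtain ⟨x, rfl⟩ := hsurj U hU b hb
    exact ⟨j.app U x, D.hj.2 U hU x, ConcreteCategory.congr_hom (congrArg (fun z : M ⟶ 𝒮.toModule => z.app U) hju) x⟩
  have hirr := irrelevant_le_of_degOne hgen hgr h1
  obtain ⟨h, hh, -⟩ := ProjLib.existsUnique_relProjMap ubar hgr hirr D.hP hP
  exact ⟨𝒯, j, P₂, p₂, chart₂, O₂, lam₂, φ, h, D, isClosedImmersion_relProjMap hgen D.hP hP hh h1,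
    ProjLib.relProjMap_comp ubar hgr hirr D.hP hP hh,
    fun O1 lam hO1 => nonempty_pullback_twist_iso D.hgen D.hP hP hh D.hO1 hO1⟩

/-- Immersions into relative Proj's generated in degree one give very ample modules. -/
theorem isRelVeryAmple_of_immersion_relProj {X P : Scheme.{u}} {q : X ⟶ Y} {L : X.Modules} {p : P ⟶ Y}
    {chart : ∀ (U : Y.Opens) (hU : IsAffineOpen U), ((p ⁻¹ᵁ U : P.Opens) : Scheme.{u}) ≅ Proj (𝒮.deg U hU)}
    (hgen : 𝒮.IsGenDegOne) (hP : RelProj.IsRelProj 𝒮 p chart) {O1 : P.Modules}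
    {lam : ∀ (U : Y.Opens) (hU : IsAffineOpen U),
      O1 ⟶ (Scheme.Modules.pushforward (RelProj.emb p chart U hU)).obj (GrTwist.twist (𝒮.deg U hU) 1)}
    (hO1 : RelProj.IsRelTwist 𝒮 p chart 1 O1 lam) (i : X ⟶ P) [IsImmersion i] (hi : i ≫ p = q)
    (e : L ≅ (Scheme.Modules.pullback i).obj O1) : RelProj.IsRelVeryAmple q L := by
  obtain ⟨M, ι, hM, -, hdeg⟩ := exists_degPiece 𝒮 1
  obtain ⟨𝒯, j, P₂, p₂, chart₂, O₂, lam₂, φ, h, D, hcl, hhp, hiso⟩ :=
    exists_closedImmersion_bundle hgen hP hM ι (fun U hU => (hdeg U hU).1) (fun U hU => (hdeg U hU).2)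
  obtain ⟨eh⟩ := hiso O1 lam hO1
  exact ⟨M, hM, 𝒯, j, D.hj, P₂, p₂, chart₂, D.hP, O₂, lam₂, D.hO1, i ≫ h, inferInstance,
    by rw [Category.assoc, hhp, hi],
    ⟨e ≪≫ (Scheme.Modules.pullback i).mapIso eh.symm ≪≫ (Scheme.Modules.pullbackComp i h).app O₂⟩⟩

end Groth.Agent.RelVALib
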