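import Groth.Agent.RelVALib.ChartTwist
import Groth.Agent.AmpleLib.Local
import Groth.Agent.SymAlgLib.Grading

/-!
# Very ample modules are relatively ample
-/

set_option autoImplicit false
set_option linter.unusedSectionVars false
set_option backward.isDefEq.respectTransparency.types false
set_option maxHeartbeats 1000000

universe u

open AlgebraicGeometry CategoryTheory CategoryTheory.Limits TopologicalSpace Opposite
open Groth.Agent.Coherent Groth.Agent.PicLib Groth.Agent.AmpleLib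
open Groth.Agent.TwistLib

namespace Groth.Agent.RelVALib

variable {X Y P : Scheme.{u}} {𝒮 : RelProj.QCGrAlg Y} {p : P ⟶ Y}
  {chart : ∀ (U : Y.Opens) (hU : IsAffineOpen U), (((p ⁻¹ᵁ U : P.Opens) : Scheme.{u}) ≅ Proj (𝒮.deg U hU))}
  {O1 : P.Modules}
  {lam : ∀ (U : Y.Opens) (hU : IsAffineOpen U),
      O1 ⟶ (Scheme.Modules.pushforward (RelProj.emb p chart U hU)).obj (GrTwist.twist (𝒮.deg U hU) 1)}

theorem isRelAmple_pullback_of_isEmbedding (hgen : 𝒮.IsGenDegOne) (hO1 : RelProj.IsRelTwist 𝒮 p chart 1 O1 lam)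
    (f : X ⟶ Y) [QuasiCompact f] (g : X ⟶ P) (hg : g ≫ p = f) (hemb : Topology.IsEmbedding g.base) :
    RelAmple.IsRelAmple f ((Scheme.Modules.pullback g).obj O1) := by
  refine (isRelAmple_iff f).2 ⟨inferInstance, fun ⟨U, hU⟩ => ?_⟩
  let Z := f ⁻¹ᵁ U
  haveI : CompactSpace Z.toScheme := isCompact_iff_compactSpace.1 (f.isCompact_preimage hU.isCompact)
  let e := RelProj.emb p chart U hU
  have hrange : Set.range (Z.ι ≫ g) ⊆ Set.range e := by
    rintro _ ⟨z, rfl⟩
    have h : g (Z.ι z) ∈ p ⁻¹ᵁ U := by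
      show p (g (Z.ι z)) ∈ U
      rw [← Scheme.Hom.comp_apply, hg]
      exact z.2
    exact (G.opensRange_emb (p := p) (chart := chart) U hU).ge h
  let gU := IsOpenImmersion.lift e (Z.ι ≫ g) hrange
  have hgU : gU ≫ e = Z.ι ≫ g := IsOpenImmersion.lift_fac _ _ _
  have hemb' : Topology.IsEmbedding gU.base := by
    refine Topology.IsEmbedding.of_comp gU.continuous e.continuous ?_
    have h : (e.base : _ → P) ∘ gU.base = g.base ∘ Z.ι.base := by
      funext z
      exact congrArg (fun φ : Z.toScheme ⟶ P => φ z) hgU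
    rw [h]
    exact hemb.comp Z.ι.isOpenEmbedding.isEmbedding
  obtain ⟨φ⟩ := nonempty_chartIso hgen hO1 U hU
  have hA := isAmple_pullback_of_isEmbedding (degOneCov hgen U hU) gU hemb'
  refine (isAmple_pullback_comp_iff Z.ι g).2 (isAmple_pullback_congr hgU ?_)
  exact (isAmple_pullback_comp_iff gU e).1 (isAmple_of_iso ((Scheme.Modules.pullback gU).mapIso φ).symm hA)

theorem isRelAmple_of_iso {f : X ⟶ Y} {L M : X.Modules} (e : L ≅ M) (h : RelAmple.IsRelAmple f L) :
    RelAmple.IsRelAmple f M :=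
  ⟨h.1, fun V => isAmple_of_iso ((Scheme.Modules.restrictFunctor (f ⁻¹ᵁ V.1).ι).mapIso e) (h.2 V)⟩

theorem isRelAmple_of_isRelVeryAmple (f : X ⟶ Y) [QuasiCompact f] {L : X.Modules}
    (h : RelProj.IsRelVeryAmple f L) : RelAmple.IsRelAmple f L := by
  obtain ⟨E, hE, 𝒯, j, hj, Q, q, ch, -, O, l, hl, i, hi, hiq, ⟨e⟩⟩ := h
  haveI : Coh.IsQCoh E := hE
  haveI := hi
  exact isRelAmple_of_iso e.symm (isRelAmple_pullback_of_isEmbedding
    (SymAlgLib.isGenDegOne_of_isGrSymAlg hj) hl f i hiq i.isEmbedding)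

theorem isRelAmple_of_tensorPow (f : X ⟶ Y) {L : X.Modules} (hL : PicF.IsInvertible L) {n : ℕ} (hn : 0 < n)
    (h : RelAmple.IsRelAmple f (CohB1.tensorPow L n)) : RelAmple.IsRelAmple f L := by
  rw [isRelAmple_iff] at h ⊢
  refine ⟨h.1, fun V => ?_⟩
  obtain ⟨φ, -⟩ := exists_pullPowIso (f ⁻¹ᵁ V.1).ι hL n
  exact (isAmple_pow_iff (PicLoc.isInvertible_pullback _ hL) n hn).1 (isAmple_of_iso φ (h.2 V))

end Groth.Agent.RelVALib
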