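import Groth.Agent.RelVALib.ClosedSub
import Groth.Agent.RelVALib.DegPiece
import Groth.Agent.RelVALib.VALocal
import Groth.Agent.RelVALib.RelVA
import Groth.Agent.Coherent.SupportPullback
import Groth.Agent.Coherent.TensorQcoh
import Groth.Agent.ProjLib.RelProjFinite
import Groth.Agent.SymAlgLib.Consequences

/-!
# Projective morphisms
-/

set_option autoImplicit false
set_option linter.unusedSectionVars false
set_option linter.deprecated false
set_option backward.isDefEq.respectTransparency.types false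
set_option maxHeartbeats 1000000

universe u

open AlgebraicGeometry CategoryTheory CategoryTheory.Limits TopologicalSpace Opposite
open Groth.Agent.Coherent Groth.Agent.PicLib Groth.Agent.AmpleLib

namespace Groth.Agent.RelVALib

variable {X Y Z X' Y' : Scheme.{u}}

/-- A bundle of a module of finite type is proper. -/
theorem isProper_bundle {P : Scheme.{u}} {E : Y.Modules} {𝒮 : RelProj.QCGrAlg Y} {j : E ⟶ 𝒮.toModule} {p : P ⟶ Y}
    {chart : ∀ (U : Y.Opens) (hU : IsAffineOpen U), ((p ⁻¹ᵁ U : P.Opens) : Scheme.{u}) ≅ Proj (𝒮.deg U hU)}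
    (hE : Coh.IsQCoh E) (hft : CohB1.IsFT E) (hj : RelProj.IsGrSymAlg E 𝒮 j)
    (hP : RelProj.IsRelProj 𝒮 p chart) : IsProper p := by
  have := hE
  refine ProjLib.property_of_charts hP (Q := @IsProper) fun U hU => ?_
  have hfin := Coherent.finite_sections E (Coherent.locallyFinGen_of_isFT E hft) hU
  have := (ProjLib.finiteType_degZero hU (SymAlgLib.finiteType_str hj.1 hU hfin)).1
  have : IsClosedImmersion (Spec.map (𝒮.strZero U hU)) := by
    refine IsClosedImmersion.spec_of_surjective _ fun x => ?_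
    obtain ⟨r, hr⟩ := (SymAlgLib.deg_zero_one hj hU x.1).1 x.2
    exact ⟨r, Subtype.ext hr⟩
  unfold ProjLib.chartBase
  infer_instance

/-- The embedding into a bundle of finite type of a morphism. -/
def HasBundleImmersion (P : MorphismProperty Scheme.{u}) (f : X ⟶ Y) (L : X.Modules) : Prop :=
  ∃ (E : Y.Modules) (_ : CohB1.IsFT E) (𝒮 : RelProj.QCGrAlg Y) (j : E ⟶ 𝒮.toModule) (Q : Scheme.{u}) (p : Q ⟶ Y)
    (chart : ∀ (U : Y.Opens) (hU : IsAffineOpen U), ((p ⁻¹ᵁ U : Q.Opens) : Scheme.{u}) ≅ Proj (𝒮.deg U hU))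
    (O1 : Q.Modules)
    (lam : ∀ (U : Y.Opens) (hU : IsAffineOpen U),
      O1 ⟶ (Scheme.Modules.pushforward (RelProj.emb p chart U hU)).obj (GrTwist.twist (𝒮.deg U hU) 1))
    (φ : E ⟶ (Scheme.Modules.pushforward p).obj O1) (i : X ⟶ Q),
    PBundle E 𝒮 j p chart O1 lam φ ∧ P i ∧ i ≫ p = f ∧ Nonempty (L ≅ (Scheme.Modules.pullback i).obj O1)

theorem HasBundleImmersion.isRelVeryAmple {f : X ⟶ Y} {L : X.Modules} (h : HasBundleImmersion @IsImmersion f L) :
    RelProj.IsRelVeryAmple f L := by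
  obtain ⟨E, -, 𝒮, j, Q, p, chart, O1, lam, φ, i, D, hi, hip, he⟩ := h
  exact ⟨E, D.hE, 𝒮, j, D.hj, Q, p, chart, D.hP, O1, lam, D.hO1, i, hi, hip, he⟩

theorem HasBundleImmersion.of_closed {f : X ⟶ Y} {L : X.Modules} (h : HasBundleImmersion @IsClosedImmersion f L) :
    HasBundleImmersion @IsImmersion f L := by
  obtain ⟨E, hft, 𝒮, j, Q, p, chart, O1, lam, φ, i, D, hi, hip, he⟩ := h
  exact ⟨E, hft, 𝒮, j, Q, p, chart, O1, lam, φ, i, D, inferInstance, hip, he⟩

/-- With a proper source an immersion into a bundle is closed. -/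
theorem HasBundleImmersion.closed_of_isProper {f : X ⟶ Y} [IsProper f] {L : X.Modules}
    (h : HasBundleImmersion @IsImmersion f L) : HasBundleImmersion @IsClosedImmersion f L := by
  obtain ⟨E, hft, 𝒮, j, Q, p, chart, O1, lam, φ, i, D, hi, hip, he⟩ := h
  have := ProjLib.isSeparated_relProj D.hP
  have : IsProper (i ≫ p) := by rw [hip]; infer_instance
  have : IsProper i := IsProper.of_comp i p
  refine ⟨E, hft, 𝒮, j, Q, p, chart, O1, lam, φ, i, D, ?_, hip, he⟩
  exact IsClosedImmersion.of_isPreimmersion i i.isClosedMap.isClosed_range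

theorem isProjective_of_hasBundleImmersion {f : X ⟶ Y} {L : X.Modules} (h : HasBundleImmersion @IsClosedImmersion f L) :
    RelProj.IsProjective f := by
  obtain ⟨E, hft, 𝒮, j, Q, p, chart, O1, lam, φ, i, D, hi, hip, -⟩ := h
  exact isProjective_of_closedImmersion D hft i hip

/-- Projective morphisms embed in bundles of modules of finite type. -/
theorem exists_bundle_of_isProjective {f : X ⟶ Y} (hf : RelProj.IsProjective f) :
    ∃ L : X.Modules, PicF.IsInvertible L ∧ HasBundleImmersion @IsClosedImmersion f L := by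
  obtain ⟨𝒮, P, p, chart, e, hgen, hft, hP, he⟩ := hf
  obtain ⟨M, ι, hM, hinj, hdeg⟩ := exists_degPiece 𝒮 1
  obtain ⟨O1, lam, hO1⟩ := TwistLib.G.exists_isRelTwist (n := (1 : ℤ)) hP
  obtain ⟨𝒯, j, P₂, p₂, chart₂, O₂, lam₂, φ, h, D, hcl, hhp, hiso⟩ :=
    exists_closedImmersion_bundle hgen hP hM ι (fun U hU => (hdeg U hU).1) (fun U hU => (hdeg U hU).2)
  exact ⟨(Scheme.Modules.pullback (e.hom ≫ h)).obj O₂, PicLoc.isInvertible_pullback _ D.invertible,
    M, isFT_degPiece 𝒮 hft hM ι hinj hdeg, 𝒯, j, P₂, p₂, chart₂, O₂, lam₂, φ, e.hom ≫ h, D,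
    inferInstance, by rw [Category.assoc, hhp, he], ⟨Iso.refl _⟩⟩

theorem isProper_of_isProjective {f : X ⟶ Y} (hf : RelProj.IsProjective f) : IsProper f := by
  obtain ⟨L, -, E, hft, 𝒮, j, Q, p, chart, O1, lam, φ, i, D, hi, hip, -⟩ := exists_bundle_of_isProjective hf
  have := isProper_bundle D.hE hft D.hj D.hP
  rw [← hip]
  infer_instance

theorem isQuasiProjective_of_isProjective {f : X ⟶ Y} (hf : RelProj.IsProjective f) :
    RelProj.IsQuasiProjective f := by
  have := isProper_of_isProjective hf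
  obtain ⟨L, -, hL⟩ := exists_bundle_of_isProjective hf
  exact ⟨inferInstance, inferInstance, L, isRelAmple_of_isRelVeryAmple f hL.of_closed.isRelVeryAmple⟩

/-- Base change keeps embeddings into bundles. -/
theorem HasBundleImmersion.baseChange {P : MorphismProperty Scheme.{u}} [P.IsStableUnderBaseChange] {f : X ⟶ Y}
    {g : Y' ⟶ Y} {g' : X' ⟶ X} {f' : X' ⟶ Y'} (hsq : IsPullback g' f' f g) {L : X.Modules}
    (h : HasBundleImmersion P f L) :
    ∃ L' : X'.Modules, PicF.IsInvertible L' ∧ HasBundleImmersion P f' L' := by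
  obtain ⟨E, hft, 𝒮, j, Q, p, chart, O1, lam, φ, i, D, hi, hip, -⟩ := h
  have := D.hE
  obtain ⟨𝒮', j', Q', p', chart', O1', lam', φ', D'⟩ :=
    exists_bundle ((Scheme.Modules.pullback g).obj E) (EGA43.InjFibre.isQCoh_pullback g E)
  obtain ⟨h, sq2⟩ := exists_isPullback_bundle D D'
  let i' : X' ⟶ Q' := sq2.lift (g' ≫ i) f' (by rw [Category.assoc, hip, hsq.w])
  have h1 : i' ≫ h = g' ≫ i := sq2.lift_fst _ _ _
  have h2 : i' ≫ p' = f' := sq2.lift_snd _ _ _
  have sq1 : IsPullback g' i' i h := IsPullback.of_bot (by rw [h2, hip]; exact hsq) h1.symm sq2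
  exact ⟨(Scheme.Modules.pullback i').obj O1', PicLoc.isInvertible_pullback _ D'.invertible,
    _, isFT_pullback_qcoh g D.hE hft, 𝒮', j', Q', p', chart', O1', lam', φ', i', D',
    MorphismProperty.of_isPullback (P := P) sq1 hi, h2, ⟨Iso.refl _⟩⟩

theorem isProjective_baseChange {f : X ⟶ Y} {g : Y' ⟶ Y} {g' : X' ⟶ X} {f' : X' ⟶ Y'}
    (hsq : IsPullback g' f' f g) (hf : RelProj.IsProjective f) : RelProj.IsProjective f' := by
  obtain ⟨L, -, hL⟩ := exists_bundle_of_isProjective hf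
  obtain ⟨L', -, hL'⟩ := HasBundleImmersion.baseChange (P := @IsClosedImmersion) hsq hL
  exact isProjective_of_hasBundleImmersion hL'

/-- A closed subscheme of a projective scheme is projective. -/
theorem isProjective_closedImmersion_comp (c : Z ⟶ X) [IsClosedImmersion c] {f : X ⟶ Y} (hf : RelProj.IsProjective f)
    {k : Z ⟶ Y} (hk : c ≫ f = k) : RelProj.IsProjective k := by
  obtain ⟨L, -, E, hft, 𝒮, j, Q, p, chart, O1, lam, φ, i, D, hi, hip, -⟩ := exists_bundle_of_isProjective hf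
  exact isProjective_of_closedImmersion D hft (c ≫ i) (by rw [Category.assoc, hip, hk])

theorem isProjective_of_comp (f : X ⟶ Y) (g : Y ⟶ Z) [IsSeparated g] (h : RelProj.IsProjective (f ≫ g)) :
    RelProj.IsProjective f := by
  have hb := isProjective_baseChange (IsPullback.of_hasPullback (f ≫ g) g) h
  let m : X ⟶ pullback (f ≫ g) g := pullback.lift (𝟙 X) f (by simp)
  have : IsClosedImmersion m := by
    have := pullback.snd (f ≫ g) g
    have hm : m ≫ pullback.fst (f ≫ g) g = 𝟙 X := pullback.lift_fst _ _ _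
    have : IsClosedImmersion (m ≫ pullback.fst (f ≫ g) g) := by rw [hm]; infer_instance
    exact IsClosedImmersion.of_comp m (pullback.fst (f ≫ g) g)
  exact isProjective_closedImmersion_comp m hb (pullback.lift_snd _ _ _)

/-- Products of embeddings into bundles over one base. -/
theorem HasBundleImmersion.fibreProd {X₁ X₂ : Scheme.{u}} {f₁ : X₁ ⟶ Y} {f₂ : X₂ ⟶ Y} {L₁ : X₁.Modules}
    {L₂ : X₂.Modules} (hva₁ : HasBundleImmersion @IsImmersion f₁ L₁) (hva₂ : HasBundleImmersion @IsImmersion f₂ L₂)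
    (r₁ : X ⟶ X₁) (r₂ : X ⟶ X₂) {q : X ⟶ Y} (h₁ : r₁ ≫ f₁ = q) (h₂ : r₂ ≫ f₂ = q)
    [IsImmersion (pullback.lift (f := f₁) (g := f₂) r₁ r₂ (h₁.trans h₂.symm))] :
    ∃ M : X.Modules, HasBundleImmersion @IsImmersion q M := by
  obtain ⟨E, hft, 𝒮, j, P, p, chart, O1, lam, φ, i, D, hi, hip, ⟨eL⟩⟩ := hva₁
  obtain ⟨E', hft', 𝒮', j', P', p', chart', O1', lam', φ', i', D', hi', hip', ⟨eL'⟩⟩ := hva₂
  have := hi
  have := hi'
  have hq : (r₁ ≫ i) ≫ p = q := by rw [Category.assoc, hip, h₁]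
  have hq' : (r₂ ≫ i') ≫ p' = q := by rw [Category.assoc, hip', h₂]
  let L := (Scheme.Modules.pullback (r₁ ≫ i)).obj O1
  let L' := (Scheme.Modules.pullback (r₂ ≫ i')).obj O1'
  obtain ⟨t, ht, hcov⟩ := exists_gen_classified D (r₁ ≫ i) hq (Iso.refl L)
  obtain ⟨t', ht', hcov'⟩ := exists_gen_classified D' (r₂ ≫ i') hq' (Iso.refl L')
  have := D.hE
  have := D'.hE
  have hLi : PicF.IsInvertible L := PicLoc.isInvertible_pullback _ D.invertible
  have hLi' : PicF.IsInvertible L' := PicLoc.isInvertible_pullback _ D'.invertible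
  have hE₂ := Coherent.isQCoh_tensorMod E E'
  obtain ⟨𝒮₂, j₂, P₂, p₂, chart₂, O₂, lam₂, φ₂, D₂⟩ := exists_bundle (CohB1.tensorMod E E') hE₂
  obtain ⟨r, hr, τ, hτ⟩ := exists_classifies D₂ (g := q) (t := (prodBilin t t').desc) fun x => by
    obtain ⟨U, hU, e, e', W, hW, hx, hg⟩ := cover_prod hcov hcov' x
    exact ⟨U, hU, tmul e e', W, hW, hx, hg⟩
  refine ⟨CohB1.tensorMod L L', CohB1.tensorMod E E', Coherent.isFT_tensorMod E E' hft hft', 𝒮₂, j₂, P₂, p₂, chart₂,
    O₂, lam₂, φ₂, r, D₂, ?_, hr, ⟨τ.symm⟩⟩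
  choose U hU e e' W hW hx hg using cover_prod hcov hcov'
  refine isImmersion_of_cover r (fun x => opn j₂ p₂ chart₂ (hU x) (tmul (e x) (e' x))) (fun x => ⟨x, ?_⟩) fun x => ?_
  · exact (range_le_iff r _).1 (good_of_classifies D₂ hτ (hU x) _ (hW x) (hg x)).range (hx x)
  obtain ⟨f, hf, heq⟩ := exists_factor_piece D D₂ ht hτ (hU x) (e x) (tmulRight (e' x))
    fun W hW h => rel_right hLi hLi' (e x) (e' x) W hW h
  obtain ⟨f', hf', heq'⟩ := exists_factor_piece D' D₂ ht' hτ (hU x) (e' x) (tmulLeft (e x))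
    fun W hW h => rel_left hLi hLi' (e x) (e' x) W hW h
  let G := opn j₂ p₂ chart₂ (hU x) (tmul (e x) (e' x))
  let m : (G : Scheme.{u}) ⟶ pullback p p' := pullback.lift f f' (hf.trans hf'.symm)
  let l := pullback.lift (f := f₁) (g := f₂) r₁ r₂ (h₁.trans h₂.symm)
  let jj : pullback f₁ f₂ ⟶ pullback p p' :=
    pullback.map f₁ f₂ p p' i i' (𝟙 Y) (by rw [Category.comp_id, hip]) (by rw [Category.comp_id, hip'])
  have : IsImmersion jj := MorphismProperty.pullback_map (P := @IsImmersion) hi hi' hip.symm hip'.symm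
  have key : r.resLE G (r ⁻¹ᵁ G) le_rfl ≫ m = (r ⁻¹ᵁ G).ι ≫ l ≫ jj := by
    refine pullback.hom_ext ?_ ?_
    · simp only [Category.assoc, m, l, jj, pullback.lift_fst, pullback.lift_fst_assoc]
      exact heq
    · simp only [Category.assoc, m, l, jj, pullback.lift_snd, pullback.lift_snd_assoc]
      exact heq'
  have : IsImmersion (r.resLE G (r ⁻¹ᵁ G) le_rfl ≫ m) := by rw [key]; infer_instance
  have : IsImmersion (r.resLE G (r ⁻¹ᵁ G) le_rfl) := IsImmersion.of_comp _ m
  rw [← Scheme.Hom.resLE_comp_ι r (le_refl (r ⁻¹ᵁ G))]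
  infer_instance

theorem isProjective_map {X₁ X₂ Y₁ Y₂ S : Scheme.{u}} (a : Y₁ ⟶ S) (a' : Y₂ ⟶ S) (f : X₁ ⟶ Y₁) (f' : X₂ ⟶ Y₂)
    (hf : RelProj.IsProjective f) (hf' : RelProj.IsProjective f') :
    RelProj.IsProjective (pullback.map (f ≫ a) (f' ≫ a') a a' f f' (𝟙 S) (Category.comp_id (f ≫ a))
      (Category.comp_id (f' ≫ a'))) := by
  let B := pullback a a'
  let A₁ := pullback f (pullback.fst a a')
  let A₂ := pullback f' (pullback.snd a a')
  let h := pullback.map (f ≫ a) (f' ≫ a') a a' f f' (𝟙 S) (Category.comp_id (f ≫ a)) (Category.comp_id (f' ≫ a'))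
  have := isProper_of_isProjective hf
  have := isProper_of_isProjective hf'
  have hp : IsProper h := MorphismProperty.pullback_map (P := @IsProper) ‹IsProper f› ‹IsProper f'› rfl rfl
  obtain ⟨L₁, -, hL₁⟩ := exists_bundle_of_isProjective (isProjective_baseChange (IsPullback.of_hasPullback f (pullback.fst a a')) hf)
  obtain ⟨L₂, -, hL₂⟩ := exists_bundle_of_isProjective (isProjective_baseChange (IsPullback.of_hasPullback f' (pullback.snd a a')) hf')
  let r₁ : pullback (f ≫ a) (f' ≫ a') ⟶ A₁ := pullback.lift (pullback.fst _ _) h (pullback.lift_fst _ _ _).symm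
  let r₂ : pullback (f ≫ a) (f' ≫ a') ⟶ A₂ := pullback.lift (pullback.snd _ _) h (pullback.lift_snd _ _ _).symm
  let l := pullback.lift (f := pullback.snd f (pullback.fst a a')) (g := pullback.snd f' (pullback.snd a a')) r₁ r₂
    ((pullback.lift_snd _ _ _).trans (pullback.lift_snd _ _ _).symm)
  let m : pullback (pullback.snd f (pullback.fst a a')) (pullback.snd f' (pullback.snd a a')) ⟶
      pullback (f ≫ a) (f' ≫ a') :=
    pullback.lift (pullback.fst _ _ ≫ pullback.fst _ _) (pullback.snd _ _ ≫ pullback.fst _ _) (by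
      simp only [Category.assoc, pullback.condition_assoc, pullback.condition])
  have hlm : l ≫ m = 𝟙 _ := by
    refine pullback.hom_ext ?_ ?_
    · simp only [Category.assoc, Category.id_comp, l, m, r₁, pullback.lift_fst, pullback.lift_fst_assoc]
    · simp only [Category.assoc, Category.id_comp, l, m, r₂, pullback.lift_snd, pullback.lift_fst,
        pullback.lift_snd_assoc]
  have : IsImmersion (l ≫ m) := by rw [hlm]; infer_instance
  have : IsImmersion l := IsImmersion.of_comp l m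
  obtain ⟨M, hM⟩ := HasBundleImmersion.fibreProd hL₁.of_closed hL₂.of_closed r₁ r₂ (q := h) (pullback.lift_snd _ _ _) (pullback.lift_snd _ _ _)
  exact isProjective_of_hasBundleImmersion hM.closed_of_isProper

/-- A very ample module embeds into the bundle of its direct image. -/
theorem exists_canonical_immersion (q : X ⟶ Y) [QuasiCompact q] (L : X.Modules) (hL : PicF.IsInvertible L)
    (hva : RelProj.IsRelVeryAmple q L) :
    Coh.IsQCoh ((Scheme.Modules.pushforward q).obj L) ∧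
    ∃ (𝒮 : RelProj.QCGrAlg Y) (j : (Scheme.Modules.pushforward q).obj L ⟶ 𝒮.toModule) (P : Scheme.{u}) (p : P ⟶ Y)
      (chart : ∀ (U : Y.Opens) (hU : IsAffineOpen U), ((p ⁻¹ᵁ U : P.Opens) : Scheme.{u}) ≅ Proj (𝒮.deg U hU))
      (O1 : P.Modules)
      (lam : ∀ (U : Y.Opens) (hU : IsAffineOpen U),
        O1 ⟶ (Scheme.Modules.pushforward (RelProj.emb p chart U hU)).obj (GrTwist.twist (𝒮.deg U hU) 1))
      (φ : (Scheme.Modules.pushforward q).obj L ⟶ (Scheme.Modules.pushforward p).obj O1) (r : X ⟶ P)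
      (hr : r ≫ p = q) (τ : (Scheme.Modules.pullback r).obj O1 ≅ L),
      PBundle _ 𝒮 j p chart O1 lam φ ∧ IsImmersion r ∧ Classifies φ q (𝟙 _) r hr τ := by
  have := isSeparated_of_isRelVeryAmple hva
  have := isQCoh_of_isInvertible hL
  have hE : Coh.IsQCoh ((Scheme.Modules.pushforward q).obj L) := Coherent.isQCoh_push q L
  obtain ⟨𝒮, j, P, p, chart, O1, lam, φ, D⟩ := exists_bundle _ hE
  have hcov : ∀ x : X, ∃ (U : Y.Opens) (_ : IsAffineOpen U) (e : Γ((Scheme.Modules.pushforward q).obj L, U))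
      (W : X.Opens) (hW : W ≤ q ⁻¹ᵁ U), x ∈ W ∧ IsGen L W (resM L hW ((𝟙 ((Scheme.Modules.pushforward q).obj L) :
        (Scheme.Modules.pushforward q).obj L ⟶ _).app U e)) := fun x => by
    obtain ⟨A, hA, hxA, -⟩ : ∃ A : Y.Opens, IsAffineOpen A ∧ q x ∈ A ∧ A ≤ ⊤ :=
      Opens.isBasis_iff_nbhd.1 Y.isBasis_affineOpens (show q x ∈ (⊤ : Y.Opens) from trivial)
    have : IsAffine A.toScheme := hA
    exact exists_gen_of_chart A.ι (q ⁻¹ᵁ A).ι (q ∣_ A) (morphismRestrict_ι q A)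
      (by rw [Scheme.Opens.opensRange_ι, Scheme.Opens.opensRange_ι]) hL (isRelVeryAmple_morphismRestrict hva A) ⟨x, hxA⟩
  obtain ⟨r, hr, τ, hτ⟩ := exists_classifies D hcov
  refine ⟨hE, 𝒮, j, P, p, chart, O1, lam, φ, r, hr, τ, D, ?_, hτ⟩
  refine isImmersion_of_cover r (fun A : Y.affineOpens => p ⁻¹ᵁ A.1) (fun x => ?_) fun A => ?_
  · obtain ⟨A, hA, hxA, -⟩ := Opens.isBasis_iff_nbhd.1 Y.isBasis_affineOpens (show q x ∈ (⊤ : Y.Opens) from trivial)
    exact ⟨⟨A, hA⟩, ge_of_over hr A hxA⟩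
  · have : IsAffine A.1.toScheme := A.2
    have h1 := isImmersion_of_chart A.1.ι (q ⁻¹ᵁ A.1).ι (q ∣_ A.1) (morphismRestrict_ι q A.1)
      (by rw [Scheme.Opens.opensRange_ι, Scheme.Opens.opensRange_ι]) D hτ hL (isRelVeryAmple_morphismRestrict hva A.1)
    have he : r ⁻¹ᵁ (p ⁻¹ᵁ A.1) = q ⁻¹ᵁ A.1 := le_antisymm (le_of_over hr _) (ge_of_over hr _)
    rw [← Scheme.isoOfEq_hom_ι X he, Category.assoc]
    infer_instance

theorem isProjective_of_isProper_pushforward (f : X ⟶ Y) [IsProper f] (L : X.Modules) (hL : PicF.IsInvertible L)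
    (hva : RelProj.IsRelVeryAmple f L) (hft : CohB1.IsFT ((Scheme.Modules.pushforward f).obj L)) :
    RelProj.IsProjective f := by
  obtain ⟨-, 𝒮, j, P, p, chart, O1, lam, φ, r, hr, τ, D, hr', -⟩ := exists_canonical_immersion f L hL hva
  have h : HasBundleImmersion @IsImmersion f L := ⟨_, hft, 𝒮, j, P, p, chart, O1, lam, φ, r, D, hr', hr, ⟨τ.symm⟩⟩
  exact isProjective_of_hasBundleImmersion h.closed_of_isProper

/-- Closed subschemes of bundles of finite type and projective morphisms. -/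
theorem isProjective_iff_closedImmersion (f : X ⟶ Y) :
    RelProj.IsProjective f ↔
      ∃ (E : Y.Modules) (𝒯 : RelProj.QCGrAlg Y) (j : E ⟶ 𝒯.toModule) (P : Scheme.{u}) (p : P ⟶ Y)
        (chart : ∀ (U : Y.Opens) (hU : IsAffineOpen U), ((p ⁻¹ᵁ U : P.Opens) : Scheme.{u}) ≅ Proj (𝒯.deg U hU))
        (i : X ⟶ P),
        Coh.IsQCoh E ∧ CohB1.IsFT E ∧ RelProj.IsGrSymAlg E 𝒯 j ∧ RelProj.IsRelProj 𝒯 p chart ∧
          IsClosedImmersion i ∧ i ≫ p = f := by
  constructor
  · intro hf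
    obtain ⟨L, -, E, hft, 𝒮, j, Q, p, chart, O1, lam, φ, i, D, hi, hip, -⟩ := exists_bundle_of_isProjective hf
    exact ⟨E, 𝒮, j, Q, p, chart, i, D.hE, hft, D.hj, D.hP, hi, hip⟩
  · rintro ⟨E, 𝒯, j, P, p, chart, i, hE, hft, hj, hP, hi, hip⟩
    obtain ⟨O1, lam, hO1⟩ := TwistLib.G.exists_isRelTwist (n := (1 : ℤ)) hP
    obtain ⟨φ, D⟩ := exists_pBundle hE hj hP hO1
    exact isProjective_of_closedImmersion D hft i hip

end Groth.Agent.RelVALib
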