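import Groth.Agent.RelVALib.QuasiProj
import Groth.Agent.RelVALib.Projective
import Groth.Agent.RelVALib.Finite
import Groth.Agent.AmpleLib.Relative2
import Mathlib.AlgebraicGeometry.Morphisms.SchemeTheoreticallyDominant
import Mathlib.AlgebraicGeometry.Limits

/-!
# Chow's lemma

The scheme-theoretic closure of the graph of finitely many embeddings of open subschemes into projective schemes.
-/

set_option autoImplicit false
set_option backward.isDefEq.respectTransparency.types false

universe u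

open CategoryTheory CategoryTheory.Limits AlgebraicGeometry TopologicalSpace
open Groth.Agent.AmpleLib

namespace Groth.Agent.RelVALib

/-- A morphism factors through a closed immersion if it does so on a schematically dense subscheme. -/
theorem exists_lift_of_schDominant {U X' T C : Scheme.{u}} (φ : U ⟶ X') [IsSchemeTheoreticallyDominant φ]
    [QuasiCompact φ] (O : X'.Opens) (m : (O : Scheme.{u}) ⟶ T) (a : C ⟶ T) [IsClosedImmersion a]
    (b : (φ ⁻¹ᵁ O : Scheme.{u}) ⟶ C) (h : (φ ∣_ O) ≫ m = b ≫ a) :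
    ∃ l : (O : Scheme.{u}) ⟶ C, l ≫ a = m := by
  have : IsSchemeTheoreticallyDominant (φ ∣_ O) :=
    IsSchemeTheoreticallyDominant.of_isPullback (isPullback_morphismRestrict φ O).flip
  let c := pullback.fst m a
  have h1 : pullback.lift (φ ∣_ O) b h ≫ c = φ ∣_ O := pullback.lift_fst _ _ _
  have : IsIso c := IsClosedImmersion.isIso_iff_ker_eq_bot.2 (le_bot_iff.1 (by
    rw [← (φ ∣_ O).ker_eq_bot]
    exact (Scheme.Hom.le_ker_comp _ c).trans (le_of_eq (congrArg Scheme.Hom.ker h1))))
  exact ⟨inv c ≫ pullback.snd m a, by rw [Category.assoc, ← pullback.condition, IsIso.inv_hom_id_assoc]⟩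

/-- Morphisms to a separated scheme agreeing on a schematically dense subscheme are equal. -/
theorem eq_of_schDominant {U X' T S : Scheme.{u}} (φ : U ⟶ X') [IsSchemeTheoreticallyDominant φ] [QuasiCompact φ]
    (O : X'.Opens) (s : T ⟶ S) [IsSeparated s] {a b : (O : Scheme.{u}) ⟶ T} (hs : a ≫ s = b ≫ s)
    (h : (φ ∣_ O) ≫ a = (φ ∣_ O) ≫ b) : a = b := by
  obtain ⟨l, hl⟩ := exists_lift_of_schDominant φ O (pullback.lift a b hs) (pullback.diagonal s) ((φ ∣_ O) ≫ a)
    (pullback.hom_ext
      (by rw [Category.assoc, Category.assoc, pullback.lift_fst, pullback.diagonal_fst, Category.comp_id])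
      (by rw [Category.assoc, Category.assoc, pullback.lift_snd, pullback.diagonal_snd, Category.comp_id, h]))
  have h1 := congrArg (· ≫ pullback.fst s s) hl
  have h2 := congrArg (· ≫ pullback.snd s s) hl
  simp only [Category.assoc, pullback.diagonal_fst, pullback.diagonal_snd, Category.comp_id, pullback.lift_fst,
    pullback.lift_snd] at h1 h2
  exact h1.symm.trans h2

theorem isSchemeTheoreticallyDominant_toImage {U T : Scheme.{u}} (φ : U ⟶ T) [QuasiCompact φ] :
    IsSchemeTheoreticallyDominant φ.toImage := by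
  refine ⟨?_⟩
  let c := φ.toImage.ker.subschemeι
  have h1 : φ.toImage.toImage ≫ c ≫ φ.imageι = φ := by
    rw [← Category.assoc]
    exact (congrArg (· ≫ φ.imageι) φ.toImage.toImage_imageι).trans φ.toImage_imageι
  have h2 : φ.imageι.ker = (c ≫ φ.imageι).ker := by
    refine le_antisymm (Scheme.Hom.le_ker_comp c φ.imageι) ?_
    refine ((Scheme.Hom.le_ker_comp φ.toImage.toImage (c ≫ φ.imageι)).trans (le_of_eq (congrArg Scheme.Hom.ker h1))).trans
      (le_of_eq ?_)
    exact (Scheme.IdealSheafData.ker_subschemeι φ.ker).symm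
  obtain ⟨l, hl⟩ : ∃ l, l ≫ c ≫ φ.imageι = φ.imageι :=
    ⟨IsClosedImmersion.lift (c ≫ φ.imageι) φ.imageι h2.ge, IsClosedImmersion.lift_fac _ _ _⟩
  have hl' : l ≫ c = 𝟙 _ := by
    rw [← cancel_mono φ.imageι, Category.assoc, hl, Category.id_comp]
  have : IsIso c := ⟨l, by rw [← cancel_mono c, Category.assoc, hl', Category.comp_id, Category.id_comp], hl'⟩
  exact (Scheme.isIso_subschemeι_iff_eq_bot _).1 this

/-- Products of finitely many projective schemes over a base. -/
theorem exists_projective_prod {U S : Scheme.{u}} (u₀ : U ⟶ S) : ∀ (k : ℕ) (P : Fin k → Scheme.{u})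
    (p : ∀ i, P i ⟶ S) (j : ∀ i, U ⟶ P i) (_ : ∀ i, RelProj.IsProjective (p i)) (_ : ∀ i, j i ≫ p i = u₀),
    ∃ (Q : Scheme.{u}) (s : Q ⟶ S) (l : U ⟶ Q) (q : ∀ i, Q ⟶ P i),
      RelProj.IsProjective s ∧ l ≫ s = u₀ ∧ ∀ i, l ≫ q i = j i ∧ q i ≫ p i = s := by
  intro k
  induction k with
  | zero => exact fun P p j _ _ => ⟨S, 𝟙 S, u₀, fun i => i.elim0, isProjective_of_isFinite _, Category.comp_id _,
      fun i => i.elim0⟩
  | succ k ih =>
    intro P p j hp hj
    obtain ⟨Q, s, l, q, hs, hl, hq⟩ :=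
      ih (fun i => P i.castSucc) (fun i => p i.castSucc) (fun i => j i.castSucc) (fun i => hp _) (fun i => hj _)
    let t := p (Fin.last k)
    refine ⟨pullback s t, pullback.fst s t ≫ s, pullback.lift l (j (Fin.last k)) (hl.trans (hj _).symm),
      Fin.lastCases (pullback.snd s t) (fun i => pullback.fst s t ≫ q i), ?_, by rw [pullback.lift_fst_assoc, hl],
      fun i => ?_⟩
    · let m := pullback.map (s ≫ 𝟙 S) (t ≫ 𝟙 S) (𝟙 S) (𝟙 S) s t (𝟙 S) (Category.comp_id _) (Category.comp_id _)
      have hm := isProjective_map (𝟙 S) (𝟙 S) s t hs (hp _)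
      let ε : pullback s t ≅ pullback (s ≫ 𝟙 S) (t ≫ 𝟙 S) := pullback.congrHom (Category.comp_id _).symm (Category.comp_id _).symm
      have hm2 : RelProj.IsProjective (ε.hom ≫ m) := isProjective_closedImmersion_comp ε.hom hm rfl
      let d : pullback (𝟙 S) (𝟙 S) ⟶ S := pullback.fst _ _
      have hd : IsPullback (𝟙 (pullback s t)) (pullback.fst s t ≫ s) (ε.hom ≫ m) (inv d) := by
        refine IsPullback.of_horiz_isIso ⟨?_⟩
        refine (Category.id_comp _).trans ?_
        rw [IsIso.eq_comp_inv]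
        simp [ε, m, d, Category.assoc, pullback.map]
        erw [pullback.lift_fst, pullback.lift_fst_assoc]
      exact isProjective_baseChange hd hm2
    · induction i using Fin.lastCases with
      | last =>
        simp only [Fin.lastCases_last]
        exact ⟨pullback.lift_snd _ _ _, pullback.condition.symm⟩
      | cast i =>
        simp only [Fin.lastCases_castSucc]
        exact ⟨by rw [pullback.lift_fst_assoc, (hq i).1], by rw [Category.assoc, (hq i).2]⟩

/-- An affine scheme of finite type over a quasi-compact quasi-separated base is immersed in a projective scheme. -/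
theorem exists_immersion_projective {V S : Scheme.{u}} [CompactSpace S] [QuasiSeparatedSpace S] [IsAffine V]
    (v : V ⟶ S) [LocallyOfFiniteType v] [QuasiCompact v] :
    ∃ (P : Scheme.{u}) (p : P ⟶ S) (j : V ⟶ P), RelProj.IsProjective p ∧ IsImmersion j ∧ j ≫ p = v := by
  have hq : Mor2.IsQuasiAffine v := ⟨inferInstance, fun W hW => by
    have : CompactSpace (v ⁻¹ᵁ W : Scheme.{u}) :=
      isCompact_iff_compactSpace.1 (QuasiCompact.isCompact_preimage (f := v) _ W.2 hW.isCompact)
    exact Scheme.IsQuasiAffine.of_isImmersion (v ⁻¹ᵁ W).ι⟩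
  obtain ⟨M, E, hft, 𝒮, j, Q, p, chart, O1, lam, φ, i, D, hi, hip, -⟩ :=
    exists_hasBundleImmersion_of_isQuasiProjective (Or.inl ⟨inferInstance, inferInstance⟩)
      (f := v) ⟨inferInstance, inferInstance, _, (isQuasiAffine_iff_isRelAmple (f := v)).1 hq⟩
  exact ⟨Q, p, i, isProjective_of_closedImmersion D hft (𝟙 Q) (Category.id_comp p), hi, hip⟩

/-- A scheme immersed in a projective scheme is quasi-projective. -/
theorem isQuasiProjective_of_immersion {Z Q S : Scheme.{u}} {s : Q ⟶ S} (hs : RelProj.IsProjective s) (q : Z ⟶ Q)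
    [IsImmersion q] {k : Z ⟶ S} [LocallyOfFiniteType k] [QuasiCompact k] (hk : q ≫ s = k) :
    RelProj.IsQuasiProjective k := by
  obtain ⟨L, -, E, hft, 𝒮, j, P, p, chart, O1, lam, φ, i, D, hi, hip, -⟩ := exists_bundle_of_isProjective hs
  have hva : HasBundleImmersion @IsImmersion k ((Scheme.Modules.pullback (q ≫ i)).obj O1) :=
    ⟨E, hft, 𝒮, j, P, p, chart, O1, lam, φ, q ≫ i, D, inferInstance, by rw [Category.assoc, hip, hk],
      ⟨Iso.refl _⟩⟩
  exact ⟨inferInstance, inferInstance, _, isRelAmple_of_isRelVeryAmple k hva.isRelVeryAmple⟩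

/-- Chow's construction. -/
theorem exists_chow {X S : Scheme.{u}} (f : X ⟶ S) [CompactSpace S] [QuasiSeparatedSpace S] [IsSeparated f]
    [LocallyOfFiniteType f] [QuasiCompact f] {k : ℕ} (V : Fin k → X.Opens) (hV : ∀ i, IsAffineOpen (V i))
    (hcov : ∀ x : X, ∃ i, x ∈ V i) (U : X.Opens) (hUc : IsCompact (U : Set X)) (hUV : ∀ i, U ≤ V i) :
    ∃ (X' : Scheme.{u}) (π : X' ⟶ X) (σ : (U : Scheme.{u}) ⟶ X'),
      RelProj.IsProjective π ∧ RelProj.IsQuasiProjective (π ≫ f) ∧ IsIso (π ∣_ U) ∧ σ ≫ π = U.ι ∧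
      QuasiCompact σ ∧ IsSchemeTheoreticallyDominant σ ∧ Dense ((π ⁻¹ᵁ U : X'.Opens) : Set X') ∧
      (IsProper f → RelProj.IsProjective (π ≫ f)) := by
  classical
  have hemb : ∀ i, ∃ (P : Scheme.{u}) (p : P ⟶ S) (j : (V i : Scheme.{u}) ⟶ P),
      RelProj.IsProjective p ∧ IsImmersion j ∧ j ≫ p = (V i).ι ≫ f := fun i => by
    have : IsAffine (V i : Scheme.{u}) := hV i
    have : CompactSpace X := QuasiCompact.compactSpace_of_compactSpace f
    have : QuasiSeparatedSpace X := quasiSeparatedSpace_of_quasiSeparated f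
    have : QuasiCompact (V i).ι := ⟨fun O hO hOc => by
      rw [Topology.IsEmbedding.isCompact_iff (V i).ι.isOpenEmbedding.isEmbedding, Set.image_preimage_eq_inter_range,
        Scheme.Opens.range_ι]
      exact QuasiSeparatedSpace.inter_isCompact _ _ hO hOc (V i).isOpen (hV i).isCompact⟩
    exact exists_immersion_projective ((V i).ι ≫ f)
  choose P p j hp hj hjp using hemb
  let jU : ∀ i, (U : Scheme.{u}) ⟶ P i := fun i => X.homOfLE (hUV i) ≫ j i
  obtain ⟨Q, s, l, q, hs, hl, hq⟩ := exists_projective_prod (U.ι ≫ f) k P p jU hp fun i => by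
    simp only [jU, Category.assoc, hjp, Scheme.homOfLE_ι_assoc]
  have hsp := isProper_of_isProjective hs
  have : CompactSpace (U : Scheme.{u}) := isCompact_iff_compactSpace.1 hUc
  have : QuasiSeparatedSpace X := quasiSeparatedSpace_of_quasiSeparated f
  let T := pullback f s
  have : QuasiSeparatedSpace T := quasiSeparatedSpace_of_quasiSeparated (pullback.fst f s)
  let φ : (U : Scheme.{u}) ⟶ T := pullback.lift U.ι l hl.symm
  have : QuasiCompact φ := QuasiCompact.of_comp φ (pullback.fst f s ≫ f)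
  let σ := φ.toImage
  have hσ := isSchemeTheoreticallyDominant_toImage φ
  let π : φ.image ⟶ X := φ.imageι ≫ pullback.fst f s
  let ρ : φ.image ⟶ Q := φ.imageι ≫ pullback.snd f s
  have hρ : ρ ≫ s = π ≫ f := by simp [ρ, π, pullback.condition]
  have hσπ : σ ≫ π = U.ι := by
    rw [← Category.assoc, Scheme.Hom.toImage_imageι, pullback.lift_fst]
  have hσρ : σ ≫ ρ = l := by
    rw [← Category.assoc, Scheme.Hom.toImage_imageι, pullback.lift_snd]
  have hπ : RelProj.IsProjective π :=
    isProjective_closedImmersion_comp φ.imageι (isProjective_baseChange (IsPullback.of_hasPullback f s).flip hs) rfl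
  have hπp := isProper_of_isProjective hπ
  -- the open pieces of the target
  have := fun i => hj i
  let W : Fin k → Q.Opens := fun i => q i ⁻¹ᵁ (j i).coborderRange
  have hρW : ∀ i, π ⁻¹ᵁ V i ≤ ρ ⁻¹ᵁ W i := fun i z hz => by
    have hsep : IsSeparated (p i) := (isProper_of_isProjective (hp i)).toIsSeparated
    have key : (π ⁻¹ᵁ V i).ι ≫ ρ ≫ q i = (π ∣_ V i) ≫ j i := by
      refine eq_of_schDominant σ (π ⁻¹ᵁ V i) (p i) ?_ ?_
      · rw [Category.assoc, Category.assoc, (hq i).2, hρ, Category.assoc (π ∣_ V i), hjp, morphismRestrict_ι_assoc]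
      · rw [morphismRestrict_ι_assoc, reassoc_of% hσρ, (hq i).1]
        simp only [jU, ← Category.assoc]
        congr 1
        rw [← cancel_mono (V i).ι]
        simp only [Category.assoc, Scheme.homOfLE_ι, morphismRestrict_ι, morphismRestrict_ι_assoc, hσπ]
    have h2 := congrArg (fun m : (π ⁻¹ᵁ V i : Scheme.{u}) ⟶ P i => m ⟨z, hz⟩) key
    show q i (ρ z) ∈ (j i).coborderRange
    simp only [Scheme.Hom.comp_apply] at h2
    rw [show (π ⁻¹ᵁ V i).ι ⟨z, hz⟩ = z from rfl] at h2
    rw [h2]
    exact subset_coborder ⟨_, rfl⟩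
  have hWimm : ∀ i, IsClosedImmersion (ρ ∣_ W i) := fun i => by
    let R := (j i).coborderRange
    let a : (q i ⁻¹ᵁ R : Scheme.{u}) ⟶ S := (W i).ι ≫ s
    let g := pullback.fst (q i ∣_ R) (j i).liftCoborder
    let e : pullback (q i ∣_ R) (j i).liftCoborder ⟶ X := pullback.snd _ _ ≫ (V i).ι
    have hge : g ≫ (W i).ι ≫ s = e ≫ f := by
      show pullback.fst _ _ ≫ _ = (pullback.snd _ _ ≫ _) ≫ f
      have hj' : (j i).liftCoborder ≫ R.ι ≫ p i = (V i).ι ≫ f := by
        rw [← Category.assoc, Scheme.Hom.liftCoborder_ι, hjp]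
      rw [Category.assoc, ← hj', ← pullback.condition_assoc, morphismRestrict_ι_assoc, (hq i).2]
    let G : pullback (q i ∣_ R) (j i).liftCoborder ⟶ pullback f a := pullback.lift e g hge.symm
    have hG : IsClosedImmersion G := by
      have hfac : G = pullback.lift e (𝟙 _) (by rw [Category.id_comp, hge]) ≫
          pullback.map f (g ≫ a) f a (𝟙 X) g (𝟙 S) (by simp) (by simp [a]) := by
        refine pullback.hom_ext ?_ ?_
        · simp only [G, pullback.map, Category.assoc, pullback.lift_fst, pullback.lift_fst_assoc, Category.comp_id]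
        · simp only [G, pullback.map, Category.assoc, pullback.lift_snd, pullback.lift_snd_assoc, Category.id_comp]
      have h1 : IsClosedImmersion (pullback.lift (f := f) (g := g ≫ a) e (𝟙 _) (by rw [Category.id_comp, hge])) := by
        have h0 : pullback.lift (f := f) (g := g ≫ a) e (𝟙 _) (by rw [Category.id_comp, hge]) ≫
            pullback.snd f (g ≫ a) = 𝟙 _ := pullback.lift_snd _ _ _
        have : IsClosedImmersion (pullback.lift (f := f) (g := g ≫ a) e (𝟙 _) (by rw [Category.id_comp, hge]) ≫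
            pullback.snd f (g ≫ a)) := by rw [h0]; infer_instance
        exact IsClosedImmersion.of_comp _ (pullback.snd f (g ≫ a))
      have h2 : IsClosedImmersion (pullback.map f (g ≫ a) f a (𝟙 X) g (𝟙 S) (by simp) (by simp [a])) :=
        MorphismProperty.pullback_map (P := @IsClosedImmersion) inferInstance inferInstance (by simp) rfl
      rw [hfac]
      infer_instance
    let m : (ρ ⁻¹ᵁ W i : Scheme.{u}) ⟶ pullback f a :=
      pullback.lift ((ρ ⁻¹ᵁ W i).ι ≫ π) (ρ ∣_ W i) (by
        rw [Category.assoc, ← hρ, morphismRestrict_ι_assoc])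
    let b₁ := (σ ⁻¹ᵁ (ρ ⁻¹ᵁ W i)).ι ≫ X.homOfLE (hUV i)
    have hb : ((σ ∣_ ρ ⁻¹ᵁ W i) ≫ (ρ ∣_ W i)) ≫ (q i ∣_ R) = b₁ ≫ (j i).liftCoborder := by
      rw [← cancel_mono R.ι]
      simp only [Category.assoc, morphismRestrict_ι, morphismRestrict_ι_assoc, Scheme.Hom.liftCoborder_ι, b₁, W, R]
      rw [reassoc_of% hσρ, (hq i).1]
    obtain ⟨t, ht⟩ := exists_lift_of_schDominant σ (ρ ⁻¹ᵁ W i) m G (pullback.lift _ _ hb) (by
      refine pullback.hom_ext ?_ ?_
      · simp only [Category.assoc, m, G, e, b₁, pullback.lift_fst, pullback.lift_snd_assoc, Scheme.homOfLE_ι,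
          morphismRestrict_ι_assoc, hσπ]
      · simp only [Category.assoc, m, G, g, pullback.lift_snd, pullback.lift_fst])
    have hm : IsClosedImmersion m := by
      let ν : (ρ ⁻¹ᵁ W i : Scheme.{u}) ⟶ T := (ρ ⁻¹ᵁ W i).ι ≫ φ.imageι
      let κ := pullback.map f a f s (𝟙 X) (W i).ι (𝟙 S) (by simp) (by simp [a])
      have hsq : IsPullback (ρ ⁻¹ᵁ W i).ι m φ.imageι κ := by
        refine IsPullback.of_bot (v₂₁ := pullback.snd f a) (v₂₂ := pullback.snd f s) (h₃₁ := (W i).ι) ?_ ?_ ?_
        · have hm2 : m ≫ pullback.snd f a = ρ ∣_ W i := pullback.lift_snd _ _ _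
          rw [hm2]
          exact (isPullback_morphismRestrict ρ (W i)).flip
        · refine pullback.hom_ext ?_ ?_
          · simp only [m, κ, π, pullback.map, Category.assoc, pullback.lift_fst, pullback.lift_fst_assoc, Category.comp_id]
          · simp only [m, κ, ρ, pullback.map, Category.assoc, pullback.lift_snd, pullback.lift_snd_assoc]
            exact (morphismRestrict_ι ρ (W i)).symm
        · refine IsPullback.of_right (h₁₂ := pullback.fst f s) (h₂₂ := s) (v₁₃ := f) ?_ (pullback.lift_snd _ _ _) (IsPullback.of_hasPullback f s)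
          have : κ ≫ pullback.fst f s = pullback.fst f a := (pullback.lift_fst _ _ _).trans (Category.comp_id _)
          rw [this]
          exact IsPullback.of_hasPullback f a
      exact MorphismProperty.of_isPullback (P := @IsClosedImmersion) hsq inferInstance
    have htt : t ≫ g = ρ ∣_ W i := by
      have := congrArg (· ≫ pullback.snd f a) ht
      simp only [Category.assoc, G, m, pullback.lift_snd] at this
      exact this
    have : IsClosedImmersion (t ≫ G) := by rw [ht]; exact hm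
    have : IsClosedImmersion t := IsClosedImmersion.of_comp t G
    rw [← htt]
    infer_instance
  have hρimm : IsImmersion ρ := by
    let O : Q.Opens := ⨆ i, W i
    have hrO : ρ ⁻¹ᵁ O = ⊤ := top_le_iff.1 fun z _ => by
      obtain ⟨i, hi⟩ := hcov (π z)
      exact Opens.mem_iSup.2 ⟨i, hρW i hi⟩
    have hcl : IsClosedImmersion (ρ ∣_ O) := by
      refine IsZariskiLocalAtTarget.of_iSup_eq_top (fun i => O.ι ⁻¹ᵁ W i) (top_le_iff.1 fun z _ => ?_) fun i => ?_
      · obtain ⟨i, hi⟩ := Opens.mem_iSup.1 z.2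
        exact Opens.mem_iSup.2 ⟨i, hi⟩
      · have hle : W i ≤ O := le_iSup W i
        rw [MorphismProperty.arrow_mk_iso_iff @IsClosedImmersion (morphismRestrictRestrict ρ O (O.ι ⁻¹ᵁ W i))]
        have : O.ι ''ᵁ O.ι ⁻¹ᵁ W i = W i := by
          rw [Scheme.Hom.image_preimage_eq_opensRange_inf, Scheme.Opens.opensRange_ι, inf_eq_right.2 hle]
        rw [this]
        exact hWimm i
    have : IsImmersion ((ρ ∣_ O) ≫ O.ι) := inferInstance
    rw [morphismRestrict_ι] at this
    have hiso : IsIso (ρ ⁻¹ᵁ O).ι := by rw [hrO, ← Scheme.topIso_hom]; infer_instance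
    exact (MorphismProperty.cancel_left_of_respectsIso @IsImmersion (ρ ⁻¹ᵁ O).ι ρ).1 this
  refine ⟨φ.image, π, σ, hπ, isQuasiProjective_of_immersion hs ρ hρ, ?_, hσπ, inferInstance, hσ, ?_, fun hf => ?_⟩
  · have hUπ : σ ⁻¹ᵁ π ⁻¹ᵁ U = ⊤ := top_le_iff.1 fun y _ => by
      show π (σ y) ∈ U
      rw [← Scheme.Hom.comp_apply, hσπ]
      exact y.2
    let σU : (U : Scheme.{u}) ⟶ (π ⁻¹ᵁ U : Scheme.{u}) :=
      IsOpenImmersion.lift (π ⁻¹ᵁ U).ι σ (by
        rw [Scheme.Opens.range_ι]; rintro _ ⟨y, rfl⟩; exact hUπ.ge (show y ∈ (⊤ : (U : Scheme.{u}).Opens) from trivial))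
    have h1 : σU ≫ (π ⁻¹ᵁ U).ι = σ := IsOpenImmersion.lift_fac _ _ _
    have h2 : σU ≫ (π ∣_ U) = 𝟙 _ := by
      rw [← cancel_mono U.ι, Category.assoc, morphismRestrict_ι, ← Category.assoc, h1, hσπ, Category.id_comp]
    have : IsSeparated (π ∣_ U) := inferInstance
    have : IsClosedImmersion (σU ≫ (π ∣_ U)) := by rw [h2]; infer_instance
    have hcl : IsClosedImmersion σU := IsClosedImmersion.of_comp σU (π ∣_ U)
    obtain ⟨r, hr⟩ := exists_lift_of_schDominant σ (π ⁻¹ᵁ U) (𝟙 _) σU (σ ⁻¹ᵁ (π ⁻¹ᵁ U)).ι (by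
      rw [Category.comp_id, ← cancel_mono (π ⁻¹ᵁ U).ι, morphismRestrict_ι, Category.assoc, h1])
    have : IsIso σU := ⟨r, by rw [← cancel_mono σU, Category.assoc, hr, Category.comp_id, Category.id_comp], hr⟩
    have : π ∣_ U = inv σU := by rw [← cancel_epi σU, h2, IsIso.hom_inv_id]
    rw [this]
    infer_instance
  · refine Dense.mono ?_ σ.denseRange
    rintro _ ⟨y, rfl⟩
    show π (σ y) ∈ U
    rw [← Scheme.Hom.comp_apply, hσπ]
    exact y.2
  · have : IsProper (ρ ≫ s) := by rw [hρ]; infer_instance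
    have : IsProper ρ := IsProper.of_comp ρ s
    have : IsClosedImmersion ρ := IsClosedImmersion.of_isPreimmersion ρ ρ.isClosedMap.isClosed_range
    exact isProjective_closedImmersion_comp ρ hs hρ

end Groth.Agent.RelVALib
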