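import Groth.Agent.RelVALib.QuasiProj
import Groth.Agent.RelVALib.AffineProj
import Groth.Agent.AmpleLib.Generated

/-!
# Very ample modules along compositions
-/

set_option autoImplicit false
set_option linter.unusedSectionVars false
set_option linter.deprecated false
set_option backward.isDefEq.respectTransparency.types false
set_option maxHeartbeats 1000000

universe u

open AlgebraicGeometry CategoryTheory CategoryTheory.Limits TopologicalSpace Opposite
open Groth.Agent.Coherent Groth.Agent.PicLib Groth.Agent.AmpleLib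

namespace Groth.Agent.RelVALib

variable {X Y Z P : Scheme.{u}}

/-- Invertible modules with global generators are isomorphic matching the generators. -/
theorem exists_gen_iso {L M : X.Modules} {a : Γ(L, ⊤)} {b : Γ(M, ⊤)} (ha : IsGen L ⊤ a) (hb : IsGen M ⊤ b) :
    ∃ e : L ≅ M, e.hom.app ⊤ a = b := by
  obtain ⟨e, he⟩ := exists_iso_of_gens (fun _ : PUnit.{u + 1} => (⊤ : X.Opens)) ciSup_const (fun _ => a)
    (fun _ => ha) (fun _ => b) (fun _ => hb) (by
      intro _ _ V hi hj c hc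
      have := (ha V le_top).1 (a₁ := 1) (a₂ := c) (by simpa only [one_smul] using hc)
      rw [← this, one_smul])
  exact ⟨e, he PUnit.unit⟩

/-- Global sections of high twists of a module of finite type span it on affine opens. -/
theorem eventually_span {L : X.Modules} (hL : CohB1.IsAmple L) (F : X.Modules) [Coh.IsQCoh F] (hF : CohB1.IsFT F) :
    ∃ N : ℕ, ∀ n, N ≤ n → ∀ x : X, ∃ (A : X.Opens) (κ : Γ(CohB1.tensorPow L n, A)) (r : ℕ)
      (u : Fin r → Γ(CohB1.tensorMod F (CohB1.tensorPow L n), ⊤)) (e : Fin r → Γ(F, A)),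
      x ∈ A ∧ IsAffineOpen A ∧ IsGen _ A κ ∧ Submodule.span Γ(X, A) (Set.range e) = ⊤ ∧
        ∀ i, resM _ (le_top : A ≤ ⊤) (u i) = tmul (e i) κ := by
  classical
  obtain ⟨hLi, hc, -⟩ := isAmple_iff_affGlocus.1 hL
  have := hc
  have key : ∀ x : X, ∃ (A : X.Opens) (N : ℕ), x ∈ A ∧ IsAffineOpen A ∧ ∀ n, N ≤ n →
      ∃ (κ : Γ(CohB1.tensorPow L n, A)) (r : ℕ)
      (u : Fin r → Γ(CohB1.tensorMod F (CohB1.tensorPow L n), ⊤)) (e : Fin r → Γ(F, A)),
      IsGen _ A κ ∧ Submodule.span Γ(X, A) (Set.range e) = ⊤ ∧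
        ∀ i, resM _ (le_top : A ≤ ⊤) (u i) = tmul (e i) κ := fun x => by
    obtain ⟨V, hxV, g, hg⟩ := exists_isGen hLi x
    obtain ⟨m, hm, b, hxb, hbV, hb⟩ := affGlocus_of_mem (x := x) (U := V) hL hxV
    obtain ⟨r, f, hf⟩ := (Coherent.finite_sections F (Coherent.locallyFinGen_of_isFT F hF) hb).exists_fin
    have := fun i : Fin r => exists_twist_section hL F hm b (hg.restrict hbV) (f i)
    choose N hN using this
    refine ⟨glocus _ b, Finset.univ.sup N, hxb, hb, fun n hn => ?_⟩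
    have hN' := fun i => hN i n ((Finset.le_sup (Finset.mem_univ i)).trans hn)
    choose u h hh hu using hN'
    let κ := powSec (resM L hbV g) n
    have hκ : IsGen _ (glocus _ b) κ := isGen_powSec (hg.restrict hbV) n
    refine ⟨κ, r, u, fun i => hκ.coef le_rfl (h i) • f i, hκ, ?_, fun i => ?_⟩
    · refine eq_top_iff.2 (hf ▸ Submodule.span_le.2 ?_)
      rintro _ ⟨i, rfl⟩
      obtain ⟨v, hv⟩ := (hκ.isUnit_coef (hh i)).exists_left_inv
      rw [← one_smul Γ(X, glocus _ b) (f i), ← hv, mul_smul]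
      exact Submodule.smul_mem _ _ (Submodule.subset_span ⟨i, rfl⟩)
    · rw [hu i, tmul_smul_left, ← tmul_smul_right]
      refine congrArg (tmul (f i)) ?_
      have := hκ.coef_spec le_rfl (h i)
      rw [resM_self] at this
      exact this.symm
  choose A N hxA hAaff hA using key
  obtain ⟨t, ht⟩ := isCompact_univ.elim_finite_subcover (fun x : X => (A x : Set X)) (fun x => (A x).2)
    fun x _ => Set.mem_iUnion.2 ⟨x, hxA x⟩
  refine ⟨t.sup N, fun n hn y => ?_⟩
  obtain ⟨x, hxt, hyx⟩ := Set.mem_iUnion₂.1 (ht (Set.mem_univ y))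
  obtain ⟨κ, r, u, e, h1, h2, h3⟩ := hA x n ((Finset.le_sup hxt).trans hn)
  exact ⟨A x, κ, r, u, e, hyx, hAaff x, h1, h2, h3⟩

theorem appLE_apply_congr {f g : X ⟶ Y} (e : f = g) {U : Y.Opens} {V : X.Opens} (h : V ≤ f ⁻¹ᵁ U) (h' : V ≤ g ⁻¹ᵁ U)
    (c : Γ(Y, U)) : f.appLE U V h c = g.appLE U V h' c := by
  subst e; rfl

section coords

variable {E : Y.Modules} {𝒮 : RelProj.QCGrAlg Y} {j : E ⟶ 𝒮.toModule} {p : P ⟶ Y}
  {chart : ∀ (U : Y.Opens) (hU : IsAffineOpen U), ((p ⁻¹ᵁ U : P.Opens) : Scheme.{u}) ≅ Proj (𝒮.deg U hU)}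
  {O1 : P.Modules}
  {lam : ∀ (U : Y.Opens) (hU : IsAffineOpen U),
    O1 ⟶ (Scheme.Modules.pushforward (RelProj.emb p chart U hU)).obj (GrTwist.twist (𝒮.deg U hU) 1)}
  {φ : E ⟶ (Scheme.Modules.pushforward p).obj O1}

/-- Coordinates with respect to spanning sections generate the functions of a basic piece. -/
theorem range_eq_top_of_coords (D : PBundle E 𝒮 j p chart O1 lam φ) {U : Y.Opens} (hU : IsAffineOpen U)
    {I : Type*} [Fintype I] (e : I → Γ(E, U)) (he : Submodule.span Γ(Y, U) (Set.range e) = ⊤) (k : I)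
    (R : Subring Γ(P, opn j p chart hU (e k)))
    (h0 : ∀ a, p.appLE U _ (D.opn_le hU (e k)) a ∈ R)
    (h1 : ∀ l, ∃ d ∈ R, d • resM O1 (D.opn_le hU (e k)) (φ.app U (e k)) = resM O1 (D.opn_le hU (e k)) (φ.app U (e l))) :
    R = ⊤ := by
  refine eq_top_iff.2 fun c _ => ?_
  obtain ⟨S, -, hc⟩ := exists_finite_coords D hU (e k) c
  refine Subring.closure_le.2 (Set.union_subset (by rintro _ ⟨a, rfl⟩; exact h0 a) ?_) hc
  rintro d ⟨e', -, hd⟩
  have hmem : ∀ e' : Γ(E, U), ∃ d' ∈ R,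
      d' • resM O1 (D.opn_le hU (e k)) (φ.app U (e k)) = resM O1 (D.opn_le hU (e k)) (φ.app U e') := fun e' => by
    have h : e' ∈ Submodule.span Γ(Y, U) (Set.range e) := he ▸ trivial
    induction h using Submodule.span_induction with
    | mem x hx => obtain ⟨l, rfl⟩ := hx; exact h1 l
    | zero => exact ⟨0, zero_mem R, by rw [zero_smul, map_zero]; exact (map_zero (resM O1 _)).symm⟩
    | add x y _ _ hx hy =>
      obtain ⟨a, ha, hax⟩ := hx
      obtain ⟨b, hb, hby⟩ := hy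
      refine ⟨a + b, add_mem ha hb, ?_⟩
      rw [add_smul, hax, hby, map_add]
      exact (map_add (resM O1 _) _ _).symm
    | smul a x _ hx =>
      obtain ⟨b, hb, hbx⟩ := hx
      refine ⟨p.appLE U _ (D.opn_le hU (e k)) a * b, mul_mem (h0 a) hb, ?_⟩
      rw [mul_smul, hbx, Scheme.Modules.Hom.app_smul]
      exact (resM_smul O1 _ _ _).symm
  obtain ⟨d', hd', hd'e⟩ := hmem e'
  have := ((D.isGen_phi hU (e k)) _ le_rfl).1 (a₁ := d) (a₂ := d') (by
    show d • resM O1 le_rfl _ = d' • resM O1 le_rfl _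
    rw [resM_self, hd, hd'e])
  rwa [this]

/-- An immersion into the bundle of `E` gives an immersion into a projective space once a twist of `E` has
sections spanning it. -/
theorem exists_immersion_twist (D : PBundle E 𝒮 j p chart O1 lam φ) {f : X ⟶ Y} {L : X.Modules}
    (hL : PicF.IsInvertible L) (i : X ⟶ P) [IsImmersion i] (hi : i ≫ p = f)
    (σ : (Scheme.Modules.pullback i).obj O1 ≅ L) {K : Y.Modules} (hK : PicF.IsInvertible K) {r : ℕ}
    (u : Fin (r + 1) → Γ(CohB1.tensorMod E K, ⊤))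
    (hu : ∀ y : Y, ∃ (U : Y.Opens) (κ : Γ(K, U)) (e : Fin (r + 1) → Γ(E, U)),
      y ∈ U ∧ IsAffineOpen U ∧ IsGen K U κ ∧ Submodule.span Γ(Y, U) (Set.range e) = ⊤ ∧
        ∀ l, resM _ (le_top : U ≤ ⊤) (u l) = tmul (e l) κ) :
    RelAmple.IsRelVeryAmplePn f (CohB1.tensorMod L ((Scheme.Modules.pullback f).obj K)) := by
  obtain ⟨t, ht, hcov⟩ := exists_gen_classified D i hi σ
  let K' := (Scheme.Modules.pullback f).obj K
  let M := CohB1.tensorMod L K'
  have hK' : PicF.IsInvertible K' := PicLoc.isInvertible_pullback f hK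
  let T := (prodBilin t ((Scheme.Modules.pullbackPushforwardAdjunction f).unit.app K)).desc
  let s : Fin (r + 1) → Γ(M, ⊤) := fun l => T.app ⊤ (u l)
  choose U κ e hyU hU hκ hspan hue using hu
  have hs : ∀ (y : Y) (W : X.Opens) (hW : W ≤ f ⁻¹ᵁ U y) (l : Fin (r + 1)),
      resM M (le_top : W ≤ ⊤) (s l) = tmul (resM L hW (t.app (U y) (e y l))) (resM K' hW (pullSec f (κ y))) := by
    intro y W hW l
    have h1 : resM M hW (T.app (U y) (tmul (e y l) (κ y))) =
        tmul (resM L hW (t.app (U y) (e y l))) (resM K' hW (pullSec f (κ y))) := prod_app_tmul hW _ _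
    rw [← h1, ← hue y l]
    refine Eq.trans ?_ (congrArg (resM M hW) (app_resM T (le_top : U y ≤ ⊤) (u l)).symm)
    exact (resM_resM M _ _ _).symm
  have hκ' : ∀ y, IsGen K' (f ⁻¹ᵁ U y) (pullSec f (κ y)) := fun y => isGen_pullSec f (hκ y) hK
  let W : Y → Fin (r + 1) → X.Opens := fun y k => i ⁻¹ᵁ opn j p chart (hU y) (e y k)
  have hWU : ∀ y k, W y k ≤ f ⁻¹ᵁ U y := fun y k => (i.preimage_mono (D.opn_le _ _)).trans (le_of_over hi _)
  have hgenW : ∀ y k, IsGen L (W y k) (resM L (hWU y k) (t.app (U y) (e y k))) :=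
    fun y k => isGen_classified D ht (hU y) (e y k) (hWU y k)
  have hglo : ∀ y k, f ⁻¹ᵁ U y ⊓ glocus M (s k) = W y k := by
    intro y k
    refine le_antisymm ?_ (le_inf (hWU y k) ((le_glocus_iff (s k) _).2 ?_))
    · have h := (le_glocus_iff (s k) (f ⁻¹ᵁ U y ⊓ glocus M (s k))).1 inf_le_right
      rw [hs y _ inf_le_left k] at h
      exact (range_le_iff i _).1 (good_of_classifies D ht (hU y) (e y k) inf_le_left
        (isGen_left_of_tmul hL hK' h).1).range
    · rw [hs y _ (hWU y k) k]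
      exact isGen_tmul (hgenW y k) ((hκ' y).restrict _)
  have hcov : ∀ x : X, ∃ k, x ∈ W (f x) k := by
    intro x
    by_contra hno
    push_neg at hno
    obtain ⟨e', he'⟩ := D.exists_mem_opn (hU (f x)) (show i x ∈ p ⁻¹ᵁ U (f x) from ge_of_over hi _ (hyU (f x)))
    let O := opn j p chart (hU (f x)) e'
    let V := i ⁻¹ᵁ O
    have hV : V ≤ f ⁻¹ᵁ U (f x) := (i.preimage_mono (D.opn_le _ _)).trans (le_of_over hi _)
    have hg := isGen_classified D ht (hU (f x)) e' hV
    have hex : ∀ (a : Γ(E, U (f x))), ∃ c : Γ(X, V), c • resM L hV (t.app (U (f x)) e') =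
        resM L hV (t.app (U (f x)) a) := fun a => by
      obtain ⟨c, hc⟩ := (hg V le_rfl).2 (resM L hV (t.app (U (f x)) a))
      exact ⟨c, by rw [← hc]; show _ = c • resM L le_rfl _; rw [resM_self]⟩
    have hnu : ∀ a ∈ Submodule.span Γ(Y, U (f x)) (Set.range (e (f x))), ∀ c : Γ(X, V),
        c • resM L hV (t.app (U (f x)) e') = resM L hV (t.app (U (f x)) a) → x ∉ X.basicOpen c := by
      intro a ha
      induction ha using Submodule.span_induction with
      | mem a ha =>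
        obtain ⟨l, rfl⟩ := ha
        intro c hc hx
        refine hno l ?_
        refine (range_le_iff i _).1 (good_of_classifies D ht (hU (f x)) (e (f x) l)
          ((X.basicOpen_le c).trans hV) ?_).range hx
        rw [← resM_resM L hV (X.basicOpen_le c), ← hc, resM_smul]
        exact (isGen_smul_iff (RingedSpace.isUnit_res_basicOpen _ c)).2 (hg.restrict (X.basicOpen_le c))
      | zero =>
        intro c hc hx
        rw [map_zero] at hc
        replace hc := hc.trans (map_zero (resM L hV))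
        have h0 : c = 0 := (hg V le_rfl).1 (by
          show c • resM L le_rfl _ = (0 : Γ(X, V)) • resM L le_rfl _
          rw [resM_self, hc, zero_smul])
        rw [h0, Scheme.basicOpen_zero] at hx
        exact hx.elim
      | add a b _ _ iha ihb =>
        intro c hc hx
        obtain ⟨ca, hca⟩ := hex a
        obtain ⟨cb, hcb⟩ := hex b
        have h : c = ca + cb := (hg V le_rfl).1 (by
          show c • resM L le_rfl _ = (ca + cb) • resM L le_rfl _
          rw [resM_self, hc, add_smul, hca, hcb, map_add]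
          exact map_add (resM L _) _ _)
        subst h
        exact (X.basicOpen_add_le ca cb hx).elim (iha ca hca) (ihb cb hcb)
      | smul a b _ ih =>
        intro c hc hx
        obtain ⟨cb, hcb⟩ := hex b
        have h : c = f.appLE (U (f x)) V hV a * cb := (hg V le_rfl).1 (by
          show c • resM L le_rfl _ = (_ * cb) • resM L le_rfl _
          rw [resM_self, hc, mul_smul, hcb, Scheme.Modules.Hom.app_smul]
          exact resM_smul L _ _ _)
        subst h
        rw [Scheme.basicOpen_mul] at hx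
        exact ih cb hcb hx.2
    exact hnu e' (hspan (f x) ▸ trivial) 1 (by rw [one_smul]) (by
      rw [Scheme.basicOpen_of_isUnit _ isUnit_one]; exact he')
  obtain ⟨g, -, τ, hτ⟩ := UPLib.exists_hom_projSpace r (specULiftZIsTerminal.from X) (isInvertible_tensorMod hL hK') s
    fun x => by
      obtain ⟨k, hk⟩ := hcov x
      exact ⟨k, ((hglo _ k).ge hk).2⟩
  let pr₁ := pullback.fst (CohB1.ProjSpace.toSpec r (ULift.{u} ℤ)) (specULiftZIsTerminal.from Y)
  let pr₂ := pullback.snd (CohB1.ProjSpace.toSpec r (ULift.{u} ℤ)) (specULiftZIsTerminal.from Y)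
  let i₂ : X ⟶ CohB1.ProjSpaceOver r Y := pullback.lift g f (specULiftZIsTerminal.hom_ext _ _)
  have hi₂g : i₂ ≫ pr₁ = g := pullback.lift_fst _ _ _
  have hi₂f : i₂ ≫ pr₂ = f := pullback.lift_snd _ _ _
  refine ⟨r, i₂, ?_, hi₂f, ⟨τ.symm ≪≫ (Scheme.Modules.pullbackCongr hi₂g.symm).app _ ≪≫
    ((Scheme.Modules.pullbackComp i₂ pr₁).app _).symm⟩⟩
  let V : Y × Fin (r + 1) → (CohB1.ProjSpaceOver r Y).Opens := fun yk =>
    pr₁ ⁻¹ᵁ PnEmb.chartOpen r (ULift.{u} ℤ) yk.2 ⊓ pr₂ ⁻¹ᵁ U yk.1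
  have hpre : ∀ y k, i₂ ⁻¹ᵁ V (y, k) = W y k := fun y k => by
    have h : i₂ ⁻¹ᵁ V (y, k) = g ⁻¹ᵁ PnEmb.chartOpen r (ULift.{u} ℤ) k ⊓ f ⁻¹ᵁ U y := by
      rw [← hi₂g, ← hi₂f]
      rfl
    rw [h, PnEmb.preimage_chartOpen g τ hτ k, inf_comm]
    exact hglo y k
  refine isImmersion_of_cover i₂ V (fun x => ?_) fun yk => ?_
  · obtain ⟨k, hk⟩ := hcov x
    exact ⟨(f x, k), (hpre _ _).ge hk⟩
  obtain ⟨y, k⟩ := yk
  let G := opn j p chart (hU y) (e y k)
  let N := (Scheme.Modules.pullback G.ι).obj O1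
  have hG : ∀ l, ∃ a : Γ(N, ⊤), resM N (le_top : G.ι ⁻¹ᵁ G ≤ ⊤) a =
      pullSec G.ι (resM O1 (D.opn_le (hU y) _) (φ.app (U y) (e y l))) := fun l => by
    refine ⟨resM N (Scheme.Opens.ι_preimage_self G).ge
      (pullSec G.ι (resM O1 (D.opn_le (hU y) _) (φ.app (U y) (e y l)))), ?_⟩
    rw [resM_resM, resM_self]
  choose a ha using hG
  have hgen : IsGen N (G.ι ⁻¹ᵁ G) (resM N le_top (a k)) := by
    rw [ha]
    exact isGen_pullSec G.ι (D.isGen_phi (hU y) _) D.invertible
  obtain ⟨gG, -, τG, hτG⟩ := UPLib.exists_hom_projSpace r (specULiftZIsTerminal.from G.toScheme)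
    (PicLoc.isInvertible_pullback _ D.invertible) a fun z => ⟨k, (le_glocus_iff (a k) _).2 hgen z.2⟩
  let h : (G : Scheme.{u}) ⟶ CohB1.ProjSpaceOver r Y :=
    pullback.lift gG (G.ι ≫ p) (specULiftZIsTerminal.hom_ext _ _)
  have hh₁ : h ≫ pr₁ = gG := pullback.lift_fst _ _ _
  have hh₂ : h ≫ pr₂ = G.ι ≫ p := pullback.lift_snd _ _ _
  have hgk : gG ⁻¹ᵁ PnEmb.chartOpen r (ULift.{u} ℤ) k = ⊤ := by
    rw [PnEmb.preimage_chartOpen gG τG hτG k, eq_top_iff]
    exact (le_top.trans (Scheme.Opens.ι_preimage_self G).ge).trans ((le_glocus_iff (a k) _).2 hgen)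
  have hpreG : h ⁻¹ᵁ V (y, k) = ⊤ := by
    have h' : h ⁻¹ᵁ V (y, k) = gG ⁻¹ᵁ PnEmb.chartOpen r (ULift.{u} ℤ) k ⊓ (G.ι ≫ p) ⁻¹ᵁ U y := by
      rw [← hh₁, ← hh₂]
      rfl
    rw [h', hgk, top_inf_eq, eq_top_iff]
    exact fun z _ => D.opn_le (hU y) (e y k) z.2
  have : IsImmersion h := by
    refine PnEmb.isImmersion_of_charts h (fun _ : PUnit.{u + 1} => V (y, k)) (fun _ => ?_) (fun _ => ?_) (fun _ => ?_)
      fun z => ⟨PUnit.unit, hpreG.ge trivial⟩
    · exact isAffineOpen_fst_inf_snd _ _ (isAffineOpen_top _) (PnEmb.isAffineOpen_chartOpen k) (hU y) le_top le_top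
    · rw [hpreG]
      haveI : IsAffine G.toScheme := D.isAffineOpen_opn (hU y) (e y k)
      exact isAffineOpen_top _
    · have key : ∀ (T : G.toScheme.Opens), T = G.ι ⁻¹ᵁ G → ∀ hT : T ≤ h ⁻¹ᵁ V (y, k),
          Function.Surjective (h.appLE (V (y, k)) T hT) := by
        rintro T rfl hT
        let ρ : Γ(P, G) →+* Γ(G.toScheme, G.ι ⁻¹ᵁ G) := (G.ι.app G).hom
        have := G.ι.isIso_app G (Scheme.Opens.opensRange_ι G).ge
        have hρ := ConcreteCategory.bijective_of_isIso (G.ι.app G)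
        let R : Subring Γ(P, G) := (h.appLE (V (y, k)) _ hT).hom.range.comap ρ
        have hR : R = ⊤ := by
          refine range_eq_top_of_coords D (hU y) (e y) (hspan y) k R (fun c => ?_) fun l => ?_
          · refine ⟨pr₂.appLE (U y) (V (y, k)) inf_le_right c, ?_⟩
            show (pr₂.appLE (U y) (V (y, k)) inf_le_right ≫ h.appLE (V (y, k)) _ hT) c =
              (p.appLE (U y) G (D.opn_le (hU y) (e y k)) ≫ G.ι.app G) c
            erw [Scheme.Hom.appLE_comp_appLE, Scheme.Hom.app_eq_appLE, Scheme.Hom.appLE_comp_appLE]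
            exact appLE_apply_congr hh₂ _ _ c
          · obtain ⟨c, hc⟩ := PnEmb.exists_app_eq_coef gG τG hτG k l (G.ι ⁻¹ᵁ G) (le_top.trans hgk.ge)
            obtain ⟨d, hd⟩ := hρ.2 (gG.appLE (PnEmb.chartOpen r (ULift.{u} ℤ) k) _ (le_top.trans hgk.ge) c)
            refine ⟨d, ⟨pr₁.appLE (PnEmb.chartOpen r (ULift.{u} ℤ) k) (V (y, k)) inf_le_left c, ?_⟩, ?_⟩
            · show (pr₁.appLE _ (V (y, k)) inf_le_left ≫ h.appLE (V (y, k)) _ hT) c = G.ι.app G d
              erw [Scheme.Hom.appLE_comp_appLE, hd]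
              exact appLE_apply_congr hh₁ _ _ c
            · refine (bijective_pullSec_opensRange G.ι D.invertible G (Scheme.Opens.opensRange_ι G).ge).1 ?_
              rw [pullSec_smul, hd, ← ha, ← ha]
              exact hc
        intro z
        obtain ⟨d, hd⟩ := hρ.2 z
        obtain ⟨v, hv⟩ := hR.ge (Subring.mem_top d)
        exact ⟨v, hv.trans hd⟩
      have h' := key _ (hpreG.trans (Scheme.Opens.ι_preimage_self G).symm) le_rfl
      rw [Scheme.Hom.app_eq_appLE]
      exact h'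
  let m := i.resLE G (W y k) le_rfl
  have hmι : m ≫ G.ι = (W y k).ι ≫ i := Scheme.Hom.resLE_comp_ι _ _
  have hcomm : m ≫ h = (W y k).ι ≫ i₂ := by
    refine pullback.hom_ext ?_ ?_
    · refine (Category.assoc m h _).trans (Eq.trans ?_ (Category.assoc (W y k).ι i₂ _).symm)
      rw [show h ≫ pullback.fst _ _ = gG from hh₁, show i₂ ≫ pullback.fst _ _ = g from hi₂g]
      let w := (W y k).ι
      obtain ⟨c, hc⟩ := exists_compIso m G.ι (w ≫ i) hmι O1
      obtain ⟨c', hc'⟩ := exists_compIso w i (w ≫ i) rfl O1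
      let gl : ∀ l, Γ((Scheme.Modules.pullback w).obj L, ⊤) := fun l =>
        resM _ (Scheme.Opens.ι_preimage_self (W y k)).ge (pullSec w (resM L (hWU y k) (t.app (U y) (e y l))))
      have hgl : IsGen _ ⊤ (gl k) := by
        have h := (isGen_pullSec w (hgenW y k) hL).restrict (Scheme.Opens.ι_preimage_self (W y k)).ge
        exact h
      have hMW : IsGen ((Scheme.Modules.pullback w).obj M) ⊤ (pullSec w (U := ⊤) (s k)) := by
        have h := (isGen_pullSec w ((le_glocus_iff (s k) (W y k)).1 ((hglo y k).ge.trans inf_le_right))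
          (isInvertible_tensorMod hL hK')).restrict (Scheme.Opens.ι_preimage_self (W y k)).ge
        rw [← resM_pullSec w, resM_resM] at h
        erw [resM_self] at h
        exact h
      obtain ⟨μ, hμ⟩ := exists_gen_iso hgl hMW
      obtain ⟨θ, hθ⟩ := exists_coordIso m gG τG
        (c.symm ≪≫ c' ≪≫ (Scheme.Modules.pullback w).mapIso σ ≪≫ μ)
      obtain ⟨θ', hθ'⟩ := exists_coordIso w g τ (Iso.refl _)
      refine eq_of_coords θ θ' fun l => ?_
      rw [hθ, hθ', hτG, hτ]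
      show μ.hom.app ⊤ (((Scheme.Modules.pullback w).map σ.hom).app ⊤ (c'.hom.app ⊤ (c.inv.app ⊤
        (pullSec m (U := ⊤) (a l))))) = pullSec w (U := ⊤) (s l)
      have hW' : (⊤ : (W y k).toScheme.Opens) ≤ (w ≫ i) ⁻¹ᵁ G := (range_le_iff i G).2 le_rfl
      let v : Γ(O1, G) := resM O1 (D.opn_le (hU y) _) (φ.app (U y) (e y l))
      have h1 : pullSec m (U := ⊤) (a l) = c.hom.app ⊤ (resM _ hW' (pullSec (w ≫ i) v)) := by
        have hle : (w ≫ i) ⁻¹ᵁ G ≤ m ⁻¹ᵁ (G.ι ⁻¹ᵁ G) := le_of_eq (by rw [← Scheme.Hom.comp_preimage, hmι])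
        rw [app_resM, hc G v hle]
        rw [show pullSec G.ι v = resM N (le_top : G.ι ⁻¹ᵁ G ≤ ⊤) (a l) from (ha l).symm]
        erw [← resM_pullSec m (le_top : G.ι ⁻¹ᵁ G ≤ ⊤)]
        erw [resM_resM, resM_resM, resM_self]
      rw [h1]
      erw [show c.inv.app ⊤ (c.hom.app ⊤ (resM _ hW' (pullSec (w ≫ i) v))) = resM _ hW' (pullSec (w ≫ i) v) by
        show (c.hom ≫ c.inv).app ⊤ _ = _
        rw [c.hom_inv_id]; rfl]
      rw [app_resM, hc' G v le_rfl]
      erw [resM_resM, app_resM, map_app_pullSec]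
      have h2 : σ.hom.app (i ⁻¹ᵁ G) (pullSec i v) = resM L (hWU y k) (t.app (U y) (e y l)) := by
        rw [show pullSec i v = resM _ (i.preimage_mono (D.opn_le (hU y) _)) (pullSec i (show Γ(O1, p ⁻¹ᵁ U y) from
          φ.app (U y) (e y l))) from (resM_pullSec i _ _).symm, app_resM, ht (U y) (hU y) (e y l)]
        exact resM_resM L _ _ _
      rw [h2]
      show μ.hom.app ⊤ (gl l) = _
      obtain ⟨d, hd⟩ := ((hgenW y k) (W y k) le_rfl).2 (resM L (hWU y k) (t.app (U y) (e y l)))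
      change d • resM L le_rfl _ = _ at hd
      rw [resM_self] at hd
      have hdM : d • resM M (le_top : W y k ≤ ⊤) (s k) = resM M le_top (s l) := by
        rw [hs y _ (hWU y k) k, hs y _ (hWU y k) l, ← tmul_smul_left, hd]
      have h3 : gl l = res (Scheme.Opens.ι_preimage_self (W y k)).ge (w.app (W y k) d) • gl k := by
        show resM _ _ (pullSec w _) = _ • resM _ _ (pullSec w _)
        rw [← resM_smul, ← pullSec_smul, hd]
      rw [h3, Scheme.Modules.Hom.app_smul, hμ]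
      have h4 : ∀ l', pullSec w (U := ⊤) (s l') = resM _ (Scheme.Opens.ι_preimage_self (W y k)).ge
          (pullSec w (resM M (le_top : W y k ≤ ⊤) (s l'))) := fun l' => by
        rw [← resM_pullSec w, resM_resM]
        exact (resM_self _ _ _).symm
      rw [h4 k, h4 l, ← hdM, pullSec_smul, resM_smul]
    · refine (Category.assoc m h _).trans (Eq.trans ?_ (Category.assoc (W y k).ι i₂ _).symm)
      rw [show h ≫ pullback.snd _ _ = G.ι ≫ p from hh₂, reassoc_of% hmι, hi]
      exact congrArg ((W y k).ι ≫ ·) hi₂f.symm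
  have : IsImmersion (m ≫ G.ι) := by rw [hmι]; infer_instance
  have : IsImmersion m := IsImmersion.of_comp m G.ι
  have : IsImmersion ((W y k).ι ≫ i₂) := by rw [← hcomm]; infer_instance
  rw [← Scheme.isoOfEq_hom_ι X (hpre y k), Category.assoc]
  infer_instance

end coords

theorem nonempty_powAddIso {L : X.Modules} (hL : PicF.IsInvertible L) (a : ℕ) :
    ∀ b : ℕ, Nonempty (CohB1.tensorMod (CohB1.tensorPow L a) (CohB1.tensorPow L b) ≅ CohB1.tensorPow L (a + b))
  | 0 => ⟨tensorComm _ _ ≪≫ unitTensorIso _⟩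
  | b + 1 => by
    obtain ⟨e⟩ := nonempty_powAddIso hL a b
    obtain ⟨α, -⟩ := exists_assocIso (isInvertible_tensorPow hL a) (isInvertible_tensorPow hL b) hL
    exact ⟨α.symm ≪≫ AmpleLib.tensorIso e (Iso.refl L)⟩

theorem nonempty_twist_pow_iso (f : X ⟶ Y) {L : X.Modules} (hL : PicF.IsInvertible L) {K : Y.Modules}
    (hK : PicF.IsInvertible K) (a b : ℕ) :
    Nonempty (CohB1.tensorMod L ((Scheme.Modules.pullback f).obj (CohB1.tensorPow K (a + b))) ≅
      CohB1.tensorMod (CohB1.tensorMod L ((Scheme.Modules.pullback f).obj (CohB1.tensorPow K a)))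
        ((Scheme.Modules.pullback f).obj (CohB1.tensorPow K b))) := by
  obtain ⟨e⟩ := nonempty_powAddIso hK a b
  obtain ⟨e'⟩ := exists_pullTensorIso f (isInvertible_tensorPow hK a) (isInvertible_tensorPow hK b)
  obtain ⟨α, -⟩ := exists_assocIso hL (PicLoc.isInvertible_pullback f (isInvertible_tensorPow hK a))
    (PicLoc.isInvertible_pullback f (isInvertible_tensorPow hK b))
  exact ⟨AmpleLib.tensorIso (Iso.refl L) ((Scheme.Modules.pullback f).mapIso e.symm ≪≫ e') ≪≫ α.symm⟩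

/-- Very ample modules compose after twisting by high powers. -/
theorem exists_isRelVeryAmple_comp_affine [IsAffine Z] (f : X ⟶ Y) [QuasiCompact f] [LocallyOfFiniteType f]
    (g : Y ⟶ Z) [QuasiCompact g] {L : X.Modules} (hL : PicF.IsInvertible L) (hLva : RelProj.IsRelVeryAmple f L)
    {K : Y.Modules} (hK : PicF.IsInvertible K) (hKva : RelProj.IsRelVeryAmple g K) :
    ∃ N : ℕ, ∀ n, N ≤ n → RelProj.IsRelVeryAmple (f ≫ g)
      (CohB1.tensorMod L ((Scheme.Modules.pullback f).obj (CohB1.tensorPow K n))) := by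
  classical
  have := isSeparated_of_isRelVeryAmple hKva
  have hamp := isAmple_of_isRelAmple_of_isAffine g (isRelAmple_of_isRelVeryAmple g hKva)
  have : CompactSpace Y := QuasiCompact.compactSpace_of_compactSpace g
  have : QuasiSeparatedSpace Y := quasiSeparatedSpace_of_quasiSeparated g
  obtain ⟨E, hft, 𝒮, j, P, p, chart, O1, lam, φ, i, D, hi, hip, ⟨eL⟩⟩ :=
    exists_hasBundleImmersion (Or.inl ⟨inferInstance, inferInstance⟩) f L hL hLva
  have := hi
  have := D.hE
  obtain ⟨N, hN⟩ := eventually_span hamp E hft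
  refine ⟨N + 1, fun n hn => ?_⟩
  obtain ⟨m, rfl⟩ : ∃ m, n = N + (m + 1) := ⟨n - N - 1, by omega⟩
  choose A κ ra u e hyA hA hκ hspan hu using hN N le_rfl
  obtain ⟨T, hT⟩ := isCompact_univ.elim_finite_subcover (fun y : Y => (A y : Set Y)) (fun y => (A y).2)
    fun y _ => Set.mem_iUnion.2 ⟨y, hyA y⟩
  let I := Option ((y : {y // y ∈ T}) × Fin (ra y.1))
  obtain ⟨r, hr⟩ : ∃ r, Fintype.card I = r + 1 := Nat.exists_eq_add_one.2 Fintype.card_pos
  let q : Fin (r + 1) ≃ I := ((Fintype.equivFin I).trans (finCongr hr)).symm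
  let su : Fin (r + 1) → Γ(CohB1.tensorMod E (CohB1.tensorPow K N), ⊤) := fun l =>
    (q l).elim 0 fun p => u p.1.1 p.2
  have hsu : ∀ y : Y, ∃ (U : Y.Opens) (κ : Γ(CohB1.tensorPow K N, U)) (e : Fin (r + 1) → Γ(E, U)),
      y ∈ U ∧ IsAffineOpen U ∧ IsGen _ U κ ∧ Submodule.span Γ(Y, U) (Set.range e) = ⊤ ∧
        ∀ l, resM _ (le_top : U ≤ ⊤) (su l) = tmul (e l) κ := by
    intro y
    obtain ⟨y₀, hy₀, hy⟩ := Set.mem_iUnion₂.1 (hT (Set.mem_univ y))
    choose e' he' using fun l => (bijective_tmul_gen (M := E) (hκ y₀) (A y₀) le_rfl).2 (resM _ le_top (su l))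
    change ∀ l, tmul (e' l) (resM _ le_rfl (κ y₀)) = _ at he'
    refine ⟨A y₀, κ y₀, e', hy, hA y₀, hκ y₀, ?_, fun l => by rw [← he' l, resM_self]⟩
    refine eq_top_iff.2 (hspan y₀ ▸ Submodule.span_le.2 ?_)
    rintro _ ⟨l, rfl⟩
    refine Submodule.subset_span ⟨q.symm (some ⟨⟨y₀, hy₀⟩, l⟩),
      (bijective_tmul_gen (M := E) (hκ y₀) (A y₀) le_rfl).1 ?_⟩
    show tmul (e' _) (resM _ le_rfl (κ y₀)) = tmul (e y₀ l) (resM _ le_rfl (κ y₀))
    rw [he', resM_self, ← hu y₀ l]
    simp [su]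
  obtain ⟨r', i₂, hi₂, hi₂f, ⟨e₂⟩⟩ :=
    exists_immersion_twist D hL i hip eL.symm (isInvertible_tensorPow hK N) su hsu
  have := hi₂
  let pr₁ := pullback.fst (CohB1.ProjSpace.toSpec r' (ULift.{u} ℤ)) (specULiftZIsTerminal.from Y)
  let qZ := pullback.fst (CohB1.ProjSpace.toSpec r' (ULift.{u} ℤ)) (specULiftZIsTerminal.from Z)
  let r₁ : X ⟶ CohB1.ProjSpaceOver r' Z := pullback.lift (i₂ ≫ pr₁) (f ≫ g) (specULiftZIsTerminal.hom_ext _ _)
  have hr₁ : r₁ ≫ CohB1.ProjSpaceOver.toBase r' Z = f ≫ g := pullback.lift_snd _ _ _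
  let l := pullback.lift (f := CohB1.ProjSpaceOver.toBase r' Z) (g := g) r₁ f hr₁
  let back : pullback (CohB1.ProjSpaceOver.toBase r' Z) g ⟶ CohB1.ProjSpaceOver r' Y :=
    pullback.lift (pullback.fst _ _ ≫ qZ) (pullback.snd _ _) (specULiftZIsTerminal.hom_ext _ _)
  have hback : l ≫ back = i₂ := by
    refine pullback.hom_ext ?_ ?_
    · refine (Category.assoc l back _).trans ?_
      rw [show back ≫ pullback.fst _ _ = pullback.fst _ _ ≫ qZ from pullback.lift_fst _ _ _]
      refine (Category.assoc l _ qZ).symm.trans ?_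
      refine (congrArg (· ≫ qZ) (pullback.lift_fst _ _ _ : l ≫ pullback.fst _ _ = r₁)).trans ?_
      exact pullback.lift_fst _ _ _
    · refine (Category.assoc l back _).trans ?_
      rw [show back ≫ pullback.snd _ _ = pullback.snd _ _ from pullback.lift_snd _ _ _,
        show l ≫ pullback.snd _ _ = f from pullback.lift_snd _ _ _]
      exact hi₂f.symm
  have : IsImmersion (l ≫ back) := by rw [hback]; infer_instance
  have : IsImmersion l := IsImmersion.of_comp l back
  have : QuasiCompact (CohB1.ProjSpaceOver.toBase r' Z) := by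
    have : QuasiCompact (CohB1.ProjSpace.toSpec r' (ULift.{u} ℤ)) := by
      have := (MorProj.isAmple_twistProjSpace.{u} r').2.1
      exact quasiCompact_of_compactSpace _
    exact MorphismProperty.pullback_snd _ _ this
  have hO : PicF.IsInvertible (Twist.twistOver r' Z 1) :=
    PicLoc.isInvertible_pullback _ (MorProj.isAmple_twistProjSpace.{u} r').1
  have hO1 : RelProj.IsRelVeryAmple (CohB1.ProjSpaceOver.toBase r' Z) (Twist.twistOver r' Z 1) :=
    isRelVeryAmple_of_isRelVeryAmplePn _ _ hO ⟨r', 𝟙 _, inferInstance, Category.id_comp _,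
      ⟨((Scheme.Modules.pullbackId _).app _).symm⟩⟩
  have hKm : RelProj.IsRelVeryAmple g (CohB1.tensorPow K (m + 1)) := isRelVeryAmple_tensorPow hKva hK m
  have hjoint := isRelVeryAmple_tensor_of_joint (q := f ≫ g) (CohB1.ProjSpaceOver.toBase r' Z) g r₁ f hr₁ rfl
    (Twist.twistOver r' Z 1) (CohB1.tensorPow K (m + 1)) hO1 hKm hO (isInvertible_tensorPow hK (m + 1))
  have hr₁' : r₁ ≫ qZ = i₂ ≫ pr₁ := pullback.lift_fst _ _ _
  let e₁ : (Scheme.Modules.pullback r₁).obj (Twist.twistOver r' Z 1) ≅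
      CohB1.tensorMod L ((Scheme.Modules.pullback f).obj (CohB1.tensorPow K N)) :=
    (Scheme.Modules.pullbackComp r₁ qZ).app _ ≪≫ (Scheme.Modules.pullbackCongr hr₁').app _ ≪≫
      ((Scheme.Modules.pullbackComp i₂ pr₁).app _).symm ≪≫ e₂.symm
  obtain ⟨e₃⟩ := nonempty_twist_pow_iso f hL hK N (m + 1)
  exact isRelVeryAmple_of_iso (e₃ ≪≫ AmpleLib.tensorIso e₁.symm (Iso.refl _)) hjoint

/-- Very ample modules compose after twisting by high powers, over a quasi-compact base. -/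
theorem exists_isRelVeryAmple_comp [CompactSpace Z] (f : X ⟶ Y) [QuasiCompact f] [LocallyOfFiniteType f]
    (g : Y ⟶ Z) [QuasiCompact g] {L : X.Modules} (hL : PicF.IsInvertible L) (hLva : RelProj.IsRelVeryAmple f L)
    {K : Y.Modules} (hK : PicF.IsInvertible K) (hKva : RelProj.IsRelVeryAmple g K) :
    ∃ N : ℕ, 0 < N ∧ ∀ n, N ≤ n → RelProj.IsRelVeryAmple (f ≫ g)
      (CohB1.tensorMod L ((Scheme.Modules.pullback f).obj (CohB1.tensorPow K n))) := by
  classical
  have hM : ∀ n, PicF.IsInvertible (CohB1.tensorMod L ((Scheme.Modules.pullback f).obj (CohB1.tensorPow K n))) :=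
    fun n => isInvertible_tensorMod hL (PicLoc.isInvertible_pullback f (isInvertible_tensorPow hK n))
  have key : ∀ V : Z.affineOpens, ∃ N : ℕ, ∀ n, N ≤ n → RelProj.IsRelVeryAmple ((f ≫ g) ∣_ V.1)
      ((CohB1.tensorMod L ((Scheme.Modules.pullback f).obj (CohB1.tensorPow K n))).restrict
        ((f ≫ g) ⁻¹ᵁ V.1).ι) := fun V => by
    let P := g ⁻¹ᵁ V.1
    have : IsAffine V.1.toScheme := V.2
    have : LocallyOfFiniteType (f ∣_ P) := IsZariskiLocalAtTarget.restrict ‹_› _
    have : QuasiCompact (f ∣_ P) := IsZariskiLocalAtTarget.restrict ‹_› _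
    have : QuasiCompact (g ∣_ V.1) := IsZariskiLocalAtTarget.restrict ‹_› _
    obtain ⟨N, hN⟩ := exists_isRelVeryAmple_comp_affine (f ∣_ P) (g ∣_ V.1) (PicLoc.isInvertible_pullback _ hL)
      (isRelVeryAmple_morphismRestrict hLva P) (PicLoc.isInvertible_pullback _ hK)
      (isRelVeryAmple_morphismRestrict hKva V.1)
    refine ⟨N, fun n hn => ?_⟩
    rw [morphismRestrict_comp]
    obtain ⟨e₁⟩ := exists_pullTensorIso (f ⁻¹ᵁ P).ι hL (PicLoc.isInvertible_pullback f (isInvertible_tensorPow hK n))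
    obtain ⟨e₂, -⟩ := exists_pullPowIso P.ι hK n
    refine isRelVeryAmple_of_iso (restrictIsoPullback _ _ ≪≫ e₁ ≪≫ AmpleLib.tensorIso (Iso.refl _) ?_) (hN n hn)
    exact (Scheme.Modules.pullbackComp (f ⁻¹ᵁ P).ι f).app _ ≪≫
      (Scheme.Modules.pullbackCongr (morphismRestrict_ι f P).symm).app _ ≪≫
      ((Scheme.Modules.pullbackComp (f ∣_ P) P.ι).app _).symm ≪≫ (Scheme.Modules.pullback (f ∣_ P)).mapIso e₂
  choose N hN using key
  obtain ⟨t, ht, hcov⟩ := isCompact_iff_finite_and_eq_biUnion_affineOpens.1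
    (show IsCompact ((⊤ : Z.Opens) : Set Z) from isCompact_univ)
  have : Fintype t := ht.fintype
  refine ⟨(Finset.univ.sup fun V : t => N V.1) + 1, Nat.succ_pos _, fun n hn => ?_⟩
  refine (isRelVeryAmple_iff_of_openCover (f ≫ g) _ (hM n) (fun V : t => V.1.1) ?_).2
    fun V => hN V.1 n (((Finset.le_sup (f := fun V : t => N V.1) (Finset.mem_univ V)).trans (Nat.le_succ _)).trans hn)
  refine eq_top_iff.2 fun y hy => ?_
  rw [hcov] at hy
  simp only [Opens.mem_iSup] at hy ⊢
  obtain ⟨V, hV, hy⟩ := hy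
  exact ⟨⟨V, hV⟩, hy⟩

end Groth.Agent.RelVALib
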