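import Groth.Agent.RelVALib.FTBundle
import Groth.Agent.RelVALib.OfPn

/-!
# Quasi-projective morphisms in bundles of modules of finite type
-/

set_option autoImplicit false
set_option linter.unusedSectionVars false
set_option linter.deprecated false
set_option backward.isDefEq.respectTransparency.types false
set_option maxHeartbeats 1000000

universe u

open AlgebraicGeometry CategoryTheory CategoryTheory.Limits TopologicalSpace Opposite
open Groth.Agent.Coherent Groth.Agent.PicLib Groth.Agent.AmpleLib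

namespace Groth.Agent.RelVALib

variable {X Y : Scheme.{u}}

theorem compactQS_of_hY (hY : (CompactSpace Y ∧ Y.IsSeparated) ∨ TopologicalSpace.NoetherianSpace Y) :
    (CompactSpace Y ∧ QuasiSeparatedSpace Y) ∨ TopologicalSpace.NoetherianSpace Y := by
  rcases hY with ⟨h, hs⟩ | h
  · exact Or.inl ⟨h, inferInstance⟩
  · exact Or.inr h

theorem compactSpace_of_hY (hY : (CompactSpace Y ∧ QuasiSeparatedSpace Y) ∨ TopologicalSpace.NoetherianSpace Y) :
    CompactSpace Y ∧ QuasiSeparatedSpace Y := by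
  rcases hY with h | h
  · exact h
  · exact ⟨inferInstance, ⟨fun U V _ _ _ _ => NoetherianSpace.isCompact _⟩⟩

/-- High twists by a relatively ample module are very ample over a quasi-compact base. -/
theorem exists_twist_isRelVeryAmple [CompactSpace Y] (f : X ⟶ Y) [LocallyOfFiniteType f] [QuasiCompact f]
    {L M : X.Modules} (hL : PicF.IsInvertible L) (hM : PicF.IsInvertible M) (h : RelAmple.IsRelAmple f L) :
    ∃ N : ℕ, ∀ n, N ≤ n → RelProj.IsRelVeryAmple f (CohB1.tensorMod (CohB1.tensorPow L n) M) := by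
  classical
  rw [AmpleLib.isRelAmple_iff] at h
  have hloc : ∀ V : Y.affineOpens, ∃ N : ℕ, ∀ n, N ≤ n →
      RelProj.IsRelVeryAmple (f ∣_ V.1) ((CohB1.tensorMod (CohB1.tensorPow L n) M).restrict (f ⁻¹ᵁ V.1).ι) := fun V => by
    have : LocallyOfFiniteType (f ∣_ V.1) := IsZariskiLocalAtTarget.restrict ‹_› _
    have : QuasiCompact (f ∣_ V.1) := IsZariskiLocalAtTarget.restrict ‹_› _
    have hM' := PicLoc.isInvertible_pullback (f ⁻¹ᵁ V.1).ι hM
    obtain ⟨N, hN⟩ := MorProj.eventually_isRelVeryAmplePn' (f ∣_ V.1) (h.2 V) hM'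
    refine ⟨N, fun n hn => ?_⟩
    obtain ⟨e, -⟩ := exists_pullPowIso (f ⁻¹ᵁ V.1).ι hL n
    have := isIso_restrictTensorHom (f ⁻¹ᵁ V.1).ι (CohB1.tensorPow L n) M hM
    exact isRelVeryAmple_of_iso ((asIso (restrictTensorHom (f ⁻¹ᵁ V.1).ι (CohB1.tensorPow L n) M)).symm ≪≫
        AmpleLib.tensorIso (restrictIsoPullback _ _ ≪≫ e) (restrictIsoPullback _ _))
      (isRelVeryAmple_of_isRelVeryAmplePn _ _
        (isInvertible_tensorMod (isInvertible_tensorPow (PicLoc.isInvertible_pullback _ hL) n) hM') (hN n hn))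
  choose N hN using hloc
  obtain ⟨t, ht, hcov⟩ := isCompact_iff_finite_and_eq_biUnion_affineOpens.1
    (show IsCompact ((⊤ : Y.Opens) : Set Y) from isCompact_univ)
  have : Fintype t := ht.fintype
  refine ⟨Finset.univ.sup fun V : t => N V.1, fun n hn => ?_⟩
  refine (isRelVeryAmple_iff_of_openCover f _ (isInvertible_tensorMod (isInvertible_tensorPow hL n) hM)
    (fun V : t => V.1.1) ?_).2
    fun V => hN V.1 n ((Finset.le_sup (f := fun V : t => N V.1) (Finset.mem_univ V)).trans hn)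
  refine eq_top_iff.2 fun y hy => ?_
  rw [hcov] at hy
  simp only [Opens.mem_iSup] at hy ⊢
  obtain ⟨V, hV, hy⟩ := hy
  exact ⟨⟨V, hV⟩, hy⟩

/-- High powers of a relatively ample module are very ample over a quasi-compact base. -/
theorem exists_pow_isRelVeryAmple [CompactSpace Y] (f : X ⟶ Y) [LocallyOfFiniteType f] [QuasiCompact f]
    {L : X.Modules} (hL : PicF.IsInvertible L) (h : RelAmple.IsRelAmple f L) :
    ∃ N : ℕ, ∀ n, N ≤ n → RelProj.IsRelVeryAmple f (CohB1.tensorPow L n) := by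
  obtain ⟨N, hN⟩ := exists_twist_isRelVeryAmple f hL (isInvertible_structureModule (X := X)) h
  exact ⟨N, fun n hn => isRelVeryAmple_of_iso (tensorComm _ _ ≪≫ unitTensorIso _).symm (hN n hn)⟩

/-- Quasi-projective morphisms embed into bundles of modules of finite type. -/
theorem exists_hasBundleImmersion_of_isQuasiProjective
    (hY : (CompactSpace Y ∧ QuasiSeparatedSpace Y) ∨ TopologicalSpace.NoetherianSpace Y) {f : X ⟶ Y}
    (hf : RelProj.IsQuasiProjective f) : ∃ M : X.Modules, HasBundleImmersion @IsImmersion f M := by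
  obtain ⟨h1, h2, L, hL⟩ := hf
  have := h1
  have := h2
  have := (compactSpace_of_hY hY).1
  obtain ⟨N, hN⟩ := exists_pow_isRelVeryAmple f (isInvertible_of_isRelAmple f hL) hL
  exact ⟨_, exists_hasBundleImmersion hY f _ (isInvertible_tensorPow (isInvertible_of_isRelAmple f hL) N) (hN N le_rfl)⟩

/-- A morphism of finite type embedded in a bundle of finite type is open and dense in a relative Proj. -/
theorem HasBundleImmersion.exists_dense_relProj [QuasiSeparatedSpace Y] {f : X ⟶ Y} [QuasiCompact f]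
    {L : X.Modules} (h : HasBundleImmersion @IsImmersion f L) :
    ∃ (𝒬 : RelProj.QCGrAlg Y) (Q : Scheme.{u}) (q : Q ⟶ Y)
      (chartQ : ∀ (U : Y.Opens) (hU : IsAffineOpen U), ((q ⁻¹ᵁ U : Q.Opens) : Scheme.{u}) ≅ Proj (𝒬.deg U hU))
      (OQ : Q.Modules)
      (lamQ : ∀ (U : Y.Opens) (hU : IsAffineOpen U),
        OQ ⟶ (Scheme.Modules.pushforward (RelProj.emb q chartQ U hU)).obj (GrTwist.twist (𝒬.deg U hU) 1))
      (i : X ⟶ Q),
      𝒬.IsGenDegOne ∧ 𝒬.IsFTDeg 1 ∧ RelProj.IsRelProj 𝒬 q chartQ ∧ RelProj.IsRelTwist 𝒬 q chartQ 1 OQ lamQ ∧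
        IsOpenImmersion i ∧ Dense (Set.range i.base) ∧ i ≫ q = f ∧
        Nonempty (L ≅ (Scheme.Modules.pullback i).obj OQ) := by
  obtain ⟨E, hft, 𝒮, j, P, p, chart, O1, lam, φ, i, D, hi, hip, ⟨eL⟩⟩ := h
  have := hi
  have : IsSeparated p := ProjLib.isSeparated_relProj D.hP
  have : QuasiCompact (i ≫ p) := by rw [hip]; infer_instance
  have : QuasiCompact i := QuasiCompact.of_comp i p
  obtain ⟨𝒬, Q, q, chartQ, OQ, lamQ, e, h1, h2, h3, h4, h5, ⟨θ⟩⟩ :=
    exists_relProj_of_closedImmersion D hft i.imageι (f := i.imageι ≫ p) rfl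
  refine ⟨𝒬, Q, q, chartQ, OQ, lamQ, i.toImage ≫ e.hom, h1, h2, h3, h4, inferInstance, ?_, ?_, ⟨?_⟩⟩
  · exact (i.toImage ≫ e.hom).denseRange
  · rw [Category.assoc, h5, ← Category.assoc, Scheme.Hom.toImage_imageι, hip]
  · exact eL ≪≫ (Scheme.Modules.pullbackCongr i.toImage_imageι.symm).app _ ≪≫
      ((Scheme.Modules.pullbackComp i.toImage i.imageι).app _).symm ≪≫
      (Scheme.Modules.pullback i.toImage).mapIso θ ≪≫ (Scheme.Modules.pullbackComp i.toImage e.hom).app _

end Groth.Agent.RelVALib
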