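import Mathlib.RingTheory.IntegralClosure.IntegrallyClosed
import Mathlib.RingTheory.Localization.AtPrime.Basic
import Mathlib.RingTheory.Localization.Away.Basic
import Mathlib.RingTheory.Noetherian.Basic

/-!
# Fractions integral over a domain at a normal prime
-/

set_option autoImplicit false

universe u

namespace Groth.Agent.RelVALib

/-- A fraction integral over a domain is a fraction with denominator outside a normal prime. -/
theorem exists_fraction_of_isIntegral {R S K : Type u} [CommRing R] [IsDomain R] [CommRing S] [Algebra R S]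
    (p : Ideal R) [p.IsPrime] [IsLocalization.AtPrime S p] [IsDomain S] [IsIntegrallyClosed S] [Field K]
    [Algebra R K] [IsFractionRing R K] {c : K} (hc : IsIntegral R c) :
    ∃ r t : R, t ∉ p ∧ algebraMap R K r = algebraMap R K t * c := by
  have hle : p.primeCompl ≤ nonZeroDivisors R := p.primeCompl_le_nonZeroDivisors
  let j : S →+* K := IsLocalization.lift (M := p.primeCompl) (g := algebraMap R K) fun y =>
    IsLocalization.map_units K (⟨y.1, hle y.2⟩ : nonZeroDivisors R)
  letI := j.toAlgebra
  have : IsScalarTower R S K := IsScalarTower.of_algebraMap_eq fun x => (IsLocalization.lift_eq _ x).symm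
  have : IsFractionRing S K := IsFractionRing.isFractionRing_of_isDomain_of_isLocalization p.primeCompl S K
  obtain ⟨s, hs⟩ := IsIntegrallyClosed.isIntegral_iff.1 (hc.tower_top (A := S))
  obtain ⟨⟨r, t⟩, hrt⟩ := IsLocalization.surj p.primeCompl s
  refine ⟨r, t.1, t.2, ?_⟩
  rw [← hs, IsScalarTower.algebraMap_apply R S K, IsScalarTower.algebraMap_apply R S K t.1, ← map_mul, mul_comm, hrt]

/-- In a Noetherian ring a prime with a domain as local ring has a basic neighbourhood with a domain. -/
theorem exists_isDomain_away {R S : Type u} [CommRing R] [IsNoetherianRing R] [CommRing S] [Algebra R S]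
    (p : Ideal R) [p.IsPrime] [IsLocalization.AtPrime S p] [IsDomain S] :
    ∃ t ∉ p, ∀ (T : Type u) [CommRing T] [Algebra R T] [IsLocalization.Away t T], IsDomain T := by
  classical
  obtain ⟨gens, hgens⟩ := (isNoetherianRing_iff_ideal_fg R).1 inferInstance (RingHom.ker (algebraMap R S))
  have hk : ∀ x ∈ gens, ∃ t : p.primeCompl, t.1 * x = 0 := fun x hx =>
    (IsLocalization.map_eq_zero_iff p.primeCompl S x).1 (RingHom.mem_ker.1 (hgens ▸ Ideal.subset_span hx))
  choose! tx htx using hk
  let t := ∏ x ∈ gens, (tx x).1
  have htp : t ∉ p := fun h => by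
    obtain ⟨x, -, hx⟩ := Ideal.IsPrime.prod_mem_iff.1 h
    exact (tx x).2 hx
  have hkill : ∀ x, algebraMap R S x = 0 → t * x = 0 := fun x hx => by
    have hx' : x ∈ Submodule.span R (gens : Set R) :=
      show x ∈ Ideal.span (gens : Set R) by rw [hgens]; exact hx
    have hle : Submodule.span R (gens : Set R) ≤ LinearMap.ker (LinearMap.mulLeft R t) :=
      Submodule.span_le.2 fun y hy => by
        show t * y = 0
        rw [show t = (∏ z ∈ gens.erase y, (tx z).1) * (tx y).1 from (Finset.prod_erase_mul _ _ hy).symm,
          mul_assoc, htx y hy, mul_zero]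
    exact hle hx'
  refine ⟨t, htp, fun T _ _ _ => ?_⟩
  have hu : IsUnit (algebraMap R S t) := IsLocalization.map_units S (⟨t, htp⟩ : p.primeCompl)
  refine Function.Injective.isDomain (IsLocalization.Away.lift (S := T) t hu) ?_
  rw [injective_iff_map_eq_zero]
  intro y hy
  obtain ⟨x, ⟨_, k, rfl⟩, rfl⟩ := IsLocalization.exists_mk'_eq (Submonoid.powers t) y
  rw [IsLocalization.Away.lift, IsLocalization.lift_mk'_spec, mul_zero] at hy
  rw [IsLocalization.mk'_eq_zero_iff]
  exact ⟨⟨t, Submonoid.mem_powers t⟩, hkill x hy⟩

end Groth.Agent.RelVALib
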