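import Groth.Agent.RelVALib.Projective
import Groth.Agent.Coherent.SubFTApps
import Groth.Agent.MorProj.VeryAmple

/-!
# Very ample modules of morphisms of finite type: bundles of modules of finite type
-/

set_option autoImplicit false
set_option linter.unusedSectionVars false
set_option linter.deprecated false
set_option backward.isDefEq.respectTransparency.types false
set_option maxHeartbeats 1000000

universe u

open AlgebraicGeometry CategoryTheory CategoryTheory.Limits TopologicalSpace Opposite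
open HomogeneousLocalization
open Groth.Agent.Coherent Groth.Agent.PicLib Groth.Agent.AmpleLib Groth.Agent.AssSch12

namespace Groth.Agent.RelVALib

variable {X Y P P₂ : Scheme.{u}}

/-- `A_(f)`, `f` of degree one, is generated by the `a/1` and the `a/f`. -/
theorem away_closure_eq_top {A σ : Type u} [CommRing A] [SetLike σ A] [AddSubgroupClass σ A] {𝒜 : ℕ → σ}
    [GradedRing 𝒜] (hgen : Algebra.adjoin (𝒜 0) (𝒜 1 : Set A) = ⊤) {f : A} (hf : f ∈ 𝒜 1)
    (R : Subring (Away 𝒜 f)) (e0 : ∀ (a : A) (ha : a ∈ 𝒜 (0 • 1)), Away.mk 𝒜 hf 0 a ha ∈ R)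
    (e1 : ∀ (a : A) (ha : a ∈ 𝒜 (1 • 1)), Away.mk 𝒜 hf 1 a ha ∈ R) : R = ⊤ := by
  refine eq_top_iff.2 fun q _ => ?_
  obtain ⟨n, a, ha, rfl⟩ := Away.mk_surjective 𝒜 hf q
  suffices key : ∀ {n : ℕ} {a : A}, a ∈ 𝒜 n → ∀ ha, Away.mk 𝒜 hf n a ha ∈ R from key (by simpa using ha) ha
  intro n a ha
  refine UPLib.deg_induction hgen (P := fun n a => ∀ ha, Away.mk 𝒜 hf n a ha ∈ R) (fun a _ ha => e0 a ha) ?_ ?_ ?_ ha
  · intro n a b ha hb ih hab
    have e : Away.mk 𝒜 hf (n + 1) (a * b) hab =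
        Away.mk 𝒜 hf n a (by simpa using ha) * Away.mk 𝒜 hf 1 b (by simpa using hb) := by
      refine HomogeneousLocalization.val_injective _ ?_
      rw [HomogeneousLocalization.val_mul, Away.val_mk, Away.val_mk, Away.val_mk, Localization.mk_mul]
      exact Localization.mk_eq_mk_iff.2 (Localization.r_iff_exists.2 ⟨1, by
        simp only [Submonoid.coe_mul, Submonoid.coe_one]; ring⟩)
    rw [e]
    exact mul_mem (ih _) (e1 _ _)
  · intro n h0
    have e : Away.mk 𝒜 hf n (0 : A) h0 = 0 := by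
      refine HomogeneousLocalization.val_injective _ ?_
      rw [Away.val_mk, HomogeneousLocalization.val_zero, Localization.mk_zero]
    rw [e]
    exact zero_mem R
  · intro n a b ha hb iha ihb hab
    have e : Away.mk 𝒜 hf n (a + b) hab =
        Away.mk 𝒜 hf n a (by simpa using ha) + Away.mk 𝒜 hf n b (by simpa using hb) := by
      refine HomogeneousLocalization.val_injective _ ?_
      rw [Away.val_mk, HomogeneousLocalization.val_add, Away.val_mk, Away.val_mk, Localization.add_mk_self]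
    rw [e]
    exact add_mem (iha _) (ihb _)

section coords

variable {E : Y.Modules} {𝒮 : RelProj.QCGrAlg Y} {j : E ⟶ 𝒮.toModule} {p : P ⟶ Y}
  {chart : ∀ (U : Y.Opens) (hU : IsAffineOpen U), ((p ⁻¹ᵁ U : P.Opens) : Scheme.{u}) ≅ Proj (𝒮.deg U hU)}
  {O1 : P.Modules}
  {lam : ∀ (U : Y.Opens) (hU : IsAffineOpen U),
    O1 ⟶ (Scheme.Modules.pushforward (RelProj.emb p chart U hU)).obj (GrTwist.twist (𝒮.deg U hU) 1)}
  {φ : E ⟶ (Scheme.Modules.pushforward p).obj O1}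

/-- Functions on a basic piece involve finitely many coordinates. -/
theorem exists_finite_coords (D : PBundle E 𝒮 j p chart O1 lam φ) {U : Y.Opens} (hU : IsAffineOpen U)
    (e : Γ(E, U)) (c : Γ(P, opn j p chart hU e)) :
    ∃ S : Set Γ(E, U), S.Finite ∧ c ∈ Subring.closure (Set.range (p.appLE U _ (D.opn_le hU e)) ∪
      {d | ∃ e' ∈ S, d • resM O1 (D.opn_le hU e) (φ.app U e) = resM O1 (D.opn_le hU e) (φ.app U e')}) := by
  have := D.hE
  let T : Set Γ(E, U) → Subring Γ(P, opn j p chart hU e) := fun S =>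
    Subring.closure (Set.range (p.appLE U _ (D.opn_le hU e)) ∪
      {d | ∃ e' ∈ S, d • resM O1 (D.opn_le hU e) (φ.app U e) = resM O1 (D.opn_le hU e) (φ.app U e')})
  have hmono : ∀ {S S' : Set Γ(E, U)}, S ⊆ S' → T S ≤ T S' := fun {S S'} h =>
    Subring.closure_mono (Set.union_subset_union_right _ fun d ⟨e', he', h'⟩ => ⟨e', h he', h'⟩)
  let R : Subring Γ(P, opn j p chart hU e) :=
    { carrier := {c | ∃ S, S.Finite ∧ c ∈ T S}
      zero_mem' := ⟨∅, Set.finite_empty, zero_mem _⟩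
      one_mem' := ⟨∅, Set.finite_empty, one_mem _⟩
      neg_mem' := fun ⟨S, hS, h⟩ => ⟨S, hS, neg_mem h⟩
      add_mem' := fun ⟨S, hS, h⟩ ⟨S', hS', h'⟩ => ⟨S ∪ S', hS.union hS',
        add_mem (hmono Set.subset_union_left h) (hmono Set.subset_union_right h')⟩
      mul_mem' := fun ⟨S, hS, h⟩ ⟨S', hS', h'⟩ => ⟨S ∪ S', hS.union hS',
        mul_mem (hmono Set.subset_union_left h) (hmono Set.subset_union_right h')⟩ }
  have key : R.comap (PBundle.theta (p := p) (chart := chart) D.hj hU e) = ⊤ := by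
    refine away_closure_eq_top (adjoin_degOne_eq_top D.hgen hU) (D.gen1_mem hU e) _ (fun a ha => ?_) fun a ha => ?_
    · obtain ⟨r, rfl⟩ := (SymAlgLib.deg_zero_one D.hj hU a).1 (by simpa using ha)
      exact ⟨∅, Set.finite_empty, Subring.subset_closure (Or.inl ⟨r, (D.theta_zero hU e r ha).symm⟩)⟩
    · obtain ⟨e', rfl⟩ := (SymAlgLib.deg_zero_one D.hj hU a).2 (by simpa using ha)
      exact ⟨{e'}, Set.finite_singleton _, Subring.subset_closure (Or.inr ⟨e', rfl, D.theta_one hU e e' ha⟩)⟩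
  obtain ⟨q, rfl⟩ := (D.theta_bijective hU e).2 c
  exact key.ge (Subring.mem_top q)

variable {E₂ : Y.Modules} {𝒮₂ : RelProj.QCGrAlg Y} {j₂ : E₂ ⟶ 𝒮₂.toModule} {p₂ : P₂ ⟶ Y}
  {chart₂ : ∀ (U : Y.Opens) (hU : IsAffineOpen U), ((p₂ ⁻¹ᵁ U : P₂.Opens) : Scheme.{u}) ≅ Proj (𝒮₂.deg U hU)}
  {O₂ : P₂.Modules}
  {lam₂ : ∀ (U : Y.Opens) (hU : IsAffineOpen U),
    O₂ ⟶ (Scheme.Modules.pushforward (RelProj.emb p₂ chart₂ U hU)).obj (GrTwist.twist (𝒮₂.deg U hU) 1)}
  {φ₂ : E₂ ⟶ (Scheme.Modules.pushforward p₂).obj O₂}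
  {q : X ⟶ Y} {L : X.Modules} {t : E ⟶ (Scheme.Modules.pushforward q).obj L}
  {r : X ⟶ P} {hr : r ≫ p = q} {τ : (Scheme.Modules.pullback r).obj O1 ≅ L}

/-- The pullbacks of coordinates are coordinates of the classified sections. -/
theorem appLE_smul_classified (D : PBundle E 𝒮 j p chart O1 lam φ) (hτ : Classifies φ q t r hr τ) {U : Y.Opens}
    (hU : IsAffineOpen U) {e e' : Γ(E, U)} {d : Γ(P, opn j p chart hU e)}
    (hd : d • resM O1 (D.opn_le hU e) (φ.app U e) = resM O1 (D.opn_le hU e) (φ.app U e'))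
    {W : X.Opens} (hW : W ≤ r ⁻¹ᵁ opn j p chart hU e) (hW' : W ≤ q ⁻¹ᵁ U) :
    r.appLE (opn j p chart hU e) W hW d • resM L hW' (t.app U e) = resM L hW' (t.app U e') := by
  have h0 : ∀ a : Γ(E, U), resM L hW' (t.app U a) = resM L hW (τ.hom.app (r ⁻¹ᵁ opn j p chart hU e)
      (pullSec r (resM O1 (D.opn_le hU e) (φ.app U a)))) := fun a => by
    rw [← resM_pullSec, app_resM, hτ U hU a]
    erw [resM_resM, resM_resM]
  rw [h0, h0, ← hd, pullSec_smul, Scheme.Modules.Hom.app_smul, resM_smul]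
  rfl

/-- A classified immersion stays an immersion for a smaller bundle with the required sections, at a piece. -/
theorem isImmersion_piece (D : PBundle E 𝒮 j p chart O1 lam φ) (D₂ : PBundle E₂ 𝒮₂ j₂ p₂ chart₂ O₂ lam₂ φ₂)
    (hτ : Classifies φ q t r hr τ) {s : E₂ ⟶ E} {r₂ : X ⟶ P₂} {hr₂ : r₂ ≫ p₂ = q}
    {τ₂ : (Scheme.Modules.pullback r₂).obj O₂ ≅ L} (hτ₂ : Classifies φ₂ q (s ≫ t) r₂ hr₂ τ₂)
    {U : Y.Opens} (hU : IsAffineOpen U) (e : Γ(E, U)) (e₂ : Γ(E₂, U)) (he : s.app U e₂ = e)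
    {S : Set Γ(E, U)} (hS : ∀ e' ∈ S, e' ∈ Set.range (s.app U))
    {c : Γ(P, opn j p chart hU e)}
    (hc : c ∈ Subring.closure (Set.range (p.appLE U _ (D.opn_le hU e)) ∪
      {d | ∃ e' ∈ S, d • resM O1 (D.opn_le hU e) (φ.app U e) = resM O1 (D.opn_le hU e) (φ.app U e')}))
    {ν : ℕ} {f : Fin ν → Γ(X, r ⁻¹ᵁ P.basicOpen c)} (hle : r ⁻¹ᵁ P.basicOpen c ≤ q ⁻¹ᵁ U)
    (hf : Subring.closure (Set.range (q.appLE U (r ⁻¹ᵁ P.basicOpen c) hle) ∪ Set.range f) = ⊤)
    (hz : ∀ i, ∃ (n : ℕ) (z : Γ(P, opn j p chart hU e)),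
      z ∈ Subring.closure (Set.range (p.appLE U _ (D.opn_le hU e)) ∪
        {d | ∃ e' ∈ S, d • resM O1 (D.opn_le hU e) (φ.app U e) = resM O1 (D.opn_le hU e) (φ.app U e')}) ∧
      f i * r.appLE _ _ (r.preimage_mono (P.basicOpen_le c)) c ^ n =
        r.appLE _ _ (r.preimage_mono (P.basicOpen_le c)) z) :
    ∃ V : P₂.Opens, IsAffineOpen V ∧ r₂ ⁻¹ᵁ V = r ⁻¹ᵁ P.basicOpen c ∧ Function.Surjective (r₂.app V) := by
  let O := opn j p chart hU e
  let O' := opn j₂ p₂ chart₂ hU e₂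
  have hst : ∀ a : Γ(E₂, U), (s ≫ t).app U a = t.app U (s.app U a) := fun _ => rfl
  have hle₂ : r₂ ⁻¹ᵁ O' ≤ r ⁻¹ᵁ O := by
    refine (range_le_iff r _).1 (good_of_classifies D hτ hU e
      ((r₂.preimage_mono (D₂.opn_le hU e₂)).trans (le_of_over hr₂ U)) ?_).range
    rw [← he, ← hst]
    exact isGen_classified D₂ hτ₂ hU e₂ _
  have hge : r ⁻¹ᵁ O ≤ r₂ ⁻¹ᵁ O' := by
    refine (range_le_iff r₂ _).1 (good_of_classifies D₂ hτ₂ hU e₂
      ((r.preimage_mono (D.opn_le hU e)).trans (le_of_over hr U)) ?_).range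
    rw [hst, he]
    exact isGen_classified D hτ hU e _
  let W₀ := r ⁻¹ᵁ O
  let F : Γ(P, O) →+* Γ(X, W₀) := (r.appLE O W₀ le_rfl).hom
  let F₂ : Γ(P₂, O') →+* Γ(X, W₀) := (r₂.appLE O' W₀ hge).hom
  have hW₀ : W₀ ≤ q ⁻¹ᵁ U := (r.preimage_mono (D.opn_le hU e)).trans (le_of_over hr U)
  have hbase : ∀ a : Γ(Y, U), F (p.appLE U O (D.opn_le hU e) a) = q.appLE U W₀ hW₀ a := fun a => by
    show (p.appLE U O _ ≫ r.appLE O W₀ le_rfl) a = _
    rw [Scheme.Hom.appLE_comp_appLE]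
    simp only [hr]
  have hbase₂ : ∀ a : Γ(Y, U), F₂ (p₂.appLE U O' (D₂.opn_le hU e₂) a) = q.appLE U W₀ hW₀ a := fun a => by
    show (p₂.appLE U O' _ ≫ r₂.appLE O' W₀ hge) a = _
    rw [Scheme.Hom.appLE_comp_appLE]
    simp only [hr₂]
  have key : (Subring.closure (Set.range (p.appLE U O (D.opn_le hU e)) ∪
      {d | ∃ e' ∈ S, d • resM O1 (D.opn_le hU e) (φ.app U e) = resM O1 (D.opn_le hU e) (φ.app U e')})).map F ≤
      F₂.range := by
    rw [Subring.map_le_iff_le_comap, Subring.closure_le]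
    rintro d (⟨a, rfl⟩ | ⟨e', he', hd⟩)
    · exact ⟨_, (hbase₂ a).trans (hbase a).symm⟩
    · obtain ⟨e₂', he₂'⟩ := hS e' he'
      obtain ⟨d₂, hd₂⟩ := (D₂.isGen_phi hU e₂ _ le_rfl).2 (resM O₂ (D₂.opn_le hU e₂) (φ₂.app U e₂'))
      change d₂ • resM O₂ le_rfl _ = _ at hd₂
      rw [resM_self] at hd₂
      refine ⟨d₂, ?_⟩
      refine ((isGen_classified D hτ hU e hW₀) W₀ le_rfl).1 ?_
      show r₂.appLE O' W₀ hge d₂ • resM L le_rfl _ = r.appLE O W₀ le_rfl d • resM L le_rfl _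
      rw [resM_self, appLE_smul_classified D hτ hU hd le_rfl hW₀]
      have h2 := appLE_smul_classified D₂ hτ₂ hU hd₂ hge hW₀
      rw [hst, hst, he, he₂'] at h2
      exact h2
  obtain ⟨c₂, hc₂⟩ := key (Subring.mem_map.2 ⟨c, hc, rfl⟩)
  have hpre : r₂ ⁻¹ᵁ P₂.basicOpen c₂ = r ⁻¹ᵁ P.basicOpen c := by
    have h1 : X.basicOpen (F₂ c₂) = W₀ ⊓ r₂ ⁻¹ᵁ P₂.basicOpen c₂ := by
      show X.basicOpen (r₂.appLE O' W₀ hge c₂) = _
      rw [Scheme.Hom.appLE, CommRingCat.comp_apply, Scheme.basicOpen_res, ← Scheme.preimage_basicOpen]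
    have h2 : X.basicOpen (F c) = W₀ ⊓ r ⁻¹ᵁ P.basicOpen c := by
      show X.basicOpen (r.appLE O W₀ le_rfl c) = _
      rw [Scheme.Hom.appLE, CommRingCat.comp_apply, Scheme.basicOpen_res, ← Scheme.preimage_basicOpen]
    rw [inf_eq_right.2 ((r₂.preimage_mono (P₂.basicOpen_le c₂)).trans hle₂)] at h1
    rw [inf_eq_right.2 (r.preimage_mono (P.basicOpen_le c))] at h2
    rw [← h1, hc₂, h2]
  refine ⟨P₂.basicOpen c₂, (D₂.isAffineOpen_opn hU e₂).basicOpen c₂, hpre, ?_⟩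
  let W := r ⁻¹ᵁ P.basicOpen c
  have hW : W ≤ W₀ := r.preimage_mono (P.basicOpen_le c)
  let G : Γ(P₂, P₂.basicOpen c₂) →+* Γ(X, W) := (r₂.appLE (P₂.basicOpen c₂) W hpre.ge).hom
  suffices hG : (⊤ : Subring Γ(X, W)) ≤ G.range by
    have : ∀ (W' : X.Opens), W' = W → ∀ (h : W' ≤ r₂ ⁻¹ᵁ P₂.basicOpen c₂),
        Function.Surjective (r₂.appLE (P₂.basicOpen c₂) W' h) := by
      rintro W' rfl h x
      exact hG (Subring.mem_top x)
    have h' := this _ hpre le_rfl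
    intro x
    obtain ⟨y, hy⟩ := h' x
    exact ⟨y, by rw [← hy, Scheme.Hom.app_eq_appLE]⟩
  have hF : ∀ d, r.appLE O W hW d = res hW (F d) := fun d =>
    (ConcreteCategory.congr_hom (r.appLE_map le_rfl (homOfLE hW).op) d).symm
  have hF₂ : ∀ d, res hW (F₂ d) = G (res (P₂.basicOpen_le c₂) d) := fun d => by
    show (r₂.appLE O' W₀ hge ≫ X.presheaf.map (homOfLE hW).op) d =
      (P₂.presheaf.map (homOfLE (P₂.basicOpen_le c₂)).op ≫ r₂.appLE (P₂.basicOpen c₂) W hpre.ge) d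
    rw [Scheme.Hom.appLE_map, Scheme.Hom.map_appLE]
  have hmem : ∀ d ∈ Subring.closure (Set.range (p.appLE U O (D.opn_le hU e)) ∪
      {d | ∃ e' ∈ S, d • resM O1 (D.opn_le hU e) (φ.app U e) = resM O1 (D.opn_le hU e) (φ.app U e')}),
      r.appLE O W hW d ∈ G.range := fun d hd => by
    obtain ⟨d₂, h⟩ := key (Subring.mem_map.2 ⟨d, hd, rfl⟩)
    exact ⟨res (P₂.basicOpen_le c₂) d₂, by rw [hF, ← h, hF₂]⟩
  have hu : r.appLE O W hW c = G (res (P₂.basicOpen_le c₂) c₂) := by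
    rw [hF, ← hc₂, hF₂]
  rw [← hf, Subring.closure_le]
  rintro x (⟨a, rfl⟩ | ⟨i, rfl⟩)
  · refine hmem _ (Subring.subset_closure (Or.inl ⟨a, rfl⟩)) |> fun h => ?_
    have h' : (p.appLE U O (D.opn_le hU e) ≫ r.appLE O W hW) a ∈ G.range := h
    rw [Scheme.Hom.appLE_comp_appLE] at h'
    simp only [hr] at h'
    exact h'
  · obtain ⟨n, z, hzmem, hzeq⟩ := hz i
    obtain ⟨w, hw⟩ := hmem z hzmem
    have hunit : IsUnit (res (P₂.basicOpen_le c₂) c₂) := RingedSpace.isUnit_res_basicOpen _ c₂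
    obtain ⟨b, hb⟩ := hunit.exists_right_inv
    refine ⟨w * b ^ n, ?_⟩
    rw [map_mul, map_pow, hw]
    show r.appLE O W hW z * G b ^ n = f i
    rw [← hzeq]
    show f i * r.appLE O W hW c ^ n * G b ^ n = f i
    rw [hu, mul_assoc, ← mul_pow, ← map_mul, hb, map_one, one_pow, mul_one]

end coords

/-- An immersion is closed near each point: affine pieces with surjective functions. -/
theorem surjective_app_of_le_coborderRange (r : X ⟶ P) [IsImmersion r] {V : P.Opens} (hV : IsAffineOpen V)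
    (hle : V ≤ r.coborderRange) : IsAffineOpen (r ⁻¹ᵁ V) ∧ Function.Surjective (r.app V) := by
  let V' : r.coborderRange.toScheme.Opens := r.coborderRange.ι ⁻¹ᵁ V
  have hVle : V ≤ r.coborderRange.ι.opensRange := (Scheme.Opens.opensRange_ι _).symm ▸ hle
  have hV' : IsAffineOpen V' := hV.preimage_of_isOpenImmersion _ hVle
  have hVV : r.coborderRange.ι ''ᵁ V' = V := by
    rw [Scheme.Hom.image_preimage_eq_opensRange_inf, inf_eq_right.2 hVle]
  have haff := hV'.preimage r.liftCoborder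
  rw [Scheme.Hom.liftCoborder_preimage, hVV] at haff
  refine ⟨haff, ?_⟩
  have hs := ((isClosedImmersion_iff_isAffineHom.mp (inferInstance : IsClosedImmersion r.liftCoborder)).2 V' hV')
  rw [liftCoborder_app] at hs
  have hs' : Function.Surjective (r.app (r.coborderRange.ι ''ᵁ V')) := by
    intro x
    obtain ⟨y, hy⟩ := hs (X.presheaf.map (eqToHom <| r.liftCoborder_preimage V').op x)
    exact ⟨y, (ConcreteCategory.bijective_of_isIso (X.presheaf.map (eqToHom <| r.liftCoborder_preimage V').op)).1 hy⟩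
  rwa [hVV] at hs'

/-- Over a quasi-compact separated or noetherian base a very ample module of a morphism of finite type
embeds into the bundle of a module of finite type. -/
theorem exists_hasBundleImmersion (hY : (CompactSpace Y ∧ QuasiSeparatedSpace Y) ∨ TopologicalSpace.NoetherianSpace Y)
    (q : X ⟶ Y) [QuasiCompact q] [LocallyOfFiniteType q] (L : X.Modules) (hL : PicF.IsInvertible L)
    (hva : RelProj.IsRelVeryAmple q L) : HasBundleImmersion @IsImmersion q L := by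
  classical
  obtain ⟨hF, 𝒮, j, P, p, chart, O1, lam, φ, r, hr, τ, D, hrimm, hτ⟩ := exists_canonical_immersion q L hL hva
  let F := (Scheme.Modules.pushforward q).obj L
  have := hrimm
  have : CompactSpace Y := by
    rcases hY with ⟨h, -⟩ | h
    · exact h
    · exact inferInstance
  have : CompactSpace X := QuasiCompact.compactSpace_of_compactSpace q
  have key : ∀ x : X, ∃ (U : Y.Opens) (hU : IsAffineOpen U) (e : Γ(F, U)) (S : Set Γ(F, U))
      (c : Γ(P, opn j p chart hU e)) (ν : ℕ) (f : Fin ν → Γ(X, r ⁻¹ᵁ P.basicOpen c))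
      (hle : r ⁻¹ᵁ P.basicOpen c ≤ q ⁻¹ᵁ U),
      x ∈ r ⁻¹ᵁ P.basicOpen c ∧ IsAffineOpen (r ⁻¹ᵁ P.basicOpen c) ∧ S.Finite ∧
      c ∈ Subring.closure (Set.range (p.appLE U _ (D.opn_le hU e)) ∪
        {d | ∃ e' ∈ S, d • resM O1 (D.opn_le hU e) (φ.app U e) = resM O1 (D.opn_le hU e) (φ.app U e')}) ∧
      Subring.closure (Set.range (q.appLE U (r ⁻¹ᵁ P.basicOpen c) hle) ∪ Set.range f) = ⊤ ∧
      ∀ i, ∃ (n : ℕ) (z : Γ(P, opn j p chart hU e)),
        z ∈ Subring.closure (Set.range (p.appLE U _ (D.opn_le hU e)) ∪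
          {d | ∃ e' ∈ S, d • resM O1 (D.opn_le hU e) (φ.app U e) = resM O1 (D.opn_le hU e) (φ.app U e')}) ∧
        f i * r.appLE _ _ (r.preimage_mono (P.basicOpen_le c)) c ^ n =
          r.appLE _ _ (r.preimage_mono (P.basicOpen_le c)) z := by
    intro x
    obtain ⟨U, hU, hxU, -⟩ := Opens.isBasis_iff_nbhd.1 Y.isBasis_affineOpens (show q x ∈ (⊤ : Y.Opens) from trivial)
    have hxP : r x ∈ p ⁻¹ᵁ U := ge_of_over hr U hxU
    obtain ⟨e, he⟩ := D.exists_mem_opn hU hxP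
    obtain ⟨c, hcB, hxc⟩ := (D.isAffineOpen_opn hU e).exists_basicOpen_le
      (V := opn j p chart hU e ⊓ r.coborderRange) ⟨r x, he, subset_coborder ⟨x, rfl⟩⟩ he
    obtain ⟨hWaff, hsurj⟩ := surjective_app_of_le_coborderRange r ((D.isAffineOpen_opn hU e).basicOpen c)
      (hcB.trans inf_le_right)
    let O := opn j p chart hU e
    let W := r ⁻¹ᵁ P.basicOpen c
    have hle : W ≤ q ⁻¹ᵁ U :=
      (r.preimage_mono ((P.basicOpen_le c).trans (D.opn_le hU e))).trans (le_of_over hr U)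
    obtain ⟨ν, f, hf⟩ := MorProj.exists_ring_gens' q hWaff hU hle
    have hz : ∀ i, ∃ (n : ℕ) (z : Γ(P, O)),
        f i * r.appLE O W (r.preimage_mono (P.basicOpen_le c)) c ^ n =
          r.appLE O W (r.preimage_mono (P.basicOpen_le c)) z := fun i => by
      obtain ⟨y, hy⟩ := hsurj (f i)
      have := (D.isAffineOpen_opn hU e).isLocalization_basicOpen c
      obtain ⟨⟨z, ⟨_, n, rfl⟩⟩, hn⟩ := IsLocalization.surj (M := Submonoid.powers c) (R := Γ(P, O))
        (S := Γ(P, P.basicOpen c)) y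
      refine ⟨n, z, ?_⟩
      have hmap : ∀ d : Γ(P, O), r.appLE O W (r.preimage_mono (P.basicOpen_le c)) d =
          r.app (P.basicOpen c) (algebraMap Γ(P, O) Γ(P, P.basicOpen c) d) := fun d => by
        rw [Scheme.Hom.app_eq_appLE]
        exact ConcreteCategory.congr_hom (r.map_appLE le_rfl (homOfLE (P.basicOpen_le c)).op).symm d
      rw [hmap, hmap, ← hy, ← map_pow, ← map_mul]
      refine congrArg _ ?_
      rw [← map_pow]
      exact hn
    choose n z hz using hz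
    choose S₀ hS₀ hcS₀ using fun d : Γ(P, O) => exists_finite_coords D hU e d
    let S := S₀ c ∪ ⋃ i, S₀ (z i)
    have hmono : ∀ d : Γ(P, O), S₀ d ⊆ S → d ∈ Subring.closure (Set.range (p.appLE U _ (D.opn_le hU e)) ∪
        {d | ∃ e' ∈ S, d • resM O1 (D.opn_le hU e) (φ.app U e) = resM O1 (D.opn_le hU e) (φ.app U e')}) :=
      fun d h => Subring.closure_mono
        (Set.union_subset_union_right _ (by rintro d' ⟨e', he', h'⟩; exact ⟨e', h he', h'⟩)) (hcS₀ d)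
    exact ⟨U, hU, e, S, c, ν, f, hle, hxc, hWaff, (hS₀ c).union (Set.finite_iUnion fun i => hS₀ (z i)),
      hmono c Set.subset_union_left, hf, fun i => ⟨n i, z i,
        hmono (z i) ((Set.subset_iUnion (fun i => S₀ (z i)) i).trans Set.subset_union_right), hz i⟩⟩
  choose U hU e S c ν f hle hxW hWaff hS hc hf hz using key
  obtain ⟨T, hT⟩ := isCompact_univ.elim_finite_subcover (fun x : X => (r ⁻¹ᵁ P.basicOpen (c x) : Set X))
    (fun x => (r ⁻¹ᵁ P.basicOpen (c x)).2) fun x _ => Set.mem_iUnion.2 ⟨x, hxW x⟩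
  have := hF
  have hext : ∀ x : T, ∃ Q : SubM F, Q.Good ⊤ ∧
      ∀ e' ∈ insert (e x.1) (S x.1), e' ∈ Q.carrier (U x.1) := fun x => by
    have := ((hS x.1).insert (e x.1)).to_subtype
    obtain ⟨Q, hQ, hQmem⟩ : ∃ Q : SubM F, Q.Good ⊤ ∧
        ∀ i : ↥(insert (e x.1) (S x.1)), i.1 ∈ Q.carrier (U x.1) := by
      rcases hY with ⟨-, hsep⟩ | hnoe
      · exact exists_good_containing_qcqs (hU x.1).isCompact fun i : ↥(insert (e x.1) (S x.1)) => i.1
      · exact exists_good_containing_locallyNoetherian (fun y => ⟨⊤, trivial, inferInstance⟩)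
          fun i : ↥(insert (e x.1) (S x.1)) => i.1
    exact ⟨Q, hQ, fun e' he' => hQmem ⟨e', he'⟩⟩
  choose Q hQ hQmem using hext
  let G := SubM.sum Q
  have hG : G.Good ⊤ := SubM.good_sum Q hQ
  have hmem : ∀ (x : T) (e' : Γ(F, U x.1)), e' ∈ insert (e x.1) (S x.1) → e' ∈ Set.range (G.toι.app (U x.1)) :=
    fun x e' he' => G.mem_range_toι.2 (SubM.le_sum Q x _ (hQmem x e' he'))
  have hGq : Coh.IsQCoh G.toMod := SubM.isQCoh hG
  obtain ⟨𝒯, jT, P₂, p₂, chart₂, O₂, lam₂, φ₂, D₂⟩ := exists_bundle G.toMod hGq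
  have hcover : ∀ x : X, ∃ k : T, x ∈ r ⁻¹ᵁ P.basicOpen (c k.1) := fun x => by
    obtain ⟨k, hk, hxk⟩ := Set.mem_iUnion₂.1 (hT (Set.mem_univ x))
    exact ⟨⟨k, hk⟩, hxk⟩
  obtain ⟨r₂, hr₂, τ₂, hτ₂⟩ := exists_classifies D₂ (g := q) (L := L) (t := G.toι ≫ 𝟙 _) fun x => by
    obtain ⟨k, hk⟩ := hcover x
    obtain ⟨e₂, he₂⟩ := hmem k (e k.1) (Set.mem_insert _ _)
    refine ⟨U k.1, hU k.1, e₂, r ⁻¹ᵁ opn j p chart (hU k.1) (e k.1),
      (r.preimage_mono (D.opn_le _ _)).trans (le_of_over hr _), r.preimage_mono (P.basicOpen_le _) hk, ?_⟩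
    have h := isGen_classified D hτ (hU k.1) (e k.1) ((r.preimage_mono (D.opn_le _ _)).trans (le_of_over hr _))
    show IsGen L _ (resM L _ (G.toι.app (U k.1) e₂))
    rw [he₂]
    exact h
  have hp : ∀ k : T, ∃ V : P₂.Opens, IsAffineOpen V ∧ r₂ ⁻¹ᵁ V = r ⁻¹ᵁ P.basicOpen (c k.1) ∧
      Function.Surjective (r₂.app V) := fun k => by
    obtain ⟨e₂, he₂⟩ := hmem k (e k.1) (Set.mem_insert _ _)
    exact isImmersion_piece D D₂ hτ hτ₂ (hU k.1) (e k.1) e₂ he₂
      (fun e' he' => hmem k e' (Set.mem_insert_of_mem _ he')) (hc k.1) (hle k.1) (hf k.1) (hz k.1)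
  choose V hV hpre hsur using hp
  have himm : IsImmersion r₂ := PnEmb.isImmersion_of_charts r₂ V hV (fun k => hpre k ▸ hWaff k.1) hsur fun x => by
    obtain ⟨k, hk⟩ := hcover x
    exact ⟨k, (hpre k).ge hk⟩
  exact ⟨G.toMod, SubM.isFT hG, 𝒯, jT, P₂, p₂, chart₂, O₂, lam₂, φ₂, r₂, D₂, himm, hr₂, ⟨τ₂.symm⟩⟩

end Groth.Agent.RelVALib
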