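import Groth.Agent.RelVALib.UPProp
import Groth.Agent.ProjLib.RelProjExist

/-!
# First applications of the universal property
-/

set_option autoImplicit false
set_option linter.unusedSectionVars false
set_option backward.isDefEq.respectTransparency.types false
set_option maxHeartbeats 1000000

universe u

open AlgebraicGeometry CategoryTheory TopologicalSpace Opposite
open Groth.Agent.Coherent Groth.Agent.PicLib Groth.Agent.AmpleLib

namespace Groth.Agent.RelVALib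

variable {Y : Scheme.{u}}

/-- A projective bundle with all its data exists. -/
theorem exists_bundle (E : Y.Modules) (hE : Coh.IsQCoh E) :
    ∃ (𝒮 : RelProj.QCGrAlg Y) (j : E ⟶ 𝒮.toModule) (P : Scheme.{u}) (p : P ⟶ Y)
      (chart : ∀ (U : Y.Opens) (hU : IsAffineOpen U), ((p ⁻¹ᵁ U : P.Opens) : Scheme.{u}) ≅ Proj (𝒮.deg U hU))
      (O1 : P.Modules)
      (lam : ∀ (U : Y.Opens) (hU : IsAffineOpen U),
        O1 ⟶ (Scheme.Modules.pushforward (RelProj.emb p chart U hU)).obj (GrTwist.twist (𝒮.deg U hU) 1))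
      (φ : E ⟶ (Scheme.Modules.pushforward p).obj O1), PBundle E 𝒮 j p chart O1 lam φ := by
  have := hE
  obtain ⟨P, p, chart, hP⟩ := ProjLib.exists_isRelProj (SymAlgLib.symGrAlg E)
  obtain ⟨O1, lam, hO1⟩ := TwistLib.G.exists_isRelTwist (n := (1 : ℤ)) hP
  obtain ⟨φ, D⟩ := exists_pBundle hE (SymAlgLib.isGrSymAlg_symGrAlg E) hP hO1
  exact ⟨_, _, P, p, chart, O1, lam, φ, D⟩

/-- Very ampleness from a classifying immersion. -/
theorem isRelVeryAmple_of_classifies {X : Scheme.{u}} (f : X ⟶ Y) (L : X.Modules) (E : Y.Modules)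
    (hE : Coh.IsQCoh E) (t : E ⟶ (Scheme.Modules.pushforward f).obj L)
    (hcov : ∀ x : X, ∃ (U : Y.Opens) (_ : IsAffineOpen U) (e : Γ(E, U)) (W : X.Opens)
      (hW : W ≤ f ⁻¹ᵁ U), x ∈ W ∧ IsGen L W (resM L hW (t.app U e)))
    (himm : ∀ (𝒮 : RelProj.QCGrAlg Y) (j : E ⟶ 𝒮.toModule) (P : Scheme.{u}) (p : P ⟶ Y)
      (chart : ∀ (U : Y.Opens) (hU : IsAffineOpen U), ((p ⁻¹ᵁ U : P.Opens) : Scheme.{u}) ≅ Proj (𝒮.deg U hU))
      (O1 : P.Modules)
      (lam : ∀ (U : Y.Opens) (hU : IsAffineOpen U),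
        O1 ⟶ (Scheme.Modules.pushforward (RelProj.emb p chart U hU)).obj (GrTwist.twist (𝒮.deg U hU) 1))
      (φ : E ⟶ (Scheme.Modules.pushforward p).obj O1) (_ : PBundle E 𝒮 j p chart O1 lam φ)
      (r : X ⟶ P) (hr : r ≫ p = f) (τ : (Scheme.Modules.pullback r).obj O1 ≅ L),
      Classifies φ f t r hr τ → IsImmersion r) :
    RelProj.IsRelVeryAmple f L := by
  obtain ⟨𝒮, j, P, p, chart, O1, lam, φ, D⟩ := exists_bundle E hE
  obtain ⟨r, hr, τ, hτ⟩ := exists_classifies D hcov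
  exact ⟨E, hE, 𝒮, j, D.hj, P, p, chart, D.hP, O1, lam, D.hO1, r, himm 𝒮 j P p chart O1 lam φ D r hr τ hτ,
    hr, ⟨τ.symm⟩⟩

/-- An invertible module is very ample relative to the identity. -/
theorem isRelVeryAmple_id (L : Y.Modules) (hL : PicF.IsInvertible L) : RelProj.IsRelVeryAmple (𝟙 Y) L := by
  refine isRelVeryAmple_of_classifies (𝟙 Y) L L (isQCoh_of_isInvertible hL)
    ((Scheme.Modules.pushforwardId Y).inv.app L) (fun x => ?_) fun 𝒮 j P p chart O1 lam φ D r hr τ _ => ?_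
  · obtain ⟨V, hxV, s, hs⟩ := exists_isGen hL x
    obtain ⟨U, hU, hxU, hUV⟩ := Opens.isBasis_iff_nbhd.1 Y.isBasis_affineOpens hxV
    exact ⟨U, hU, resM L hUV s, U, le_rfl, hxU, isGen_congr (resM_self L _ _).symm (hs.restrict hUV)⟩
  · have : IsImmersion (r ≫ p) := by rw [hr]; infer_instance
    exact IsImmersion.of_comp r p

variable {P : Scheme.{u}} {E : Y.Modules} {𝒮 : RelProj.QCGrAlg Y} {j : E ⟶ 𝒮.toModule} {p : P ⟶ Y}
  {chart : ∀ (U : Y.Opens) (hU : IsAffineOpen U), ((p ⁻¹ᵁ U : P.Opens) : Scheme.{u}) ≅ Proj (𝒮.deg U hU)}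
  {O1 : P.Modules}
  {lam : ∀ (U : Y.Opens) (hU : IsAffineOpen U),
    O1 ⟶ (Scheme.Modules.pushforward (RelProj.emb p chart U hU)).obj (GrTwist.twist (𝒮.deg U hU) 1)}
  {φ : E ⟶ (Scheme.Modules.pushforward p).obj O1}

/-- Over an open where the module is free of rank one the bundle is the base. -/
theorem PBundle.opn_eq (D : PBundle E 𝒮 j p chart O1 lam φ) {U : Y.Opens} (hU : IsAffineOpen U) {e : Γ(E, U)}
    (he : IsGen E U e) : opn j p chart hU e = p ⁻¹ᵁ U := by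
  refine le_antisymm (D.opn_le hU e) fun x hx => ?_
  obtain ⟨e', hx'⟩ := D.exists_mem_opn hU (show p.base x ∈ U from hx)
  have hd : he.coef le_rfl e' • e = e' := by simpa only [resM_self] using he.coef_spec le_rfl e'
  have hs := D.isGen_phi hU e'
  have hs' : res (D.opn_le hU e') (p.app U (he.coef le_rfl e')) • resM O1 (D.opn_le hU e') (φ.app U e) =
      resM O1 (D.opn_le hU e') (φ.app U e') := by
    rw [← resM_smul]
    refine congrArg (resM O1 (D.opn_le hU e')) ?_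
    conv_rhs => rw [← hd]
    exact (Scheme.Modules.Hom.app_smul φ _ _).symm
  refine D.le_opn hU e (D.opn_le hU e') ?_ hx'
  let d := hs.coef le_rfl (resM O1 (D.opn_le hU e') (φ.app U e))
  have hdd : d • resM O1 (D.opn_le hU e') (φ.app U e') = resM O1 (D.opn_le hU e') (φ.app U e) := by
    simpa only [resM_self] using hs.coef_spec le_rfl (resM O1 (D.opn_le hU e') (φ.app U e))
  have h1 : res (D.opn_le hU e') (p.app U (he.coef le_rfl e')) * d = 1 := (hs _ le_rfl).1 (by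
    show (_ * d) • resM O1 le_rfl _ = (1 : Γ(P, opn j p chart hU e')) • resM O1 le_rfl _
    rw [resM_self, one_smul, mul_smul, hdd, hs'])
  rw [← hdd]
  exact (isGen_smul_iff (IsUnit.of_mul_eq_one_right _ h1)).2 hs

/-- The projective bundle of an invertible module is the base. -/
theorem PBundle.isIso_of_isInvertible (D : PBundle E 𝒮 j p chart O1 lam φ) (hE : PicF.IsInvertible E) : IsIso p := by
  have hcov : ∀ x : Y, ∃ (U : Y.Opens) (_ : IsAffineOpen U) (e : Γ(E, U)) (W : Y.Opens)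
      (hW : W ≤ (𝟙 Y : Y ⟶ Y) ⁻¹ᵁ U), x ∈ W ∧ IsGen E W (resM E hW (((Scheme.Modules.pushforwardId Y).inv.app E).app U e)) := by
    intro x
    obtain ⟨V, hxV, s, hs⟩ := exists_isGen hE x
    obtain ⟨U, hU, hxU, hUV⟩ := Opens.isBasis_iff_nbhd.1 Y.isBasis_affineOpens hxV
    exact ⟨U, hU, resM E hUV s, U, le_rfl, hxU, isGen_congr (resM_self E _ _).symm (hs.restrict hUV)⟩
  obtain ⟨r, hr, τ, -⟩ := exists_classifies D hcov
  refine ⟨r, ?_, hr⟩
  have hloc : ∀ x : P, ∃ (U : Y.Opens) (hU : IsAffineOpen U) (e : Γ(E, U)), IsGen E U e ∧ p.base x ∈ U := fun x => by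
    obtain ⟨V, hxV, s, hs⟩ := exists_isGen hE (p.base x)
    obtain ⟨U, hU, hxU, hUV⟩ := Opens.isBasis_iff_nbhd.1 Y.isBasis_affineOpens hxV
    exact ⟨U, hU, resM E hUV s, hs.restrict hUV, hxU⟩
  choose U hU e he hxU using hloc
  have hc : IsOpenCover fun x => p ⁻¹ᵁ U x := eq_top_iff.2 fun x _ => Opens.mem_iSup.2 ⟨x, hxU x⟩
  refine (P.openCoverOfIsOpenCover _ hc).hom_ext _ _ fun x => ?_
  show (p ⁻¹ᵁ U x).ι ≫ p ≫ r = (p ⁻¹ᵁ U x).ι ≫ 𝟙 P
  have hO := D.opn_eq (hU x) (he x)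
  have hr1 : p ⁻¹ᵁ U x ≤ (p ≫ r) ⁻¹ᵁ opn j p chart (hU x) (e x) := by
    rw [hO]
    intro y hy
    show (r ≫ p).base (p.base y) ∈ U x
    rw [hr]
    exact hy
  have hr2 : p ⁻¹ᵁ U x ≤ (𝟙 P : P ⟶ P) ⁻¹ᵁ opn j p chart (hU x) (e x) := by rw [hO]; exact le_rfl
  refine eq_of_ev (D.isAffineOpen_opn (hU x) (e x)) ((range_le_iff _ _).2 hr1) ((range_le_iff _ _).2 hr2) ?_
  have hbase : ∀ a : Γ(Y, U x), ev ((p ⁻¹ᵁ U x).ι ≫ p ≫ r) _ ((range_le_iff _ _).2 hr1) (p.appLE (U x) _ (D.opn_le (hU x) (e x)) a) =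
      ev ((p ⁻¹ᵁ U x).ι ≫ 𝟙 P) _ ((range_le_iff _ _).2 hr2) (p.appLE (U x) _ (D.opn_le (hU x) (e x)) a) := fun a => by
    rw [ev_comp _ p p (by rw [Category.assoc, Category.assoc, hr, Category.comp_id]) _ _ le_rfl a,
      ev_comp _ p p (by rw [Category.assoc, Category.id_comp]) _ _ le_rfl a]
  refine D.ringHom_ext (hU x) (e x) hbase fun e' c hce => ?_
  have hd : (he x).coef le_rfl e' • e x = e' := by simpa only [resM_self] using (he x).coef_spec le_rfl e'
  have hc' : c = p.appLE (U x) _ (D.opn_le (hU x) (e x)) ((he x).coef le_rfl e') := by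
    refine ((D.isGen_phi (hU x) (e x)) _ le_rfl).1 ?_
    show c • resM O1 le_rfl _ = _ • resM O1 le_rfl _
    rw [resM_self, hce]
    conv_lhs => rw [← hd]
    refine (congrArg (resM O1 (D.opn_le (hU x) (e x))) (Scheme.Modules.Hom.app_smul φ _ _)).trans ?_
    exact resM_smul O1 (D.opn_le (hU x) (e x)) (p.app (U x) ((he x).coef le_rfl e')) (φ.app (U x) (e x))
  rw [hc']
  exact hbase _

end Groth.Agent.RelVALib
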