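import Groth.Agent.RelVALib.QuotAlg
import Groth.Agent.RelVALib.SurjTwist
import Groth.Agent.RelVALib.UPApps
import Groth.Agent.RelVALib.UPFunctor
import Groth.Agent.Coherent.FiniteType
import Groth.Agent.ProjLib.GenDegOne

/-!
# Closed subschemes of projective bundles are relative Proj's
-/

set_option autoImplicit false
set_option linter.unusedSectionVars false
set_option linter.unusedVariables false
set_option linter.style.haveILetI false
set_option backward.isDefEq.respectTransparency.types false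
set_option maxHeartbeats 1000000

universe u

open AlgebraicGeometry CategoryTheory CategoryTheory.Limits TopologicalSpace Opposite HomogeneousLocalization
open Groth.Agent.Coherent Groth.Agent.PicLib Groth.Agent.AmpleLib
open Groth.Agent.TwistLib
open scoped HomogeneousIdeal

namespace Groth.Agent.RelVALib

section eval

variable {X Y : Scheme.{u}} {E : Y.Modules} [Coh.IsQCoh E] {𝒮 : RelProj.QCGrAlg Y} {j : E ⟶ 𝒮.toModule}
  (hj : RelProj.IsGrSymAlg E 𝒮 j) {f : X ⟶ Y} {L : X.Modules} [Coh.IsQCoh L]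
  (t : E ⟶ (Scheme.Modules.pushforward f).obj L) {𝒮L : RelProj.QCGrAlg X} {jL : L ⟶ 𝒮L.toModule}
  (hjL : RelProj.IsGrSymAlg L 𝒮L jL)

variable (jL) in
/-- The evaluation of a symmetric algebra on an affine open upstairs. -/
def IsEval {U : Y.Opens} (hU : IsAffineOpen U) (W : X.Opens) (hWU : W ≤ f ⁻¹ᵁ U)
    (F : 𝒮.presheaf.obj (op U) →+* 𝒮L.presheaf.obj (op W)) : Prop :=
  (∀ r : Γ(Y, U), F (𝒮.str.app (op U) r) = 𝒮L.str.app (op W) (f.appLE U W hWU r)) ∧
    ∀ e : Γ(E, U), F (gen1 j U e) = gen1 jL W (resM L hWU (t.app U e))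

include hj in
theorem exists_isEval {U : Y.Opens} (hU : IsAffineOpen U) (W : X.Opens) (hWU : W ≤ f ⁻¹ᵁ U) :
    ∃ F, IsEval (j := j) t jL hU W hWU F := by
  obtain ⟨F, h0, h1⟩ := SymAlgLib.exists_sectionsHom hj.1 hU
    ((𝒮L.str.app (op W)).hom.comp (f.appLE U W hWU).hom)
    (AddMonoidHom.mk' (fun e => gen1 jL W (resM L hWU (t.app U e))) fun a b => by
      refine Eq.trans ?_ (map_add (jL.app W).hom _ _)
      exact congrArg (jL.app W) ((congrArg (resM L hWU) (map_add (t.app U).hom a b)).trans (map_add (resM L hWU) _ _)))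
    (fun r e => by
      show gen1 jL W (resM L hWU (t.app U (r • e))) = 𝒮L.str.app (op W) (f.appLE U W hWU r) * gen1 jL W _
      rw [t_smul, resM_smul]
      exact Scheme.Modules.Hom.app_smul jL _ _)
  exact ⟨F, h0, h1⟩

variable {t}

include hj in
theorem IsEval.res {U V : Y.Opens} {hU : IsAffineOpen U} {hV : IsAffineOpen V} (hVU : V ≤ U) {W W' : X.Opens}
    {hWU : W ≤ f ⁻¹ᵁ U} {hW'V : W' ≤ f ⁻¹ᵁ V} (hWW : W' ≤ W) {F : 𝒮.presheaf.obj (op U) →+* 𝒮L.presheaf.obj (op W)}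
    {F' : 𝒮.presheaf.obj (op V) →+* 𝒮L.presheaf.obj (op W')} (hF : IsEval (j := j) t jL hU W hWU F)
    (hF' : IsEval (j := j) t jL hV W' hW'V F') (a : 𝒮.presheaf.obj (op U)) :
    F' (𝒮.presheaf.map (homOfLE hVU).op a) = 𝒮L.presheaf.map (homOfLE hWW).op (F a) := by
  refine RingHom.congr_fun (SymAlgLib.sectionsHom_ext hj.1 hU
    (F := F'.comp (𝒮.presheaf.map (homOfLE hVU).op).hom) (G := (𝒮L.presheaf.map (homOfLE hWW).op).hom.comp F)
    (fun r => ?_) fun e => ?_) a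
  · show F' (𝒮.presheaf.map (homOfLE hVU).op (𝒮.str.app (op U) r)) =
      𝒮L.presheaf.map (homOfLE hWW).op (F (𝒮.str.app (op U) r))
    have h1 : 𝒮.presheaf.map (homOfLE hVU).op (𝒮.str.app (op U) r) =
        𝒮.str.app (op V) (Y.presheaf.map (homOfLE hVU).op r) :=
      (ConcreteCategory.congr_hom (𝒮.str.naturality (homOfLE hVU).op) r).symm
    have h2 : 𝒮L.presheaf.map (homOfLE hWW).op (𝒮L.str.app (op W) (f.appLE U W hWU r)) =
        𝒮L.str.app (op W') (X.presheaf.map (homOfLE hWW).op (f.appLE U W hWU r)) :=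
      (ConcreteCategory.congr_hom (𝒮L.str.naturality (homOfLE hWW).op) _).symm
    rw [h1, hF'.1, hF.1, h2]
    refine congrArg (𝒮L.str.app (op W')) ?_
    rw [← ConcreteCategory.comp_apply, ← ConcreteCategory.comp_apply, Scheme.Hom.map_appLE, Scheme.Hom.appLE_map]
  · show F' (𝒮.presheaf.map (homOfLE hVU).op (gen1 j U e)) = 𝒮L.presheaf.map (homOfLE hWW).op (F (gen1 j U e))
    have h1 : 𝒮.presheaf.map (homOfLE hVU).op (gen1 j U e) = gen1 j V (resM E hVU e) := (app_resM j hVU e).symm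
    have h2 : 𝒮L.presheaf.map (homOfLE hWW).op (gen1 jL W (resM L hWU (t.app U e))) =
        gen1 jL W' (resM L hWW (resM L hWU (t.app U e))) := (app_resM jL hWW _).symm
    rw [h1, hF'.2, hF.2, h2, t_res hVU e, resM_resM, resM_resM]

include hj hjL in
theorem IsEval.map_mem {U : Y.Opens} {hU : IsAffineOpen U} {W : X.Opens} (hW : IsAffineOpen W)
    {hWU : W ≤ f ⁻¹ᵁ U} {F : 𝒮.presheaf.obj (op U) →+* 𝒮L.presheaf.obj (op W)}
    (hF : IsEval (j := j) t jL hU W hWU F) {n : ℕ} {a : 𝒮.presheaf.obj (op U)} (ha : a ∈ 𝒮.deg U hU n) :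
    F a ∈ 𝒮L.deg W hW n := by
  refine UPLib.deg_induction (adjoin_degOne_eq_top (SymAlgLib.isGenDegOne_of_isGrSymAlg hj) hU)
    (P := fun n a => F a ∈ 𝒮L.deg W hW n) ?_ ?_ (fun k => by rw [map_zero]; exact zero_mem _)
    (fun k a b _ _ iha ihb => by rw [map_add]; exact add_mem iha ihb) ha
  · intro a ha
    obtain ⟨r, rfl⟩ := (SymAlgLib.deg_zero_one hj hU a).1 ha
    rw [hF.1]
    exact 𝒮L.str_mem W hW _
  · intro k a b _ hb ih
    obtain ⟨e, rfl⟩ := (SymAlgLib.deg_zero_one hj hU b).2 hb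
    rw [map_mul]
    exact SetLike.mul_mem_graded ih (hF.2 e ▸ hjL.2 W hW _)

include hj hjL in
theorem IsEval.decompose {U : Y.Opens} {hU : IsAffineOpen U} {W : X.Opens} (hW : IsAffineOpen W)
    {hWU : W ≤ f ⁻¹ᵁ U} {F : 𝒮.presheaf.obj (op U) →+* 𝒮L.presheaf.obj (op W)}
    (hF : IsEval (j := j) t jL hU W hWU F) (n : ℕ) (a : 𝒮.presheaf.obj (op U)) :
    F (DirectSum.decompose (𝒮.deg U hU) a n) = (DirectSum.decompose (𝒮L.deg W hW) (F a) n : _) :=
  GradedRingHom.map_directSumDecompose (𝒜 := 𝒮.deg U hU) (ℬ := 𝒮L.deg W hW)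
    ({ F with map_mem := fun ha => hF.map_mem hj hjL hW ha } : 𝒮.deg U hU →+*ᵍ 𝒮L.deg W hW) (x := a) (i := n)

/-- Homogeneous elements over a trivialising open. -/
theorem exists_eq_str_mul_pow {W : X.Opens} (hW : IsAffineOpen W) {g : Γ(L, W)} (hg : IsGen L W g)
    (hjL : RelProj.IsGrSymAlg L 𝒮L jL) {n : ℕ} {x : 𝒮L.presheaf.obj (op W)} (hx : x ∈ 𝒮L.deg W hW n) :
    ∃ c : Γ(X, W), x = 𝒮L.str.app (op W) c * gen1 jL W g ^ n := by
  refine UPLib.deg_induction (adjoin_degOne_eq_top (SymAlgLib.isGenDegOne_of_isGrSymAlg hjL) hW)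
    (P := fun n x => ∃ c : Γ(X, W), x = 𝒮L.str.app (op W) c * gen1 jL W g ^ n) ?_ ?_ ?_ ?_ hx
  · intro a ha
    obtain ⟨r, rfl⟩ := (SymAlgLib.deg_zero_one hjL hW a).1 ha
    exact ⟨r, by rw [pow_zero, mul_one]⟩
  · rintro k a b _ hb ⟨c, rfl⟩
    obtain ⟨l, rfl⟩ := (SymAlgLib.deg_zero_one hjL hW b).2 hb
    have h1 : hg.coef le_rfl l • g = l := by simpa only [resM_self] using hg.coef_spec le_rfl l
    have h2 : gen1 jL W l = 𝒮L.str.app (op W) (hg.coef le_rfl l) * gen1 jL W g := by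
      conv_lhs => rw [← h1]
      exact Scheme.Modules.Hom.app_smul jL _ _
    refine ⟨c * hg.coef le_rfl l, ?_⟩
    show 𝒮L.str.app (op W) c * gen1 jL W g ^ k * gen1 jL W l = _
    rw [h2, map_mul, pow_succ]
    ring
  · exact fun k => ⟨0, by rw [map_zero, zero_mul]⟩
  · rintro k a b _ _ ⟨c, rfl⟩ ⟨c', rfl⟩
    exact ⟨c + c', by rw [map_add, add_mul]⟩

include hjL in
/-- Dehomogenisation along a generator. -/
theorem exists_dehom {W : X.Opens} (hW : IsAffineOpen W) {g : Γ(L, W)} (hg : IsGen L W g) :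
    ∃ χ : 𝒮L.presheaf.obj (op W) →+* Γ(X, W), (∀ r, χ (𝒮L.str.app (op W) r) = r) ∧
      ∀ l : Γ(L, W), χ (gen1 jL W l) = hg.coef le_rfl l := by
  obtain ⟨χ, h0, h1⟩ := SymAlgLib.exists_sectionsHom hjL.1 hW (RingHom.id _)
    (AddMonoidHom.mk' (hg.coef le_rfl) (hg.coef_add _))
    (fun r x => hg.coef_smul _ r x)
  exact ⟨χ, h0, h1⟩

/-- The ideals of elements vanishing under evaluation. -/
noncomputable def evalKer {U : Y.Opens} (hU : IsAffineOpen U) : Ideal (𝒮.presheaf.obj (op U)) :=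
  ⨅ (W : X.affineOpens) (hWU : W.1 ≤ f ⁻¹ᵁ U) (F : 𝒮.presheaf.obj (op U) →+* 𝒮L.presheaf.obj (op W.1))
    (_ : IsEval (j := j) t jL hU W.1 hWU F), RingHom.ker F

theorem mem_evalKer {U : Y.Opens} {hU : IsAffineOpen U} {a : 𝒮.presheaf.obj (op U)} :
    a ∈ evalKer (j := j) (t := t) (jL := jL) hU ↔ ∀ (W : X.affineOpens) (hWU : W.1 ≤ f ⁻¹ᵁ U)
      (F : 𝒮.presheaf.obj (op U) →+* 𝒮L.presheaf.obj (op W.1)),
        IsEval (j := j) t jL hU W.1 hWU F → F a = 0 := by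
  simp only [evalKer, Ideal.mem_iInf, RingHom.mem_ker]

include hj in
/-- Vanishing may be checked on a cover. -/
theorem eval_eq_zero_of_cover {U : Y.Opens} {hU : IsAffineOpen U} {ι : Type*} (Wk : ι → X.Opens)
    (hWk : ∀ k, Wk k ≤ f ⁻¹ᵁ U) (hcov : f ⁻¹ᵁ U ≤ ⨆ k, Wk k) {a : 𝒮.presheaf.obj (op U)}
    (h : ∀ k F, IsEval (j := j) t jL hU (Wk k) (hWk k) F → F a = 0) :
    a ∈ evalKer (j := j) (t := t) (jL := jL) hU := by
  rw [mem_evalKer]
  intro W hWU F hF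
  refine SymAlgLib.sec_ext 𝒮L.toQCAlg _ _ fun V hV hVW => ?_
  rw [map_zero]
  let I := Σ k, {V' : X.Opens // IsAffineOpen V' ∧ V' ≤ V ⊓ Wk k}
  refine TopCat.Sheaf.eq_of_locally_eq' (SymAlgLib.abSheaf 𝒮L.toQCAlg) (fun i : I => i.2.1) V
    (fun i => homOfLE (i.2.2.2.trans inf_le_left)) (fun x hx => ?_) _ _ fun i => ?_
  · obtain ⟨k, hk⟩ := Opens.mem_iSup.1 (hcov ((hVW.trans hWU) hx))
    obtain ⟨V', hV', hxV', hle⟩ := Opens.isBasis_iff_nbhd.1 X.isBasis_affineOpens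
      (show x ∈ V ⊓ Wk k from ⟨hx, hk⟩)
    exact Opens.mem_iSup.2 ⟨⟨k, V', hV', hle⟩, hxV'⟩
  · obtain ⟨k, V', hV', hle⟩ := i
    obtain ⟨Fk, hFk⟩ := exists_isEval (jL := jL) hj t hU (Wk k) (hWk k)
    obtain ⟨F', hF'⟩ := exists_isEval (jL := jL) hj t hU V' ((hle.trans inf_le_left).trans (hVW.trans hWU))
    have h1 := hF.res hj le_rfl ((hle.trans inf_le_left).trans hVW) hF' a
    have h2 := hFk.res hj le_rfl (hle.trans inf_le_right) hF' a
    rw [h k Fk hFk, map_zero] at h2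
    rw [h2] at h1
    show 𝒮L.presheaf.map _ (𝒮L.presheaf.map _ (F a)) = 𝒮L.presheaf.map _ 0
    rw [map_zero, ← ConcreteCategory.comp_apply, ← Functor.map_comp]
    exact h1.symm

include hj hjL in
/-- The kernels form compatible homogeneous ideals. -/
theorem exists_evalIdealData [QuasiCompact f] :
    ∃ I : GrIdealData 𝒮, ∀ (U : Y.Opens) (hU : IsAffineOpen U),
      I.J U hU = evalKer (j := j) (t := t) (jL := jL) hU := by
  refine ⟨⟨fun U hU => evalKer (j := j) (t := t) (jL := jL) hU, fun U hU a ha n => ?_,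
    fun {U V} hU hV h a ha => ?_, fun U hU r a ha => ?_⟩, fun U hU => rfl⟩
  · rw [mem_evalKer] at ha ⊢
    intro W hWU F hF
    rw [hF.decompose hj hjL W.2, ha W hWU F hF, DirectSum.decompose_zero]
    rfl
  · rw [mem_evalKer] at ha ⊢
    intro W hWV F hF
    obtain ⟨F₀, hF₀⟩ := exists_isEval (jL := jL) hj t hU W.1 (hWV.trans (f.preimage_mono h))
    rw [hF₀.res hj h le_rfl hF a, ha W _ F₀ hF₀, map_zero]
  · rw [mem_evalKer] at ha
    obtain ⟨T, hT, hcov⟩ : ∃ T : Finset {W : X.Opens // IsAffineOpen W ∧ W ≤ f ⁻¹ᵁ U},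
        True ∧ f ⁻¹ᵁ U ≤ ⨆ W : T, W.1.1 := by
      obtain ⟨T, hT⟩ := (f.isCompact_preimage hU.isCompact).elim_finite_subcover
        (fun W : {W : X.Opens // IsAffineOpen W ∧ W ≤ f ⁻¹ᵁ U} => (W.1 : Set X)) (fun W => W.1.2) fun x hx => by
          obtain ⟨W, hW, hxW, hWU⟩ := Opens.isBasis_iff_nbhd.1 X.isBasis_affineOpens (show x ∈ f ⁻¹ᵁ U from hx)
          exact Set.mem_iUnion.2 ⟨⟨W, hW, hWU⟩, hxW⟩
      refine ⟨T, trivial, fun x hx => ?_⟩
      obtain ⟨W, hWT, hxW⟩ := Set.mem_iUnion₂.1 (hT hx)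
      exact Opens.mem_iSup.2 ⟨⟨W, hWT⟩, hxW⟩
    choose F hF using fun W : T => exists_isEval (jL := jL) hj t hU W.1.1 W.1.2.2
    have hloc : ∀ W : T, ∃ N : ℕ, F W (𝒮.str.app (op U) r ^ N * a) = 0 := by
      intro W
      let r' := f.appLE U W.1.1 W.1.2.2 r
      let W' := X.basicOpen r'
      have hW' : IsAffineOpen W' := W.1.2.1.basicOpen r'
      have hle : W' ≤ f ⁻¹ᵁ Y.basicOpen r := by
        rw [show W' = _ from Scheme.basicOpen_appLE f W.1.1 U W.1.2.2 r]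
        exact inf_le_right
      obtain ⟨F', hF'⟩ := exists_isEval (jL := jL) hj t (hU.basicOpen r) W' hle
      have h1 := (hF W).res hj (Y.basicOpen_le r) (X.basicOpen_le r') hF' a
      rw [ha ⟨W', hW'⟩ hle F' hF'] at h1
      letI := (𝒮L.presheaf.map (homOfLE (X.basicOpen_le r')).op).hom.toAlgebra
      haveI : IsLocalization.Away ((𝒮L.str.app (op W.1.1)).hom r') (𝒮L.presheaf.obj (op W')) :=
        𝒮L.isQC W.1.1 W.1.2.1 r'
      obtain ⟨N, hN⟩ := IsLocalization.Away.exists_of_eq ((𝒮L.str.app (op W.1.1)).hom r')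
        (S := 𝒮L.presheaf.obj (op W')) (a := F W a) (b := 0) (h1.symm.trans (map_zero _).symm)
      refine ⟨N, ?_⟩
      rw [map_mul, map_pow, (hF W).1]
      rw [mul_zero] at hN
      exact hN
    choose N hN using hloc
    refine ⟨Finset.univ.sup N, eval_eq_zero_of_cover hj (fun W : T => W.1.1) (fun W => W.1.2.2) hcov fun W G hG => ?_⟩
    have h := (hF W).res hj le_rfl le_rfl hG (𝒮.str.app (op U) r ^ N W * a)
    rw [hN W, map_zero] at h
    have h' : G (𝒮.str.app (op U) r ^ N W * a) = 0 := by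
      refine Eq.trans (congrArg G ?_) h
      exact (ConcreteCategory.congr_hom (𝒮.presheaf.map_id _) _).symm
    obtain ⟨k, hk⟩ := Nat.exists_eq_add_of_le (Finset.le_sup (f := N) (Finset.mem_univ W))
    rw [hk, pow_add, mul_comm (_ ^ N W), mul_assoc, map_mul, h', mul_zero]

end eval

section main

variable {X Y P : Scheme.{u}} {E : Y.Modules} {𝒮 : RelProj.QCGrAlg Y} {j : E ⟶ 𝒮.toModule} {p : P ⟶ Y}
  {chart : ∀ (U : Y.Opens) (hU : IsAffineOpen U), ((p ⁻¹ᵁ U : P.Opens) : Scheme.{u}) ≅ Proj (𝒮.deg U hU)}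
  {O1 : P.Modules}
  {lam : ∀ (U : Y.Opens) (hU : IsAffineOpen U),
    O1 ⟶ (Scheme.Modules.pushforward (RelProj.emb p chart U hU)).obj (GrTwist.twist (𝒮.deg U hU) 1)}
  {φ : E ⟶ (Scheme.Modules.pushforward p).obj O1}

variable (D : PBundle E 𝒮 j p chart O1 lam φ) {f : X ⟶ Y} {L : X.Modules}
  {t : E ⟶ (Scheme.Modules.pushforward f).obj L} {i : X ⟶ P} {hi : i ≫ p = f}
  {σ : (Scheme.Modules.pullback i).obj O1 ≅ L}
  {𝒮L : RelProj.QCGrAlg X} {jL : L ⟶ 𝒮L.toModule}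

include D in
theorem isGen_classified (hσ : Classifies φ f t i hi σ) {U : Y.Opens} (hU : IsAffineOpen U) (e : Γ(E, U))
    (hW : i ⁻¹ᵁ opn j p chart hU e ≤ f ⁻¹ᵁ U) :
    IsGen L (i ⁻¹ᵁ opn j p chart hU e) (resM L hW (t.app U e)) := by
  refine isGen_congr ?_ (isGen_of_iso σ (isGen_pullSec i (D.isGen_phi hU e) D.invertible))
  rw [← resM_pullSec, app_resM, hσ U hU e]
  exact resM_resM L _ _ _

include D in
/-- A fraction vanishes on the subscheme exactly when its numerator evaluates to zero. -/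
theorem eval_eq_zero_iff (hL : Coh.IsQCoh L) (hjL : RelProj.IsGrSymAlg L 𝒮L jL) (hσ : Classifies φ f t i hi σ)
    {U : Y.Opens} (hU : IsAffineOpen U) (e : Γ(E, U)) (hW₀ : IsAffineOpen (i ⁻¹ᵁ opn j p chart hU e))
    (hWU : i ⁻¹ᵁ opn j p chart hU e ≤ f ⁻¹ᵁ U)
    {F : 𝒮.presheaf.obj (op U) →+* 𝒮L.presheaf.obj (op (i ⁻¹ᵁ opn j p chart hU e))}
    (hF : IsEval (j := j) t jL hU _ hWU F) {n : ℕ} {a : 𝒮.presheaf.obj (op U)} (ha : a ∈ 𝒮.deg U hU (n • 1)) :
    i.app (opn j p chart hU e) (PBundle.theta D.hj hU e (Away.mk (𝒮.deg U hU) (D.gen1_mem hU e) n a ha)) = 0 ↔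
      F a = 0 := by
  have := D.hE
  have := hL
  let W := i ⁻¹ᵁ opn j p chart hU e
  have hg := isGen_classified D hσ hU e hWU
  obtain ⟨χ, hχ0, hχ1⟩ := exists_dehom hjL hW₀ hg
  let G := χ.comp F
  have hG0 : ∀ r, G (𝒮.str.app (op U) r) = f.appLE U W hWU r := fun r => by
    show χ (F _) = _
    rw [hF.1, hχ0]
  have hG1 : ∀ e', G (gen1 j U e') = hg.coef le_rfl (resM L hWU (t.app U e')) := fun e' => by
    show χ (F _) = _
    rw [hF.2, hχ1]
  have hGe : G (gen1 j U e) = 1 := (hG1 e).trans (hg.coef_eq le_rfl (by rw [resM_self, one_smul]))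
  have hu : IsUnit (G (gen1 j U e)) := hGe.symm ▸ isUnit_one
  have hmk : ∀ (k : ℕ) (x : 𝒮.presheaf.obj (op U)) (hx : x ∈ 𝒮.deg U hU (k • 1)),
      RelConeLib.awayLift (ℬ := 𝒮.deg U hU) G (gen1 j U e) hu (Away.mk _ (D.gen1_mem hU e) k x hx) = G x :=
    fun k x hx => by
      have h := RelConeLib.awayLift_mk (ℬ := 𝒮.deg U hU) G (D.gen1_mem hU e) hu k x hx
      rwa [hGe, one_pow, mul_one] at h
  have hkey : RelConeLib.awayLift (ℬ := 𝒮.deg U hU) G (gen1 j U e) hu =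
      (i.app (opn j p chart hU e)).hom.comp (PBundle.theta D.hj hU e) := by
    refine UPLib.away_ext (adjoin_degOne_eq_top D.hgen hU) (D.gen1_mem hU e) (fun b hb => ?_) fun b hb => ?_
    · obtain ⟨r, rfl⟩ := (SymAlgLib.deg_zero_one D.hj hU b).1 (by simpa using hb)
      rw [hmk, hG0]
      show _ = i.app _ (PBundle.theta D.hj hU e _)
      rw [D.theta_zero hU e r hb, Scheme.Hom.app_eq_appLE, ← ConcreteCategory.comp_apply,
        Scheme.Hom.appLE_comp_appLE]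
      simp only [hi]
      rfl
    · obtain ⟨e', rfl⟩ := (SymAlgLib.deg_zero_one D.hj hU b).2 (by simpa using hb)
      rw [hmk, hG1]
      refine hg.coef_eq le_rfl ?_
      rw [resM_self]
      have hgood := good_of_classifies D hσ hU e hWU hg
      have h1 := hgood.rel e' _ (D.theta_one hU e e' hb)
      rw [ev_restrict i _ le_rfl] at h1
      show i.app (opn j p chart hU e) (PBundle.theta D.hj hU e _) • _ = _
      rw [Scheme.Hom.app_eq_appLE]
      exact h1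
  have hia : i.app (opn j p chart hU e) (PBundle.theta D.hj hU e (Away.mk (𝒮.deg U hU) (D.gen1_mem hU e) n a ha)) = G a :=
    (RingHom.congr_fun hkey _).symm.trans (hmk n a ha)
  rw [hia]
  refine ⟨fun h => ?_, fun h => by show χ (F a) = 0; rw [h, map_zero]⟩
  obtain ⟨c, hc⟩ := exists_eq_str_mul_pow hW₀ hg hjL (hF.map_mem D.hj hjL hW₀ (show a ∈ 𝒮.deg U hU n by simpa using ha))
  have h2 : c = 0 := by
    change χ (F a) = 0 at h
    rw [hc, map_mul, map_pow, hχ0, hχ1, hg.coef_eq le_rfl (by rw [resM_self, one_smul]), one_pow, mul_one] at h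
    exact h
  rw [hc, h2, map_zero, zero_mul]

include D in
/-- A numerator evaluating to zero on one chart is killed by a power of the denominator. -/
theorem exists_pow_mul_mem_evalKer [QuasiCompact f] [IsAffineHom i] (hL : Coh.IsQCoh L)
    (hjL : RelProj.IsGrSymAlg L 𝒮L jL) (hσ : Classifies φ f t i hi σ) {U : Y.Opens} (hU : IsAffineOpen U)
    (e : Γ(E, U)) (hWU : i ⁻¹ᵁ opn j p chart hU e ≤ f ⁻¹ᵁ U)
    {F : 𝒮.presheaf.obj (op U) →+* 𝒮L.presheaf.obj (op (i ⁻¹ᵁ opn j p chart hU e))}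
    (hF : IsEval (j := j) t jL hU _ hWU F) {a : 𝒮.presheaf.obj (op U)} (h : F a = 0) :
    ∃ k : ℕ, gen1 j U e ^ k * a ∈ evalKer (j := j) (t := t) (jL := jL) hU := by
  classical
  have := D.hE
  have := hL
  have hle : ∀ e', i ⁻¹ᵁ opn j p chart hU e' ≤ f ⁻¹ᵁ U := fun e' =>
    (i.preimage_mono (D.opn_le hU e')).trans (le_of_over hi U)
  obtain ⟨T, hT⟩ : ∃ T : Finset Γ(E, U), f ⁻¹ᵁ U ≤ ⨆ e' : T, i ⁻¹ᵁ opn j p chart hU e'.1 := by
    obtain ⟨T, hT⟩ := (f.isCompact_preimage hU.isCompact).elim_finite_subcover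
      (fun e' : Γ(E, U) => ((i ⁻¹ᵁ opn j p chart hU e' : X.Opens) : Set X)) (fun e' => (i ⁻¹ᵁ opn j p chart hU e').2)
      fun x hx => by
        obtain ⟨e', he'⟩ := D.exists_mem_opn hU (show p (i x) ∈ U from ge_of_over hi U hx)
        exact Set.mem_iUnion.2 ⟨e', he'⟩
    refine ⟨T, fun x hx => ?_⟩
    obtain ⟨e', he', hx'⟩ := Set.mem_iUnion₂.1 (hT hx)
    exact Opens.mem_iSup.2 ⟨⟨e', he'⟩, hx'⟩
  choose F' hF' using fun e' : T => exists_isEval (jL := jL) D.hj t hU (i ⁻¹ᵁ opn j p chart hU e'.1) (hle e'.1)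
  have hloc : ∀ e' : T, ∃ k : ℕ, F' e' (gen1 j U e ^ k * a) = 0 := by
    intro e'
    let W' := i ⁻¹ᵁ opn j p chart hU e'.1
    have hW' : IsAffineOpen W' := (D.isAffineOpen_opn hU e'.1).preimage i
    have hg' := isGen_classified D hσ hU e'.1 (hle e'.1)
    let ε := hg'.coef le_rfl (resM L (hle e'.1) (t.app U e))
    have hε : ε • resM L (hle e'.1) (t.app U e'.1) = resM L (hle e'.1) (t.app U e) := by
      simpa only [resM_self] using hg'.coef_spec le_rfl (resM L (hle e'.1) (t.app U e))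
    have hgb : IsGen L (X.basicOpen ε) (resM L ((X.basicOpen_le ε).trans (hle e'.1)) (t.app U e)) :=
      isGen_congr (resM_resM L _ _ _) (isGen_basicOpen_of_smul hg' hε)
    have hsub : X.basicOpen ε ≤ i ⁻¹ᵁ opn j p chart hU e :=
      (range_le_iff i _).1 (good_of_classifies D hσ hU e _ hgb).range
    obtain ⟨G, hG⟩ := exists_isEval (jL := jL) D.hj t hU (X.basicOpen ε) (hsub.trans hWU)
    have h1 := (hF' e').res D.hj le_rfl (X.basicOpen_le ε) hG a
    have h2 := hF.res D.hj le_rfl hsub hG a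
    rw [h, map_zero] at h2
    rw [h2] at h1
    letI := (𝒮L.presheaf.map (homOfLE (X.basicOpen_le ε)).op).hom.toAlgebra
    haveI : IsLocalization.Away ((𝒮L.str.app (op W')).hom ε) (𝒮L.presheaf.obj (op (X.basicOpen ε))) :=
      𝒮L.isQC W' hW' ε
    obtain ⟨k, hk⟩ := IsLocalization.Away.exists_of_eq ((𝒮L.str.app (op W')).hom ε)
      (S := 𝒮L.presheaf.obj (op (X.basicOpen ε))) (a := F' e' a) (b := 0) (h1.symm.trans (map_zero _).symm)
    rw [mul_zero] at hk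
    refine ⟨k, ?_⟩
    have he : F' e' (gen1 j U e) = 𝒮L.str.app (op W') ε * gen1 jL W' (resM L (hle e'.1) (t.app U e'.1)) := by
      rw [(hF' e').2, ← hε]
      exact Scheme.Modules.Hom.app_smul jL _ _
    rw [map_mul, map_pow, he, mul_pow, mul_comm _ (gen1 jL W' _ ^ k), mul_assoc, hk, mul_zero]
  choose k hk using hloc
  refine ⟨Finset.univ.sup k, eval_eq_zero_of_cover D.hj (fun e' : T => i ⁻¹ᵁ opn j p chart hU e'.1)
    (fun e' => hle e'.1) hT fun e' G hG => ?_⟩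
  have h' := (hF' e').res D.hj le_rfl le_rfl hG (gen1 j U e ^ k e' * a)
  rw [hk e', map_zero] at h'
  have h'' : G (gen1 j U e ^ k e' * a) = 0 := by
    refine Eq.trans (congrArg G ?_) h'
    exact (ConcreteCategory.congr_hom (𝒮.presheaf.map_id _) _).symm
  obtain ⟨m, hm⟩ := Nat.exists_eq_add_of_le (Finset.le_sup (f := k) (Finset.mem_univ e'))
  rw [hm, pow_add, mul_comm (_ ^ k e'), mul_assoc, map_mul, h'', mul_zero]

end main

section kernel

variable {Y PA PB : Scheme.{u}} {𝒜 ℬ : RelProj.QCGrAlg Y} {φ : 𝒜.toQCAlg ⟶ ℬ.toQCAlg}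
  {hφ : RelProj.IsGradedHom φ}
  {hirr : ∀ (U : Y.Opens) (hU : IsAffineOpen U),
    (ℬ.deg U hU)₊ ≤ ((𝒜.deg U hU)₊).map (RelProj.gradedHomAt φ hφ U hU)}
  {pA : PA ⟶ Y} {pB : PB ⟶ Y}
  {chartA : ∀ (U : Y.Opens) (hU : IsAffineOpen U), (((pA ⁻¹ᵁ U : PA.Opens) : Scheme.{u}) ≅ Proj (𝒜.deg U hU))}
  {chartB : ∀ (U : Y.Opens) (hU : IsAffineOpen U), (((pB ⁻¹ᵁ U : PB.Opens) : Scheme.{u}) ≅ Proj (ℬ.deg U hU))}
  {h : PB ⟶ PA} {E : Y.Modules} {j : E ⟶ 𝒜.toModule} {O1 : PA.Modules}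
  {lam : ∀ (U : Y.Opens) (hU : IsAffineOpen U),
    O1 ⟶ (Scheme.Modules.pushforward (RelProj.emb pA chartA U hU)).obj (GrTwist.twist (𝒜.deg U hU) 1)}
  {ψ : E ⟶ (Scheme.Modules.pushforward pA).obj O1}

/-- The functions on a standard open killed by an induced morphism. -/
theorem relProjMap_app_theta_eq_zero_iff (D : PBundle E 𝒜 j pA chartA O1 lam ψ)
    (hB : RelProj.IsRelProj ℬ pB chartB) (hh : RelProj.IsRelProjMap φ hφ hirr chartA chartB h)
    {U : Y.Opens} (hU : IsAffineOpen U) (e : Γ(E, U)) {n : ℕ} {a : 𝒜.presheaf.obj (op U)}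
    (ha : a ∈ 𝒜.deg U hU (n • 1)) :
    h.app (opn j pA chartA hU e) (PBundle.theta D.hj hU e (Away.mk (𝒜.deg U hU) (D.gen1_mem hU e) n a ha)) = 0 ↔
      ∃ k : ℕ, φ.hom.app (op U) (gen1 j U e ^ k * a) = 0 := by
  let g := RelProj.gradedHomAt φ hφ U hU
  let O := opn j pA chartA hU e
  let embA := RelProj.emb pA chartA U hU
  let embB := RelProj.emb pB chartB U hU
  let D₀ := Proj.basicOpen (𝒜.deg U hU) (gen1 j U e)
  let DB := Proj.basicOpen (ℬ.deg U hU) (g (gen1 j U e))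
  let q := Away.mk (𝒜.deg U hU) (D.gen1_mem hU e) n a ha
  have hsq := G.map_emb_relProjMap hh U hU
  have hpre : embB ⁻¹ᵁ (h ⁻¹ᵁ O) = DB := by
    rw [← Scheme.Hom.comp_preimage, ← hsq, Scheme.Hom.comp_preimage, D.preimage_opn hU e,
      Proj.map_preimage_basicOpen]
  have hO : h ⁻¹ᵁ O ≤ embB.opensRange := by
    refine ((h.preimage_mono (D.opn_le hU e)).trans ?_).trans (G.opensRange_emb (p := pB) (chart := chartB) U hU).ge
    rw [← Scheme.Hom.comp_preimage, ProjLib.relProjMap_comp φ hφ hirr D.hP hB hh]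
  have : IsIso (embB.app (h ⁻¹ᵁ O)) := embB.isIso_app _ hO
  have hinj : Function.Injective (embB.appLE (h ⁻¹ᵁ O) DB hpre.ge) := by
    have : IsIso (embB.appLE (h ⁻¹ᵁ O) DB hpre.ge) := by
      rw [Scheme.Hom.appLE]
      have : IsIso (homOfLE hpre.ge) := ⟨homOfLE hpre.le, rfl, rfl⟩
      infer_instance
    exact (ConcreteCategory.bijective_of_isIso (embB.appLE (h ⁻¹ᵁ O) DB hpre.ge)).1
  have hθ : embA.appLE O D₀ (D.preimage_opn hU e).ge (PBundle.theta D.hj hU e q) =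
      Proj.awayToSection (𝒜.deg U hU) (gen1 j U e) q := by
    have h := Scheme.Hom.appIso_hom' embA D₀
    show embA.appLE O D₀ _ ((embA.appIso D₀).inv _) = _
    rw [show embA.appLE O D₀ (D.preimage_opn hU e).ge = (embA.appIso D₀).hom from h.symm]
    exact ConcreteCategory.congr_hom (embA.appIso D₀).inv_hom_id _
  have hDB : DB ≤ Proj.map g (hirr U hU) ⁻¹ᵁ D₀ := (Proj.map_preimage_basicOpen g (hirr U hU) _).ge
  have key : embB.appLE (h ⁻¹ᵁ O) DB hpre.ge (h.app O (PBundle.theta D.hj hU e q)) =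
      Proj.awayToSection (ℬ.deg U hU) (g (gen1 j U e)) (Away.map g (gen1 j U e) q) := by
    have e1 : (embB ≫ h).appLE O DB (hpre.ge) = h.app O ≫ embB.appLE (h ⁻¹ᵁ O) DB hpre.ge :=
      (Scheme.Hom.comp_appLE _ _ _ _ _).trans (by rw [Scheme.Hom.app_eq_appLE])
    have key2 : ∀ (u v : Proj (ℬ.deg U hU) ⟶ PA) (_ : u = v) (h1 : DB ≤ u ⁻¹ᵁ O) (h2 : DB ≤ v ⁻¹ᵁ O) (c : Γ(PA, O)),
        u.appLE O DB h1 c = v.appLE O DB h2 c := by
      rintro u v rfl h1 h2 c
      rfl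
    have e2 := key2 _ _ hsq.symm hpre.ge (hDB.trans (Scheme.Hom.preimage_mono _ (D.preimage_opn hU e).ge))
      (PBundle.theta D.hj hU e q)
    rw [← Scheme.Hom.appLE_comp_appLE _ _ _ D₀ _ (D.preimage_opn hU e).ge hDB, ConcreteCategory.comp_apply, hθ, e1,
      ConcreteCategory.comp_apply] at e2
    rw [e2]
    exact ConcreteCategory.congr_hom (Proj.awayToSection_comp_appLE g (hirr U hU) (D.gen1_mem hU e)) q
  have hb : Function.Injective (Proj.awayToSection (ℬ.deg U hU) (g (gen1 j U e))) :=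
    (ConcreteCategory.bijective_of_isIso
      (Proj.basicOpenIsoAway (ℬ.deg U hU) (g (gen1 j U e)) (g.map_mem (D.gen1_mem hU e)) one_pos).hom).1
  rw [← map_eq_zero_iff _ hinj, key, map_eq_zero_iff _ hb, Away.map_mk g (gen1 j U e) (D.gen1_mem hU e),
    ProjLib.away_mk_eq_zero_iff]
  refine exists_congr fun k => ?_
  rw [map_mul, map_pow]
  rfl

end kernel

section projective

variable {X Y P : Scheme.{u}} {E : Y.Modules} {𝒮 : RelProj.QCGrAlg Y} {j : E ⟶ 𝒮.toModule} {p : P ⟶ Y}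
  {chart : ∀ (U : Y.Opens) (hU : IsAffineOpen U), ((p ⁻¹ᵁ U : P.Opens) : Scheme.{u}) ≅ Proj (𝒮.deg U hU)}
  {O1 : P.Modules}
  {lam : ∀ (U : Y.Opens) (hU : IsAffineOpen U),
    O1 ⟶ (Scheme.Modules.pushforward (RelProj.emb p chart U hU)).obj (GrTwist.twist (𝒮.deg U hU) 1)}
  {φ : E ⟶ (Scheme.Modules.pushforward p).obj O1}

/-- A closed subscheme of a projective bundle is a relative Proj of a quotient. -/
theorem exists_relProj_of_closedImmersion (D : PBundle E 𝒮 j p chart O1 lam φ) (hft : CohB1.IsFT E)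
    {f : X ⟶ Y} (i : X ⟶ P) [IsClosedImmersion i] (hi : i ≫ p = f) :
    ∃ (𝒬 : RelProj.QCGrAlg Y) (Q : Scheme.{u}) (q : Q ⟶ Y)
      (chartQ : ∀ (U : Y.Opens) (hU : IsAffineOpen U), ((q ⁻¹ᵁ U : Q.Opens) : Scheme.{u}) ≅ Proj (𝒬.deg U hU))
      (OQ : Q.Modules)
      (lamQ : ∀ (U : Y.Opens) (hU : IsAffineOpen U),
        OQ ⟶ (Scheme.Modules.pushforward (RelProj.emb q chartQ U hU)).obj (GrTwist.twist (𝒬.deg U hU) 1))
      (e : X ≅ Q),
      𝒬.IsGenDegOne ∧ 𝒬.IsFTDeg 1 ∧ RelProj.IsRelProj 𝒬 q chartQ ∧ RelProj.IsRelTwist 𝒬 q chartQ 1 OQ lamQ ∧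
        e.hom ≫ q = f ∧ Nonempty ((Scheme.Modules.pullback i).obj O1 ≅ (Scheme.Modules.pullback e.hom).obj OQ) := by
  classical
  have := D.hE
  have hEfin : ∀ U : Y.Opens, IsAffineOpen U → Module.Finite Γ(Y, U) Γ(E, U) := fun U hU =>
    Coherent.finite_sections E (Coherent.locallyFinGen_of_isFT E hft) hU
  have hft1 := SymAlgLib.isFTDeg_one_of_isGrSymAlg D.hj hEfin
  obtain ⟨-, hqc⟩ := ProjLib.finiteType_relProj_of_genDegOne D.hP D.hgen hft1
  have : QuasiCompact f := by rw [← hi]; infer_instance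
  let L := (Scheme.Modules.pullback i).obj O1
  have hLinv : PicF.IsInvertible L := PicLoc.isInvertible_pullback i D.invertible
  have hL : Coh.IsQCoh L := isQCoh_of_isInvertible hLinv
  obtain ⟨t, ht⟩ := exists_classified (E := E) (φ := φ) i hi (Iso.refl L)
  have hjL := SymAlgLib.isGrSymAlg_symGrAlg L
  obtain ⟨I, hI⟩ := exists_evalIdealData (f := f) (t := t) D.hj hjL
  obtain ⟨𝒬, π, hπ, hπU⟩ := exists_quotient I
  have hπ1 : ∀ (U : Y.Opens) (hU : IsAffineOpen U), ∀ b ∈ 𝒬.deg U hU 1,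
      ∃ a ∈ 𝒮.deg U hU 1, RelProj.gradedHomAt π hπ U hU a = b := fun U hU b hb => (hπU U hU).2.2 1 b hb
  have hgen : 𝒬.IsGenDegOne := by
    intro U hU
    refine top_le_iff.1 fun x _ => ?_
    obtain ⟨a, rfl⟩ := (hπU U hU).1 x
    have ha : a ∈ Subring.closure ((𝒮.deg U hU 0 : Set (𝒮.presheaf.obj (op U))) ∪ (𝒮.deg U hU 1 : Set _)) :=
      (D.hgen U hU).ge (Subring.mem_top a)
    refine (Subring.closure_le (t := (Subring.closure ((𝒬.deg U hU 0 : Set (𝒬.presheaf.obj (op U))) ∪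
      (𝒬.deg U hU 1 : Set _))).comap (π.hom.app (op U)).hom)).2 ?_ ha
    rintro y (hy | hy)
    · exact Subring.subset_closure (Or.inl (hπ U hU 0 y hy))
    · exact Subring.subset_closure (Or.inr (hπ U hU 1 y hy))
  have hftQ : 𝒬.IsFTDeg 1 := by
    intro U hU
    obtain ⟨T, hT, hspan⟩ := hft1 U hU
    refine ⟨T.image (π.hom.app (op U)).hom, ?_, fun x hx => ?_⟩
    · intro y hy
      obtain ⟨s, hs, rfl⟩ := Finset.mem_image.1 hy
      exact hπ U hU 1 s (hT hs)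
    · obtain ⟨a, ha, rfl⟩ := (hπU U hU).2.2 1 x hx
      obtain ⟨c, hc⟩ := hspan a ha
      refine ⟨fun y => ∑ s ∈ T.filter (fun s => π.hom.app (op U) s = y), c s, ?_⟩
      rw [hc, map_sum, ← Finset.sum_fiberwise_of_maps_to
        (fun s hs => Finset.mem_image_of_mem (π.hom.app (op U)).hom hs)]
      refine Finset.sum_congr rfl fun y _ => ?_
      rw [map_sum, Finset.sum_mul]
      refine Finset.sum_congr rfl fun s hs => ?_
      rw [map_mul]
      have h0 : π.hom.app (op U) (𝒮.str.app (op U) (c s)) = 𝒬.str.app (op U) (c s) :=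
        ConcreteCategory.congr_hom (congrArg (fun z => z.app (op U)) π.comm) (c s)
      rw [h0, (Finset.mem_filter.1 hs).2]
  obtain ⟨Q, q, chartQ, hQ⟩ := ProjLib.exists_isRelProj 𝒬
  obtain ⟨OQ, lamQ, hOQ⟩ := TwistLib.G.exists_isRelTwist (n := (1 : ℤ)) hQ
  have hirr := irrelevant_le_of_degOne hgen hπ hπ1
  obtain ⟨h, hh, -⟩ := ProjLib.existsUnique_relProjMap π hπ hirr D.hP hQ
  have : IsClosedImmersion h := isClosedImmersion_relProjMap hgen D.hP hQ hh hπ1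
  have hker : h.ker = i.ker := by
    refine Scheme.IdealSheafData.ext_of_iSup_eq_top
      (fun k : Σ U : Y.affineOpens, Γ(E, U.1) => ⟨opn j p chart k.1.2 k.2, D.isAffineOpen_opn k.1.2 k.2⟩)
      D.iSup_opn fun k => ?_
    obtain ⟨⟨U, hU⟩, e⟩ := k
    rw [Scheme.Hom.ker_apply, Scheme.Hom.ker_apply]
    ext c
    obtain ⟨x, rfl⟩ := (D.theta_bijective hU e).2 c
    obtain ⟨n, a, ha, rfl⟩ := Away.mk_surjective (𝒮.deg U hU) (D.gen1_mem hU e) x
    rw [RingHom.mem_ker, RingHom.mem_ker]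
    have hWU : i ⁻¹ᵁ opn j p chart hU e ≤ f ⁻¹ᵁ U := (i.preimage_mono (D.opn_le hU e)).trans (le_of_over hi U)
    have hW₀ : IsAffineOpen (i ⁻¹ᵁ opn j p chart hU e) := (D.isAffineOpen_opn hU e).preimage i
    obtain ⟨F, hF⟩ := exists_isEval (𝒮L := SymAlgLib.symGrAlg L) (jL := SymAlgLib.gen L) D.hj t hU _ hWU
    rw [relProjMap_app_theta_eq_zero_iff D hQ hh hU e ha, eval_eq_zero_iff D hL hjL ht hU e hW₀ hWU hF ha]
    constructor
    · rintro ⟨k, hk⟩
      have hmem := ((hπU U hU).2.1 _).1 hk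
      rw [hI U hU, mem_evalKer] at hmem
      have h0 := hmem ⟨_, hW₀⟩ hWU F hF
      rw [map_mul, map_pow, hF.2] at h0
      have hg := isGen_classified D ht hU e hWU
      obtain ⟨χ, hχ0, hχ1⟩ := exists_dehom hjL hW₀ hg
      obtain ⟨c₀, hc₀⟩ := exists_eq_str_mul_pow hW₀ hg hjL
        (hF.map_mem D.hj hjL hW₀ (show a ∈ 𝒮.deg U hU n by simpa using ha))
      have h1 := congrArg χ h0
      rw [map_mul, map_pow, map_zero, hχ1, hg.coef_eq le_rfl (by rw [resM_self, one_smul]), one_pow, one_mul, hc₀,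
        map_mul, map_pow, hχ0, hχ1, hg.coef_eq le_rfl (by rw [resM_self, one_smul]), one_pow, mul_one] at h1
      rw [hc₀, h1, map_zero, zero_mul]
    · intro hFa
      obtain ⟨k, hk⟩ := exists_pow_mul_mem_evalKer D hL hjL ht hU e hWU hF hFa
      exact ⟨k, ((hπU U hU).2.1 _).2 (by rw [hI U hU]; exact hk)⟩
  have := IsClosedImmersion.isIso_lift h i hker
  let e := asIso (IsClosedImmersion.lift h i hker.le)
  have he : e.hom ≫ h = i := IsClosedImmersion.lift_fac _ _ _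
  refine ⟨𝒬, Q, q, chartQ, OQ, lamQ, e, hgen, hftQ, hQ, hOQ, ?_, ?_⟩
  · rw [← ProjLib.relProjMap_comp π hπ hirr D.hP hQ hh, ← Category.assoc, he, hi]
  · obtain ⟨eO⟩ := nonempty_pullback_twist_iso D.hgen D.hP hQ hh D.hO1 hOQ
    obtain ⟨c, -⟩ := exists_compIso e.hom h i he O1
    exact ⟨c ≪≫ (Scheme.Modules.pullback e.hom).mapIso eO⟩

/-- A closed subscheme of a projective bundle of finite type is projective. -/
theorem isProjective_of_closedImmersion (D : PBundle E 𝒮 j p chart O1 lam φ) (hft : CohB1.IsFT E)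
    {f : X ⟶ Y} (i : X ⟶ P) [IsClosedImmersion i] (hi : i ≫ p = f) : RelProj.IsProjective f := by
  obtain ⟨𝒬, Q, q, chartQ, OQ, lamQ, e, h1, h2, h3, -, h4, -⟩ := exists_relProj_of_closedImmersion D hft i hi
  exact ⟨𝒬, Q, q, chartQ, e, h1, h2, h3, h4⟩

end projective

end Groth.Agent.RelVALib
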