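import Groth.Agent.RelVALib.QAff
import Groth.Agent.SymAlgLib.SpecMaps
import Groth.Agent.Coherent.SubFTApps
import Groth.Agent.S4353
import Groth.Agent.S4354

/-!
# Affine morphisms of finite type embed into vector bundles
-/

set_option autoImplicit false
set_option backward.isDefEq.respectTransparency.types false

universe u

open CategoryTheory Limits AlgebraicGeometry TopologicalSpace Opposite

namespace Groth.Agent.RelVALib

variable {X Y : Scheme.{u}} (f : X ⟶ Y) [IsAffineHom f]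

/-- A scheme affine over the base is the relative spectrum of its direct image. -/
theorem isIso_toRelSpec : IsIso (toRelSpec f) := by
  have hf : ∀ V : Y.Opens, IsAffineOpen V → Scheme.IsQuasiAffine (f ⁻¹ᵁ V : Scheme.{u}) := fun V hV => by
    have : IsAffine (f ⁻¹ᵁ V : Scheme.{u}) := hV.preimage f
    infer_instance
  have := isOpenImmersion_toRelSpec f hf
  let A := RelSpec.QCAlg.directImage f
  have : Surjective (toRelSpec f) := ⟨fun z => by
    obtain ⟨V, hV, hzV, -⟩ := exists_isAffineOpen_mem_and_subset (x := A.π z) (U := ⊤) trivial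
    obtain ⟨w, hw⟩ : z ∈ Set.range (A.ι V hV) := (A.π_preimage V hV).le hzV
    have : IsAffine (f ⁻¹ᵁ V : Scheme.{u}) := hV.preimage f
    have hc : (f ⁻¹ᵁ V).ι ≫ toRelSpec f =
        (f ⁻¹ᵁ V).toSpecΓ ≫ Spec.map (H8Lim.algComp f (A := A) (𝟙 _) V) ≫ A.ι V hV :=
      (H8Lim.ι_toSpec f (A := A) (𝟙 _) ⟨V, hV⟩).trans rfl
    have : IsIso (Spec.map (H8Lim.algComp f (A := A) (𝟙 _) V)) := by
      have : IsIso (H8Lim.algComp f (A := A) (𝟙 _) V) := by
        change IsIso ((𝟙 (f.base _* X.presheaf) : _ ⟶ _).app (op V))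
        infer_instance
      infer_instance
    have : IsIso (f ⁻¹ᵁ V).toSpecΓ := (hV.preimage f).isoSpec.isIso_hom
    obtain ⟨y, hy⟩ := ((f ⁻¹ᵁ V).toSpecΓ ≫ Spec.map (H8Lim.algComp f (A := A) (𝟙 _) V)).surjective w
    refine ⟨(f ⁻¹ᵁ V).ι y, ?_⟩
    rw [← Scheme.Hom.comp_apply, hc, ← hw, ← hy, ← Scheme.Hom.comp_apply, Category.assoc]⟩
  exact isIso_of_isOpenImmersion_of_opensRange_eq_top _ (top_le_iff.1 fun z _ => (toRelSpec f).surjective z)

open Groth.Agent.Coherent in
theorem exists_closedImmersion_symAlg (hY : (CompactSpace Y ∧ Y.IsSeparated) ∨ NoetherianSpace Y)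
    [LocallyOfFiniteType f] :
    ∃ (E : Y.Modules) (_ : Coh.IsCoh E) (A : RelSpec.QCAlg Y) (j : E ⟶ A.toModule)
      (_ : RelSpec.IsSymAlg E A j) (i : X ⟶ A.spec), IsClosedImmersion i ∧ i ≫ A.π = f := by
  let B := RelSpec.QCAlg.directImage f
  have hB : ∀ U : Y.affineOpens, (B.str.app (op (U : Y.Opens))).hom.FiniteType := fun U => by
    have h1 := LocallyOfFiniteType.finiteType_appLE f (U := (U : Y.Opens)) U.2 (V := f ⁻¹ᵁ U)
      (U.2.preimage f) le_rfl
    rw [← f.app_eq_appLE] at h1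
    exact h1
  obtain ⟨E, j, -, hE, hFT, hgen⟩ : ∃ (E : Y.Modules) (j : E ⟶ B.toModule), Mono j ∧ Coh.IsQCoh E ∧ CohB1.IsFT E ∧
      ∀ U : Y.affineOpens, Subring.closure (Set.range (B.str.app (op (U : Y.Opens))).hom ∪
          Set.range (fun e : E.val.obj (op (U : Y.Opens)) ↦
            (show B.presheaf.obj (op (U : Y.Opens)) from (j.val.app (op (U : Y.Opens))).hom e))) = ⊤ := by
    rcases hY with ⟨_, _⟩ | _
    · exact S4354.result B hB
    · exact S4353.result B hB
  obtain ⟨ψ, hψ, -⟩ := SymAlgLib.isSymAlg_symAlg E B j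
  have := SymAlgLib.isClosedImmersion_specMap ψ fun U hU b => by
    have hb : b ∈ (ψ.hom.app (op U)).hom.range := by
      refine (Subring.closure_le.2 ?_) ((hgen ⟨U, hU⟩).ge (Subring.mem_top b))
      rintro _ (⟨r, rfl⟩ | ⟨e, rfl⟩)
      · exact ⟨(SymAlgLib.symAlg E).str.app (op U) r,
          ConcreteCategory.congr_hom (NatTrans.congr_app ψ.comm (op U)) r⟩
      · refine ⟨(SymAlgLib.gen E).app U e, ?_⟩
        rw [← hψ]
        rfl
    exact hb
  have := isIso_toRelSpec f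
  refine ⟨E, ⟨hE, hFT⟩, _, _, SymAlgLib.isSymAlg_symAlg E, toRelSpec f ≫ RelSpec.QCAlg.specMap ψ,
    inferInstance, ?_⟩
  rw [Category.assoc, RelSpec.QCAlg.specMap_π, toRelSpec_π]

end Groth.Agent.RelVALib
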