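import Mathlib
import Groth.Prelude.Def_RelSpec
import Groth.Agent.H8Lim.RelSpecMap
import Groth.Agent.RelVALib.LineFun

/-!
# The contraction of a section

For `f : V ⟶ Y` and a morphism `j0 : X ⟶ V` with `j0 ≫ f = p`, the spectrum of the algebra of pairs of a
function on the base and a function on `V` agreeing on `X` contracts `j0` to a section of the base.
-/

set_option autoImplicit false
set_option linter.unusedSectionVars false
set_option backward.isDefEq.respectTransparency.types false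
set_option maxHeartbeats 1000000

universe u

open AlgebraicGeometry CategoryTheory CategoryTheory.Limits TopologicalSpace Opposite
open Groth.Agent.Coherent Groth.Agent.PicLib

namespace Groth.Agent.RelVALib

variable {X Y V : Scheme.{u}} (f : V ⟶ Y) (p : X ⟶ Y) (j0 : X ⟶ V) (hj : j0 ≫ f = p)

include hj in
theorem le_preimage_cone (U : Y.Opens) : p ⁻¹ᵁ U ≤ j0 ⁻¹ᵁ (f ⁻¹ᵁ U) := by
  rw [← Scheme.Hom.comp_preimage, hj]

/-- The restriction of functions to the section. -/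
noncomputable def zeroHom (U : Y.Opens) : Γ(V, f ⁻¹ᵁ U) →+* Γ(X, p ⁻¹ᵁ U) :=
  (j0.appLE (f ⁻¹ᵁ U) (p ⁻¹ᵁ U) (le_preimage_cone f p j0 hj U)).hom

theorem zeroHom_res {U U' : Y.Opens} (h : U' ≤ U) (v : Γ(V, f ⁻¹ᵁ U)) :
    zeroHom f p j0 hj U' (res (f.preimage_mono h) v) = res (p.preimage_mono h) (zeroHom f p j0 hj U v) := by
  have h1 := ConcreteCategory.congr_hom
    (j0.map_appLE (le_preimage_cone f p j0 hj U') (homOfLE (f.preimage_mono h)).op) v
  have h2 := ConcreteCategory.congr_hom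
    (j0.appLE_map (le_preimage_cone f p j0 hj U) (homOfLE (p.preimage_mono h)).op) v
  exact h1.trans h2.symm

theorem app_res {A B : Scheme.{u}} (k : A ⟶ B) {U U' : B.Opens} (h : U' ≤ U) (r : Γ(B, U)) :
    k.app U' (res h r) = res (k.preimage_mono h) (k.app U r) :=
  ConcreteCategory.congr_hom (k.naturality (homOfLE h).op) r

theorem zeroHom_app (U : Y.Opens) (r : Γ(Y, U)) : zeroHom f p j0 hj U (f.app U r) = p.app U r := by
  subst hj
  show (f.app U ≫ j0.appLE _ _ _) r = _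
  rw [Scheme.Hom.app_eq_appLE, Scheme.Hom.appLE_comp_appLE, ← Scheme.Hom.app_eq_appLE]

/-- Pairs of functions agreeing on the section. -/
noncomputable def coneSub (U : Y.Opens) : Subring (Γ(Y, U) × Γ(V, f ⁻¹ᵁ U)) :=
  RingHom.eqLocus ((p.app U).hom.comp (RingHom.fst _ _)) ((zeroHom f p j0 hj U).comp (RingHom.snd _ _))

theorem mem_coneSub {U : Y.Opens} {x : Γ(Y, U) × Γ(V, f ⁻¹ᵁ U)} :
    x ∈ coneSub f p j0 hj U ↔ p.app U x.1 = zeroHom f p j0 hj U x.2 := Iff.rfl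

/-- The presheaf of pairs. -/
noncomputable def conePresheaf : TopCat.Presheaf CommRingCat.{u} Y.carrier where
  obj U := CommRingCat.of (coneSub f p j0 hj U.unop)
  map {U W} i := CommRingCat.ofHom ((RingHom.prodMap (PicLib.res i.unop.le)
      (PicLib.res (f.preimage_mono i.unop.le))).restrict _ _ fun x hx => by
    rw [mem_coneSub] at hx ⊢
    refine ((app_res p i.unop.le x.1).trans ?_).trans (zeroHom_res f p j0 hj i.unop.le x.2).symm
    exact congrArg _ hx)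
  map_id U := by
    ext x
    · exact ConcreteCategory.congr_hom (Y.presheaf.map_id U) _
    · exact ConcreteCategory.congr_hom (V.presheaf.map_id _) _
  map_comp {U W T} i k := by
    ext x
    · exact (res_res i.unop.le k.unop.le _).symm
    · exact (res_res (f.preimage_mono i.unop.le) (f.preimage_mono k.unop.le) _).symm

/-- The structure map. -/
noncomputable def coneStr : Y.presheaf ⟶ conePresheaf f p j0 hj where
  app U := CommRingCat.ofHom ((RingHom.prod (RingHom.id _) (f.app U.unop).hom).codRestrict _ fun r =>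
    (mem_coneSub f p j0 hj).2 (zeroHom_app f p j0 hj U.unop r).symm)
  naturality U W i := by
    refine CommRingCat.hom_ext (RingHom.ext fun r => Subtype.ext (Prod.ext ?_ ?_))
    · show PicLib.res i.unop.le r = PicLib.res i.unop.le r
      rfl
    · exact app_res f i.unop.le r

theorem sec_ext_scheme {Z : Scheme.{u}} {U : Z.Opens} (a b : Γ(Z, U))
    (h : ∀ x ∈ U, ∃ (W : Z.Opens) (hW : W ≤ U), x ∈ W ∧ PicLib.res hW a = PicLib.res hW b) : a = b :=
  AmpleLib.sec_ext (Coh.structureModule Z) a b h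

theorem isSheaf_conePresheaf : (conePresheaf f p j0 hj).IsSheaf := by
  rw [TopCat.Presheaf.isSheaf_iff_isSheafUniqueGluing]
  intro ι U sf hsf
  obtain ⟨r, hr, hru⟩ := TopCat.Presheaf.IsSheaf.isSheafUniqueGluing Y.sheaf.property U (fun i => (sf i).1.1)
    fun i k => congrArg (fun x => x.1.1) (hsf i k)
  obtain ⟨v, hv, hvu⟩ := TopCat.Presheaf.IsSheaf.isSheafUniqueGluing
    (TopCat.Sheaf.pushforward_sheaf_of_sheaf f.base V.sheaf.property) U (fun i => (sf i).1.2)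
    fun i k => congrArg (fun x => x.1.2) (hsf i k)
  have hmem : (r, v) ∈ coneSub f p j0 hj (iSup U) := by
    refine (mem_coneSub f p j0 hj).2 ?_
    refine sec_ext_scheme _ _ fun x hx => ?_
    obtain ⟨i, hi⟩ := Opens.mem_iSup.1 (show p x ∈ iSup U from hx)
    refine ⟨p ⁻¹ᵁ U i, p.preimage_mono (le_iSup U i), hi, ?_⟩
    refine ((app_res p (le_iSup U i) r).symm.trans ?_).trans (zeroHom_res f p j0 hj (le_iSup U i) v)
    have h1 : PicLib.res (le_iSup U i) r = (sf i).1.1 := hr i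
    have h2 : PicLib.res (f.preimage_mono (le_iSup U i)) v = (sf i).1.2 := hv i
    rw [h1, h2]
    exact (sf i).2
  refine ⟨⟨(r, v), hmem⟩, fun i => Subtype.ext (Prod.ext (hr i) (hv i)), fun y hy => ?_⟩
  exact Subtype.ext (Prod.ext (hru y.1.1 fun i => congrArg (fun x => x.1.1) (hy i))
    (hvu y.1.2 fun i => congrArg (fun x => x.1.2) (hy i)))

variable [QuasiCompact f] [QuasiSeparated f] [QuasiCompact p] [QuasiSeparated p]

theorem isQC_conePresheaf : RelSpec.IsQC (conePresheaf f p j0 hj) (coneStr f p j0 hj) := by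
  intro U hU t
  let D := Y.basicOpen t
  have hD : D ≤ U := Y.basicOpen_le t
  let := ((conePresheaf f p j0 hj).map (homOfLE hD).op).hom.toAlgebra
  let := (Y.presheaf.map (homOfLE hD).op).hom.toAlgebra
  let := (V.presheaf.map (homOfLE (f.preimage_mono hD)).op).hom.toAlgebra
  let := (X.presheaf.map (homOfLE (p.preimage_mono hD)).op).hom.toAlgebra
  have lY : IsLocalization.Away t Γ(Y, D) := hU.isLocalization_basicOpen t
  have lV : IsLocalization.Away (f.app U t) Γ(V, f ⁻¹ᵁ D) := RelSpec.QCAlg.isQC_pushforward f U hU t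
  have lX : IsLocalization.Away (p.app U t) Γ(X, p ⁻¹ᵁ D) := RelSpec.QCAlg.isQC_pushforward p U hU t
  have hunit : IsUnit (PicLib.res hD t) := RingedSpace.isUnit_res_basicOpen Y.toRingedSpace t
  refine IsLocalization.Away.mk _ ?_ ?_ ?_
  · exact (congr($((coneStr f p j0 hj).naturality (homOfLE hD).op).hom t)) ▸
      hunit.map ((coneStr f p j0 hj).app (op D)).hom
  · intro x
    obtain ⟨n₁, r₀, hr₀⟩ := IsLocalization.Away.surj t x.1.1
    obtain ⟨n₂, v₀, hv₀⟩ := IsLocalization.Away.surj (f.app U t) x.1.2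
    replace hr₀ : x.1.1 * PicLib.res hD t ^ n₁ = PicLib.res hD r₀ := hr₀
    replace hv₀ : x.1.2 * PicLib.res (f.preimage_mono hD) (f.app U t) ^ n₂ =
        PicLib.res (f.preimage_mono hD) v₀ := hv₀
    obtain ⟨r₁, hr₁⟩ : ∃ r₁, x.1.1 * PicLib.res hD t ^ (n₁ + n₂) = PicLib.res hD r₁ := by
      refine ⟨r₀ * t ^ n₂, ?_⟩
      rw [map_mul, map_pow, pow_add, ← mul_assoc, hr₀]
    obtain ⟨v₁, hv₁⟩ : ∃ v₁, x.1.2 * PicLib.res (f.preimage_mono hD) (f.app U t) ^ (n₁ + n₂) =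
        PicLib.res (f.preimage_mono hD) v₁ := by
      refine ⟨v₀ * f.app U t ^ n₁, ?_⟩
      rw [map_mul, map_pow, add_comm, pow_add, ← mul_assoc, hv₀]
    have hd : algebraMap Γ(X, p ⁻¹ᵁ U) Γ(X, p ⁻¹ᵁ D) (p.app U r₁) =
        algebraMap Γ(X, p ⁻¹ᵁ U) Γ(X, p ⁻¹ᵁ D) (zeroHom f p j0 hj U v₁) := by
      show PicLib.res (p.preimage_mono hD) (p.app U r₁) = PicLib.res (p.preimage_mono hD) (zeroHom f p j0 hj U v₁)
      rw [← app_res p hD, ← zeroHom_res f p j0 hj hD, ← hr₁, ← hv₁, map_mul, map_mul, map_pow, map_pow, ← app_res f hD,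
        zeroHom_app]
      exact congrArg (· * _) x.2
    obtain ⟨k, hk⟩ := IsLocalization.Away.exists_of_eq (p.app U t) hd
    refine ⟨n₁ + n₂ + k, ⟨(t ^ k * r₁, f.app U t ^ k * v₁), ?_⟩, Subtype.ext (Prod.ext ?_ ?_)⟩
    · refine (mem_coneSub f p j0 hj).2 ?_
      show p.app U (t ^ k * r₁) = zeroHom f p j0 hj U (f.app U t ^ k * v₁)
      rw [map_mul, map_mul, map_pow, map_pow, zeroHom_app]
      exact hk
    · show x.1.1 * PicLib.res hD t ^ (n₁ + n₂ + k) = PicLib.res hD (t ^ k * r₁)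
      rw [map_mul, map_pow, ← hr₁, pow_add]
      ring
    · show x.1.2 * PicLib.res (f.preimage_mono hD) (f.app U t) ^ (n₁ + n₂ + k) =
        PicLib.res (f.preimage_mono hD) (f.app U t ^ k * v₁)
      rw [map_mul, map_pow, ← hv₁, pow_add]
      ring
  · intro a b hab
    obtain ⟨k₁, hk₁⟩ := IsLocalization.Away.exists_of_eq (S := Γ(Y, D)) t (congrArg (fun x => x.1.1) hab)
    obtain ⟨k₂, hk₂⟩ := IsLocalization.Away.exists_of_eq (S := Γ(V, f ⁻¹ᵁ D)) (f.app U t)
      (congrArg (fun x => x.1.2) hab)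
    refine ⟨k₁ + k₂, Subtype.ext (Prod.ext ?_ ?_)⟩
    · show t ^ (k₁ + k₂) * a.1.1 = t ^ (k₁ + k₂) * b.1.1
      rw [add_comm, pow_add, mul_assoc, mul_assoc]
      exact congrArg (t ^ k₂ * ·) hk₁
    · show f.app U t ^ (k₁ + k₂) * a.1.2 = f.app U t ^ (k₁ + k₂) * b.1.2
      rw [pow_add, mul_assoc, mul_assoc]
      exact congrArg (f.app U t ^ k₁ * ·) hk₂

/-- The algebra of pairs. -/
noncomputable def coneAlg : RelSpec.QCAlg Y :=
  ⟨conePresheaf f p j0 hj, isSheaf_conePresheaf f p j0 hj, coneStr f p j0 hj, isQC_conePresheaf f p j0 hj⟩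

/-- The first projection. -/
noncomputable def coneFst : (coneAlg f p j0 hj).presheaf ⟶ (𝟙 Y : Y ⟶ Y).base _* Y.presheaf where
  app U := CommRingCat.ofHom ((RingHom.fst _ _).comp (coneSub f p j0 hj U.unop).subtype)
  naturality U W i := CommRingCat.hom_ext (RingHom.ext fun x => by exact Eq.refl _)

/-- The second projection. -/
noncomputable def coneSnd : (coneAlg f p j0 hj).presheaf ⟶ f.base _* V.presheaf where
  app U := CommRingCat.ofHom ((RingHom.snd _ _).comp (coneSub f p j0 hj U.unop).subtype)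
  naturality U W i := CommRingCat.hom_ext (RingHom.ext fun x => by exact Eq.refl _)

/-- The vertex. -/
noncomputable def coneVertex : Y ⟶ (coneAlg f p j0 hj).spec :=
  H8Lim.toSpec (𝟙 Y) (A := coneAlg f p j0 hj) (coneFst f p j0 hj)

/-- The contraction. -/
noncomputable def coneMap : V ⟶ (coneAlg f p j0 hj).spec :=
  H8Lim.toSpec f (A := coneAlg f p j0 hj) (coneSnd f p j0 hj)

theorem coneVertex_π : coneVertex f p j0 hj ≫ (coneAlg f p j0 hj).π = 𝟙 Y :=
  H8Lim.toSpec_π (𝟙 Y) (A := coneAlg f p j0 hj) _ (by ext U r; rfl)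

theorem coneMap_π : coneMap f p j0 hj ≫ (coneAlg f p j0 hj).π = f :=
  H8Lim.toSpec_π f (A := coneAlg f p j0 hj) _ (by ext U r; rfl)

theorem section_coneMap : j0 ≫ coneMap f p j0 hj = p ≫ coneVertex f p j0 hj := by
  refine (H8Lim.preCover p).hom_ext _ _ fun (U : Y.affineOpens) => ?_
  show (p ⁻¹ᵁ U.1).ι ≫ j0 ≫ coneMap f p j0 hj = (p ⁻¹ᵁ U.1).ι ≫ p ≫ coneVertex f p j0 hj
  have e1 : (p ⁻¹ᵁ U.1).ι ≫ j0 = j0.resLE _ _ (le_preimage_cone f p j0 hj U.1) ≫ (f ⁻¹ᵁ U.1).ι :=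
    (j0.resLE_comp_ι _).symm
  have e2 : (p ⁻¹ᵁ U.1).ι ≫ p = p.resLE U.1 _ le_rfl ≫ ((𝟙 Y : Y ⟶ Y) ⁻¹ᵁ U.1).ι := (p.resLE_comp_ι _).symm
  rw [reassoc_of% e1, reassoc_of% e2, coneMap, coneVertex, H8Lim.ι_toSpec]
  erw [H8Lim.ι_toSpec (𝟙 Y) (A := coneAlg f p j0 hj) (coneFst f p j0 hj) U]
  rw [H8Lim.toSpecChart, H8Lim.toSpecChart]
  have key : ∀ {A B : Scheme.{u}} (k : A ⟶ B) (O : B.Opens) (O' : A.Opens) (h : O' ≤ k ⁻¹ᵁ O),
      k.resLE O O' h ≫ O.toSpecΓ = O'.toSpecΓ ≫ Spec.map (k.appLE O O' h) := fun k O O' h => by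
    rw [Scheme.Hom.appLE, Spec.map_comp, ← Category.assoc, Scheme.Opens.toSpecΓ_SpecMap_presheaf_map,
      Category.assoc, Scheme.Opens.toSpecΓ_naturality, ← Category.assoc]
    rfl
  rw [reassoc_of% (key j0 (f ⁻¹ᵁ U.1) (p ⁻¹ᵁ U.1) (le_preimage_cone f p j0 hj U.1))]
  erw [reassoc_of% (key p ((𝟙 Y : Y ⟶ Y) ⁻¹ᵁ U.1) (p ⁻¹ᵁ U.1) le_rfl)]
  rw [← Spec.map_comp_assoc, ← Spec.map_comp_assoc]
  congr 3
  refine CommRingCat.hom_ext (RingHom.ext fun x => ?_)
  refine x.2.symm.trans ?_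
  show p.app U.1 x.1.1 = p.appLE U.1 _ le_rfl x.1.1
  rw [Scheme.Hom.app_eq_appLE]

theorem preimage_basicOpen_toSpec {Z : Scheme.{u}} (h : Z ⟶ Y) {A : RelSpec.QCAlg Y}
    (φ : A.presheaf ⟶ h.base _* Z.presheaf) (hφ : A.str ≫ φ = h.c) (U : Y.affineOpens) (a : A.presheaf.obj (op U.1)) :
    H8Lim.toSpec h φ ⁻¹ᵁ A.spec.basicOpen (secVal A U.1 a) = Z.basicOpen (φ.app (op U.1) a) := by
  have heq : h ⁻¹ᵁ U.1 = H8Lim.toSpec h φ ⁻¹ᵁ (A.π ⁻¹ᵁ U.1) := by
    rw [← Scheme.Hom.comp_preimage, H8Lim.toSpec_π h φ hφ]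
  rw [Scheme.preimage_basicOpen]
  have h1 := ConcreteCategory.congr_hom (H8Lim.toSpec_appLE h φ U heq.le) (secVal A U.1 a)
  have h2 : A.gammaAff U.1 U.2 (secVal A U.1 a) = a := valAt_ι A U.2 a
  rw [CommRingCat.comp_apply, h2] at h1
  have h3 : Z.basicOpen ((H8Lim.toSpec h φ).appLE _ _ heq.le (secVal A U.1 a)) =
      Z.basicOpen ((H8Lim.toSpec h φ).app _ (secVal A U.1 a)) := by
    rw [Scheme.Hom.appLE, CommRingCat.comp_apply, Scheme.basicOpen_res, inf_eq_right]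
    exact (Scheme.basicOpen_le _ _).trans heq.ge
  rw [← h3, h1]

theorem preimage_coneMap (U : Y.affineOpens) (a : coneSub f p j0 hj U.1) :
    coneMap f p j0 hj ⁻¹ᵁ (coneAlg f p j0 hj).spec.basicOpen (secVal (coneAlg f p j0 hj) U.1 a) =
      V.basicOpen a.1.2 :=
  preimage_basicOpen_toSpec f (coneSnd f p j0 hj) (by ext W r; rfl) U a

theorem preimage_coneVertex (U : Y.affineOpens) (a : coneSub f p j0 hj U.1) :
    coneVertex f p j0 hj ⁻¹ᵁ (coneAlg f p j0 hj).spec.basicOpen (secVal (coneAlg f p j0 hj) U.1 a) =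
      Y.basicOpen a.1.1 :=
  preimage_basicOpen_toSpec (𝟙 Y) (coneFst f p j0 hj) (by ext W r; rfl) U a

/-- On the locus of an affine non-vanishing function the contraction is an open immersion. -/
theorem isOpenImmersion_piece (U : Y.affineOpens) (a : coneSub f p j0 hj U.1) (ha : a.1.1 = 0)
    (haff : IsAffineOpen (V.basicOpen a.1.2)) :
    IsOpenImmersion ((V.basicOpen a.1.2).ι ≫ coneMap f p j0 hj) := by
  let v := a.1.2
  let D := V.basicOpen v
  have hD : D ≤ f ⁻¹ᵁ U.1 := V.basicOpen_le v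
  let A := coneAlg f p j0 hj
  let ρ : A.presheaf.obj (op U.1) ⟶ Γ(V, D) :=
    (coneSnd f p j0 hj).app (op U.1) ≫ V.presheaf.map (homOfLE hD).op
  have e : D.ι ≫ coneMap f p j0 hj = D.toSpecΓ ≫ Spec.map ρ ≫ A.ι U.1 U.2 := by
    rw [← Scheme.homOfLE_ι V hD, Category.assoc, coneMap, H8Lim.ι_toSpec, H8Lim.toSpecChart,
      ← Scheme.Opens.toSpecΓ_SpecMap_presheaf_map_assoc, ← Spec.map_comp_assoc]
  let := ρ.hom.toAlgebra
  have : IsLocalization.Away (show A.presheaf.obj (op U.1) from a) Γ(V, D) := by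
    let := (V.presheaf.map (homOfLE hD).op).hom.toAlgebra
    have lD : IsLocalization.Away v Γ(V, D) := isLocalization_basicOpen_of_qcqs
      (f.isCompact_preimage U.2.isCompact) (f.isQuasiSeparated_preimage U.2.isQuasiSeparated) v
    refine IsLocalization.Away.mk _ ?_ ?_ ?_
    · show IsUnit (PicLib.res hD v)
      exact RingedSpace.isUnit_res_basicOpen V.toRingedSpace v
    · intro w
      obtain ⟨n, w₀, hw⟩ := IsLocalization.Away.surj v w
      replace hw : w * PicLib.res hD v ^ n = PicLib.res hD w₀ := hw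
      refine ⟨n + 1, ⟨(0, w₀ * v), ?_⟩, ?_⟩
      · rw [mem_coneSub, map_zero, map_mul]
        have h0 : zeroHom f p j0 hj U.1 v = 0 :=
          ((mem_coneSub f p j0 hj).1 a.2).symm.trans (by rw [ha, map_zero])
        rw [h0, mul_zero]
      · show w * PicLib.res hD v ^ (n + 1) = PicLib.res hD (w₀ * v)
        rw [map_mul, ← hw, pow_succ, mul_assoc]
    · intro x y hxy
      obtain ⟨n, hn⟩ := IsLocalization.Away.exists_of_eq (S := Γ(V, D)) v
        (show PicLib.res hD x.1.2 = PicLib.res hD y.1.2 from hxy)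
      refine ⟨n + 1, Subtype.ext (Prod.ext ?_ ?_)⟩
      · show a.1.1 ^ (n + 1) * x.1.1 = a.1.1 ^ (n + 1) * y.1.1
        rw [ha, zero_pow n.succ_ne_zero, zero_mul, zero_mul]
      · show v ^ (n + 1) * x.1.2 = v ^ (n + 1) * y.1.2
        rw [pow_succ', mul_assoc, mul_assoc, hn]
  have : IsOpenImmersion (Spec.map ρ) :=
    IsOpenImmersion.of_isLocalization (R := A.presheaf.obj (op U.1)) (S := Γ(V, D)) (show A.presheaf.obj (op U.1) from a)
  have : IsIso D.toSpecΓ := by rw [← IsAffineOpen.isoSpec_hom (hU := haff)]; infer_instance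
  rw [e]
  infer_instance

/-- Local open immersions with cartesian pieces glue. -/
theorem isOpenImmersion_of_cover {W Z : Scheme.{u}} (r : W ⟶ Z) {ι : Type*} (G : ι → Z.Opens)
    (hcov : ∀ x : W, ∃ i, r x ∈ G i) (h : ∀ i, IsOpenImmersion ((r ⁻¹ᵁ G i).ι ≫ r)) : IsOpenImmersion r := by
  let G₀ : Z.Opens := ⨆ i, G i
  let l : W ⟶ G₀.toScheme := IsOpenImmersion.lift G₀.ι r (by
    rintro _ ⟨x, rfl⟩
    rw [Scheme.Opens.range_ι]
    obtain ⟨i, hi⟩ := hcov x
    exact Opens.mem_iSup.2 ⟨i, hi⟩)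
  have hl : l ≫ G₀.ι = r := IsOpenImmersion.lift_fac _ _ _
  have hcv : ⨆ i, G₀.ι ⁻¹ᵁ G i = ⊤ := eq_top_iff.2 fun z _ => by
    obtain ⟨i, hi⟩ := Opens.mem_iSup.1 z.2
    exact Opens.mem_iSup.2 ⟨i, hi⟩
  have : IsOpenImmersion l := by
    refine (IsZariskiLocalAtTarget.iff_of_iSup_eq_top (P := @IsOpenImmersion) _ hcv).2 fun i => ?_
    have hW : l ⁻¹ᵁ (G₀.ι ⁻¹ᵁ G i) = r ⁻¹ᵁ G i := by rw [← Scheme.Hom.comp_preimage, hl]
    have e : (l ∣_ (G₀.ι ⁻¹ᵁ G i)) ≫ ((G₀.ι ⁻¹ᵁ G i).ι ≫ G₀.ι) = (W.isoOfEq hW).hom ≫ (r ⁻¹ᵁ G i).ι ≫ r := by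
      rw [← Category.assoc, morphismRestrict_ι, Category.assoc, hl, Scheme.isoOfEq_hom_ι_assoc]
    have := h i
    have : IsOpenImmersion ((l ∣_ (G₀.ι ⁻¹ᵁ G i)) ≫ ((G₀.ι ⁻¹ᵁ G i).ι ≫ G₀.ι)) := by rw [e]; infer_instance
    exact IsOpenImmersion.of_comp _ ((G₀.ι ⁻¹ᵁ G i).ι ≫ G₀.ι)
  rw [← hl]
  infer_instance

/-- The contraction is an open immersion away from the section and misses the vertex, if there are enough
functions vanishing on the section with affine non-vanishing locus. -/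
theorem isOpenImmersion_coneMap (V0 : V.Opens) (hV0 : (V0 : Set V) = (Set.range j0.base)ᶜ)
    (hcov : ∀ P ∈ V0, ∃ (U : Y.affineOpens) (v : Γ(V, f ⁻¹ᵁ U.1)),
      zeroHom f p j0 hj U.1 v = 0 ∧ P ∈ V.basicOpen v ∧ IsAffineOpen (V.basicOpen v)) :
    IsOpenImmersion (V0.ι ≫ coneMap f p j0 hj) ∧
      Set.range (V0.ι ≫ coneMap f p j0 hj).base ∩ Set.range (coneVertex f p j0 hj).base = ∅ := by
  choose U v hv hP haff using fun P : V0 => hcov P.1 P.2
  let a : ∀ P : V0, coneSub f p j0 hj (U P).1 := fun P => ⟨(0, v P), by rw [mem_coneSub, map_zero, hv P]⟩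
  let G : V0 → (coneAlg f p j0 hj).spec.Opens := fun P =>
    (coneAlg f p j0 hj).spec.basicOpen (secVal (coneAlg f p j0 hj) (U P).1 (a P))
  have hpre : ∀ P, coneMap f p j0 hj ⁻¹ᵁ G P = V.basicOpen (v P) := fun P =>
    preimage_coneMap f p j0 hj (U P) (a P)
  have hle : ∀ P, V.basicOpen (v P) ≤ V0 := fun P z hz => by
    rw [← SetLike.mem_coe, hV0]
    rintro ⟨x, rfl⟩
    have h1 : x ∈ j0 ⁻¹ᵁ V.basicOpen (v P) := hz
    rw [Scheme.preimage_basicOpen] at h1
    have hxU : x ∈ p ⁻¹ᵁ (U P).1 := by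
      have h2 : f (j0 x) ∈ (U P).1 := V.basicOpen_le (v P) hz
      rw [← Scheme.Hom.comp_apply, hj] at h2
      exact h2
    have h3 : x ∈ X.basicOpen (zeroHom f p j0 hj (U P).1 (v P)) := by
      show x ∈ X.basicOpen (j0.appLE _ _ _ (v P))
      rw [Scheme.Hom.appLE, CommRingCat.comp_apply, Scheme.basicOpen_res]
      exact ⟨hxU, h1⟩
    rw [hv P, Scheme.basicOpen_zero] at h3
    exact h3
  constructor
  · refine isOpenImmersion_of_cover _ G (fun z => ⟨z, ?_⟩) fun P => ?_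
    · show V0.ι z ∈ coneMap f p j0 hj ⁻¹ᵁ G z
      rw [hpre]
      exact hP z
    · have := isOpenImmersion_piece f p j0 hj (U P) (a P) rfl (haff P)
      let S := (V0.ι ≫ coneMap f p j0 hj) ⁻¹ᵁ G P
      let l : S.toScheme ⟶ (V.basicOpen (v P)).toScheme := IsOpenImmersion.lift (V.basicOpen (v P)).ι (S.ι ≫ V0.ι) (by
        rintro _ ⟨z, rfl⟩
        rw [Scheme.Opens.range_ι]
        exact (hpre P).le z.2)
      have hl : l ≫ (V.basicOpen (v P)).ι = S.ι ≫ V0.ι := IsOpenImmersion.lift_fac _ _ _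
      have : IsOpenImmersion (l ≫ (V.basicOpen (v P)).ι) := by rw [hl]; infer_instance
      have : IsOpenImmersion l := IsOpenImmersion.of_comp l (V.basicOpen (v P)).ι
      rw [← reassoc_of% hl]
      exact MorphismProperty.comp_mem @IsOpenImmersion l _ inferInstance
        (isOpenImmersion_piece f p j0 hj (U P) (a P) rfl (haff P))
  · refine Set.eq_empty_iff_forall_notMem.2 ?_
    rintro c ⟨⟨z, rfl⟩, y, hy⟩
    have h1 : (coneMap f p j0 hj) (V0.ι z) ∈ G z := (hpre z).ge (hP z)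
    have h2 : y ∈ coneVertex f p j0 hj ⁻¹ᵁ G z := by
      show coneVertex f p j0 hj y ∈ G z
      rw [show coneVertex f p j0 hj y = coneMap f p j0 hj (V0.ι z) from hy]
      exact h1
    rw [preimage_coneVertex f p j0 hj (U z) (a z), Scheme.basicOpen_zero] at h2
    exact h2

/-- A universally closed contraction covers the complement of the vertex. -/
theorem range_coneMap_of_universallyClosed (V0 : V.Opens) (hV0 : (V0 : Set V) = (Set.range j0.base)ᶜ)
    [UniversallyClosed (coneMap f p j0 hj)] :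
    (Set.range (coneVertex f p j0 hj).base)ᶜ ⊆ Set.range (V0.ι ≫ coneMap f p j0 hj).base := by
  intro c hc
  let A := coneAlg f p j0 hj
  obtain ⟨U, hU, hcU, -⟩ := exists_isAffineOpen_mem_and_subset (X := Y) (x := A.π c) (U := ⊤) trivial
  obtain ⟨P, rfl⟩ := RelSpecLib.exists_chart_eq A hU c hcU
  let fst : A.presheaf.obj (op U) →+* Γ(Y, U) := ((coneFst f p j0 hj).app (op U)).hom
  have hs : Function.Surjective fst := fun r => ⟨A.str.app (op U) r, rfl⟩
  obtain ⟨a, ha, haP⟩ : ∃ a, fst a = 0 ∧ a ∉ P.asIdeal := by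
    by_contra hall
    push_neg at hall
    have hmem : (P : PrimeSpectrum _) ∈ Set.range (PrimeSpectrum.comap fst) := by
      rw [range_comap_of_surjective _ fst hs]
      exact fun x hx => hall x hx
    obtain ⟨P₁, hP₁⟩ := hmem
    refine hc ⟨hU.fromSpec P₁, ?_⟩
    have h1 : hU.fromSpec ≫ coneVertex f p j0 hj =
        Spec.map ((coneFst f p j0 hj).app (op U)) ≫ A.ι U hU := by
      have h0 := H8Lim.ι_toSpec (𝟙 Y) (A := A) (coneFst f p j0 hj) ⟨U, hU⟩
      rw [← cancel_epi hU.isoSpec.hom, hU.isoSpec_hom_fromSpec_assoc]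
      exact h0
    refine (congrArg (fun q : Spec Γ(Y, U) ⟶ A.spec => q P₁) h1).trans ?_
    show A.ι U hU (PrimeSpectrum.comap fst P₁) = _
    rw [hP₁]
  let B := A.spec.basicOpen (secVal A U a)
  have hcB : A.ι U hU P ∈ B := (ι_mem_basicOpen_ev A hU a P).2 haP
  suffices hr : A.ι U hU P ∈ Set.range (coneMap f p j0 hj) by
    obtain ⟨z, hz⟩ := hr
    have hz0 : z ∈ V0 := by
      rw [← SetLike.mem_coe, hV0]
      rintro ⟨x, rfl⟩
      refine hc ⟨p x, ?_⟩
      refine Eq.trans ?_ hz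
      exact (congrArg (fun q : X ⟶ A.spec => q x) (section_coneMap f p j0 hj)).symm
    exact ⟨⟨z, hz0⟩, hz⟩
  by_contra hnot
  obtain ⟨O, hPO, hO⟩ : ∃ O : A.spec.Opens, A.ι U hU P ∈ O ∧ coneMap f p j0 hj ⁻¹ᵁ O = ⊥ :=
    ⟨⟨_, ((coneMap f p j0 hj).isClosedMap _ isClosed_univ).isOpen_compl⟩,
      fun h => hnot (by rwa [Set.image_univ] at h),
      eq_bot_iff.2 fun z hz => hz ⟨z, trivial, rfl⟩⟩
  obtain ⟨b, hb, hPb⟩ : ∃ b : A.presheaf.obj (op U),
      A.spec.basicOpen (secVal A U b) ≤ O ⊓ B ∧ A.ι U hU P ∈ A.spec.basicOpen (secVal A U b) := by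
    obtain ⟨w, hw, hPw⟩ := (hU.preimage A.π).exists_basicOpen_le (V := O ⊓ B) ⟨A.ι U hU P, hPO, hcB⟩
      (RelSpecLib.π_ι_mem A U hU P)
    obtain ⟨b, rfl⟩ := secVal_surjective A U w
    exact ⟨b, hw, hPw⟩
  have hbot : V.basicOpen (a * b : coneSub f p j0 hj U).1.2 = ⊥ := by
    refine eq_bot_iff.2 ?_
    rw [← preimage_coneMap f p j0 hj ⟨U, hU⟩ (a * b)]
    refine le_trans ((coneMap f p j0 hj).preimage_mono ?_) hO.le
    show A.spec.basicOpen (secVal A U (a * b)) ≤ O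
    rw [map_mul, Scheme.basicOpen_mul]
    exact inf_le_right.trans (hb.trans inf_le_left)
  obtain ⟨n, hn⟩ := exists_pow_mul_eq_zero_of_res_basicOpen_eq_zero_of_isCompact V
    (f.isCompact_preimage hU.isCompact) 1 (a * b : coneSub f p j0 hj U).1.2 (by
      have : Subsingleton Γ(V, V.basicOpen (a * b : coneSub f p j0 hj U).1.2) := by
        rw [hbot]
        exact CommRingCat.subsingleton_of_isTerminal V.sheaf.isTerminalOfEmpty
      exact Subsingleton.elim _ _)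
  rw [mul_one] at hn
  have hzero : (a * b : A.presheaf.obj (op U)) ^ (n + 1) = 0 := by
    refine Subtype.ext (Prod.ext ?_ ?_)
    · show (a.1.1 * b.1.1) ^ (n + 1) = 0
      rw [show a.1.1 = 0 from ha, zero_mul, zero_pow n.succ_ne_zero]
    · show (a * b : coneSub f p j0 hj U).1.2 ^ (n + 1) = 0
      rw [pow_succ, hn, zero_mul]
  have hmem : a * b ∈ P.asIdeal :=
    P.2.mem_of_pow_mem (n + 1) (hzero ▸ P.asIdeal.zero_mem)
  rcases P.2.mem_or_mem hmem with h | h
  · exact haP h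
  · exact (ι_mem_basicOpen_ev A hU b P).1 hPb h

end Groth.Agent.RelVALib
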