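import Mathlib
import Groth.Agent.RelVALib.ConeContract
import Groth.Agent.AmpleLib.Relative
import Groth.Agent.H8Lim.Absolute
import Groth.Agent.SymAlgLib.SpecMaps

/-!
# Relative ampleness and contractions of the zero section
-/

set_option autoImplicit false
set_option linter.unusedSectionVars false
set_option backward.isDefEq.respectTransparency.types false
set_option maxHeartbeats 1000000

universe u

open AlgebraicGeometry CategoryTheory CategoryTheory.Limits TopologicalSpace Opposite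
open Groth.Agent.Coherent Groth.Agent.PicLib Groth.Agent.AmpleLib

namespace Groth.Agent.RelVALib

variable {X Y : Scheme.{u}} {L : X.Modules} {𝒜 : RelProj.QCGrAlg X} {jL : L ⟶ 𝒜.toModule}
  {aug : 𝒜.toQCAlg ⟶ RelSpec.QCAlg.unit X} {j0 : X ⟶ 𝒜.toQCAlg.spec}

theorem comp_vertex_eq (hj0 : RelCone.IsVertex 𝒜 aug j0) (p : X ⟶ Y) : j0 ≫ 𝒜.toQCAlg.π ≫ p = p := by
  rw [← Category.assoc, hj0.comp_π, Category.id_comp]

/-- Over a piece where the line bundle is trivial, the non-vanishing locus of `c T^m`. -/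
theorem mem_basicOpen_secFun [Coh.IsQCoh L] (hA : RelProj.IsGrSymAlg L 𝒜 jL) (haug : RelCone.IsAugmentation 𝒜 aug)
    (hj0 : RelCone.IsVertex 𝒜 aug j0) (V0 : 𝒜.toQCAlg.spec.Opens)
    (hV0 : (V0 : Set 𝒜.toQCAlg.spec) = (Set.range j0.base)ᶜ) {W : X.Opens} {m : ℕ} (hm : 0 < m)
    (a : 𝒜.presheaf.obj (op W)) {U : X.Opens} (hU : IsAffineOpen U) (hUW : U ≤ W) {g : Γ(L, U)}
    (hg : IsGen L U g) (c : Γ(X, U))
    (ha : 𝒜.presheaf.map (homOfLE hUW).op a =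
      𝒜.str.app (op U) c * (show 𝒜.presheaf.obj (op U) from jL.app U g) ^ m)
    {z : 𝒜.toQCAlg.spec} (hz : 𝒜.toQCAlg.π z ∈ U) :
    z ∈ 𝒜.toQCAlg.spec.basicOpen (secVal 𝒜.toQCAlg W a) ↔ 𝒜.toQCAlg.π z ∈ X.basicOpen c ∧ z ∈ V0 := by
  obtain ⟨P, rfl⟩ := RelSpecLib.exists_chart_eq 𝒜.toQCAlg hU z hz
  have h1 : 𝒜.toQCAlg.ι U hU P ∈ 𝒜.toQCAlg.spec.basicOpen (secVal 𝒜.toQCAlg W a) ↔
      𝒜.toQCAlg.ι U hU P ∈ 𝒜.toQCAlg.spec.basicOpen (secVal 𝒜.toQCAlg U (𝒜.presheaf.map (homOfLE hUW).op a)) := by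
    rw [← secVal_res 𝒜.toQCAlg hUW, Scheme.basicOpen_res]
    exact ⟨fun h => ⟨hz, h⟩, fun h => h.2⟩
  have h2 : 𝒜.toQCAlg.π (𝒜.toQCAlg.ι U hU P) ∈ X.basicOpen c ↔ 𝒜.str.app (op U) c ∉ P.asIdeal := by
    rw [← ι_mem_basicOpen_ev 𝒜.toQCAlg hU (𝒜.str.app (op U) c) P]
    erw [secVal_str 𝒜.toQCAlg U c]
    rw [← Scheme.preimage_basicOpen]
    rfl
  have h3 : 𝒜.toQCAlg.ι U hU P ∈ V0 ↔ (show 𝒜.presheaf.obj (op U) from jL.app U g) ∉ P.asIdeal := by
    rw [← SetLike.mem_coe, hV0, Set.mem_compl_iff, mem_compl_vertex_iff hA haug hj0 hU hg]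
  rw [h1, ι_mem_basicOpen_ev, ha, h2, h3]
  refine ⟨fun h => ⟨fun h' => h (P.asIdeal.mul_mem_right _ h'), fun h' => h (P.asIdeal.mul_mem_left _
    (Ideal.pow_mem_of_mem _ h' m hm))⟩, fun h h' => ?_⟩
  rcases P.2.mem_or_mem h' with h'' | h''
  · exact h.1 h''
  · exact h.2 (P.2.mem_of_pow_mem m h'')

/-- The functions produced by relative ampleness. -/
theorem exists_ample_piece [Coh.IsQCoh L] (hA : RelProj.IsGrSymAlg L 𝒜 jL) (haug : RelCone.IsAugmentation 𝒜 aug)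
    (hj0 : RelCone.IsVertex 𝒜 aug j0) (V0 : 𝒜.toQCAlg.spec.Opens)
    (hV0 : (V0 : Set 𝒜.toQCAlg.spec) = (Set.range j0.base)ᶜ) (p : X ⟶ Y)
    (h : RelAmple.IsRelAmple p L) (hL : PicF.IsInvertible L) (x : X) :
    ∃ (U : Y.affineOpens) (a : 𝒜.presheaf.obj (op (p ⁻¹ᵁ U.1))) (m : ℕ),
      zeroHom (𝒜.toQCAlg.π ≫ p) p j0 (comp_vertex_eq hj0 p) U.1 (secVal 𝒜.toQCAlg (p ⁻¹ᵁ U.1) a) = 0 ∧
      IsAffineOpen (𝒜.toQCAlg.spec.basicOpen (secVal 𝒜.toQCAlg (p ⁻¹ᵁ U.1) a)) ∧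
      (∀ z, 𝒜.toQCAlg.π z = x → z ∈ V0 → z ∈ 𝒜.toQCAlg.spec.basicOpen (secVal 𝒜.toQCAlg (p ⁻¹ᵁ U.1) a)) ∧
      0 < m ∧ ∃ (U' : X.Opens) (_ : IsAffineOpen U') (hU' : U' ≤ p ⁻¹ᵁ U.1) (g : Γ(L, U')) (_ : IsGen L U' g)
        (c : Γ(X, U')), x ∈ U' ∧ IsUnit c ∧ 𝒜.presheaf.map (homOfLE hU').op a =
          𝒜.str.app (op U') c * (show 𝒜.presheaf.obj (op U') from jL.app U' g) ^ m := by
  obtain ⟨U, hU, hxU, -⟩ := exists_isAffineOpen_mem_and_subset (X := Y) (x := p x) (U := ⊤) trivial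
  let P' := p ⁻¹ᵁ U
  let σ := P'.ι
  have hamp := (isRelAmple_iff (f := p)).1 h |>.2 ⟨U, hU⟩
  obtain ⟨-, -, hglo⟩ := isAmple_iff_affGlocus.1 hamp
  obtain ⟨m, hm, b, hxb, -, hbaff⟩ := hglo ⟨x, hxU⟩
  obtain ⟨e, he⟩ := exists_pullPowIso σ hL m
  have hσP : σ ⁻¹ᵁ P' ≤ (⊤ : P'.toScheme.Opens) := le_top
  obtain ⟨s, hs⟩ := (bijective_pullSec_opensRange σ (isInvertible_tensorPow hL m) P'
    (by rw [Scheme.Opens.opensRange_ι])).2 (e.inv.app _ (resM _ hσP b))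
  have hes : e.hom.app _ (pullSec σ s) = resM _ hσP b := by
    rw [hs]
    exact congr(($(e.inv_hom_id)).app _ (resM _ hσP b))
  have hloc : ∀ (U' : X.Opens) (hU' : U' ≤ P') (g : Γ(L, U')) (hg : IsGen L U' g),
      glocus _ b ⊓ σ ⁻¹ᵁ U' =
        σ ⁻¹ᵁ X.basicOpen ((isGen_powSec hg m).coef le_rfl (resM (CohB1.tensorPow L m) hU' s)) := by
    intro U' hU' g hg
    rw [glocus_inf b (isGen_powSec (isGen_pullSec σ hg hL) m), Scheme.preimage_basicOpen]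
    congr 1
    refine IsGen.coef_eq _ _ ?_
    have h0 := (isGen_powSec hg m).coef_spec le_rfl (resM (CohB1.tensorPow L m) hU' s)
    rw [resM_self] at h0
    rw [resM_self, ← he U' g, ← Scheme.Modules.Hom.app_smul, ← pullSec_smul, h0, ← resM_pullSec, app_resM, hes]
    exact resM_resM _ _ _ _
  obtain ⟨a, ha0, ha⟩ := exists_secFun hL hA haug hj0 hm s
  let G : X.Opens := σ ''ᵁ glocus _ b
  have hGaff : IsAffineOpen G := hbaff.image_of_isOpenImmersion σ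
  have hxG : x ∈ G := ⟨⟨x, hxU⟩, hxb, rfl⟩
  have hGP : G ≤ P' := fun z hz => by
    obtain ⟨w, -, rfl⟩ := hz
    exact w.2
  let v := secVal 𝒜.toQCAlg P' a
  have htriv : ∀ y ∈ P', ∃ (U' : X.Opens) (_ : IsAffineOpen U') (_ : U' ≤ P') (g : Γ(L, U')), y ∈ U' ∧ IsGen L U' g := by
    intro y hy
    obtain ⟨U₀, hy₀, g₀, hg₀⟩ := exists_isGen hL y
    obtain ⟨U', hU', hyU', hle⟩ := exists_isAffineOpen_mem_and_subset (X := X) (x := y) (U := U₀ ⊓ P') ⟨hy₀, hy⟩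
    exact ⟨U', hU', fun z hz => (hle hz).2, _, hyU', hg₀.restrict fun z hz => (hle hz).1⟩
  have hmemG : ∀ (U' : X.Opens) (hU' : U' ≤ P') (g : Γ(L, U')) (hg : IsGen L U' g) (y : X), y ∈ U' →
      (y ∈ G ↔ y ∈ X.basicOpen ((isGen_powSec hg m).coef le_rfl (resM (CohB1.tensorPow L m) hU' s))) := by
    intro U' hU' g hg y hy
    constructor
    · rintro ⟨w, hw, rfl⟩
      exact (hloc U' hU' g hg).le ⟨hw, hy⟩
    · intro hy'
      exact ⟨⟨y, hU' hy⟩, ((hloc U' hU' g hg).ge (show (⟨y, hU' hy⟩ : P'.toScheme) ∈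
        σ ⁻¹ᵁ X.basicOpen _ from hy')).1, rfl⟩
  have hkey : ∀ z, 𝒜.toQCAlg.π z ∈ P' →
      (z ∈ 𝒜.toQCAlg.spec.basicOpen v ↔ 𝒜.toQCAlg.π z ∈ G ∧ z ∈ V0) := by
    intro z hz
    obtain ⟨U', hU', hle, g, hzU', hg⟩ := htriv _ hz
    rw [mem_basicOpen_secFun hA haug hj0 V0 hV0 hm a hU' hle hg _ (ha U' hU' hle g hg) hzU', hmemG U' hle g hg _ hzU']
  refine ⟨⟨U, hU⟩, a, m, ha0, ?_, fun z hz hz0 => (hkey z (hz ▸ hxU)).2 ⟨hz ▸ hxG, hz0⟩, hm, ?_⟩
  · have e1 : 𝒜.toQCAlg.spec.basicOpen v =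
        𝒜.toQCAlg.spec.basicOpen (res (𝒜.toQCAlg.π.preimage_mono hGP) v) := by
      rw [Scheme.basicOpen_res, eq_comm, inf_eq_right]
      intro z hz
      exact ((hkey z (𝒜.toQCAlg.spec.basicOpen_le v hz)).1 hz).1
    show IsAffineOpen (𝒜.toQCAlg.spec.basicOpen v)
    rw [e1]
    exact (hGaff.preimage 𝒜.toQCAlg.π).basicOpen _
  · obtain ⟨U', hU', hle, g, hxU', hg⟩ := htriv x hxU
    let c := (isGen_powSec hg m).coef le_rfl (resM (CohB1.tensorPow L m) hle s)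
    let U'' := X.basicOpen c
    have hU''U' : U'' ≤ U' := X.basicOpen_le c
    refine ⟨U'', hU'.basicOpen c, hU''U'.trans hle, resM L hU''U' g, hg.restrict hU''U', res hU''U' c,
      (hmemG U' hle g hg x hxU').1 hxG, RingedSpace.isUnit_res_basicOpen X.toRingedSpace c, ?_⟩
    have e2 : 𝒜.presheaf.map (homOfLE (hU''U'.trans hle)).op a =
        𝒜.presheaf.map (homOfLE hU''U').op (𝒜.presheaf.map (homOfLE hle).op a) :=
      ConcreteCategory.congr_hom (𝒜.presheaf.map_comp (homOfLE hle).op (homOfLE hU''U').op) a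
    rw [e2, ha U' hU' hle g hg, map_mul, map_pow, str_res, gen_res]

theorem locallyOfFiniteType_spec [Coh.IsQCoh L] (hL : PicF.IsInvertible L) (hA : RelProj.IsGrSymAlg L 𝒜 jL) :
    LocallyOfFiniteType 𝒜.toQCAlg.π := by
  choose U₀ hx₀ g₀ hg₀ using exists_isGen hL
  choose U hU hxU hle using fun x : X =>
    exists_isAffineOpen_mem_and_subset (X := X) (x := x) (U := U₀ x) (hx₀ x)
  refine IsZariskiLocalAtSource.of_iSup_eq_top (P := @LocallyOfFiniteType)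
    (fun x => (𝒜.toQCAlg.ι (U x) (hU x)).opensRange) ?_ fun x => ?_
  · refine eq_top_iff.2 fun z _ => Opens.mem_iSup.2 ⟨𝒜.toQCAlg.π z, ?_⟩
    rw [← 𝒜.toQCAlg.π_preimage]
    exact hxU (𝒜.toQCAlg.π z)
  · have hfin : Module.Finite Γ(X, U x) Γ(L, U x) := by
      refine ⟨⟨{resM L (hle x) (g₀ x)}, eq_top_iff.2 fun m _ => ?_⟩⟩
      rw [Finset.coe_singleton, Submodule.mem_span_singleton]
      refine ⟨((hg₀ x).restrict (hle x)).coef le_rfl m, ?_⟩
      have h := ((hg₀ x).restrict (hle x)).coef_spec le_rfl m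
      rwa [resM_self] at h
    have : LocallyOfFiniteType (Spec.map (𝒜.str.app (op (U x)))) := by
      rw [HasRingHomProperty.Spec_iff (P := @LocallyOfFiniteType)]
      exact SymAlgLib.finiteType_str hA.1 (hU x) hfin
    rw [← (𝒜.toQCAlg.ι (U x) (hU x)).isoOpensRange_inv_comp, Category.assoc, RelSpec.QCAlg.ι_π]
    infer_instance

section proper

theorem appLE_comp_apply {A B D : Scheme.{u}} (l : A ⟶ B) (k : B ⟶ D) (lk : A ⟶ D) (hlk : l ≫ k = lk)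
    (O : D.Opens) (W : B.Opens) (e : W ≤ k ⁻¹ᵁ O) (e' : l ⁻¹ᵁ W ≤ lk ⁻¹ᵁ O) (z : Γ(D, O)) :
    l.app W (k.appLE O W e z) = lk.appLE O (l ⁻¹ᵁ W) e' z := by
  subst hlk
  rw [Scheme.Hom.app_eq_appLE, ← CommRingCat.comp_apply, Scheme.Hom.appLE_comp_appLE]

/-- The contraction of a proper morphism is proper. -/
theorem isProper_coneMap [Coh.IsQCoh L] (hA : RelProj.IsGrSymAlg L 𝒜 jL) (haug : RelCone.IsAugmentation 𝒜 aug)
    (hj0 : RelCone.IsVertex 𝒜 aug j0) (V0 : 𝒜.toQCAlg.spec.Opens)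
    (hV0 : (V0 : Set 𝒜.toQCAlg.spec) = (Set.range j0.base)ᶜ) (p : X ⟶ Y) [IsProper p]
    [QuasiSeparated (𝒜.toQCAlg.π ≫ p)] [QuasiCompact (𝒜.toQCAlg.π ≫ p)]
    (h : RelAmple.IsRelAmple p L) (hL : PicF.IsInvertible L) :
    IsProper (coneMap (𝒜.toQCAlg.π ≫ p) p j0 (comp_vertex_eq hj0 p)) := by
  let π := 𝒜.toQCAlg.π
  let f := π ≫ p
  let C := coneAlg f p j0 (comp_vertex_eq hj0 p)
  let q := coneMap f p j0 (comp_vertex_eq hj0 p)
  have hq : q ≫ C.π = π ≫ p := coneMap_π _ _ _ _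
  have : IsSeparated (q ≫ C.π) := by rw [hq]; infer_instance
  have : IsSeparated q := IsSeparated.of_comp q C.π
  have := locallyOfFiniteType_spec hL hA
  have : LocallyOfFiniteType (q ≫ C.π) := by rw [hq]; infer_instance
  have : LocallyOfFiniteType q := locallyOfFiniteType_of_comp q C.π
  let l : 𝒜.toQCAlg.spec ⟶ pullback C.π p := pullback.lift q π hq
  choose U a m ha0 _ _ hm U' hU' hle g hg c hxU' hc hac using exists_ample_piece hA haug hj0 V0 hV0 p h hL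
  let W : X → (pullback C.π p).Opens := fun x =>
    pullback.fst C.π p ⁻¹ᵁ (C.π ⁻¹ᵁ (U x).1) ⊓ pullback.snd C.π p ⁻¹ᵁ U' x
  have hWaff : ∀ x, IsAffineOpen (W x) := fun x =>
    isAffineOpen_fst_inf_snd C.π p (U x).2 ((U x).2.preimage C.π) (hU' x) le_rfl (hle x)
  have hlW : ∀ x, l ⁻¹ᵁ W x = π ⁻¹ᵁ U' x := fun x => by
    refine le_antisymm (fun z hz => ?_) fun z hz => ⟨?_, ?_⟩
    · have h2 : pullback.snd C.π p (l z) ∈ U' x := hz.2
      rw [← Scheme.Hom.comp_apply, pullback.lift_snd] at h2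
      exact h2
    · show C.π (pullback.fst C.π p (l z)) ∈ (U x).1
      rw [← Scheme.Hom.comp_apply l, pullback.lift_fst, ← Scheme.Hom.comp_apply, hq]
      exact hle x hz
    · show pullback.snd C.π p (l z) ∈ U' x
      rw [← Scheme.Hom.comp_apply, pullback.lift_snd]
      exact hz
  have hint : IsIntegralHom l := by
    rw [HasAffineProperty.iff_of_iSup_eq_top (P := @IsIntegralHom) fun x => ⟨W x, hWaff x⟩]
    rotate_left
    · refine eq_top_iff.2 fun w _ => Opens.mem_iSup.2 ⟨pullback.snd C.π p w, ?_⟩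
      show w ∈ W (pullback.snd C.π p w)
      refine ⟨?_, hxU' (pullback.snd C.π p w)⟩
      show C.π (pullback.fst C.π p w) ∈ (U (pullback.snd C.π p w)).1
      rw [← Scheme.Hom.comp_apply, pullback.condition, Scheme.Hom.comp_apply]
      exact hle _ (hxU' _)
    intro x
    have : IsAffine (W x).toScheme := hWaff x
    refine (H8Lim.affineAnd_morphismRestrict RingHom.isIntegral_respectsIso _ _).2
      ⟨(hlW x).symm ▸ (hU' x).preimage π, ?_⟩
    let ψ := (l.app (W x)).hom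
    let eW : l ⁻¹ᵁ W x ≤ π ⁻¹ᵁ U' x := (hlW x).le
    let K : 𝒜.presheaf.obj (op (U' x)) →+* Γ(𝒜.toQCAlg.spec, l ⁻¹ᵁ W x) :=
      (res eW).comp (secVal 𝒜.toQCAlg (U' x))
    have hK : Function.Surjective K := fun b => by
      obtain ⟨d, hd⟩ := secVal_surjective 𝒜.toQCAlg (U' x) (res (hlW x).ge b)
      refine ⟨d, ?_⟩
      show res eW (secVal 𝒜.toQCAlg (U' x) d) = b
      rw [hd, res_res]
      exact ConcreteCategory.congr_hom (𝒜.toQCAlg.spec.presheaf.map_id _) b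
    have hsnd : ∀ r : Γ(X, U' x), K (𝒜.str.app (op (U' x)) r) ∈ ψ.range := fun r => by
      refine ⟨(pullback.snd C.π p).appLE (U' x) (W x) inf_le_right r, ?_⟩
      refine (appLE_comp_apply l (pullback.snd C.π p) π (pullback.lift_snd _ _ _) (U' x) (W x) inf_le_right eW r).trans ?_
      show π.appLE (U' x) _ eW r = res eW (secVal 𝒜.toQCAlg (U' x) (𝒜.str.app (op (U' x)) r))
      erw [secVal_str 𝒜.toQCAlg (U' x) r]
      rfl
    have hfU : l ⁻¹ᵁ W x ≤ f ⁻¹ᵁ (U x).1 := fun z hz => hle x (eW hz)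
    have hfst : K (𝒜.presheaf.map (homOfLE (hle x)).op (a x)) ∈ ψ.range := by
      let pr : coneSub f p j0 (comp_vertex_eq hj0 p) (U x).1 :=
        ⟨(0, secVal 𝒜.toQCAlg (p ⁻¹ᵁ (U x).1) (a x)), (mem_coneSub _ _ _ _).2 (by rw [map_zero]; exact (ha0 x).symm)⟩
      refine ⟨(pullback.fst C.π p).appLE (C.π ⁻¹ᵁ (U x).1) (W x) inf_le_left (secVal C (U x).1 pr), ?_⟩
      have heq : f ⁻¹ᵁ (U x).1 ≤ q ⁻¹ᵁ (C.π ⁻¹ᵁ (U x).1) := by
        rw [← Scheme.Hom.comp_preimage, hq]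
      refine (appLE_comp_apply l (pullback.fst C.π p) q (pullback.lift_fst _ _ _) _ (W x) inf_le_left
        (hfU.trans heq) _).trans ?_
      have h1 : q.appLE (C.π ⁻¹ᵁ (U x).1) (f ⁻¹ᵁ (U x).1) heq (secVal C (U x).1 pr) =
          secVal 𝒜.toQCAlg (p ⁻¹ᵁ (U x).1) (a x) := by
        refine (ConcreteCategory.congr_hom
          (H8Lim.toSpec_appLE f (coneSnd f p j0 (comp_vertex_eq hj0 p)) (U x) heq) (secVal C (U x).1 pr)).trans ?_
        exact congrArg (coneSnd f p j0 (comp_vertex_eq hj0 p) |>.app (op (U x).1)) (valAt_ι C (U x).2 pr)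
      rw [← Scheme.Hom.appLE_map q heq (homOfLE hfU).op, CommRingCat.comp_apply, h1]
      show res hfU _ = res eW (secVal 𝒜.toQCAlg (U' x) _)
      rw [← secVal_res 𝒜.toQCAlg (hle x), res_res]
      rfl
    let T : 𝒜.presheaf.obj (op (U' x)) := jL.app (U' x) (g x)
    have hT : ψ.IsIntegralElem (K T) := by
      obtain ⟨w, hw⟩ := hsnd ((hc x).unit⁻¹ : Γ(X, U' x)ˣ)
      obtain ⟨w', hw'⟩ := hfst
      have hKT : K T ^ m x = ψ (w * w') := by
        rw [map_mul, hw, hw', ← map_mul, ← map_pow, hac x, ← mul_assoc, ← map_mul, IsUnit.val_inv_mul, map_one,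
          one_mul]
      let := ψ.toAlgebra
      exact IsIntegral.of_pow (R := Γ(pullback C.π p, W x)) (hm x) (hKT ▸ isIntegral_algebraMap)
    intro b
    obtain ⟨d, rfl⟩ := hK b
    have hd : d ∈ Subring.closure (Set.range (𝒜.str.app (op (U' x))).hom ∪
        Set.range fun y : Γ(L, U' x) => (jL.app (U' x) y : 𝒜.presheaf.obj (op (U' x)))) :=
      (SymAlgLib.closure_eq_top hA.1 (hU' x)).ge (Subring.mem_top d)
    induction hd using Subring.closure_induction with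
    | mem y hy =>
      rcases hy with ⟨r, rfl⟩ | ⟨y, rfl⟩
      · obtain ⟨w, hw⟩ := hsnd r
        exact hw ▸ ψ.isIntegralElem_map
      · obtain ⟨w, hw⟩ := hsnd ((hg x).coef le_rfl y)
        have hy := (hg x).coef_spec le_rfl y
        rw [resM_self] at hy
        have : (show 𝒜.presheaf.obj (op (U' x)) from jL.app (U' x) y) =
            𝒜.str.app (op (U' x)) ((hg x).coef le_rfl y) * T := by
          conv_lhs => rw [← hy, Scheme.Modules.Hom.app_smul]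
          rfl
        show ψ.IsIntegralElem (K (show 𝒜.presheaf.obj (op (U' x)) from jL.app (U' x) y))
        rw [this, map_mul]
        exact RingHom.IsIntegralElem.mul ψ (hw ▸ ψ.isIntegralElem_map) hT
    | zero => rw [map_zero]; exact ψ.isIntegralElem_zero
    | one => rw [map_one]; exact ψ.isIntegralElem_one
    | add y z _ _ hy hz => rw [map_add]; exact hy.add ψ hz
    | neg y _ hy => rw [map_neg]; exact hy.neg ψ
    | mul y z _ _ hy hz => rw [map_mul]; exact hy.mul ψ hz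
  have : UniversallyClosed q := by
    have := MorphismProperty.comp_mem @UniversallyClosed l (pullback.fst C.π p) inferInstance inferInstance
    rwa [pullback.lift_fst] at this
  exact ⟨⟩

end proper

/-- The contraction attached to a relatively ample line bundle. -/
theorem exists_contraction [Coh.IsQCoh L] (hA : RelProj.IsGrSymAlg L 𝒜 jL) (haug : RelCone.IsAugmentation 𝒜 aug)
    (hj0 : RelCone.IsVertex 𝒜 aug j0) (V0 : 𝒜.toQCAlg.spec.Opens)
    (hV0 : (V0 : Set 𝒜.toQCAlg.spec) = (Set.range j0.base)ᶜ) (p : X ⟶ Y) [IsSeparated p] [QuasiCompact p]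
    (hL : PicF.IsInvertible L) (h : RelAmple.IsRelAmple p L) :
    ∃ (C : Scheme.{u}) (g : C ⟶ Y) (ε : Y ⟶ C) (q : 𝒜.toQCAlg.spec ⟶ C),
      ε ≫ g = 𝟙 Y ∧ q ≫ g = 𝒜.toQCAlg.π ≫ p ∧ j0 ≫ q = p ≫ ε ∧ IsSeparated g ∧
        IsOpenImmersion (V0.ι ≫ q) ∧ QuasiCompact (V0.ι ≫ q) ∧
          Set.range (V0.ι ≫ q).base ∩ Set.range ε.base = ∅ ∧
            (IsProper p → IsProper q ∧ Set.range (V0.ι ≫ q).base = (Set.range ε.base)ᶜ) := by
  let f := 𝒜.toQCAlg.π ≫ p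
  have hj : j0 ≫ f = p := comp_vertex_eq hj0 p
  obtain ⟨h1, h2⟩ := isOpenImmersion_coneMap f p j0 hj V0 hV0 fun z hz => by
    obtain ⟨U, a, -, ha0, haff, hmem, -⟩ := exists_ample_piece hA haug hj0 V0 hV0 p h hL (𝒜.toQCAlg.π z)
    exact ⟨U, _, ha0, hmem z rfl hz, haff⟩
  have := isAffineHom_compl_vertex hL hA haug hj0 V0 hV0
  have hqc : QuasiCompact (V0.ι ≫ coneMap f p j0 hj) := by
    have : QuasiCompact ((V0.ι ≫ coneMap f p j0 hj) ≫ (coneAlg f p j0 hj).π) := by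
      rw [Category.assoc, coneMap_π]
      infer_instance
    exact QuasiCompact.of_comp _ (coneAlg f p j0 hj).π
  refine ⟨_, (coneAlg f p j0 hj).π, coneVertex f p j0 hj, coneMap f p j0 hj, coneVertex_π .., coneMap_π ..,
    section_coneMap .., inferInstance, h1, hqc, h2, fun hp => ?_⟩
  have hpr : IsProper (coneMap f p j0 hj) := isProper_coneMap hA haug hj0 V0 hV0 p h hL
  refine ⟨hpr, Set.Subset.antisymm (fun c hc hc' => ?_) (range_coneMap_of_universallyClosed f p j0 hj V0 hV0)⟩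
  exact Set.eq_empty_iff_forall_notMem.1 h2 c ⟨hc, hc'⟩

end Groth.Agent.RelVALib
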