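import Groth.Prelude.Def_RelSpec2
import Groth.Agent.Coherent.QcohOps
import Groth.Agent.Coherent.QcohSections
import Groth.Agent.Coherent.PullUnit
import Groth.Agent.AmpleLib.CounitEpi
import Groth.Agent.RelVALib.UPProp

/-!
# The direct image by an affine morphism as a module over the direct image algebra
-/

set_option autoImplicit false
set_option backward.isDefEq.respectTransparency false
set_option maxHeartbeats 800000

universe u

open AlgebraicGeometry CategoryTheory CategoryTheory.Limits TopologicalSpace Opposite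
open Groth.Agent.Coherent Groth.Agent.PicLib Groth.Agent.EGA43.InjFibre

namespace Groth.Agent.RelVALib

variable {X S : Scheme.{u}}

/-- A morphism out of a quasi-coherent module vanishes once it kills the sections over an affine cover. -/
theorem hom_eq_zero_of_affine_cover {M N : X.Modules} [Coh.IsQCoh M] (d : M ⟶ N)
    (h : ∀ x : X, ∃ W : X.Opens, x ∈ W ∧ IsAffineOpen W ∧ ∀ m : Γ(M, W), d.app W m = 0) : d = 0 := by
  refine Scheme.Modules.hom_ext _ _ fun U => ConcreteCategory.hom_ext _ _ fun s => ?_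
  show d.app U s = 0
  refine AmpleLib.sec_ext _ _ _ fun x hx => ?_
  obtain ⟨W, hxW, hW, hd⟩ := h x
  obtain ⟨a, ha, hxa⟩ := hW.exists_basicOpen_le ⟨x, hx⟩ hxW
  refine ⟨_, ha, hxa, ?_⟩
  rw [map_zero, ← app_resM]
  obtain ⟨n, t, ht⟩ := qcoh_exists_pow_smul hW M a (resM M ha s)
  have h0 := congrArg (d.app (X.basicOpen a)) ht
  rw [app_resM, hd, map_zero, Scheme.Modules.Hom.app_smul] at h0
  refine (IsUnit.smul_eq_zero ?_).1 h0.symm
  rw [map_pow]
  exact (RingedSpace.isUnit_res_basicOpen X.toRingedSpace a).pow n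

theorem affine_preimage_cover (f : X ⟶ S) (x : X) : ∃ U : S.Opens, IsAffineOpen U ∧ f x ∈ U := by
  obtain ⟨U, hU, hxU, -⟩ := exists_isAffineOpen_mem_and_subset (x := f x) (U := ⊤) trivial
  exact ⟨U, hU, hxU⟩

/-- The counit of an affine morphism is an epimorphism on quasi-coherent modules. -/
theorem epi_counit_of_isAffineHom (f : X ⟶ S) [IsAffineHom f] (F : X.Modules) [Coh.IsQCoh F] :
    Epi ((Scheme.Modules.pullbackPushforwardAdjunction f).counit.app F) := by
  refine Preadditive.epi_of_cancel_zero _ fun {Q} d hd =>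
    hom_eq_zero_of_affine_cover (show F ⟶ Q from d) fun x => ?_
  obtain ⟨U, hU, hxU⟩ := affine_preimage_cover f x
  refine ⟨f ⁻¹ᵁ U, hxU, hU.preimage f, fun m => ?_⟩
  rw [← AmpleLib.counit_app_pullSec f F U m]
  exact ConcreteCategory.congr_hom (congrArg (fun φ => Scheme.Modules.Hom.app φ (f ⁻¹ᵁ U)) hd) _

variable (f : X ⟶ S) [IsAffineHom f]

theorem dirImg_map_app {F G : X.Modules} (φ : F ⟶ G) (U : S.Opens) (x : Γ(F, f ⁻¹ᵁ U)) :
    ((AMod.dirImg f).map φ).val.app (op U) x = φ.app (f ⁻¹ᵁ U) x := rfl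

theorem dirImg_map_injective (F G : X.Modules) [Coh.IsQCoh F] :
    Function.Injective ((AMod.dirImg f).map : (F ⟶ G) → _) := by
  intro a b h
  rw [← sub_eq_zero]
  refine hom_eq_zero_of_affine_cover (a - b) fun x => ?_
  obtain ⟨U, hU, hxU⟩ := affine_preimage_cover f x
  refine ⟨f ⁻¹ᵁ U, hxU, hU.preimage f, fun m => ?_⟩
  show a.app (f ⁻¹ᵁ U) m - b.app (f ⁻¹ᵁ U) m = 0
  rw [← dirImg_map_app f a U m, ← dirImg_map_app f b U m, h, sub_self]

theorem dirImg_map_surjective (F G : X.Modules) [Coh.IsQCoh F] [Coh.IsQCoh G] :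
    Function.Surjective ((AMod.dirImg f).map : (F ⟶ G) → _) := by
  intro ψ
  let ψ₀ : (Scheme.Modules.pushforward f).obj F ⟶ (Scheme.Modules.pushforward f).obj G :=
    (AMod.toOS (RelSpec.QCAlg.directImage f)).map ψ
  have hψ : ∀ (U : S.Opens) (x : Γ(F, f ⁻¹ᵁ U)),
      (ψ₀.app U x : Γ(G, f ⁻¹ᵁ U)) = ψ.val.app (op U) x := fun _ _ => rfl
  let Φ : ∀ U : S.Opens, Γ(F, f ⁻¹ᵁ U) →ₗ[Γ(X, f ⁻¹ᵁ U)] Γ(G, f ⁻¹ᵁ U) := fun U => (ψ.val.app (op U)).hom
  let φ₀ := ((Scheme.Modules.pullbackPushforwardAdjunction f).homEquiv _ _).symm ψ₀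
  let c : (Scheme.Modules.pullback f).obj ((Scheme.Modules.pushforward f).obj F) ⟶ F :=
    (Scheme.Modules.pullbackPushforwardAdjunction f).counit.app F
  have hqP : Coh.IsQCoh ((Scheme.Modules.pushforward f).obj F) := Groth.Agent.Coherent.isQCoh_push f F
  have hq : Coh.IsQCoh ((Scheme.Modules.pullback f).obj ((Scheme.Modules.pushforward f).obj F)) :=
    isQCoh_pullback f _
  have key : ∀ (U : S.Opens), IsAffineOpen U →
      ∀ z : Γ((Scheme.Modules.pullback f).obj ((Scheme.Modules.pushforward f).obj F), f ⁻¹ᵁ U),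
      φ₀.app (f ⁻¹ᵁ U) z = Φ U (c.app (f ⁻¹ᵁ U) z) := by
    intro U hU z
    let _ := (f.appLE U (f ⁻¹ᵁ U) le_rfl).hom.toAlgebra
    let _ := Module.compHom Γ((Scheme.Modules.pullback f).obj ((Scheme.Modules.pushforward f).obj F), f ⁻¹ᵁ U)
      (f.appLE U (f ⁻¹ᵁ U) le_rfl).hom
    have : IsScalarTower Γ(S, U) Γ(X, f ⁻¹ᵁ U)
        Γ((Scheme.Modules.pullback f).obj ((Scheme.Modules.pushforward f).obj F), f ⁻¹ᵁ U) :=
      IsScalarTower.of_algebraMap_smul fun _ _ => rfl
    obtain ⟨μ, hb, hμ⟩ := pullMap_isBaseChange f hU (hU.preimage f) le_rfl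
      (M := (Scheme.Modules.pushforward f).obj F)
    induction z using hb.inductionOn with
    | zero => rw [map_zero, map_zero]; exact (map_zero (Φ U)).symm
    | tmul m =>
      rw [hμ, pullMap_eq_resM_pullSec, resM_self, homEquiv_symm_app_pullSec]
      exact congrArg (Φ U) (AmpleLib.counit_app_pullSec f F U m).symm
    | smul r n hn => rw [Scheme.Modules.Hom.app_smul, Scheme.Modules.Hom.app_smul, map_smul, hn]
    | add a b ha hb => rw [map_add, map_add, map_add, ha, hb]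
  have := epi_counit_of_isAffineHom f F
  have hK : kernel.ι c ≫ φ₀ = 0 := by
    have := isQCoh_kernel c
    refine hom_eq_zero_of_affine_cover _ fun x => ?_
    obtain ⟨U, hU, hxU⟩ := affine_preimage_cover f x
    refine ⟨f ⁻¹ᵁ U, hxU, hU.preimage f, fun m => ?_⟩
    show φ₀.app (f ⁻¹ᵁ U) ((kernel.ι c).app (f ⁻¹ᵁ U) m) = 0
    rw [key U hU]
    have h0 : c.app (f ⁻¹ᵁ U) ((kernel.ι c).app (f ⁻¹ᵁ U) m) = 0 :=
      ConcreteCategory.congr_hom (congrArg (fun φ => Scheme.Modules.Hom.app φ (f ⁻¹ᵁ U)) (kernel.condition c)) m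
    rw [h0, map_zero]
  let φ : F ⟶ G := Abelian.epiDesc c φ₀ hK
  refine ⟨φ, ?_⟩
  have hf : (Scheme.Modules.pushforward f).map φ = ψ₀ := by
    refine hom_ext_affine _ _ fun U hU x => ?_
    show φ.app (f ⁻¹ᵁ U) x = ψ₀.app U x
    conv_lhs => rw [← AmpleLib.counit_app_pullSec f F U x]
    refine (ConcreteCategory.congr_hom
      (congrArg (fun e => Scheme.Modules.Hom.app e (f ⁻¹ᵁ U)) (Abelian.comp_epiDesc c φ₀ hK)) _).trans ?_
    exact homEquiv_symm_app_pullSec f ψ₀ x
  exact SheafOfModules.Hom.ext (PresheafOfModules.hom_ext fun U => ModuleCat.hom_ext (LinearMap.ext fun x =>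
    ConcreteCategory.congr_hom (congrArg (fun e => Scheme.Modules.Hom.app e U.unop) hf) x))

end Groth.Agent.RelVALib
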