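import Groth.Agent.RelVALib.CoefIso

/-!
# Ampleness descends to the coefficient model
-/

set_option autoImplicit false
set_option backward.isDefEq.respectTransparency.types false

universe u

open CategoryTheory CategoryTheory.Limits AlgebraicGeometry Opposite TopologicalSpace
open Groth.Agent.Coherent Groth.Agent.PicLib Groth.Agent.AmpleLib

noncomputable section

namespace Groth.Agent.RelVALib

theorem mem_primeIdealOf_iff {Y : Scheme.{u}} {V : Y.Opens} (hV : IsAffineOpen V) (y : Y) (hy : y ∈ V) (a : Γ(Y, V)) :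
    a ∈ (hV.primeIdealOf ⟨y, hy⟩).asIdeal ↔ y ∉ Y.basicOpen a := by
  rw [← not_iff_not, not_not, ← PrimeSpectrum.mem_basicOpen, ← hV.fromSpec_preimage_basicOpen]
  show hV.fromSpec _ ∈ Y.basicOpen a ↔ _
  rw [hV.fromSpec_primeIdealOf]

theorem apply_eq_of_comap {Y Z : Scheme.{u}} (k : Y ⟶ Z) {U : Z.Opens} (hU : IsAffineOpen U)
    (hV : IsAffineOpen (k ⁻¹ᵁ U)) (q : PrimeSpectrum Γ(Y, k ⁻¹ᵁ U)) {x : Z} (hx : x ∈ U)
    (h : q.asIdeal.comap (k.app U).hom = (hU.primeIdealOf ⟨x, hx⟩).asIdeal) : k (hV.fromSpec q) = x := by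
  have hw : hV.fromSpec q ∈ k ⁻¹ᵁ U := hV.range_fromSpec.le ⟨q, rfl⟩
  have hq : hV.primeIdealOf ⟨hV.fromSpec q, hw⟩ = q :=
    hV.fromSpec.isOpenEmbedding.injective (hV.fromSpec_primeIdealOf ⟨hV.fromSpec q, hw⟩)
  have h1 := hU.comap_primeIdealOf_appLE _ _ hV (f := k) le_rfl hw
  rw [hq, Scheme.Hom.appLE_eq_app] at h1
  have h2 : hU.primeIdealOf ⟨k (hV.fromSpec q), hw⟩ = hU.primeIdealOf ⟨x, hx⟩ := by
    rw [← h1]; exact PrimeSpectrum.ext h
  have h3 := congrArg hU.fromSpec h2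
  rwa [hU.fromSpec_primeIdealOf, hU.fromSpec_primeIdealOf] at h3

variable {X X' : Scheme.{u}} (g : X' ⟶ X) [IsFinite g] [IsReduced X] [IsNoetherian X]

theorem exists_ker_coefPr_le {U : X.Opens} (hU : IsAffineOpen U) (p : Ideal Γ(coefModel g, coefπ g ⁻¹ᵁ U))
    (hp : p.IsPrime) : ∃ η, RingHom.ker (coefPr g hU η) ≤ p := by
  have := finite_genPt U
  have := Fintype.ofFinite (GenPt U)
  by_contra H
  push Not at H
  choose a ha hap using fun η => SetLike.not_le_iff_exists.1 (H η)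
  have : (∏ η, a η) = 0 := coefPr_ext g hU fun η => by
    rw [map_prod, map_zero]
    exact Finset.prod_eq_zero (Finset.mem_univ η) (ha η)
  obtain ⟨η, -, hmem⟩ := hp.prod_mem_iff.1 (this ▸ p.zero_mem)
  exact hap η hmem

set_option maxHeartbeats 1000000 in
/-- The coefficients detect the points of the fibre. -/
theorem point_lemma [Surjective g] {U : X.Opens} (hU : IsAffineOpen U) {ζ : coefModel g}
    (hζ : coefπ g ζ ∈ U) :
    (∃ z : X', g z = coefπ g ζ ∧ ∀ a : Γ(X', g ⁻¹ᵁ U), z ∈ X'.basicOpen a →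
      ∃ i, 0 < i ∧ ∀ c, (∀ η, coefPr g hU η c = genCoef g η.2.2 a i) → ζ ∈ (coefModel g).basicOpen c) ∧
    ∀ (a : Γ(X', g ⁻¹ᵁ U)) (i : ℕ) (c : Γ(coefModel g, coefπ g ⁻¹ᵁ U)), 0 < i →
      (∀ η, coefPr g hU η c = genCoef g η.2.2 a i) →
      (∀ z, g z = coefπ g ζ → z ∉ X'.basicOpen a) → ζ ∉ (coefModel g).basicOpen c := by
  classical
  have hU' : IsAffineOpen (coefπ g ⁻¹ᵁ U) := hU.preimage (coefπ g)
  have hA : IsAffineOpen (g ⁻¹ᵁ U) := hU.preimage g
  let p := (hU'.primeIdealOf ⟨ζ, hζ⟩).asIdeal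
  have hp : p.IsPrime := (hU'.primeIdealOf ⟨ζ, hζ⟩).isPrime
  obtain ⟨η, hη⟩ := exists_ker_coefPr_le g hU p hp
  have hP : p.comap ((coefπ g).app U).hom = (hU.primeIdealOf ⟨coefπ g ζ, hζ⟩).asIdeal := by
    rw [← hU.comap_primeIdealOf_appLE _ _ hU' le_rfl hζ, Scheme.Hom.appLE_eq_app]
    rfl
  let R := Γ(X, U)
  let A := Γ(X', g ⁻¹ᵁ U)
  letI algA : Algebra R A := preAlg g U
  letI algK : Algebra R (X.residueField η.1) := evalAlg (X := X) η.2.2
  have : Module.Finite R A := g.finite_app U hU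
  let B := Γ(coefModel g, coefπ g ⁻¹ᵁ U)
  letI : Algebra R B := ((coefπ g).app U).hom.toAlgebra
  let pr : B →ₐ[R] X.residueField η.1 := { coefPr g hU η with commutes' := fun r => coefPr_app g hU η r }
  let C : Subalgebra R (X.residueField η.1) := pr.range
  let π : B →+* C := pr.rangeRestrict.toRingHom
  have hπs : Function.Surjective π := fun y => by
    obtain ⟨b, hb⟩ := y.2
    exact ⟨b, Subtype.ext hb⟩
  have hker : RingHom.ker π ≤ p := fun b hb => hη (congrArg Subtype.val (RingHom.mem_ker.1 hb) : pr b = 0)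
  let pC : Ideal C := p.map π
  have hcp : ∀ b, π b ∈ pC ↔ b ∈ p := fun b => by
    rw [← Ideal.mem_comap, Ideal.comap_map_of_surjective π hπs, sup_eq_left.2]
    exact hker
  have hpC : pC.IsPrime := Ideal.map_isPrime_of_surjective hπs hker
  have hfr : IsFractionRing C (X.residueField η.1) := by
    refine IsFractionRing.of_field _ _ fun z => ?_
    obtain ⟨r, t, ht, he⟩ := exists_evaluation_fraction hU η.2.2 z
    exact ⟨algebraMap R C r, algebraMap R C t, ((div_eq_iff ht).2 (he.symm.trans (mul_comm _ _))).symm⟩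
  let Mat := Matrix (ULift.{u} (Fin (fibDim g η.1))) (ULift.{u} (Fin (fibDim g η.1))) (X.residueField η.1)
  let Ψ : A →ₐ[R] Mat := fibAct g η.2.2
  let A₁ := TensorProduct R C A
  let Ψ₁ : A₁ →ₐ[C] Mat :=
    Algebra.TensorProduct.lift (Algebra.ofId C Mat) Ψ fun c a => Algebra.commutes c (Ψ a)
  have hΨ₁ : ∀ a : A, Ψ₁ ((1 : C) ⊗ₜ[R] a) = Ψ a := fun a => by
    refine (Algebra.TensorProduct.lift_tmul _ _ _ _ _).trans ?_
    rw [map_one, one_mul]
  let pt : PrimeSpectrum A₁ → X' := fun q =>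
    hA.fromSpec (PrimeSpectrum.comap (Algebra.TensorProduct.includeRight : A →ₐ[R] A₁).toRingHom q)
  have hover : ∀ (q : Ideal A₁) (hq : q.IsPrime), q.comap (algebraMap C A₁) = pC →
      ∀ z, z = pt ⟨q, hq⟩ → g z = coefπ g ζ := by
    rintro q hq hqp z rfl
    refine apply_eq_of_comap g hU hA _ hζ ?_
    rw [← hP]
    refine Ideal.ext fun r => ?_
    show (1 : C) ⊗ₜ[R] (algebraMap R A r) ∈ q ↔ algebraMap R B r ∈ p
    have h1 : (1 : C) ⊗ₜ[R] (algebraMap R A r) = algebraMap C A₁ (algebraMap R C r) :=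
      ((Algebra.TensorProduct.includeRight : A →ₐ[R] A₁).commutes r).trans (IsScalarTower.algebraMap_apply R C A₁ r)
    rw [h1, ← Ideal.mem_comap, hqp, ← hcp]
    exact iff_of_eq (congrArg (· ∈ pC) (Subtype.ext (coefPr_app g hU η r).symm))
  have hinB : ∀ (q : Ideal A₁) (hq : q.IsPrime) (a : A),
      pt ⟨q, hq⟩ ∈ X'.basicOpen a ↔ (1 : C) ⊗ₜ[R] a ∉ q := fun q hq a => by
    show PrimeSpectrum.comap (Algebra.TensorProduct.includeRight : A →ₐ[R] A₁).toRingHom ⟨q, hq⟩ ∈
      hA.fromSpec ⁻¹ᵁ X'.basicOpen a ↔ _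
    rw [hA.fromSpec_preimage_basicOpen]
    rfl
  refine ⟨?_, fun a i c hi hc hz hmem => ?_⟩
  · obtain ⟨w⟩ : Nonempty (g.fiber η.1) := by
      obtain ⟨w₀, hw₀⟩ := g.surjective η.1
      exact ⟨hw₀ ▸ g.asFiber w₀⟩
    have hn : Nonempty (ULift.{u} (Fin (fibDim g η.1))) := by
      letI := fibAlg g η.1
      have := finite_fibAlg g η.1
      have : Nonempty (g.fiber η.1) := ⟨w⟩
      have : Nonempty ((⊤ : (g.fiber η.1).Opens) : Scheme.{u}) := ⟨⟨w, trivial⟩⟩
      have : Nontrivial Γ(g.fiber η.1, ⊤) := inferInstance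
      exact ⟨⟨⟨0, Module.finrank_pos⟩⟩⟩
    let E := Ψ₁.range
    letI : CommRing E :=
      { (inferInstance : Ring E) with
        mul_comm := by
          rintro ⟨_, x, rfl⟩ ⟨_, y, rfl⟩
          exact Subtype.ext ((map_mul Ψ₁ x y).symm.trans ((congrArg Ψ₁ (mul_comm x y)).trans (map_mul Ψ₁ y x))) }
    have : Module.Finite C E := Module.Finite.of_surjective Ψ₁.rangeRestrict.toLinearMap (fun e => by
      obtain ⟨x, hx⟩ := e.2
      exact ⟨x, Subtype.ext hx⟩)
    have : Algebra.IsIntegral C E := inferInstance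
    have hinj : Function.Injective (algebraMap C E) := fun x y hxy => by
      obtain ⟨k⟩ := hn
      have h1 := congrFun (congrFun (congrArg Subtype.val hxy) k) k
      have h2 : algebraMap C Mat x k k = algebraMap C Mat y k k := h1
      rw [IsScalarTower.algebraMap_apply C (X.residueField η.1) Mat, IsScalarTower.algebraMap_apply C (X.residueField η.1) Mat,
        Matrix.algebraMap_matrix_apply, Matrix.algebraMap_matrix_apply, if_pos rfl, if_pos rfl] at h2
      exact Subtype.ext h2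
    obtain ⟨qE, -, hqE, hqEp⟩ := Ideal.exists_ideal_over_prime_of_isIntegral (S := E) pC ⊥ (by
      rw [Ideal.comap_bot_of_injective _ hinj]; exact bot_le)
    let ρ : A₁ →ₐ[C] E := Ψ₁.rangeRestrict
    let q := qE.comap ρ.toRingHom
    have hq : q.IsPrime := Ideal.IsPrime.comap _
    have hqp : q.comap (algebraMap C A₁) = pC := by
      rw [← hqEp]
      exact Ideal.ext fun x => iff_of_eq (congrArg (· ∈ qE) (ρ.commutes x))
    have hqker : ∀ b, Ψ₁ b = 0 → b ∈ q := fun b hb => by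
      show ρ b ∈ qE
      rw [show ρ b = 0 from Subtype.ext hb]
      exact qE.zero_mem
    refine ⟨_, hover q hq hqp _ rfl, fun a ha => ?_⟩
    obtain ⟨i, hi, hni⟩ := exists_charCoef_action_notMem Ψ₁ ((1 : C) ⊗ₜ[R] a) pC q hqp hqker ((hinB q hq a).1 ha)
    refine ⟨i, hi, fun c hc => ?_⟩
    by_contra hζc
    refine hni (π c) 1 (fun h1 => hpC.ne_top ((Ideal.eq_top_iff_one _).2 h1)) ?_ ?_
    · rw [map_one, one_mul, hΨ₁]
      exact hc η
    · exact (hcp c).2 ((mem_primeIdealOf_iff hU' ζ hζ c).2 hζc)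
  · have h1 : (π c) ∈ pC := by
      refine charCoef_action_mem Ψ₁ ((1 : C) ⊗ₜ[R] a) pC (fun q hq hqp => ?_) hi (t := 1) ?_
      · by_contra haq
        exact hz _ (hover q hq hqp _ rfl) ((hinB q hq a).2 haq)
      · rw [map_one, one_mul, hΨ₁]
        exact hc η
    exact (mem_primeIdealOf_iff hU' ζ hζ c).1 ((hcp c).1 h1) hmem

variable {M : X.Modules} (hM : PicF.IsInvertible M) (s : Γ((Scheme.Modules.pullback g).obj M, ⊤))

/-- An affine open with a generator. -/
structure GenChart (M : X.Modules) : Type u where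
  V : X.Opens
  aff : IsAffineOpen V
  e : Γ(M, V)
  gen : IsGen M V e

omit [IsFinite g] [IsReduced X] [AlgebraicGeometry.IsNoetherian X] in
theorem exists_genChart {M : X.Modules} (hM : PicF.IsInvertible M) (x : X) : ∃ K : GenChart M, x ∈ K.V := by
  obtain ⟨U, hxU, e, he⟩ := exists_isGen hM x
  obtain ⟨V, hV, hxV, hle⟩ := exists_isAffineOpen_mem_and_subset (x := x) (U := U) hxU
  exact ⟨⟨V, hV, _, he.restrict hle⟩, hxV⟩

/-- The function of the section on a chart. -/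
def GenChart.coord (K : GenChart M) : Γ(X', g ⁻¹ᵁ K.V) :=
  (isGen_pullSec g K.gen hM).coef le_rfl (resM _ le_top s)

omit [IsFinite g] [IsReduced X] [AlgebraicGeometry.IsNoetherian X] in
theorem GenChart.glocus_inf (K : GenChart M) : glocus _ s ⊓ g ⁻¹ᵁ K.V = X'.basicOpen (K.coord g hM s) :=
  AmpleLib.glocus_inf s (isGen_pullSec g K.gen hM)

/-- The section of a power given by the coefficients on a chart. -/
theorem exists_modelSection (i : ℕ) :
    ∃ d : Γ((Scheme.Modules.pullback (coefπ g)).obj (CohB1.tensorPow M i), ⊤), ∀ K : GenChart M,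
      ∃ c, (∀ η, coefPr g K.aff η c = genCoef g η.2.2 (K.coord g hM s) i) ∧
        resM _ le_top d = c • pullSec (coefπ g) (powSec K.e i) := by
  let N := (Scheme.Modules.pullback (coefπ g)).obj (CohB1.tensorPow M i)
  choose c hc using fun K : GenChart M => exists_coefPr g K.aff (K.coord g hM s) i
  obtain ⟨d, hd, -⟩ := TopCat.Sheaf.existsUnique_gluing' (⟨N.presheaf, N.isSheaf⟩ : TopCat.Sheaf Ab (coefModel g))
    (fun K : GenChart M => coefπ g ⁻¹ᵁ K.V) ⊤ (fun K => homOfLE le_top)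
    (fun ζ _ => by
      obtain ⟨K, hK⟩ := exists_genChart hM (coefπ g ζ)
      exact Opens.mem_iSup.2 ⟨K, hK⟩)
    (fun K => (c K • pullSec (coefπ g) (powSec K.e i) : Γ(N, coefπ g ⁻¹ᵁ K.V)))
    (fun K K' => by
      show resM N (inf_le_left : coefπ g ⁻¹ᵁ K.V ⊓ coefπ g ⁻¹ᵁ K'.V ≤ _) _ =
        resM N (inf_le_right : coefπ g ⁻¹ᵁ K.V ⊓ coefπ g ⁻¹ᵁ K'.V ≤ _) _
      refine sec_ext N _ _ fun ζ hζ => ?_
      obtain ⟨W, hW, hxW, hle⟩ := exists_isAffineOpen_mem_and_subset (x := coefπ g ζ) (U := K.V ⊓ K'.V) ⟨hζ.1, hζ.2⟩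
      have hl : W ≤ K.V := fun w hw => (hle hw).1
      have hl' : W ≤ K'.V := fun w hw => (hle hw).2
      refine ⟨coefπ g ⁻¹ᵁ W, fun w hw => hle hw, hxW, ?_⟩
      rw [resM_resM, resM_resM, resM_smul, resM_smul, resM_pullSec _ hl, resM_pullSec _ hl', resM_powSec, resM_powSec]
      obtain ⟨r, hr⟩ : ∃ r : Γ(X, W), r • resM M hl' K'.e = resM M hl K.e := (K'.gen W hl').2 _
      rw [← hr, powSec_smul, pullSec_smul, smul_smul]
      congr 1
      refine coefPr_ext g hW fun η => ?_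
      rw [map_mul, coefPr_app, map_pow]
      refine (congrArg (· * _) (coefPr_res g K.aff hW hl η (c K))).trans ?_
      refine Eq.trans ?_ (coefPr_res g K'.aff hW hl' η (c K')).symm
      rw [hc, hc]
      show genCoef g (hl η.2.2) (K.coord g hM s) i * _ = genCoef g (hl' η.2.2) (K'.coord g hM s) i
      rw [← genCoef_res g η.2.2 hl, ← genCoef_res g η.2.2 hl', mul_comm]
      have hg : res (g.preimage_mono hl') (K'.coord g hM s) = g.app W r * res (g.preimage_mono hl) (K.coord g hM s) := by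
        have h1 := congrArg (resM _ (g.preimage_mono hl)) ((isGen_pullSec g K.gen hM).coef_spec le_rfl (resM _ le_top s))
        have h2 := congrArg (resM _ (g.preimage_mono hl')) ((isGen_pullSec g K'.gen hM).coef_spec le_rfl (resM _ le_top s))
        rw [resM_smul, resM_resM, resM_resM, resM_pullSec g hl, ← hr, pullSec_smul, smul_smul] at h1
        rw [resM_smul, resM_resM, resM_resM, resM_pullSec g hl'] at h2
        rw [mul_comm]
        refine ((isGen_pullSec g (K'.gen.restrict hl') hM) (g ⁻¹ᵁ W) le_rfl).1 ?_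
        show _ • resM _ le_rfl _ = _ • resM _ le_rfl _
        rw [resM_self]
        exact h2.trans h1.symm
      rw [hg, genCoef_smul])
  exact ⟨d, fun K => ⟨c K, hc K, hd K⟩⟩

/-- Ampleness on the cover gives ampleness on the model. -/
theorem isAmple_coefModel [Surjective g] {L : X.Modules} (hL : PicF.IsInvertible L)
    (h : CohB1.IsAmple ((Scheme.Modules.pullback g).obj L)) :
    CohB1.IsAmple ((Scheme.Modules.pullback (coefπ g)).obj L) := by
  have hLm : ∀ n, PicF.IsInvertible (CohB1.tensorPow L n) := fun n => isInvertible_tensorPow hL n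
  have : CompactSpace (coefModel g) := QuasiCompact.compactSpace_of_compactSpace (coefπ g)
  refine isAmple_iff_affGlocus.2 ⟨PicLoc.isInvertible_pullback _ hL, this, fun ζ => ?_⟩
  obtain ⟨U, hU, hxU, -⟩ := exists_isAffineOpen_mem_and_subset (x := coefπ g ζ) (U := ⊤) trivial
  obtain ⟨K₀, hK₀⟩ := exists_genChart (M := L) hL (coefπ g ζ)
  obtain ⟨⟨z, hgz, hzdet⟩, -⟩ := point_lemma g K₀.aff hK₀
  obtain ⟨m, hm, b, hzb, hbU, -⟩ :=
    affGlocus_of_mem h (U := g ⁻¹ᵁ U) (x := z) (show g z ∈ U by rw [hgz]; exact hxU)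
  obtain ⟨ε, -⟩ := exists_pullPowIso g hL m
  let s : Γ((Scheme.Modules.pullback g).obj (CohB1.tensorPow L m), ⊤) := ε.inv.app ⊤ b
  have hs : glocus _ s = glocus _ b := glocus_map_iso ε.symm b
  let K : GenChart (CohB1.tensorPow L m) := ⟨K₀.V, K₀.aff, _, isGen_powSec K₀.gen m⟩
  have hza : z ∈ X'.basicOpen (K.coord g (hLm m) s) := by
    rw [← K.glocus_inf g (hLm m) s, hs]
    exact ⟨hzb, show g z ∈ K₀.V by rw [hgz]; exact hK₀⟩
  obtain ⟨i, hi, hdet⟩ := hzdet _ hza
  obtain ⟨d, hd⟩ := exists_modelSection g (hLm m) s i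
  have hinv : ∀ j, PicF.IsInvertible (CohB1.tensorPow (CohB1.tensorPow L m) j) := fun j => isInvertible_tensorPow (hLm m) j
  have hloc : ∀ (K' : GenChart (CohB1.tensorPow L m)), ∃ c,
      (∀ η, coefPr g K'.aff η c = genCoef g η.2.2 (K'.coord g (hLm m) s) i) ∧
      glocus _ d ⊓ coefπ g ⁻¹ᵁ K'.V = (coefModel g).basicOpen c := fun K' => by
    obtain ⟨c, hc, hdc⟩ := hd K'
    refine ⟨c, hc, ?_⟩
    rw [AmpleLib.glocus_inf d (isGen_pullSec (coefπ g) (isGen_powSec K'.gen i) (hinv i))]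
    congr 1
    refine IsGen.coef_eq _ _ ?_
    rw [resM_self, hdc]
  have hζd : ζ ∈ glocus _ d := by
    obtain ⟨c, hc, he⟩ := hloc K
    exact (he.ge (hdet c hc)).1
  have hle : glocus _ d ≤ coefπ g ⁻¹ᵁ U := fun y hy => by
    by_contra hyU
    obtain ⟨K₁, hK₁⟩ := exists_genChart (M := CohB1.tensorPow L m) (hLm m) (coefπ g y)
    obtain ⟨c, hc, he⟩ := hloc K₁
    refine (point_lemma g K₁.aff hK₁).2 _ i c hi hc (fun w hw hwa => ?_) (he.le ⟨hy, hK₁⟩)
    rw [← K₁.glocus_inf g (hLm m) s, hs] at hwa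
    exact hyU (show coefπ g y ∈ U from hw ▸ hbU hwa.1)
  have haff : IsAffineOpen (glocus _ d) := by
    rw [← inf_eq_left.2 hle]
    exact isAffineOpen_glocus_inf (PicLoc.isInvertible_pullback _ (hinv i)) d (hU.preimage (coefπ g))
  obtain ⟨δ, -⟩ := exists_powPowIso hL m i
  obtain ⟨γ, -⟩ := exists_pullPowIso (coefπ g) hL (m * i)
  let Φ := (Scheme.Modules.pullback (coefπ g)).mapIso δ ≪≫ γ
  exact ⟨m * i, Nat.mul_pos hm hi, Φ.hom.app ⊤ d, by rwa [glocus_map_iso], le_top, by rwa [glocus_map_iso]⟩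

theorem isRelAmple_coefModel [Surjective g] {Y : Scheme.{u}} [IsAffine Y] (f : X ⟶ Y) [QuasiCompact f]
    {L : X.Modules} (hL : PicF.IsInvertible L)
    (h : RelAmple.IsRelAmple (g ≫ f) ((Scheme.Modules.pullback g).obj L)) :
    RelAmple.IsRelAmple (coefπ g ≫ f) ((Scheme.Modules.pullback (coefπ g)).obj L) := by
  have hA := isAmple_coefModel g hL (isAmple_of_isRelAmple_of_isAffine (g ≫ f) h)
  rw [isRelAmple_iff]
  refine ⟨inferInstance, fun V => ?_⟩
  have : CompactSpace ((coefπ g ≫ f) ⁻¹ᵁ V.1 : Scheme.{u}) :=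
    isCompact_iff_compactSpace.1 (QuasiCompact.isCompact_preimage (f := coefπ g ≫ f) _ V.1.2 V.2.isCompact)
  exact isAmple_pullback_of_isOpenImmersion _ hA

end Groth.Agent.RelVALib
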