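import Groth.Agent.AmpleLib.Detect
import Groth.Agent.Coherent.PullUnit
import Groth.Agent.Coherent.FiniteType
import Groth.Agent.PicLib.PullbackGen
import Groth.Agent.UPLib.Basic

/-!
# Generators and morphisms into affine opens
-/

set_option autoImplicit false
set_option linter.unusedSectionVars false
set_option backward.isDefEq.respectTransparency.types false

universe u

open CategoryTheory CategoryTheory.Limits AlgebraicGeometry TopologicalSpace Opposite
open Groth.Agent.Coherent Groth.Agent.PicLib Groth.Agent.AmpleLib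

namespace Groth.Agent.RelVALib

variable {X P : Scheme.{u}} {L : X.Modules}

/-- A section written on a generator generates exactly where its coefficient is invertible. -/
theorem le_basicOpen_of_isGen {O W : X.Opens} {g s : Γ(L, O)} (hg : IsGen L O g) {c : Γ(X, O)}
    (hc : c • g = s) (hW : W ≤ O) (hs : IsGen L W (resM L hW s)) : W ≤ X.basicOpen c := by
  intro x hx
  have h3 : (hg.restrict hW).coef le_rfl (resM L hW s) = res hW c := by
    refine IsGen.coef_eq _ _ ?_
    rw [resM_resM, ← resM_smul, hc]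
  have h2 := (hg.restrict hW).isUnit_coef hs
  rw [h3] at h2
  have := Scheme.basicOpen_of_isUnit X h2
  exact ((Scheme.basicOpen_res X c (homOfLE hW).op).le (this.ge hx)).2

theorem isGen_basicOpen_of_smul {O : X.Opens} {g s : Γ(L, O)} (hg : IsGen L O g) {c : Γ(X, O)}
    (hc : c • g = s) : IsGen L (X.basicOpen c) (resM L (X.basicOpen_le c) s) := by
  rw [← hc, resM_smul]
  exact (isGen_smul_iff (RingedSpace.isUnit_res_basicOpen X.toLocallyRingedSpace.toRingedSpace c)).2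
    (hg.restrict _)

theorem isGen_congr {U : X.Opens} {s t : Γ(L, U)} (h : s = t) (hs : IsGen L U s) : IsGen L U t := h ▸ hs

/-- If the pullback of a section generates near a point, the section generates near the image. -/
theorem exists_isGen_of_pullSec (r : X ⟶ P) {M : P.Modules} (hM : PicF.IsInvertible M) {U : P.Opens} (s : Γ(M, U))
    {W : X.Opens} (hW : W ≤ r ⁻¹ᵁ U) (hs : IsGen _ W (resM ((Scheme.Modules.pullback r).obj M) hW (pullSec r s)))
    {x : X} (hx : x ∈ W) : ∃ (O : P.Opens) (hO : O ≤ U), r x ∈ O ∧ IsGen M O (resM M hO s) := by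
  obtain ⟨V, hxV, g, hg⟩ := exists_isGen hM (r x)
  let O₀ := U ⊓ V
  have hg₀ := hg.restrict (inf_le_right : O₀ ≤ V)
  let c := hg₀.coef le_rfl (resM M (inf_le_left : O₀ ≤ U) s)
  have hc : c • resM M (inf_le_right : O₀ ≤ V) g = resM M (inf_le_left : O₀ ≤ U) s := by
    simpa only [resM_self] using hg₀.coef_spec le_rfl (resM M (inf_le_left : O₀ ≤ U) s)
  refine ⟨P.basicOpen c, (P.basicOpen_le c).trans inf_le_left, ?_, ?_⟩
  · have hW' : W ⊓ r ⁻¹ᵁ O₀ ≤ r ⁻¹ᵁ O₀ := inf_le_right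
    have hgen := (isGen_pullSec r hg₀ hM)
    have hc' : r.app O₀ c • pullSec r (resM M (inf_le_right : O₀ ≤ V) g) =
        resM _ (r.preimage_mono inf_le_left) (pullSec r s) := by
      rw [← pullSec_smul, hc]
      exact (resM_pullSec r (inf_le_left : O₀ ≤ U) s).symm
    have hgenW : IsGen _ (W ⊓ r ⁻¹ᵁ O₀)
        (resM ((Scheme.Modules.pullback r).obj M) hW' (resM _ (r.preimage_mono inf_le_left) (pullSec r s))) := by
      have := hs.restrict (inf_le_left : W ⊓ r ⁻¹ᵁ O₀ ≤ W)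
      rw [resM_resM] at this ⊢
      exact this
    have h := le_basicOpen_of_isGen hgen hc' hW' hgenW
      (show x ∈ W ⊓ r ⁻¹ᵁ O₀ from ⟨hx, hW hx, hxV⟩)
    rw [← Scheme.preimage_basicOpen] at h
    exact h
  · have := isGen_basicOpen_of_smul hg₀ hc
    rwa [resM_resM] at this

/-- Converse of transport of generators along an identification over an open immersion. -/
theorem isGen_app_of_bijective {Z : Scheme.{u}} (e : Z ⟶ X) [IsOpenImmersion e] {N : Z.Modules}
    (φ : L ⟶ (Scheme.Modules.pushforward e).obj N) {O : X.Opens} (hO : O ≤ e.opensRange)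
    (hφ : ∀ V : X.Opens, V ≤ O → Function.Bijective (φ.app V)) {s : Γ(L, O)} (hs : IsGen L O s) :
    IsGen N (e ⁻¹ᵁ O) (φ.app O s) := by
  intro V hV
  have hV' : e ''ᵁ V ≤ O := by
    rintro _ ⟨y, hy, rfl⟩
    exact hV hy
  have key : ∀ (V' : X.Opens) (h : V' ≤ O),
      Function.Bijective (fun c : Γ(Z, e ⁻¹ᵁ V') => c • resM N (e.preimage_mono h) (φ.app O s)) := by
    intro V' h
    have : IsIso (e.app V') := e.isIso_app _ (h.trans hO)
    have hb := ConcreteCategory.bijective_of_isIso (e.app V')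
    refine (Function.Bijective.of_comp_iff _ hb).1 ?_
    have h2 : (fun c : Γ(Z, e ⁻¹ᵁ V') => c • resM N (e.preimage_mono h) (φ.app O s)) ∘ (e.app V') =
        φ.app V' ∘ fun r : Γ(X, V') => r • resM L h s := by
      funext r
      show (e.app V' r) • resM N (e.preimage_mono h) (φ.app O s) = φ.app V' (r • resM L h s)
      refine Eq.symm ((Scheme.Modules.Hom.app_smul φ r _).trans ?_)
      exact congrArg (fun z : Γ(N, e ⁻¹ᵁ V') => (show Γ(Z, e ⁻¹ᵁ V') from e.app V' r) • z) (app_resM φ h s)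
    rw [h2]
    exact (hφ V' h).comp (hs V' h)
  have e1 : e ⁻¹ᵁ (e ''ᵁ V) = V := e.preimage_image_eq V
  have hkey := key _ hV'
  revert hV hkey
  generalize hV'' : e ''ᵁ V = V' at hV' e1 ⊢
  intro hV
  subst e1
  exact fun hkey => hkey

section affine

/-- The ring map of a morphism from an open subscheme into an open subset. -/
noncomputable def ev {W : X.Opens} (r : (W : Scheme.{u}) ⟶ P) (O : P.Opens)
    (h : (⊤ : W.toScheme.Opens) ≤ r ⁻¹ᵁ O) : Γ(P, O) →+* Γ(X, W) :=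
  W.topIso.hom.hom.comp (r.appLE O ⊤ h).hom

/-- A morphism into an affine open is determined by its ring map. -/
theorem eq_piece {W : X.Opens} (r : (W : Scheme.{u}) ⟶ P) {O : P.Opens} (hO : IsAffineOpen O)
    (h : (⊤ : W.toScheme.Opens) ≤ r ⁻¹ᵁ O) :
    r = W.toSpecΓ ≫ Spec.map (CommRingCat.ofHom (ev r O h)) ≫ hO.fromSpec := by
  have h2 : CommRingCat.ofHom (ev r O h) = r.appLE O ⊤ h ≫ W.topIso.hom := rfl
  rw [h2, Spec.map_comp, Category.assoc]
  have h3 : W.toSpecΓ ≫ Spec.map W.topIso.hom = W.toScheme.toSpecΓ := by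
    rw [Scheme.Opens.toSpecΓ, Category.assoc, ← Spec.map_comp, Iso.hom_inv_id, Spec.map_id, Category.comp_id]
  rw [reassoc_of% h3]
  have h4 : (⊤ : W.toScheme.Opens).toSpecΓ ≫ Spec.map (r.appLE O ⊤ h) =
      r.resLE O ⊤ h ≫ O.toSpecΓ := Scheme.Opens.toSpecΓ_SpecMap_appLE r O ⊤ h
  have : IsIso (⊤ : W.toScheme.Opens).ι := inferInstanceAs (IsIso W.toScheme.topIso.hom)
  rw [← cancel_epi (⊤ : W.toScheme.Opens).ι, ← reassoc_of% Scheme.Opens.toSpecΓ_top, reassoc_of% h4,
    IsAffineOpen.toSpecΓ_fromSpec, Scheme.Hom.resLE_comp_ι]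

/-- Morphisms into an affine open with the same ring map agree. -/
theorem eq_of_ev {W : X.Opens} {r r' : (W : Scheme.{u}) ⟶ P} {O : P.Opens} (hO : IsAffineOpen O)
    (h : (⊤ : W.toScheme.Opens) ≤ r ⁻¹ᵁ O) (h' : (⊤ : W.toScheme.Opens) ≤ r' ⁻¹ᵁ O) (e : ev r O h = ev r' O h') :
    r = r' := by
  rw [eq_piece r hO h, eq_piece r' hO h', e]

theorem ev_res {W : X.Opens} (r : (W : Scheme.{u}) ⟶ P) {O O' : P.Opens} (hO : O' ≤ O)
    (h' : (⊤ : W.toScheme.Opens) ≤ r ⁻¹ᵁ O') (c : Γ(P, O)) :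
    ev r O' h' (res hO c) = ev r O (h'.trans (r.preimage_mono hO)) c := by
  show W.topIso.hom (r.appLE O' ⊤ h' (P.presheaf.map _ c)) = W.topIso.hom (r.appLE O ⊤ _ c)
  rw [← ConcreteCategory.comp_apply (P.presheaf.map _), Scheme.Hom.map_appLE]

/-- Existence of a morphism with a given ring map. -/
theorem exists_piece {W : X.Opens} {O : P.Opens} (hO : IsAffineOpen O) (ρ : Γ(P, O) →+* Γ(X, W)) :
    ∃ (r : (W : Scheme.{u}) ⟶ P) (h : (⊤ : W.toScheme.Opens) ≤ r ⁻¹ᵁ O), ev r O h = ρ := by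
  let r := W.toSpecΓ ≫ Spec.map (CommRingCat.ofHom ρ) ≫ hO.fromSpec
  have h : (⊤ : W.toScheme.Opens) ≤ r ⁻¹ᵁ O := by
    intro y _
    show hO.fromSpec ((Spec.map (CommRingCat.ofHom ρ)) (W.toSpecΓ y)) ∈ O
    have := hO.range_fromSpec
    exact this.le ⟨_, rfl⟩
  refine ⟨r, h, ?_⟩
  have e : W.toSpecΓ ≫ Spec.map (CommRingCat.ofHom (ev r O h)) ≫ hO.fromSpec =
      W.toSpecΓ ≫ Spec.map (CommRingCat.ofHom ρ) ≫ hO.fromSpec := (eq_piece r hO h).symm
  rw [← Category.assoc, ← Category.assoc, cancel_mono] at e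
  exact congrArg CommRingCat.Hom.hom (UPLib.toSpecΓ_map_injective e)

set_option backward.isDefEq.respectTransparency false in
/-- The global functions of a base open act through the composite. -/
theorem ev_comp {Y : Scheme.{u}} {W : X.Opens} (r : (W : Scheme.{u}) ⟶ P) (p : P ⟶ Y) (g : X ⟶ Y)
    (hr : r ≫ p = W.ι ≫ g) {U : Y.Opens} {O : P.Opens} (hO : O ≤ p ⁻¹ᵁ U)
    (h : (⊤ : W.toScheme.Opens) ≤ r ⁻¹ᵁ O) (hW : W ≤ g ⁻¹ᵁ U) (c : Γ(Y, U)) :
    ev r O h (p.appLE U O hO c) = g.appLE U W hW c := by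
  show W.topIso.hom (r.appLE O ⊤ h (p.appLE U O hO c)) = _
  rw [← ConcreteCategory.comp_apply (p.appLE U O hO), Scheme.Hom.appLE_comp_appLE]
  suffices key : ∀ (q : (W : Scheme.{u}) ⟶ Y) (_ : q = W.ι ≫ g) (hh : (⊤ : W.toScheme.Opens) ≤ q ⁻¹ᵁ U),
      q.appLE U ⊤ hh ≫ W.topIso.hom = g.appLE U W hW from
    congrArg (fun f => (CommRingCat.Hom.hom f) c) (key _ hr _)
  rintro _ rfl hh
  rw [← Scheme.Hom.appLE_comp_appLE W.ι g U W ⊤ hW (fun x _ => x.2), Category.assoc, Scheme.Opens.ι_appLE,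
    Scheme.Opens.topIso_hom]
  simp only [← Functor.map_comp]
  rw [Scheme.Hom.appLE_map]

set_option backward.isDefEq.respectTransparency false in
/-- Restricting the source. -/
theorem ev_homOfLE {W W' : X.Opens} (hW : W' ≤ W) (r : (W : Scheme.{u}) ⟶ P) {O : P.Opens}
    (h : (⊤ : W.toScheme.Opens) ≤ r ⁻¹ᵁ O) (h' : (⊤ : W'.toScheme.Opens) ≤ (X.homOfLE hW ≫ r) ⁻¹ᵁ O) (c : Γ(P, O)) :
    ev (X.homOfLE hW ≫ r) O h' c = res hW (ev r O h c) := by
  have e : (⊤ : W'.toScheme.Opens) ≤ X.homOfLE hW ⁻¹ᵁ ⊤ := fun _ _ => trivial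
  show W'.topIso.hom ((X.homOfLE hW ≫ r).appLE O ⊤ h' c) = X.presheaf.map _ (W.topIso.hom (r.appLE O ⊤ h c))
  rw [← Scheme.Hom.appLE_comp_appLE _ _ O ⊤ ⊤ h e]
  simp only [← ConcreteCategory.comp_apply, Category.assoc]
  refine congrArg (fun q => (CommRingCat.Hom.hom q) c) (congrArg (r.appLE O ⊤ h ≫ ·) ?_)
  rw [Scheme.Opens.topIso_hom, Scheme.Opens.topIso_hom, Scheme.homOfLE_appLE]
  simp only [← Functor.map_comp]
  rfl

end affine

variable {Y : Scheme.{u}}

/-- An epimorphism from a pullback hits a generator near each point by a section over the base. -/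
theorem exists_gen_of_epi (g : X ⟶ Y) {E : Y.Modules} (hL : PicF.IsInvertible L)
    (t : E ⟶ (Scheme.Modules.pushforward g).obj L)
    [Epi (((Scheme.Modules.pullbackPushforwardAdjunction g).homEquiv E L).symm t)] (x : X) :
    ∃ (U : Y.Opens) (_ : IsAffineOpen U) (e : Γ(E, U)) (W : X.Opens) (hW : W ≤ g ⁻¹ᵁ U),
      x ∈ W ∧ IsGen L W (resM L hW (t.app U e)) := by
  by_contra hc
  push Not at hc
  have h : ∀ (U : Y.Opens) (e : Γ(E, U)) (W : X.Opens) (hW : W ≤ g ⁻¹ᵁ U), x ∈ W →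
      ¬ IsGen L W (resM L hW (t.app U e)) := by
    intro U e W hW hxW hgen
    obtain ⟨U', hU', hxU', hU'U⟩ := Opens.isBasis_iff_nbhd.1 Y.isBasis_affineOpens (show g x ∈ U from hW hxW)
    refine hc U' hU' (resM E hU'U e) (W ⊓ g ⁻¹ᵁ U') inf_le_right ⟨hxW, hxU'⟩ ?_
    refine isGen_congr ?_ (hgen.restrict (inf_le_left : W ⊓ g ⁻¹ᵁ U' ≤ W))
    rw [app_resM, resM_resM]
    exact (resM_resM L (g.preimage_mono hU'U) inf_le_right _).symm
  let q := atPoint L x
  have key : t ≫ (Scheme.Modules.pushforward g).map q = 0 := by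
    refine Scheme.Modules.hom_ext _ _ fun U => ?_
    ext e
    exact atPoint_eq_zero hL _ fun W hW hxW => h U e W hW hxW
  have h0 : q = 0 := by
    rw [← cancel_epi (((Scheme.Modules.pullbackPushforwardAdjunction g).homEquiv E L).symm t), comp_zero,
      ← Adjunction.homEquiv_naturality_right_symm, key]
    have := (Scheme.Modules.pullbackPushforwardAdjunction g).left_adjoint_additive
    rw [Adjunction.homEquiv_counit, Functor.map_zero, zero_comp]
  obtain ⟨W, hxW, z, hz⟩ := exists_isGen hL x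
  exact atPoint_ne_zero hL hxW hz (show q.app W z = 0 by rw [h0]; rfl)

/-- Conversely, sections generating near each point give an epimorphism. -/
theorem epi_of_exists_gen (g : X ⟶ Y) {E : Y.Modules} (t : E ⟶ (Scheme.Modules.pushforward g).obj L)
    (h : ∀ x : X, ∃ (U : Y.Opens) (e : Γ(E, U)) (W : X.Opens) (hW : W ≤ g ⁻¹ᵁ U),
      x ∈ W ∧ IsGen L W (resM L hW (t.app U e))) :
    Epi (((Scheme.Modules.pullbackPushforwardAdjunction g).homEquiv E L).symm t) := by
  let s := ((Scheme.Modules.pullbackPushforwardAdjunction g).homEquiv E L).symm t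
  refine Coherent.epi_of_locally_surjective _ fun V a y hy => ?_
  obtain ⟨U, e, W, hW, hyW, hgen⟩ := h y
  refine ⟨V ⊓ W, inf_le_left, ⟨hy, hyW⟩, ?_⟩
  obtain ⟨c, hc⟩ := (hgen (V ⊓ W) inf_le_right).2 (resM L inf_le_left a)
  refine ⟨c • resM _ (inf_le_right.trans hW) (pullSec g e), ?_⟩
  rw [Scheme.Modules.Hom.app_smul, app_resM, homEquiv_symm_app_pullSec]
  rw [← hc]
  show c • _ = c • resM L _ (resM L hW _)
  rw [resM_resM]

end Groth.Agent.RelVALib
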