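import Groth.Agent.RelVALib.QuasiProj
import Groth.Agent.AmpleLib.Coprod

/-!
# Sums of quasi-projective morphisms
-/

set_option autoImplicit false
set_option linter.unusedSectionVars false
set_option linter.deprecated false
set_option backward.isDefEq.respectTransparency.types false
set_option maxHeartbeats 1000000

universe u

open AlgebraicGeometry CategoryTheory CategoryTheory.Limits TopologicalSpace Opposite
open Groth.Agent.Coherent Groth.Agent.PicLib Groth.Agent.AmpleLib

namespace Groth.Agent.RelVALib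

variable {X X' Y Z : Scheme.{u}}

theorem isZero_pullback_pushforward_of_disjoint (a : X ⟶ Z) (b : X' ⟶ Z) [IsOpenImmersion a] [IsOpenImmersion b]
    (h : Disjoint a.opensRange b.opensRange) (M : X'.Modules) :
    IsZero ((Scheme.Modules.pullback a).obj ((Scheme.Modules.pushforward b).obj M)) := by
  refine IsZero.of_iso ?_ ((Scheme.Modules.restrictFunctorIsoPullback a).app _).symm
  rw [IsZero.iff_id_eq_zero]
  refine Scheme.Modules.hom_ext _ _ fun W => ?_
  have hW : b ⁻¹ᵁ (a ''ᵁ W) = ⊥ := by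
    refine eq_bot_iff.2 fun z hz => ?_
    exact (Disjoint.le_bot h) ⟨a.image_le_opensRange W hz, ⟨z, rfl⟩⟩
  have : Subsingleton Γ(X', b ⁻¹ᵁ (a ''ᵁ W)) := by
    rw [hW]
    exact CommRingCat.subsingleton_of_isTerminal X'.sheaf.isTerminalOfEmpty
  have : Subsingleton Γ(M, b ⁻¹ᵁ (a ''ᵁ W)) := Module.subsingleton Γ(X', b ⁻¹ᵁ (a ''ᵁ W)) _
  exact ConcreteCategory.hom_ext _ _ fun _ =>
    @Subsingleton.elim Γ(M, b ⁻¹ᵁ (a ''ᵁ W)) this _ _

theorem exists_sum_module (L : X.Modules) (L' : X'.Modules) :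
    ∃ M : (X ⨿ X').Modules, Nonempty ((Scheme.Modules.pullback (coprod.inl : X ⟶ X ⨿ X')).obj M ≅ L) ∧
      Nonempty ((Scheme.Modules.pullback (coprod.inr : X' ⟶ X ⨿ X')).obj M ≅ L') := by
  let a : X ⟶ X ⨿ X' := coprod.inl
  let b : X' ⟶ X ⨿ X' := coprod.inr
  have hd : Disjoint a.opensRange b.opensRange := (isCompl_opensRange_inl_inr X X').disjoint
  let A := (Scheme.Modules.pushforward a).obj L
  let B := (Scheme.Modules.pushforward b).obj L'
  let ca : (Scheme.Modules.pullback a).obj A ≅ L :=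
    ((Scheme.Modules.restrictFunctorIsoPullback a).app _).symm ≪≫ (Scheme.Modules.restrictFunctorAdjCounitIso a).app L
  let cb : (Scheme.Modules.pullback b).obj B ≅ L' :=
    ((Scheme.Modules.restrictFunctorIsoPullback b).app _).symm ≪≫ (Scheme.Modules.restrictFunctorAdjCounitIso b).app L'
  have := preservesBinaryBiproduct_of_preservesBinaryCoproduct (X := A) (Y := B) (Scheme.Modules.pullback a)
  have := preservesBinaryBiproduct_of_preservesBinaryCoproduct (X := A) (Y := B) (Scheme.Modules.pullback b)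
  exact ⟨A ⊞ B,
    ⟨(Scheme.Modules.pullback a).mapBiprod A B ≪≫
      (isoBiprodZero (isZero_pullback_pushforward_of_disjoint a b hd L')).symm ≪≫ ca⟩,
    ⟨(Scheme.Modules.pullback b).mapBiprod A B ≪≫
      (isoZeroBiprod (isZero_pullback_pushforward_of_disjoint b a hd.symm L)).symm ≪≫ cb⟩⟩

theorem isQuasiProjective_coprod (f : X ⟶ Y) (f' : X' ⟶ Y) (hf : RelProj.IsQuasiProjective f)
    (hf' : RelProj.IsQuasiProjective f') : RelProj.IsQuasiProjective (coprod.desc f f') := by
  obtain ⟨h1, h2, L, hL⟩ := hf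
  obtain ⟨h1', h2', L', hL'⟩ := hf'
  have := h2
  have := h2'
  obtain ⟨M, ⟨e⟩, ⟨e'⟩⟩ := exists_sum_module L L'
  have hi := glocus_isInvertible_of_iso e.symm (isInvertible_of_isRelAmple f hL)
  have hi' := glocus_isInvertible_of_iso e'.symm (isInvertible_of_isRelAmple f' hL')
  refine ⟨?_, quasiCompact_coprod_desc f f', M, (isRelAmple_coprod_iff f f' M hi hi').2
    ⟨isRelAmple_of_iso e.symm hL, isRelAmple_of_iso e'.symm hL'⟩⟩
  refine IsZariskiLocalAtSource.of_iSup_eq_top
    (fun b : Bool => if b then (coprod.inl : X ⟶ X ⨿ X').opensRange else (coprod.inr : X' ⟶ X ⨿ X').opensRange)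
    ?_ fun b => ?_
  · refine eq_top_iff.2 fun z hz => ?_
    rcases ((isCompl_opensRange_inl_inr X X').sup_eq_top.ge hz : _ ∈ _ ⊔ _) with h | h
    · exact Opens.mem_iSup.2 ⟨true, h⟩
    · exact Opens.mem_iSup.2 ⟨false, h⟩
  · cases b
    · show LocallyOfFiniteType ((coprod.inr : X' ⟶ X ⨿ X').opensRange.ι ≫ _)
      rw [← (coprod.inr : X' ⟶ X ⨿ X').isoOpensRange_inv_comp, Category.assoc, coprod.inr_desc]
      exact MorphismProperty.comp_mem @LocallyOfFiniteType _ f' inferInstance h1'
    · show LocallyOfFiniteType ((coprod.inl : X ⟶ X ⨿ X').opensRange.ι ≫ _)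
      rw [← (coprod.inl : X ⟶ X ⨿ X').isoOpensRange_inv_comp, Category.assoc, coprod.inl_desc]
      exact MorphismProperty.comp_mem @LocallyOfFiniteType _ f inferInstance h1

end Groth.Agent.RelVALib
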