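import Groth.Agent.RelVALib.CharCoef
import Groth.Agent.AmpleLib.Relative2
import Groth.Agent.PicLib.BasisOn
import Groth.Prelude.Def_FlatMod2

/-!
# Descent of ampleness along finite surjective morphisms with locally free direct image
-/

set_option autoImplicit false
set_option backward.isDefEq.respectTransparency.types false

universe u

open CategoryTheory CategoryTheory.Limits AlgebraicGeometry Opposite TopologicalSpace
open Groth.Agent.Coherent Groth.Agent.PicLib Groth.Agent.AmpleLib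

noncomputable section

namespace Groth.Agent.RelVALib

variable {X X' : Scheme.{u}} (g : X' ⟶ X)

/-- The direct image of the structure sheaf. -/
abbrev pushO : X.Modules := (Coh.push g).obj (Coh.structureModule X')

/-- A function on a preimage as a section of the direct image. -/
abbrev toPush {V : X.Opens} (a : Γ(X', g ⁻¹ᵁ V)) : Γ(pushO g, V) := a

theorem toPush_smul {V : X.Opens} (r : Γ(X, V)) (a : Γ(X', g ⁻¹ᵁ V)) :
    r • toPush g a = toPush g (g.app V r * a) := rfl

theorem toPush_res {V W : X.Opens} (h : W ≤ V) (a : Γ(X', g ⁻¹ᵁ V)) :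
    resM (pushO g) h (toPush g a) = toPush g (res (g.preimage_mono h) a) := rfl

variable {I : Type u} [Fintype I] {U : X.Opens} {e : I → Γ(pushO g, U)}

/-- Functions on a preimage as an algebra. -/
@[reducible] def preAlg (V : X.Opens) : Algebra Γ(X, V) Γ(X', g ⁻¹ᵁ V) := (g.app V).hom.toAlgebra

/-- The basis of the functions on a preimage given by a frame. -/
def frameBasis (hb : IsBasisOn (pushO g) U e) {V : X.Opens} (h : V ≤ U) :
    letI := preAlg g V
    Module.Basis I Γ(X, V) Γ(X', g ⁻¹ᵁ V) :=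
  letI := preAlg g V
  Module.Basis.ofEquivFun
    { toFun := fun x => hb.coef h (toPush g x)
      map_add' := fun x y => hb.coef_add h (toPush g x) (toPush g y)
      map_smul' := fun r x => hb.coef_smul h r (toPush g x)
      invFun := fun c => (∑ i, c i • resM (pushO g) h (e i) : Γ(pushO g, V))
      left_inv := fun x => hb.coef_spec h (toPush g x)
      right_inv := fun c => hb.coef_eq h rfl }

theorem frameBasis_repr (hb : IsBasisOn (pushO g) U e) {V : X.Opens} (h : V ≤ U) (x : Γ(X', g ⁻¹ᵁ V)) (i : I) :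
    letI := preAlg g V
    (frameBasis g hb h).repr x i = hb.coef h (toPush g x) i := rfl

theorem frameBasis_apply (hb : IsBasisOn (pushO g) U e) {V : X.Opens} (h : V ≤ U) (i : I) :
    letI := preAlg g V
    frameBasis g hb h i = (show Γ(X', g ⁻¹ᵁ V) from resM (pushO g) h (e i)) := by
  classical
  letI := preAlg g V
  refine (frameBasis g hb h).repr.injective ?_
  rw [Module.Basis.repr_self]
  refine Finsupp.ext fun j => ?_
  rw [frameBasis_repr]
  refine Eq.trans ?_ (congrFun (hb.coef_self h i) j).symm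
  rw [Finsupp.single_apply]
  simp only [eq_comm]

/-- The characteristic coefficient of a function on a preimage. -/
def frameCoef (hb : IsBasisOn (pushO g) U e) {V : X.Opens} (h : V ≤ U) (a : Γ(X', g ⁻¹ᵁ V)) (i : ℕ) : Γ(X, V) :=
  letI := preAlg g V
  haveI := Classical.decEq I
  charCoef (frameBasis g hb h) a i

theorem frameCoef_res (hb : IsBasisOn (pushO g) U e) {V W : X.Opens} (h : V ≤ U) (h' : W ≤ V)
    (a : Γ(X', g ⁻¹ᵁ V)) (i : ℕ) :
    frameCoef g hb (h'.trans h) (res (g.preimage_mono h') a) i = res h' (frameCoef g hb h a i) := by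
  classical
  letI := preAlg g V
  letI := preAlg g W
  unfold frameCoef
  convert charCoef_map (res h') (res (g.preimage_mono h')) (frameBasis g hb h) (frameBasis g hb (h'.trans h))
    (fun j => ?_) (fun x j => ?_) a i using 2
  · rw [frameBasis_apply, frameBasis_apply]
    exact resM_resM (pushO g) h h' (e j)
  · rw [frameBasis_repr, frameBasis_repr]
    exact congrFun (hb.coef_res h h' (toPush g x)) j

theorem frameCoef_indep {J : Type u} [Fintype J] {U' : X.Opens} {e' : J → Γ(pushO g, U')}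
    (hb : IsBasisOn (pushO g) U e) (hb' : IsBasisOn (pushO g) U' e') {V : X.Opens} (h : V ≤ U) (h' : V ≤ U')
    (a : Γ(X', g ⁻¹ᵁ V)) (i : ℕ) : frameCoef g hb h a i = frameCoef g hb' h' a i := by
  classical
  letI := preAlg g V
  exact charCoef_indep _ _ a i

theorem frameCoef_smul (hb : IsBasisOn (pushO g) U e) {V : X.Opens} (h : V ≤ U) (r : Γ(X, V))
    (a : Γ(X', g ⁻¹ᵁ V)) (i : ℕ) : frameCoef g hb h (g.app V r * a) i = r ^ i * frameCoef g hb h a i := by
  classical
  letI := preAlg g V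
  exact charCoef_smul _ r a i

/-- Points over a point of an affine open and prime ideals. -/
theorem exists_frameCoef_mem_basicOpen [IsAffineHom g] (hb : IsBasisOn (pushO g) U e) {V : X.Opens} (h : V ≤ U)
    (hV : IsAffineOpen V) (a : Γ(X', g ⁻¹ᵁ V)) {z : X'} (hz : z ∈ X'.basicOpen a) :
    ∃ i, 0 < i ∧ g z ∈ X.basicOpen (frameCoef g hb h a i) := by
  classical
  letI := preAlg g V
  have hV' : IsAffineOpen (g ⁻¹ᵁ V) := hV.preimage g
  have hzV : z ∈ g ⁻¹ᵁ V := X'.basicOpen_le a hz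
  have hco : ((hV'.primeIdealOf ⟨z, hzV⟩).asIdeal.comap (algebraMap Γ(X, V) Γ(X', g ⁻¹ᵁ V))) =
      (hV.primeIdealOf ⟨g z, hzV⟩).asIdeal := by
    rw [← hV.comap_primeIdealOf_appLE _ _ hV' le_rfl hzV, Scheme.Hom.appLE_eq_app]
    rfl
  have ha : a ∉ (hV'.primeIdealOf ⟨z, hzV⟩).asIdeal := by
    rw [← PrimeSpectrum.mem_basicOpen, ← hV'.fromSpec_preimage_basicOpen]
    show hV'.fromSpec _ ∈ X'.basicOpen a
    rwa [hV'.fromSpec_primeIdealOf]
  obtain ⟨i, hi, hni⟩ := exists_charCoef_notMem (frameBasis g hb h) a _ _ hco ha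
  refine ⟨i, hi, ?_⟩
  rw [← PrimeSpectrum.mem_basicOpen, ← hV.fromSpec_preimage_basicOpen] at hni
  have h2 : hV.fromSpec (hV.primeIdealOf ⟨g z, hzV⟩) ∈ X.basicOpen (frameCoef g hb h a i) := hni
  rwa [hV.fromSpec_primeIdealOf] at h2

theorem frameCoef_notMem_basicOpen [IsAffineHom g] (hb : IsBasisOn (pushO g) U e) {V : X.Opens} (h : V ≤ U)
    (hV : IsAffineOpen V) (a : Γ(X', g ⁻¹ᵁ V)) {y : X} (hy : y ∈ V)
    (hz : ∀ z : X', g z = y → z ∉ X'.basicOpen a) {i : ℕ} (hi : 0 < i) :
    y ∉ X.basicOpen (frameCoef g hb h a i) := by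
  classical
  letI := preAlg g V
  have hV' : IsAffineOpen (g ⁻¹ᵁ V) := hV.preimage g
  intro hmem
  have hp : frameCoef g hb h a i ∉ (hV.primeIdealOf ⟨y, hy⟩).asIdeal := by
    rw [← PrimeSpectrum.mem_basicOpen, ← hV.fromSpec_preimage_basicOpen]
    show hV.fromSpec _ ∈ X.basicOpen _
    rwa [hV.fromSpec_primeIdealOf]
  refine hp (charCoef_mem (frameBasis g hb h) a _ (fun q hq hqp => ?_) hi)
  by_contra haq
  let z : X' := hV'.fromSpec ⟨q, hq⟩
  have hzV : z ∈ g ⁻¹ᵁ V := hV'.range_fromSpec.le ⟨⟨q, hq⟩, rfl⟩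
  have hzq : hV'.primeIdealOf ⟨z, hzV⟩ = ⟨q, hq⟩ :=
    hV'.fromSpec.isOpenEmbedding.injective (hV'.fromSpec_primeIdealOf ⟨z, hzV⟩)
  have hgz : g z = y := by
    have h1 := hV.comap_primeIdealOf_appLE _ _ hV' (f := g) le_rfl hzV
    rw [hzq, Scheme.Hom.appLE_eq_app] at h1
    have h2 : hV.primeIdealOf ⟨g z, hzV⟩ = hV.primeIdealOf ⟨y, hy⟩ := by
      rw [← h1]; exact PrimeSpectrum.ext hqp
    have h3 := congrArg hV.fromSpec h2
    rwa [hV.fromSpec_primeIdealOf, hV.fromSpec_primeIdealOf] at h3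
  refine hz z hgz ?_
  show (⟨q, hq⟩ : PrimeSpectrum _) ∈ hV'.fromSpec ⁻¹ᵁ X'.basicOpen a
  rw [hV'.fromSpec_preimage_basicOpen]
  exact haq

/-- An affine open with a frame of the direct image and a generator of an invertible module. -/
structure Frame (M : X.Modules) : Type u where
  V : X.Opens
  aff : IsAffineOpen V
  n : ℕ
  e : ULift.{u} (Fin n) → Γ(pushO g, V)
  hb : IsBasisOn (pushO g) V e
  h : Γ(M, V)
  hgen : IsGen M V h

/-- The direct image of the structure sheaf has a frame near every point. -/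
def HasFrames : Prop :=
  ∀ x : X, ∃ (U : X.Opens) (n : ℕ) (e : ULift.{u} (Fin n) → Γ(pushO g, U)), x ∈ U ∧ IsBasisOn (pushO g) U e

theorem HasFrames.of_isFinLocFree (hfree : FlatMod.IsFinLocFree (pushO g)) : HasFrames g :=
  fun x => exists_isBasisOn hfree x

theorem exists_frame (hfree : HasFrames g) {M : X.Modules} (hM : PicF.IsInvertible M)
    {O : X.Opens} {x : X} (hx : x ∈ O) : ∃ F : Frame g M, x ∈ F.V ∧ F.V ≤ O := by
  obtain ⟨U₁, n, e, hx₁, he⟩ := hfree x
  obtain ⟨U₂, hx₂, h, hgen⟩ := exists_isGen hM x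
  obtain ⟨V, hV, hxV, hle⟩ := exists_isAffineOpen_mem_and_subset (x := x) (U := U₁ ⊓ U₂ ⊓ O) ⟨⟨hx₁, hx₂⟩, hx⟩
  have h₁ : V ≤ U₁ := fun _ hw => (hle hw).1.1
  have h₂ : V ≤ U₂ := fun _ hw => (hle hw).1.2
  refine ⟨⟨V, hV, n, fun i => resM _ h₁ (e i), fun W hW => ?_, _, hgen.restrict h₂⟩, hxV, fun _ hw => (hle hw).2⟩
  convert he (hW.trans h₁) using 1
  funext c
  exact Finset.sum_congr rfl fun i _ => by rw [resM_resM]

variable {M : X.Modules} (hM : PicF.IsInvertible M) (s : Γ((Scheme.Modules.pullback g).obj M, ⊤))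

/-- The function of a section in a frame. -/
def Frame.coord (F : Frame g M) {W : X.Opens} (h : W ≤ F.V) : Γ(X', g ⁻¹ᵁ W) :=
  (isGen_pullSec g F.hgen hM).coef (g.preimage_mono h) (resM _ le_top s)

theorem Frame.coord_res (F : Frame g M) {V W : X.Opens} (h : V ≤ F.V) (h' : W ≤ V) :
    F.coord g hM s (h'.trans h) = res (g.preimage_mono h') (F.coord g hM s h) := by
  have := (isGen_pullSec g F.hgen hM).coef_res (g.preimage_mono h) (g.preimage_mono h') (resM _ le_top s)
  rw [resM_resM] at this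
  exact this

theorem Frame.glocus_inf (F : Frame g M) :
    glocus _ s ⊓ g ⁻¹ᵁ F.V = X'.basicOpen (F.coord g hM s le_rfl) :=
  AmpleLib.glocus_inf s (isGen_pullSec g F.hgen hM)

/-- The symmetric functions of a section of the inverse image glue to sections of the powers. -/
theorem exists_symm_section (hfree : HasFrames g) (i : ℕ) :
    ∃ c : Γ(CohB1.tensorPow M i, ⊤), ∀ F : Frame g M,
      resM _ le_top c = frameCoef g F.hb le_rfl (F.coord g hM s le_rfl) i • powSec F.h i := by
  obtain ⟨c, hc, -⟩ := TopCat.Sheaf.existsUnique_gluing'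
    (⟨(CohB1.tensorPow M i).presheaf, (CohB1.tensorPow M i).isSheaf⟩ : TopCat.Sheaf Ab X)
    (fun F : Frame g M => F.V) ⊤ (fun F => homOfLE le_top)
    (fun x hx => by
      obtain ⟨F, hxF, -⟩ := exists_frame g hfree hM hx
      exact Opens.mem_iSup.2 ⟨F, hxF⟩)
    (fun F => (frameCoef g F.hb le_rfl (F.coord g hM s le_rfl) i • powSec F.h i : Γ(CohB1.tensorPow M i, F.V)))
    (fun F F' => by
      show resM _ (inf_le_left : F.V ⊓ F'.V ≤ F.V) _ = resM _ (inf_le_right : F.V ⊓ F'.V ≤ F'.V) _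
      let W := F.V ⊓ F'.V
      have hW : W ≤ F.V := inf_le_left
      have hW' : W ≤ F'.V := inf_le_right
      rw [resM_smul, resM_smul, ← frameCoef_res g F.hb le_rfl hW, ← frameCoef_res g F'.hb le_rfl hW',
        ← F.coord_res g hM s le_rfl hW, ← F'.coord_res g hM s le_rfl hW',
        frameCoef_indep g F'.hb F.hb hW' hW, resM_powSec, resM_powSec]
      obtain ⟨r, hr⟩ : ∃ r : Γ(X, W), r • resM M hW' F'.h = resM M hW F.h := (F'.hgen W hW').2 _
      have hg : F'.coord g hM s hW' = g.app W r * F.coord g hM s hW := by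
        refine (isGen_pullSec g F'.hgen hM).coef_eq (g.preimage_mono hW') ?_
        rw [mul_comm, mul_smul, resM_pullSec g hW', ← pullSec_smul, hr, ← resM_pullSec g hW]
        exact (isGen_pullSec g F.hgen hM).coef_spec _ _
      rw [hg, frameCoef_smul, ← hr, powSec_smul, smul_smul, mul_comm (r ^ i)])
  exact ⟨c, hc⟩

variable [IsFinite g]

/-- Ampleness descends along a finite surjective morphism with locally free direct image. -/
theorem isAmple_of_isAmple_pullback [Surjective g] (hfree : HasFrames g) {L : X.Modules}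
    (hL : PicF.IsInvertible L) (h : CohB1.IsAmple ((Scheme.Modules.pullback g).obj L)) : CohB1.IsAmple L := by
  obtain ⟨-, hc, -⟩ := isAmple_iff_affGlocus.1 h
  have : CompactSpace X := ⟨by
    rw [← g.surjective.range_eq]
    exact isCompact_range g.continuous⟩
  refine isAmple_iff_affGlocus.2 ⟨hL, inferInstance, fun x => ?_⟩
  obtain ⟨z, rfl⟩ := g.surjective x
  obtain ⟨U, hU, hxU, -⟩ := exists_isAffineOpen_mem_and_subset (x := g z) (U := ⊤) trivial
  obtain ⟨m, hm, b, hzb, hbU, -⟩ := affGlocus_of_mem h (U := g ⁻¹ᵁ U) (x := z) hxU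
  obtain ⟨ε, -⟩ := exists_pullPowIso g hL m
  let s : Γ((Scheme.Modules.pullback g).obj (CohB1.tensorPow L m), ⊤) := ε.inv.app ⊤ b
  have hs : glocus _ s = glocus _ b := glocus_map_iso ε.symm b
  have hM := isInvertible_tensorPow hL m
  obtain ⟨F, hxF, -⟩ := exists_frame g hfree hM (O := ⊤) (x := g z) trivial
  have hzF : z ∈ X'.basicOpen (F.coord g hM s le_rfl) := by
    rw [← F.glocus_inf g hM s, hs]
    exact ⟨hzb, hxF⟩
  obtain ⟨i, hi, hmem⟩ := exists_frameCoef_mem_basicOpen g F.hb le_rfl F.aff _ hzF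
  obtain ⟨c, hc⟩ := exists_symm_section g hM s hfree i
  have hloc : ∀ F' : Frame g (CohB1.tensorPow L m), glocus _ c ⊓ F'.V =
      X.basicOpen (frameCoef g F'.hb le_rfl (F'.coord g hM s le_rfl) i) := fun F' => by
    rw [AmpleLib.glocus_inf c (isGen_powSec F'.hgen i)]
    congr 1
    refine IsGen.coef_eq _ _ ?_
    rw [resM_self, hc F']
  have hxc : g z ∈ glocus _ c := by
    have : g z ∈ glocus _ c ⊓ F.V := by rw [hloc]; exact hmem
    exact this.1
  have hle : glocus _ c ≤ U := fun y hy => by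
    by_contra hyU
    obtain ⟨F', hyF', -⟩ := exists_frame g hfree hM (O := ⊤) (x := y) trivial
    refine frameCoef_notMem_basicOpen g F'.hb le_rfl F'.aff (F'.coord g hM s le_rfl) hyF' (fun w hw hwb => ?_) hi
      ((hloc F').le ⟨hy, hyF'⟩)
    rw [← F'.glocus_inf g hM s, hs] at hwb
    exact hyU (hw ▸ hbU hwb.1 : y ∈ U)
  have haff : IsAffineOpen (glocus _ c) := by
    rw [← inf_eq_left.2 hle]
    exact isAffineOpen_glocus_inf (isInvertible_tensorPow hM i) c hU
  obtain ⟨δ, -⟩ := exists_powPowIso hL m i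
  exact ⟨m * i, Nat.mul_pos hm hi, δ.hom.app ⊤ c, by rwa [glocus_map_iso], le_top, by rwa [glocus_map_iso]⟩

omit [IsFinite g] in
/-- Frames restrict to open subschemes of the base. -/
theorem HasFrames.morphismRestrict (hfree : HasFrames g) (U : X.Opens) : HasFrames (g ∣_ U) := by
  intro x
  obtain ⟨U₀, n, e, hx₀, he⟩ := hfree x.1
  let T : U.toScheme.Opens := U.ι ⁻¹ᵁ U₀
  have hT : U.ι ''ᵁ T ≤ U₀ := U.ι.image_preimage_le U₀
  let τ : ∀ W : U.toScheme.Opens, Γ(X', g ⁻¹ᵁ (U.ι ''ᵁ W)) ⟶ Γ((g ⁻¹ᵁ U).toScheme, (g ∣_ U) ⁻¹ᵁ W) := fun W =>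
    X'.presheaf.map (eqToHom (image_morphismRestrict_preimage g U W)).op
  refine ⟨T, n, fun i => toPush (g ∣_ U) (τ T (show Γ(X', g ⁻¹ᵁ (U.ι ''ᵁ T)) from resM (pushO g) hT (e i))), hx₀,
    fun W hW => ?_⟩
  have hW' : U.ι ''ᵁ W ≤ U₀ := (U.ι.image_mono hW).trans hT
  have : IsIso (τ W) := inferInstanceAs (IsIso (X'.presheaf.map (eqToHom _).op))
  have h1 := (ConcreteCategory.bijective_of_isIso (τ W)).comp (he hW')
  show Function.Bijective fun c : ULift.{u} (Fin n) → Γ(X, U.ι ''ᵁ W) => _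
  refine (congrArg Function.Bijective (funext fun c => ?_)).mpr h1
  refine Eq.trans ?_ (map_sum (τ W).hom _ _).symm
  refine Finset.sum_congr rfl fun i _ => ?_
  show ((g ∣_ U).app W (c i) * _ : Γ((g ⁻¹ᵁ U).toScheme, (g ∣_ U) ⁻¹ᵁ W)) = τ W (g.app _ (c i) * _)
  rw [map_mul]
  congr 1
  · rw [morphismRestrict_app]
    rfl
  · show (X'.presheaf.map ((homOfLE (g.preimage_mono hT)).op) ≫ X'.presheaf.map _ ≫ X'.presheaf.map _) (e i) =
      (X'.presheaf.map _ ≫ X'.presheaf.map _) (e i)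
    simp only [← Functor.map_comp]
    rfl

/-- Relative ampleness descends along a finite surjective morphism with locally free direct image. -/
theorem isRelAmple_of_isRelAmple_pullback [Surjective g] (hfree : HasFrames g) {Y : Scheme.{u}} (f : X ⟶ Y)
    [QuasiCompact f] {L : X.Modules} (hL : PicF.IsInvertible L)
    (h : RelAmple.IsRelAmple (g ≫ f) ((Scheme.Modules.pullback g).obj L)) : RelAmple.IsRelAmple f L := by
  rw [isRelAmple_iff] at h ⊢
  refine ⟨inferInstance, fun V => ?_⟩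
  have h2 := h.2 V
  have : Surjective (g ∣_ f ⁻¹ᵁ V.1) :=
    IsZariskiLocalAtTarget.restrict (P := @Surjective) (f := g) inferInstance _
  refine isAmple_of_isAmple_pullback (g ∣_ f ⁻¹ᵁ V.1) (hfree.morphismRestrict g _)
    (PicLoc.isInvertible_pullback _ hL) ?_
  rw [isAmple_pullback_comp_iff]
  have h3 : CohB1.IsAmple ((Scheme.Modules.pullback (g ⁻¹ᵁ (f ⁻¹ᵁ V.1)).ι).obj
      ((Scheme.Modules.pullback g).obj L)) := h2
  rw [isAmple_pullback_comp_iff] at h3
  exact isAmple_pullback_congr (morphismRestrict_ι g _).symm h3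

theorem isRelAmple_iff_pullback [Surjective g] (hfree : HasFrames g) {Y : Scheme.{u}} (f : X ⟶ Y)
    [QuasiCompact f] {L : X.Modules} (hL : PicF.IsInvertible L) :
    RelAmple.IsRelAmple f L ↔ RelAmple.IsRelAmple (g ≫ f) ((Scheme.Modules.pullback g).obj L) :=
  ⟨fun h => isRelAmple_pullback f g (fun U M _ hM => isAmple_pullback_of_isAffineHom _ hM) h,
    isRelAmple_of_isRelAmple_pullback g hfree f hL⟩

end Groth.Agent.RelVALib
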