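import Groth.Agent.RelVALib.NormMem
import Groth.Agent.RelVALib.NormDescent
import Groth.Agent.PicLib.CocycleGlue
import Groth.Agent.PicLib.FiniteSetTriv

/-!
# The norm of an invertible module along a finite morphism with locally free direct image
-/

set_option autoImplicit false
set_option backward.isDefEq.respectTransparency.types false

universe u

open CategoryTheory CategoryTheory.Limits AlgebraicGeometry Opposite TopologicalSpace
open Groth.Agent.Coherent Groth.Agent.PicLib Groth.Agent.AmpleLib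

noncomputable section

namespace Groth.Agent.RelVALib

variable {X X' : Scheme.{u}} (g : X' ⟶ X)

/-- The norm of a function on a preimage. -/
def frameNorm {V : X.Opens} (a : Γ(X', g ⁻¹ᵁ V)) : Γ(X, V) :=
  letI := preAlg g V
  Algebra.norm Γ(X, V) a

theorem frameNorm_mul {V : X.Opens} (a b : Γ(X', g ⁻¹ᵁ V)) :
    frameNorm g (a * b) = frameNorm g a * frameNorm g b :=
  letI := preAlg g V
  map_mul _ a b

theorem frameNorm_pow {V : X.Opens} (a : Γ(X', g ⁻¹ᵁ V)) (n : ℕ) :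
    frameNorm g (a ^ n) = frameNorm g a ^ n :=
  letI := preAlg g V
  map_pow _ a n

theorem isUnit_frameNorm {V : X.Opens} {a : Γ(X', g ⁻¹ᵁ V)} (ha : IsUnit a) : IsUnit (frameNorm g a) :=
  letI := preAlg g V
  ha.map _

variable {I : Type u} [Fintype I] {U : X.Opens} {e : I → Γ(pushO g, U)}

theorem frameNorm_res (hb : IsBasisOn (pushO g) U e) {V W : X.Opens} (h : V ≤ U) (h' : W ≤ V)
    (a : Γ(X', g ⁻¹ᵁ V)) : frameNorm g (res (g.preimage_mono h') a) = res h' (frameNorm g a) := by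
  classical
  letI := preAlg g V
  letI := preAlg g W
  show Algebra.norm Γ(X, W) _ = res h' (Algebra.norm Γ(X, V) a)
  rw [Algebra.norm_eq_matrix_det (frameBasis g hb h), Algebra.norm_eq_matrix_det (frameBasis g hb (h'.trans h)),
    RingHom.map_det]
  congr 1
  refine Matrix.ext fun k l => ?_
  rw [RingHom.mapMatrix_apply, Matrix.map_apply, Algebra.leftMulMatrix_eq_repr_mul,
    Algebra.leftMulMatrix_eq_repr_mul, frameBasis_repr, frameBasis_repr, frameBasis_apply, frameBasis_apply]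
  refine Eq.trans ?_ (congrFun (hb.coef_res h h' _) k)
  show _ = hb.coef (h'.trans h) (toPush g (res (g.preimage_mono h')
    (a * (show Γ(X', g ⁻¹ᵁ V) from resM (pushO g) h (e l))))) k
  rw [map_mul]
  refine congrArg (fun t => hb.coef (h'.trans h) (toPush g (res (g.preimage_mono h') a * t)) k) ?_
  exact (resM_resM (pushO g) h h' (e l)).symm

theorem mem_basicOpen_frameNorm [IsAffineHom g] (hb : IsBasisOn (pushO g) U e) {V : X.Opens} (h : V ≤ U)
    (hV : IsAffineOpen V) (a : Γ(X', g ⁻¹ᵁ V)) {y : X} (hy : y ∈ V) :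
    y ∈ X.basicOpen (frameNorm g a) ↔ ∀ z : X', g z = y → z ∈ X'.basicOpen a := by
  classical
  letI := preAlg g V
  have hV' : IsAffineOpen (g ⁻¹ᵁ V) := hV.preimage g
  have hmem : y ∈ X.basicOpen (frameNorm g a) ↔ Algebra.norm Γ(X, V) a ∉ (hV.primeIdealOf ⟨y, hy⟩).asIdeal := by
    rw [← PrimeSpectrum.mem_basicOpen, ← hV.fromSpec_preimage_basicOpen]
    show _ ↔ hV.fromSpec _ ∈ X.basicOpen _
    rw [hV.fromSpec_primeIdealOf]
    rfl
  rw [hmem]
  constructor
  · intro hn z hz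
    have hzV : z ∈ g ⁻¹ᵁ V := show g z ∈ V by rw [hz]; exact hy
    by_contra hzb
    refine hn (norm_mem_of_mem (frameBasis g hb h) a _ (hV'.primeIdealOf ⟨z, hzV⟩).asIdeal ?_ ?_)
    · have : (⟨g z, hzV⟩ : V) = ⟨y, hy⟩ := Subtype.ext hz
      rw [← this, ← hV.comap_primeIdealOf_appLE _ _ hV' le_rfl hzV, Scheme.Hom.appLE_eq_app]
      rfl
    · by_contra haq
      refine hzb ?_
      rw [← PrimeSpectrum.mem_basicOpen, ← hV'.fromSpec_preimage_basicOpen] at haq
      have h2 : hV'.fromSpec (hV'.primeIdealOf ⟨z, hzV⟩) ∈ X'.basicOpen a := haq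
      rwa [hV'.fromSpec_primeIdealOf] at h2
  · intro hz
    refine norm_notMem_of_forall (frameBasis g hb h) a _ fun q hq hqp haq => ?_
    let z : X' := hV'.fromSpec ⟨q, hq⟩
    have hzV : z ∈ g ⁻¹ᵁ V := hV'.range_fromSpec.le ⟨⟨q, hq⟩, rfl⟩
    have hzq : hV'.primeIdealOf ⟨z, hzV⟩ = ⟨q, hq⟩ :=
      hV'.fromSpec.isOpenEmbedding.injective (hV'.fromSpec_primeIdealOf ⟨z, hzV⟩)
    have hgz : g z = y := by
      have h1 := hV.comap_primeIdealOf_appLE _ _ hV' (f := g) le_rfl hzV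
      rw [hzq, Scheme.Hom.appLE_eq_app] at h1
      have h2 : hV.primeIdealOf ⟨g z, hzV⟩ = hV.primeIdealOf ⟨y, hy⟩ := by
        rw [← h1]; exact PrimeSpectrum.ext hqp
      have h3 := congrArg hV.fromSpec h2
      rwa [hV.fromSpec_primeIdealOf, hV.fromSpec_primeIdealOf] at h3
    have h4 : (⟨q, hq⟩ : PrimeSpectrum _) ∈ hV'.fromSpec ⁻¹ᵁ X'.basicOpen a := hz z hgz
    rw [hV'.fromSpec_preimage_basicOpen] at h4
    exact h4 haq

/-- An affine open with a frame of the direct image and a generator of a module over its preimage. -/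
structure Chart (L' : X'.Modules) : Type u where
  V : X.Opens
  aff : IsAffineOpen V
  n : ℕ
  e : ULift.{u} (Fin n) → Γ(pushO g, V)
  hb : IsBasisOn (pushO g) V e
  t : Γ(L', g ⁻¹ᵁ V)
  ht : IsGen L' (g ⁻¹ᵁ V) t

variable {g} {L' : X'.Modules}

/-- The transition function between two charts. -/
def Chart.trans (i j : Chart g L') {W : X.Opens} (hi : W ≤ i.V) (hj : W ≤ j.V) : Γ(X', g ⁻¹ᵁ W) :=
  j.ht.coef (g.preimage_mono hj) (resM L' (g.preimage_mono hi) i.t)

theorem Chart.trans_spec (i j : Chart g L') {W : X.Opens} (hi : W ≤ i.V) (hj : W ≤ j.V) :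
    i.trans j hi hj • resM L' (g.preimage_mono hj) j.t = resM L' (g.preimage_mono hi) i.t :=
  j.ht.coef_spec _ _

theorem Chart.trans_res (i j : Chart g L') {W W' : X.Opens} (hi : W ≤ i.V) (hj : W ≤ j.V) (h : W' ≤ W) :
    i.trans j (h.trans hi) (h.trans hj) = res (g.preimage_mono h) (i.trans j hi hj) := by
  have := j.ht.coef_res (g.preimage_mono hj) (g.preimage_mono h) (resM L' (g.preimage_mono hi) i.t)
  rw [resM_resM] at this
  exact this

theorem Chart.trans_trans (i j k : Chart g L') {W : X.Opens} (hi : W ≤ i.V) (hj : W ≤ j.V) (hk : W ≤ k.V) :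
    i.trans k hi hk = i.trans j hi hj * j.trans k hj hk := by
  refine k.ht.coef_eq _ ?_
  rw [mul_smul, j.trans_spec, i.trans_spec]

theorem Chart.trans_self (i : Chart g L') {W : X.Opens} (hi : W ≤ i.V) : i.trans i hi hi = 1 :=
  i.ht.coef_self _

theorem Chart.isUnit_trans (i j : Chart g L') {W : X.Opens} (hi : W ≤ i.V) (hj : W ≤ j.V) :
    IsUnit (i.trans j hi hj) :=
  IsUnit.of_mul_eq_one (j.trans i hj hi) (by rw [← Chart.trans_trans, Chart.trans_self])

theorem exists_chart_mem [IsFinite g] (hfree : HasFrames g) (hL' : PicF.IsInvertible L') {O : X.Opens} {x : X}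
    (hx : x ∈ O) : ∃ c : Chart g L', x ∈ c.V ∧ c.V ≤ O := by
  obtain ⟨U₁, n, e, hx₁, he⟩ := hfree x
  obtain ⟨V₀, hV₀, hxV₀, hle⟩ := exists_isAffineOpen_mem_and_subset (x := x) (U := U₁ ⊓ O) ⟨hx₁, hx⟩
  obtain ⟨U, hFU, -, -, ⟨ε⟩⟩ := exists_triv_of_finite hL' (hV₀.preimage g) (g ⁻¹' {x}) (g.finite_preimage_singleton x)
    fun z (hz : g z = x) => (show g z ∈ V₀ from hz.symm ▸ hxV₀)
  obtain ⟨t, ht⟩ := exists_isGen_of_iso ε
  have hcl : IsClosed (g '' (U : Set X')ᶜ) := g.isClosedMap _ U.isOpen.isClosed_compl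
  let O' : X.Opens := ⟨(g '' (U : Set X')ᶜ)ᶜ, hcl.isOpen_compl⟩
  have hxO' : x ∈ O' := by
    rintro ⟨z, hz, hzx⟩
    exact hz (hFU hzx)
  obtain ⟨V, hV, hxV, hV'⟩ := exists_isAffineOpen_mem_and_subset (x := x) (U := V₀ ⊓ O') ⟨hxV₀, hxO'⟩
  have hV₁ : V ≤ U₁ := fun w hw => (hle (hV' hw).1).1
  have hgV : g ⁻¹ᵁ V ≤ U := fun z hz => by
    by_contra hzU
    exact (hV' hz).2 ⟨z, hzU, rfl⟩
  refine ⟨⟨V, hV, n, fun i => resM _ hV₁ (e i), fun W hW => ?_, _, ht.restrict hgV⟩, hxV,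
    fun w hw => (hle (hV' hw).1).2⟩
  convert he (hW.trans hV₁) using 1
  funext c
  exact Finset.sum_congr rfl fun i _ => by rw [resM_resM]

variable (g L') in
/-- An invertible module with the norms of the transition functions of `L'` as transition functions. -/
def IsNormMod (N : X.Modules) (T : ∀ c : Chart g L', Γ(N, c.V)) : Prop :=
  (∀ c, IsGen N c.V (T c)) ∧ ∀ (i j : Chart g L') (W : X.Opens) (hi : W ≤ i.V) (hj : W ≤ j.V),
    resM N hi (T i) = frameNorm g (i.trans j hi hj) • resM N hj (T j)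

theorem exists_isNormMod [IsFinite g] (hfree : HasFrames g) (hL' : PicF.IsInvertible L') :
    ∃ (N : X.Modules) (T : ∀ c : Chart g L', Γ(N, c.V)), PicF.IsInvertible N ∧ IsNormMod g L' N T := by
  let η : ∀ i j : Chart g L', (Γ(X, i.V ⊓ j.V))ˣ := fun i j =>
    (isUnit_frameNorm g (i.isUnit_trans j inf_le_left inf_le_right)).unit
  have hres : ∀ (i j : Chart g L') (W : X.Opens) (hi : W ≤ i.V) (hj : W ≤ j.V),
      frameNorm g (i.trans j hi hj) = res (le_inf hi hj) (η i j : Γ(X, i.V ⊓ j.V)) := fun i j W hi hj => by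
    rw [← (i.trans_res j inf_le_left inf_le_right (le_inf hi hj)).symm,
      frameNorm_res g i.hb inf_le_left (le_inf hi hj)]
    rfl
  have hη : ∀ (x : X) (i j k : {c : Chart g L' // x ∈ c.V}),
      CocycleGlue.eta (fun c : Chart g L' => c.V) η i k =
        CocycleGlue.eta (fun c : Chart g L' => c.V) η i j * CocycleGlue.eta (fun c : Chart g L' => c.V) η j k := by
    intro x i j k
    let W := i.1.V ⊓ j.1.V ⊓ k.1.V
    have hi : W ≤ i.1.V := inf_le_left.trans inf_le_left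
    have hj : W ≤ j.1.V := inf_le_left.trans inf_le_right
    have hk : W ≤ k.1.V := inf_le_right
    have hxW : x ∈ W := ⟨⟨i.2, j.2⟩, k.2⟩
    have key := congrArg (X.presheaf.germ W x hxW) (congrArg (frameNorm g) (i.1.trans_trans j.1 k.1 hi hj hk))
    rw [frameNorm_mul, map_mul, hres i.1 k.1 W hi hk, hres i.1 j.1 W hi hj, hres j.1 k.1 W hj hk,
      TopCat.Presheaf.germ_res_apply, TopCat.Presheaf.germ_res_apply, TopCat.Presheaf.germ_res_apply] at key
    exact key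
  have hcov : iSup (fun c : Chart g L' => c.V) = ⊤ := top_le_iff.1 fun x hx => by
    obtain ⟨c, hxc, -⟩ := exists_chart_mem hfree hL' hx
    exact Opens.mem_iSup.2 ⟨c, hxc⟩
  obtain ⟨N, T, hN, hT, htr⟩ := CocycleGlue.exists_invertible (fun c : Chart g L' => c.V) η hη hcov
  refine ⟨N, T, hN, hT, fun i j W hi hj => ?_⟩
  have := congrArg (resM N (le_inf hi hj)) (htr i j)
  rw [resM_smul, resM_resM, resM_resM] at this
  rw [this, hres i j W hi hj]

variable {N : X.Modules} {T : ∀ c : Chart g L', Γ(N, c.V)}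

/-- The norm of a section of a power on the preimage of an open. -/
theorem exists_norm_section [IsFinite g] (hfree : HasFrames g) (hL' : PicF.IsInvertible L')
    (hT : IsNormMod g L' N T) (Q : X.Opens) (m : ℕ) (β : Γ(CohB1.tensorPow L' m, g ⁻¹ᵁ Q)) :
    ∃ c : Γ(CohB1.tensorPow N m, Q), ∀ (i : Chart g L') (hi : i.V ≤ Q),
      resM _ hi c = frameNorm g ((isGen_powSec i.ht m).coef le_rfl (resM _ (g.preimage_mono hi) β)) •
        powSec (T i) m := by
  obtain ⟨c, hc, -⟩ := TopCat.Sheaf.existsUnique_gluing'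
    (⟨(CohB1.tensorPow N m).presheaf, (CohB1.tensorPow N m).isSheaf⟩ : TopCat.Sheaf Ab X)
    (fun i : {i : Chart g L' // i.V ≤ Q} => i.1.V) Q (fun i => homOfLE i.2)
    (fun x hx => by
      obtain ⟨i, hxi, hi⟩ := exists_chart_mem hfree hL' hx
      exact Opens.mem_iSup.2 ⟨⟨i, hi⟩, hxi⟩)
    (fun i => (frameNorm g ((isGen_powSec i.1.ht m).coef le_rfl (resM _ (g.preimage_mono i.2) β)) •
      powSec (T i.1) m : Γ(CohB1.tensorPow N m, i.1.V)))
    (fun i j => by
      show resM _ (inf_le_left : i.1.V ⊓ j.1.V ≤ i.1.V) _ = resM _ (inf_le_right : i.1.V ⊓ j.1.V ≤ j.1.V) _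
      have hi : i.1.V ⊓ j.1.V ≤ i.1.V := inf_le_left
      have hj : i.1.V ⊓ j.1.V ≤ j.1.V := inf_le_right
      rw [resM_smul, resM_smul, ← frameNorm_res g i.1.hb le_rfl hi, ← frameNorm_res g j.1.hb le_rfl hj,
        resM_powSec, resM_powSec, hT.2 i.1 j.1 _ hi hj, powSec_smul, smul_smul, ← frameNorm_pow, ← frameNorm_mul]
      congr 2
      rw [← (isGen_powSec i.1.ht m).coef_res le_rfl (g.preimage_mono hi),
        ← (isGen_powSec j.1.ht m).coef_res le_rfl (g.preimage_mono hj), resM_resM, resM_resM]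
      symm
      refine (isGen_powSec j.1.ht m).coef_eq _ ?_
      rw [mul_smul, resM_powSec, ← powSec_smul, i.1.trans_spec, ← resM_powSec]
      exact (isGen_powSec i.1.ht m).coef_spec _ _)
  exact ⟨c, fun i hi => hc ⟨i, hi⟩⟩

/-- On an open immersion, the locus of an inverse image section near a generator. -/
theorem glocus_pullSec_inf {Z : Scheme.{u}} (σ : Z ⟶ X) [IsOpenImmersion σ] {M : X.Modules} (hM : PicF.IsInvertible M)
    {Q : X.Opens} (hQ : (⊤ : Z.Opens) ≤ σ ⁻¹ᵁ Q) (c : Γ(M, Q)) {V : X.Opens} (hV : V ≤ Q) {h : Γ(M, V)}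
    (hh : IsGen M V h) :
    glocus _ (resM _ hQ (pullSec σ c)) ⊓ σ ⁻¹ᵁ V = σ ⁻¹ᵁ X.basicOpen (hh.coef le_rfl (resM M hV c)) := by
  rw [AmpleLib.glocus_inf _ (isGen_pullSec σ hh hM), Scheme.preimage_basicOpen]
  congr 1
  refine IsGen.coef_eq _ _ ?_
  rw [resM_self, ← pullSec_smul]
  have := hh.coef_spec le_rfl (resM M hV c)
  rw [resM_self] at this
  rw [this, ← resM_pullSec, resM_resM]

/-- Relative ampleness passes to a norm. -/
theorem isRelAmple_normMod [IsFinite g] [Surjective g] (hfree : HasFrames g) (hL' : PicF.IsInvertible L')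
    (hN : PicF.IsInvertible N) (hT : IsNormMod g L' N T) {Y : Scheme.{u}} (f : X ⟶ Y) [QuasiCompact f]
    (h : RelAmple.IsRelAmple (g ≫ f) L') : RelAmple.IsRelAmple f N := by
  rw [isRelAmple_iff] at h ⊢
  refine ⟨inferInstance, fun W => ?_⟩
  let Q : X.Opens := f ⁻¹ᵁ W.1
  have hA : CohB1.IsAmple ((Scheme.Modules.pullback (g ⁻¹ᵁ Q).ι).obj L') := h.2 W
  have hQc : CompactSpace (Q : Scheme.{u}) :=
    isCompact_iff_compactSpace.1 (QuasiCompact.isCompact_preimage (f := f) _ W.1.2 W.2.isCompact)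
  refine isAmple_iff_affGlocus.2 ⟨PicLoc.isInvertible_pullback _ hN, hQc, fun x => ?_⟩
  obtain ⟨U, hU, hxU, hUQ⟩ := exists_isAffineOpen_mem_and_subset (x := x.1) (U := Q) x.2
  let σ := (g ⁻¹ᵁ Q).ι
  let F : Set (g ⁻¹ᵁ Q : Scheme.{u}) := σ ⁻¹' (g ⁻¹' {x.1})
  have hF : F.Finite := (g.finite_preimage_singleton x.1).preimage σ.isOpenEmbedding.injective.injOn
  obtain ⟨m, hm, b, hFb, hbU, -⟩ := exists_affine_glocus_finite (U := σ ⁻¹ᵁ g ⁻¹ᵁ U) hA F hF
    fun z (hz : g (σ z) = x.1) => (show g (σ z) ∈ U from hz.symm ▸ hxU)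
  obtain ⟨ε, -⟩ := exists_pullPowIso σ hL' m
  have hr : g ⁻¹ᵁ Q ≤ σ.opensRange := (Scheme.Opens.opensRange_ι _).ge
  have htop : (⊤ : (g ⁻¹ᵁ Q : Scheme.{u}).Opens) ≤ σ ⁻¹ᵁ (g ⁻¹ᵁ Q) := fun z _ => z.2
  have hbij : Function.Bijective fun β : Γ(CohB1.tensorPow L' m, g ⁻¹ᵁ Q) => pullSec σ β :=
    bijective_pullSec_opensRange σ (isInvertible_tensorPow hL' m) _ hr
  obtain ⟨β, hβ⟩ := hbij.2 (resM _ le_top (ε.inv.app ⊤ b))
  obtain ⟨c, hc⟩ := exists_norm_section hfree hL' hT Q m β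
  obtain ⟨δ, -⟩ := exists_pullPowIso Q.ι hN m
  have htQ : (⊤ : (Q : Scheme.{u}).Opens) ≤ Q.ι ⁻¹ᵁ Q := fun z _ => z.2
  let γ := resM _ htQ (pullSec Q.ι c)
  have hloc : ∀ (i : Chart g L') (hi : i.V ≤ Q) (y : (Q : Scheme.{u})), y.1 ∈ i.V →
      (y ∈ glocus _ γ ↔ ∀ z : (g ⁻¹ᵁ Q : Scheme.{u}), g (σ z) = y.1 → z ∈ glocus _ b) := by
    intro i hi y hy
    have h1 : y ∈ glocus _ γ ↔ y.1 ∈ X.basicOpen (frameNorm g ((isGen_powSec i.ht m).coef le_rfl
        (resM _ (g.preimage_mono hi) β))) := by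
      have h0 := glocus_pullSec_inf Q.ι (isInvertible_tensorPow hN m) htQ c hi (isGen_powSec (hT.1 i) m)
      rw [IsGen.coef_eq (isGen_powSec (hT.1 i) m) le_rfl (x := resM _ hi c)
        (r := frameNorm g ((isGen_powSec i.ht m).coef le_rfl (resM _ (g.preimage_mono hi) β)))
        (by rw [resM_self, hc i hi])] at h0
      exact ⟨fun hγ => h0.le ⟨hγ, hy⟩, fun hb => (h0.ge hb).1⟩
    have h2 : glocus _ b ⊓ σ ⁻¹ᵁ g ⁻¹ᵁ i.V = σ ⁻¹ᵁ X'.basicOpen ((isGen_powSec i.ht m).coef le_rfl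
        (resM _ (g.preimage_mono hi) β)) := by
      rw [← glocus_pullSec_inf σ (isInvertible_tensorPow hL' m) htop β (g.preimage_mono hi) (isGen_powSec i.ht m),
        ← glocus_map_iso ε.symm b]
      congr 2
      show _ = resM _ htop (pullSec σ β)
      rw [show pullSec σ β = _ from hβ, resM_resM]
      exact (resM_self _ _ _).symm
    rw [h1, mem_basicOpen_frameNorm g i.hb le_rfl i.aff _ hy]
    refine ⟨fun H z hz => (h2.ge (H (σ z) hz)).1, fun H z hz => ?_⟩
    have hzQ : z ∈ g ⁻¹ᵁ Q := show g z ∈ Q by rw [hz]; exact y.2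
    exact (h2.le ⟨H ⟨z, hzQ⟩ hz, (show g z ∈ i.V from hz.symm ▸ hy)⟩)
  have hxγ : x ∈ glocus _ γ := by
    obtain ⟨i, hxi, hi⟩ := exists_chart_mem hfree hL' (O := Q) x.2
    exact (hloc i hi x hxi).2 fun z hz => hFb hz
  have hle : glocus _ γ ≤ Q.ι ⁻¹ᵁ U := fun y hy => by
    obtain ⟨i, hyi, hi⟩ := exists_chart_mem hfree hL' (O := Q) y.2
    obtain ⟨z, hz⟩ := g.surjective y.1
    have hzQ : z ∈ g ⁻¹ᵁ Q := show g z ∈ Q by rw [hz]; exact y.2
    have := hbU ((hloc i hi y hyi).1 hy ⟨z, hzQ⟩ hz)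
    exact (show y.1 ∈ U from hz ▸ this)
  have haff : IsAffineOpen (glocus _ γ) := by
    rw [← inf_eq_left.2 hle]
    exact isAffineOpen_glocus_inf (PicLoc.isInvertible_pullback _ (isInvertible_tensorPow hN m)) γ
      (hU.preimage_of_isOpenImmersion Q.ι (by rw [Scheme.Opens.opensRange_ι]; exact hUQ))
  exact ⟨m, hm, δ.hom.app ⊤ γ, by rwa [glocus_map_iso], le_top, by rwa [glocus_map_iso]⟩

theorem exists_isRelAmple_of_comp [IsFinite g] [Surjective g] (hfree : HasFrames g) {Y : Scheme.{u}} (f : X ⟶ Y)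
    [QuasiCompact f] (h : RelAmple.IsRelAmple (g ≫ f) L') :
    ∃ L : X.Modules, PicF.IsInvertible L ∧ RelAmple.IsRelAmple f L := by
  obtain ⟨N, T, hN, hT⟩ := exists_isNormMod hfree (isInvertible_of_isRelAmple _ h)
  exact ⟨N, hN, isRelAmple_normMod hfree (isInvertible_of_isRelAmple _ h) hN hT f h⟩

end Groth.Agent.RelVALib
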