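import Groth.Agent.RelVALib.UPFunctor
import Groth.Agent.Coherent.ClosedEquiv

/-!
# Base change of projective bundles
-/

set_option autoImplicit false
set_option linter.unusedSectionVars false
set_option backward.isDefEq.respectTransparency.types false
set_option maxHeartbeats 1000000

universe u

open AlgebraicGeometry CategoryTheory TopologicalSpace Opposite
open Groth.Agent.Coherent Groth.Agent.PicLib Groth.Agent.AmpleLib

namespace Groth.Agent.RelVALib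

variable {Y Y' P P' : Scheme.{u}} {E : Y.Modules} {ψ : Y' ⟶ Y}
  {𝒮 : RelProj.QCGrAlg Y} {j : E ⟶ 𝒮.toModule} {p : P ⟶ Y}
  {chart : ∀ (U : Y.Opens) (hU : IsAffineOpen U), ((p ⁻¹ᵁ U : P.Opens) : Scheme.{u}) ≅ Proj (𝒮.deg U hU)}
  {O1 : P.Modules}
  {lam : ∀ (U : Y.Opens) (hU : IsAffineOpen U),
    O1 ⟶ (Scheme.Modules.pushforward (RelProj.emb p chart U hU)).obj (GrTwist.twist (𝒮.deg U hU) 1)}
  {φ : E ⟶ (Scheme.Modules.pushforward p).obj O1}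
  {𝒮' : RelProj.QCGrAlg Y'} {j' : (Scheme.Modules.pullback ψ).obj E ⟶ 𝒮'.toModule} {p' : P' ⟶ Y'}
  {chart' : ∀ (U : Y'.Opens) (hU : IsAffineOpen U), ((p' ⁻¹ᵁ U : P'.Opens) : Scheme.{u}) ≅ Proj (𝒮'.deg U hU)}
  {O1' : P'.Modules}
  {lam' : ∀ (U : Y'.Opens) (hU : IsAffineOpen U),
    O1' ⟶ (Scheme.Modules.pushforward (RelProj.emb p' chart' U hU)).obj (GrTwist.twist (𝒮'.deg U hU) 1)}
  {φ' : (Scheme.Modules.pullback ψ).obj E ⟶ (Scheme.Modules.pushforward p').obj O1'}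

/-- The sections of the fundamental sheaf generate. -/
theorem PBundle.cover (D : PBundle E 𝒮 j p chart O1 lam φ) (x : P) :
    ∃ (U : Y.Opens) (_ : IsAffineOpen U) (e : Γ(E, U)) (W : P.Opens) (hW : W ≤ p ⁻¹ᵁ U),
      x ∈ W ∧ IsGen O1 W (resM O1 hW (φ.app U e)) := by
  obtain ⟨U, hU, hxU⟩ := Groth.Agent.TwistLib.G.exists_affine (p := p) x
  obtain ⟨e, he⟩ := D.exists_mem_opn hU hxU
  exact ⟨U, hU, e, _, D.opn_le hU e, he, D.isGen_phi hU e⟩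

/-- Generation by sections of the module and of its pullback agree. -/
theorem cover_iff {X : Scheme.{u}} {g : X ⟶ Y} {L : X.Modules} (t : E ⟶ (Scheme.Modules.pushforward g).obj L)
    (b : X ⟶ Y') (hb : b ≫ ψ = g) (u : (Scheme.Modules.pullback ψ).obj E ⟶ (Scheme.Modules.pushforward b).obj L)
    (hu : ∀ (U : Y.Opens) (_ : IsAffineOpen U) (e : Γ(E, U)) (hle : b ⁻¹ᵁ (ψ ⁻¹ᵁ U) ≤ g ⁻¹ᵁ U),
      u.app (ψ ⁻¹ᵁ U) (PicLib.pullSec ψ e) = resM L hle (t.app U e))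
    (hL : PicF.IsInvertible L) :
    (∀ x : X, ∃ (U : Y.Opens) (_ : IsAffineOpen U) (e : Γ(E, U)) (W : X.Opens) (hW : W ≤ g ⁻¹ᵁ U),
        x ∈ W ∧ IsGen L W (resM L hW (t.app U e))) ↔
      ∀ x : X, ∃ (U : Y'.Opens) (_ : IsAffineOpen U) (e : Γ((Scheme.Modules.pullback ψ).obj E, U)) (W : X.Opens)
        (hW : W ≤ b ⁻¹ᵁ U), x ∈ W ∧ IsGen L W (resM L hW (u.app U e)) := by
  let E' := (Scheme.Modules.pullback ψ).obj E
  subst hb
  constructor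
  · intro h x
    obtain ⟨U, hU, e, W, hW, hx, hg⟩ := h x
    obtain ⟨A, hA, hxA, hAU⟩ := Opens.isBasis_iff_nbhd.1 Y'.isBasis_affineOpens (show b x ∈ ψ ⁻¹ᵁ U from hW hx)
    refine ⟨A, hA, resM E' hAU (PicLib.pullSec ψ e), W ⊓ b ⁻¹ᵁ A, inf_le_right, ⟨hx, hxA⟩, ?_⟩
    refine isGen_congr ?_ (hg.restrict (inf_le_left : W ⊓ b ⁻¹ᵁ A ≤ W))
    rw [app_resM, hu U hU e le_rfl]
    show _ = resM L inf_le_right (resM L (b.preimage_mono hAU) (resM L le_rfl _))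
    rw [resM_resM, resM_resM, resM_resM]
    rfl
  · intro h x
    have : Epi (((Scheme.Modules.pullbackPushforwardAdjunction b).homEquiv E' L).symm u) :=
      epi_of_exists_gen b u fun x => by
        obtain ⟨U, -, e, W, hW, hx, hg⟩ := h x
        exact ⟨U, e, W, hW, hx, hg⟩
    by_contra hc
    push Not at hc
    have hzero : u ≫ (Scheme.Modules.pushforward b).map (atPoint L x) = 0 := by
      refine hom_ext_pullSec ψ _ _ fun U hU e => ?_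
      show (atPoint L x).app (b ⁻¹ᵁ (ψ ⁻¹ᵁ U)) (u.app (ψ ⁻¹ᵁ U) (PicLib.pullSec ψ e)) = 0
      rw [hu U hU e le_rfl]
      erw [resM_self]
      exact atPoint_eq_zero hL _ fun W hW hxW => hc U hU e W hW hxW
    have h0 : atPoint L x = 0 := by
      rw [← cancel_epi (((Scheme.Modules.pullbackPushforwardAdjunction b).homEquiv E' L).symm u),
        Limits.comp_zero, ← Adjunction.homEquiv_naturality_right_symm, hzero]
      have := (Scheme.Modules.pullbackPushforwardAdjunction b).left_adjoint_additive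
      rw [Adjunction.homEquiv_counit, Functor.map_zero, Limits.zero_comp]
    obtain ⟨W, hxW, z, hz⟩ := exists_isGen hL x
    exact atPoint_ne_zero hL hxW hz (show (atPoint L x).app W z = 0 by rw [h0]; rfl)

/-- Pullbacks of the two fundamental sheaves along compatible morphisms. -/
theorem exists_bridge {X : Scheme.{u}} (g : P' ⟶ P) (hg : g ≫ p = p' ≫ ψ)
    (τ : (Scheme.Modules.pullback g).obj O1 ≅ O1')
    (hτ : Classifies φ (p' ≫ ψ) ((Scheme.Modules.pullbackPushforwardAdjunction ψ).homEquiv E _ φ') g hg τ)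
    (m : X ⟶ P') (a : X ⟶ P) (hm : m ≫ g = a) :
    ∃ χ : (Scheme.Modules.pullback a).obj O1 ≅ (Scheme.Modules.pullback m).obj O1',
      ∀ (U : Y.Opens) (e : Γ(E, U)) (hle : a ⁻¹ᵁ (p ⁻¹ᵁ U) ≤ m ⁻¹ᵁ (p' ⁻¹ᵁ (ψ ⁻¹ᵁ U))),
        χ.hom.app (a ⁻¹ᵁ (p ⁻¹ᵁ U)) (PicLib.pullSec a (show Γ(O1, p ⁻¹ᵁ U) from φ.app U e)) =
          resM _ hle (PicLib.pullSec m
            (show Γ(O1', p' ⁻¹ᵁ (ψ ⁻¹ᵁ U)) from φ'.app (ψ ⁻¹ᵁ U) (PicLib.pullSec ψ e))) := by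
  obtain ⟨c, hc⟩ := exists_compIso m g a hm O1
  subst hm
  refine ⟨c ≪≫ (Scheme.Modules.pullback m).mapIso τ, fun U e hle => ?_⟩
  show ((Scheme.Modules.pullback m).map τ.hom).app _ (c.hom.app ((m ≫ g) ⁻¹ᵁ (p ⁻¹ᵁ U)) _) = _
  rw [hc (p ⁻¹ᵁ U) _ le_rfl]
  erw [resM_self]
  refine (map_app_pullSec m τ.hom (g ⁻¹ᵁ (p ⁻¹ᵁ U)) _).trans ?_
  rw [hτ.on_opens U e]
  exact (resM_pullSec m (le_of_over hg U) (show Γ(O1', p' ⁻¹ᵁ (ψ ⁻¹ᵁ U)) from φ'.app (ψ ⁻¹ᵁ U) (PicLib.pullSec ψ e))).symm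

/-- Into a pullback bundle morphisms are determined by their composites. -/
theorem bundle_hom_ext (D' : PBundle ((Scheme.Modules.pullback ψ).obj E) 𝒮' j' p' chart' O1' lam' φ')
    (g : P' ⟶ P) (hg : g ≫ p = p' ≫ ψ) (τ : (Scheme.Modules.pullback g).obj O1 ≅ O1')
    (hτ : Classifies φ (p' ≫ ψ) ((Scheme.Modules.pullbackPushforwardAdjunction ψ).homEquiv E _ φ') g hg τ)
    {T : Scheme.{u}} {m m' : T ⟶ P'} (hmg : m ≫ g = m' ≫ g) (hmp : m ≫ p' = m' ≫ p') : m = m' := by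
  let a := m ≫ g
  obtain ⟨χ, hχ⟩ := exists_bridge g hg τ hτ m a rfl
  obtain ⟨χ', hχ'⟩ := exists_bridge g hg τ hτ m' a hmg.symm
  obtain ⟨u, hu⟩ := exists_classified (φ := φ') m (rfl : m ≫ p' = m ≫ p') χ.symm
  obtain ⟨u', hu'⟩ := exists_classified (φ := φ') m' (hmp.symm : m' ≫ p' = m ≫ p') χ'.symm
  have hval : ∀ (n : T ⟶ P') (hn : n ≫ p' = m ≫ p') (hng : n ≫ g = a)
      (χ₀ : (Scheme.Modules.pullback a).obj O1 ≅ (Scheme.Modules.pullback n).obj O1')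
      (_ : ∀ (U : Y.Opens) (e : Γ(E, U)) (hle : a ⁻¹ᵁ (p ⁻¹ᵁ U) ≤ n ⁻¹ᵁ (p' ⁻¹ᵁ (ψ ⁻¹ᵁ U))),
        χ₀.hom.app (a ⁻¹ᵁ (p ⁻¹ᵁ U)) (PicLib.pullSec a (show Γ(O1, p ⁻¹ᵁ U) from φ.app U e)) =
          resM _ hle (PicLib.pullSec n
            (show Γ(O1', p' ⁻¹ᵁ (ψ ⁻¹ᵁ U)) from φ'.app (ψ ⁻¹ᵁ U) (PicLib.pullSec ψ e))))
      (v : (Scheme.Modules.pullback ψ).obj E ⟶ (Scheme.Modules.pushforward (m ≫ p')).obj ((Scheme.Modules.pullback a).obj O1))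
      (_ : Classifies φ' (m ≫ p') v n hn χ₀.symm) (U : Y.Opens) (e : Γ(E, U))
      (hle : (m ≫ p') ⁻¹ᵁ (ψ ⁻¹ᵁ U) ≤ a ⁻¹ᵁ (p ⁻¹ᵁ U)),
      v.app (ψ ⁻¹ᵁ U) (PicLib.pullSec ψ e) =
        resM _ hle (PicLib.pullSec a (show Γ(O1, p ⁻¹ᵁ U) from φ.app U e)) := by
    intro n hn hng χ₀ hχ₀ v hv U e hle
    have hle' : a ⁻¹ᵁ (p ⁻¹ᵁ U) ≤ n ⁻¹ᵁ (p' ⁻¹ᵁ (ψ ⁻¹ᵁ U)) := by
      rw [← hng]
      exact n.preimage_mono (le_of_over hg U)
    have h2 := congrArg (χ₀.inv.app (a ⁻¹ᵁ (p ⁻¹ᵁ U))) (hχ₀ U e hle')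
    rw [← ConcreteCategory.comp_apply, ← Scheme.Modules.Hom.comp_app, χ₀.hom_inv_id, app_resM] at h2
    have h3 := hv.on_opens (ψ ⁻¹ᵁ U) (PicLib.pullSec ψ e)
    rw [Iso.symm_hom] at h3
    rw [h3, resM_resM] at h2
    have h4 := congrArg (resM _ hle) h2
    rw [resM_resM, resM_self] at h4
    exact h4.symm
  have huu : u' = u := hom_ext_pullSec ψ _ _ fun U _ e => by
    have hle : (m ≫ p') ⁻¹ᵁ (ψ ⁻¹ᵁ U) ≤ a ⁻¹ᵁ (p ⁻¹ᵁ U) := m.preimage_mono (ge_of_over hg U)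
    exact (hval m' hmp.symm hmg.symm χ' hχ' u' hu' U e hle).trans (hval m rfl rfl χ hχ u hu U e hle).symm
  subst huu
  refine eq_of_classifies D' ?_ hu hu'
  intro x
  obtain ⟨U, hU, e, W, hW, hxW, hgW⟩ := D'.cover (m x)
  refine ⟨U, hU, e, m ⁻¹ᵁ W, m.preimage_mono hW, hxW, ?_⟩
  have h5 := hu U hU e
  erw [resM_self] at h5
  refine isGen_congr ?_ (isGen_of_iso χ.symm (isGen_pullSec m hgW D'.invertible))
  rw [← h5, ← resM_pullSec, app_resM]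
  rfl

/-- Morphisms into a pullback bundle exist. -/
theorem exists_bundle_lift (D : PBundle E 𝒮 j p chart O1 lam φ)
    (D' : PBundle ((Scheme.Modules.pullback ψ).obj E) 𝒮' j' p' chart' O1' lam' φ')
    (g : P' ⟶ P) (hg : g ≫ p = p' ≫ ψ) (τ : (Scheme.Modules.pullback g).obj O1 ≅ O1')
    (hτ : Classifies φ (p' ≫ ψ) ((Scheme.Modules.pullbackPushforwardAdjunction ψ).homEquiv E _ φ') g hg τ)
    {T : Scheme.{u}} (a : T ⟶ P) (b : T ⟶ Y') (hab : a ≫ p = b ≫ ψ) : ∃ l : T ⟶ P', l ≫ g = a ∧ l ≫ p' = b := by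
  let E' := (Scheme.Modules.pullback ψ).obj E
  let L := (Scheme.Modules.pullback a).obj O1
  obtain ⟨t, ht⟩ := exists_classified (E := E) (φ := φ) (L := L) a (hab : a ≫ p = b ≫ ψ) (Iso.refl _)
  let t₀ : E ⟶ (Scheme.Modules.pushforward ψ).obj ((Scheme.Modules.pushforward b).obj L) := t
  let u : E' ⟶ (Scheme.Modules.pushforward b).obj L :=
    ((Scheme.Modules.pullbackPushforwardAdjunction ψ).homEquiv E ((Scheme.Modules.pushforward b).obj L)).symm t₀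
  have hu : ∀ (U : Y.Opens) (e : Γ(E, U)), u.app (ψ ⁻¹ᵁ U) (PicLib.pullSec ψ e) = t₀.app U e :=
    fun U e => homEquiv_symm_app_pullSec ψ (M := (Scheme.Modules.pushforward b).obj L) t₀ e
  have hcova : ∀ x : T, ∃ (U : Y.Opens) (_ : IsAffineOpen U) (e : Γ(E, U)) (W : T.Opens)
      (hW : W ≤ (b ≫ ψ) ⁻¹ᵁ U), x ∈ W ∧ IsGen L W (resM L hW (t.app U e)) := fun x => by
    obtain ⟨U, hU, e, W, hW, hxW, hgW⟩ := D.cover (a x)
    refine ⟨U, hU, e, a ⁻¹ᵁ W, (a.preimage_mono hW).trans (le_of_over hab U), hxW, ?_⟩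
    refine isGen_congr ?_ (isGen_pullSec a hgW D.invertible)
    rw [← resM_resM L (le_of_over hab U) (a.preimage_mono hW), ← ht U hU e, ← resM_pullSec]
    rfl
  have hL := PicLoc.isInvertible_pullback a D.invertible
  obtain ⟨l, hl, σ, hσ⟩ := exists_classifies D'
    ((cover_iff t b rfl u (fun U _ e hle => (hu U e).trans (resM_self L hle _).symm) hL).1 hcova)
  refine ⟨l, ?_, hl⟩
  obtain ⟨χ, hχ⟩ := exists_bridge g hg τ hτ l (l ≫ g) rfl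
  have hover : (l ≫ g) ≫ p = b ≫ ψ := by rw [Category.assoc, hg, ← Category.assoc, hl]
  have h' : Classifies φ (b ≫ ψ) t (l ≫ g) hover (χ ≪≫ σ) := fun U hU e => by
    have hle : (l ≫ g) ⁻¹ᵁ (p ⁻¹ᵁ U) ≤ l ⁻¹ᵁ (p' ⁻¹ᵁ (ψ ⁻¹ᵁ U)) := l.preimage_mono (le_of_over hg U)
    show σ.hom.app _ (χ.hom.app _ _) = _
    rw [hχ U e hle, app_resM, hσ.on_opens (ψ ⁻¹ᵁ U) (PicLib.pullSec ψ e), hu, resM_resM]
    rfl
  exact eq_of_classifies D hcova h' ht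

theorem exists_isPullback_bundle (D : PBundle E 𝒮 j p chart O1 lam φ)
    (D' : PBundle ((Scheme.Modules.pullback ψ).obj E) 𝒮' j' p' chart' O1' lam' φ') :
    ∃ g : P' ⟶ P, IsPullback g p' p ψ := by
  let tg : E ⟶ (Scheme.Modules.pushforward (p' ≫ ψ)).obj O1' :=
    (Scheme.Modules.pullbackPushforwardAdjunction ψ).homEquiv E _ φ'
  have hcovg := (cover_iff tg p' rfl φ' (fun U _ e hle => (resM_self O1' hle (tg.app U e)).symm) D'.invertible).2 D'.cover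
  obtain ⟨g, hg, τ, hτ⟩ := exists_classifies D hcovg
  exact ⟨g, IsPullback.mk' hg (fun T m m' => bundle_hom_ext D' g hg τ hτ)
    fun T a b => exists_bundle_lift D D' g hg τ hτ a b⟩

end Groth.Agent.RelVALib
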