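import Groth.Agent.SymAlgLib.Grading

/-!
# Quotients of quasi-coherent graded algebras
-/

set_option autoImplicit false
set_option linter.unusedSectionVars false
set_option linter.style.haveILetI false
set_option linter.unusedVariables false
set_option backward.isDefEq.respectTransparency.types false
set_option maxHeartbeats 1000000

universe u

open CategoryTheory CategoryTheory.Limits AlgebraicGeometry TopologicalSpace Opposite
open scoped DirectSum

namespace Groth.Agent.RelVALib

section algebra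

variable {A : Type u} [CommRing A] (𝒜 : ℕ → AddSubgroup A) [GradedRing 𝒜] (I : Ideal A)

/-- The pieces of a quotient. -/
def quotDeg (n : ℕ) : AddSubgroup (A ⧸ I) := (𝒜 n).map (Ideal.Quotient.mk I).toAddMonoidHom

theorem nonempty_quotDeg_graded (hI : ∀ a ∈ I, ∀ n, (DirectSum.decompose 𝒜 a n : A) ∈ I) :
    Nonempty (GradedRing (quotDeg 𝒜 I)) := by
  classical
  haveI : SetLike.GradedMonoid (quotDeg 𝒜 I) :=
    { one_mem := ⟨1, SetLike.GradedOne.one_mem, map_one (Ideal.Quotient.mk I)⟩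
      mul_mem := by
        rintro i k _ _ ⟨a, ha, rfl⟩ ⟨b, hb, rfl⟩
        exact ⟨a * b, SetLike.mul_mem_graded ha hb, map_mul (Ideal.Quotient.mk I) a b⟩ }
  let f : ∀ n, 𝒜 n →+ quotDeg 𝒜 I n := fun n =>
    AddMonoidHom.mk' (fun x => ⟨Ideal.Quotient.mk I x.1, x.1, x.2, rfl⟩)
      fun a b => Subtype.ext (map_add (Ideal.Quotient.mk I) _ _)
  let pre : A →+ ⨁ n, quotDeg 𝒜 I n :=
    (DirectSum.map f).comp (DirectSum.decomposeAddEquiv 𝒜).toAddMonoidHom
  have hpre : ∀ a ∈ I.toAddSubgroup, pre a = 0 := fun a ha =>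
    DFinsupp.ext fun n => Subtype.ext (by
      show ((DirectSum.map f (DirectSum.decompose 𝒜 a)) n : A ⧸ I) = _
      rw [DirectSum.map_apply]
      exact Ideal.Quotient.eq_zero_iff_mem.2 (hI a ha n))
  let dec : A ⧸ I →+ ⨁ n, quotDeg 𝒜 I n := QuotientAddGroup.lift I.toAddSubgroup pre hpre
  have hdec : ∀ a : A, dec (Ideal.Quotient.mk I a) = pre a := fun a => rfl
  have hcomp : (DirectSum.coeAddMonoidHom (quotDeg 𝒜 I)).comp (DirectSum.map f) =
      (Ideal.Quotient.mk I).toAddMonoidHom.comp (DirectSum.coeAddMonoidHom 𝒜) :=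
    DirectSum.addHom_ext fun n x => by
      rw [AddMonoidHom.comp_apply, AddMonoidHom.comp_apply, DirectSum.map_of, DirectSum.coeAddMonoidHom_of,
        DirectSum.coeAddMonoidHom_of]
      rfl
  letI : DirectSum.Decomposition (quotDeg 𝒜 I) :=
    DirectSum.Decomposition.ofAddHom _ dec
      (AddMonoidHom.ext fun x => by
        obtain ⟨a, rfl⟩ := Ideal.Quotient.mk_surjective x
        refine (DFunLike.congr_fun hcomp (DirectSum.decompose 𝒜 a)).trans ?_
        exact congrArg (Ideal.Quotient.mk I) (DirectSum.Decomposition.left_inv a))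
      (DirectSum.addHom_ext fun n x => by
        obtain ⟨_, a, ha, rfl⟩ := x
        show dec (DirectSum.coeAddMonoidHom _ (DirectSum.of _ n _)) = _
        rw [DirectSum.coeAddMonoidHom_of]
        show DirectSum.map f (DirectSum.decompose 𝒜 a) = _
        rw [DirectSum.decompose_of_mem 𝒜 ha, DirectSum.map_of]
        rfl)
  exact ⟨{}⟩

end algebra

variable {S : Scheme.{u}} (𝒮 : RelProj.QCGrAlg S)

/-- Compatible homogeneous ideals over the affine opens. -/
structure GrIdealData where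
  /-- the ideal over an affine open -/
  J : ∀ U : S.Opens, IsAffineOpen U → Ideal (𝒮.presheaf.obj (op U))
  homog : ∀ (U : S.Opens) (hU : IsAffineOpen U), ∀ a ∈ J U hU, ∀ n,
    (DirectSum.decompose (𝒮.deg U hU) a n : 𝒮.presheaf.obj (op U)) ∈ J U hU
  res : ∀ {U V : S.Opens} (hU : IsAffineOpen U) (hV : IsAffineOpen V) (h : V ≤ U), ∀ a ∈ J U hU,
    𝒮.presheaf.map (homOfLE h).op a ∈ J V hV
  loc : ∀ (U : S.Opens) (hU : IsAffineOpen U) (r : Γ(S, U)) (a : 𝒮.presheaf.obj (op U)),
    𝒮.presheaf.map (homOfLE (S.basicOpen_le r)).op a ∈ J (S.basicOpen r) (hU.basicOpen r) →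
      ∃ N : ℕ, 𝒮.str.app (op U) r ^ N * a ∈ J U hU

namespace GrIdealData

variable {𝒮} (I : GrIdealData 𝒮)

/-- The quotients over the affine opens. -/
noncomputable def quotFunctor : S.AffineZariskiSiteᵒᵖ ⥤ CommRingCat.{u} where
  obj U := CommRingCat.of (𝒮.presheaf.obj (op U.unop.1) ⧸ I.J U.unop.1 U.unop.2)
  map {U V} i := CommRingCat.ofHom (Ideal.quotientMap _
    (𝒮.presheaf.map (homOfLE (Scheme.AffineZariskiSite.toOpens_mono i.unop.le)).op).hom
    fun a ha => I.res U.unop.2 V.unop.2 _ a ha)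
  map_id U := CommRingCat.hom_ext (Ideal.Quotient.ringHom_ext (RingHom.ext fun a =>
    congrArg (Ideal.Quotient.mk _) (ConcreteCategory.congr_hom (𝒮.presheaf.map_id _) a)))
  map_comp {U V W} i i' := CommRingCat.hom_ext (Ideal.Quotient.ringHom_ext (RingHom.ext fun a =>
    congrArg (Ideal.Quotient.mk _) (ConcreteCategory.congr_hom (𝒮.presheaf.map_comp
      (homOfLE (Scheme.AffineZariskiSite.toOpens_mono i.unop.le)).op
      (homOfLE (Scheme.AffineZariskiSite.toOpens_mono i'.unop.le)).op) a)))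

/-- The quotient maps. -/
noncomputable def quotMk : (Scheme.AffineZariskiSite.toOpensFunctor S).op ⋙ 𝒮.presheaf ⟶ quotFunctor I where
  app U := CommRingCat.ofHom (Ideal.Quotient.mk (I.J U.unop.1 U.unop.2))
  naturality _ _ _ := rfl

/-- Scalars. -/
noncomputable def quotStr : (Scheme.AffineZariskiSite.toOpensFunctor S).op ⋙ S.presheaf ⟶ quotFunctor I :=
  Functor.whiskerLeft (Scheme.AffineZariskiSite.toOpensFunctor S).op 𝒮.str ≫ quotMk I

theorem coequifibered_quotStr : (quotStr I).Coequifibered := by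
  refine Scheme.AffineZariskiSite.coequifibered_iff_forall_isLocalizationAway.2 fun U r => ?_
  letI := (𝒮.presheaf.map (homOfLE (S.basicOpen_le r)).op).hom.toAlgebra
  haveI hloc : IsLocalization.Away ((𝒮.str.app (op U.1)).hom r) (𝒮.presheaf.obj (op (S.basicOpen r))) :=
    𝒮.isQC U.1 U.2 r
  letI := ((quotFunctor I).map (homOfLE (U.basicOpen_le r)).op).hom.toAlgebra
  let q := Ideal.Quotient.mk (I.J U.1 U.2)
  let q' := Ideal.Quotient.mk (I.J (S.basicOpen r) (U.2.basicOpen r))
  let ρ := (𝒮.presheaf.map (homOfLE (S.basicOpen_le r)).op).hom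
  let s := (𝒮.str.app (op U.1)).hom r
  letI : Algebra (𝒮.presheaf.obj (op U.1) ⧸ I.J U.1 U.2)
      (𝒮.presheaf.obj (op (S.basicOpen r)) ⧸ I.J (S.basicOpen r) (U.2.basicOpen r)) :=
    ((quotFunctor I).map (homOfLE (U.basicOpen_le r)).op).hom.toAlgebra
  change IsLocalization.Away (q s) (𝒮.presheaf.obj (op (S.basicOpen r)) ⧸ I.J (S.basicOpen r) (U.2.basicOpen r))
  refine IsLocalization.Away.mk _ ?_ (fun z => ?_) fun a b hab => ?_
  · show IsUnit (q' (ρ s))
    exact (IsLocalization.Away.algebraMap_isUnit (S := 𝒮.presheaf.obj (op (S.basicOpen r))) s).map q'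
  · obtain ⟨z, rfl⟩ := Ideal.Quotient.mk_surjective z
    obtain ⟨n, a, h⟩ := IsLocalization.Away.surj s z
    refine ⟨n, q a, ?_⟩
    show q' z * q' (ρ s) ^ n = q' (ρ a)
    rw [← map_pow, ← map_mul]
    exact congrArg q' h
  · obtain ⟨a, rfl⟩ := Ideal.Quotient.mk_surjective a
    obtain ⟨b, rfl⟩ := Ideal.Quotient.mk_surjective b
    change q' (ρ a) = q' (ρ b) at hab
    rw [Ideal.Quotient.eq, ← map_sub] at hab
    obtain ⟨N, hN⟩ := I.loc U.1 U.2 r _ hab
    refine ⟨N, ?_⟩
    show q s ^ N * q a = q s ^ N * q b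
    rw [← map_pow, ← map_mul, ← map_mul, Ideal.Quotient.eq, ← mul_sub]
    exact hN

/-- The quotient algebra. -/
noncomputable def quotAlg : RelSpec.QCAlg S := SymAlgLib.alg (coequifibered_quotStr I)

/-- Its sections over affine opens. -/
noncomputable def quotIso : (Scheme.AffineZariskiSite.toOpensFunctor S).op ⋙ (quotAlg I).presheaf ≅ quotFunctor I :=
  SymAlgLib.algIso (coequifibered_quotStr I)

/-- The quotient map. -/
noncomputable def quotHom : 𝒮.toQCAlg ⟶ quotAlg I where
  hom := Functor.IsCoverDense.restrictHomEquivHom (G := Scheme.AffineZariskiSite.toOpensFunctor S)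
    (K := Opens.grothendieckTopology S) (ℱ := 𝒮.presheaf) (ℱ' := SymAlgLib.ringSheaf (quotAlg I))
    (quotMk I ≫ (quotIso I).inv)
  comm := by
    apply (Functor.IsCoverDense.restrictHomEquivHom (G := Scheme.AffineZariskiSite.toOpensFunctor S)
      (K := Opens.grothendieckTopology S) (ℱ := S.presheaf) (ℱ' := SymAlgLib.ringSheaf (quotAlg I))).symm.injective
    rw [Functor.IsCoverDense.restrictHomEquivHom_naturality_left_symm, Equiv.symm_apply_apply]
    ext U : 2
    refine CommRingCat.hom_ext (RingHom.ext fun r => ?_)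
    show (quotIso I).inv.app U ((quotStr I).app U r) = _
    rw [show (quotStr I).app U r = (quotIso I).hom.app U ((quotAlg I).str.app (op U.unop.1) r) from
      (ConcreteCategory.congr_hom (SymAlgLib.str_algIso (coequifibered_quotStr I) U.unop) r).symm]
    exact ConcreteCategory.congr_hom (Iso.hom_inv_id_app (quotIso I) U) _

/-- The identification over an affine open. -/
noncomputable def quotEquiv (U : S.Opens) (hU : IsAffineOpen U) :
    (quotAlg I).presheaf.obj (op U) ≃+* (𝒮.presheaf.obj (op U) ⧸ I.J U hU) :=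
  ((quotIso I).app (op ⟨U, hU⟩)).commRingCatIsoToRingEquiv

theorem quotEquiv_hom {U : S.Opens} (hU : IsAffineOpen U) (a : 𝒮.presheaf.obj (op U)) :
    quotEquiv I U hU ((quotHom I).hom.app (op U) a) = Ideal.Quotient.mk (I.J U hU) a := by
  have h : (quotHom I).hom.app (op U) a = (quotIso I).inv.app (op ⟨U, hU⟩) ((quotMk I).app (op ⟨U, hU⟩) a) :=
    ConcreteCategory.congr_hom (NatTrans.congr_app
      ((Functor.IsCoverDense.restrictHomEquivHom (G := Scheme.AffineZariskiSite.toOpensFunctor S)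
        (K := Opens.grothendieckTopology S) (ℱ := 𝒮.presheaf) (ℱ' := SymAlgLib.ringSheaf (quotAlg I))).symm_apply_apply
          (quotMk I ≫ (quotIso I).inv)) (op ⟨U, hU⟩)) a
  rw [h]
  exact ConcreteCategory.congr_hom (Iso.inv_hom_id_app (quotIso I) (op ⟨U, hU⟩)) _

theorem quotHom_surjective {U : S.Opens} (hU : IsAffineOpen U) :
    Function.Surjective ((quotHom I).hom.app (op U)).hom := fun x => by
  obtain ⟨a, ha⟩ := Ideal.Quotient.mk_surjective (quotEquiv I U hU x)
  exact ⟨a, (quotEquiv I U hU).injective ((quotEquiv_hom I hU a).trans ha)⟩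

theorem quotHom_eq_zero_iff {U : S.Opens} (hU : IsAffineOpen U) (a : 𝒮.presheaf.obj (op U)) :
    (quotHom I).hom.app (op U) a = 0 ↔ a ∈ I.J U hU := by
  rw [← map_eq_zero_iff (quotEquiv I U hU) (quotEquiv I U hU).injective, quotEquiv_hom, Ideal.Quotient.eq_zero_iff_mem]

end GrIdealData

variable {𝒮}

/-- The quotient exists as a graded algebra. -/
theorem exists_quotient (I : GrIdealData 𝒮) :
    ∃ (𝒬 : RelProj.QCGrAlg S) (π : 𝒮.toQCAlg ⟶ 𝒬.toQCAlg), RelProj.IsGradedHom π ∧
      ∀ (U : S.Opens) (hU : IsAffineOpen U), Function.Surjective (π.hom.app (op U)).hom ∧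
        (∀ a, π.hom.app (op U) a = 0 ↔ a ∈ I.J U hU) ∧
        ∀ (n : ℕ) (b), b ∈ 𝒬.deg U hU n → ∃ a ∈ 𝒮.deg U hU n, π.hom.app (op U) a = b := by
  let deg : ∀ U : S.Opens, IsAffineOpen U → ℕ → AddSubgroup (I.quotAlg.presheaf.obj (op U)) := fun U hU n =>
    (quotDeg (𝒮.deg U hU) (I.J U hU) n).comap (I.quotEquiv U hU).toAddMonoidHom
  have hmem : ∀ (U : S.Opens) (hU : IsAffineOpen U) (n : ℕ) (a : 𝒮.presheaf.obj (op U)), a ∈ 𝒮.deg U hU n →
      I.quotHom.hom.app (op U) a ∈ deg U hU n := fun U hU n a ha => ⟨a, ha, (I.quotEquiv_hom hU a).symm⟩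
  have hsurj : ∀ (U : S.Opens) (hU : IsAffineOpen U) (n : ℕ) (b), b ∈ deg U hU n →
      ∃ a ∈ 𝒮.deg U hU n, I.quotHom.hom.app (op U) a = b := by
    rintro U hU n b ⟨a, ha, hab⟩
    exact ⟨a, ha, (I.quotEquiv U hU).injective ((I.quotEquiv_hom hU a).trans hab)⟩
  let 𝒬 : RelProj.QCGrAlg S :=
    { toQCAlg := I.quotAlg
      deg := deg
      graded := fun U hU =>
        haveI := (nonempty_quotDeg_graded (𝒮.deg U hU) (I.J U hU) (I.homog U hU)).some
        (SymAlgLib.nonempty_gradedRing_comap (I.quotEquiv U hU) (quotDeg (𝒮.deg U hU) (I.J U hU)) _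
          (fun _ _ => Iff.rfl)).some
      map_mem := fun {U V} hU hV i {d x} hx => by
        obtain ⟨a, ha, rfl⟩ := hsurj U hU d x hx
        have h := ConcreteCategory.congr_hom (I.quotHom.hom.naturality (homOfLE i).op) a
        exact (show I.quotHom.hom.app (op V) (𝒮.presheaf.map (homOfLE i).op a) =
          I.quotAlg.presheaf.map (homOfLE i).op (I.quotHom.hom.app (op U) a) from h) ▸
            hmem V hV d _ (𝒮.map_mem hU hV i ha)
      str_mem := fun U hU r => by
        have h := ConcreteCategory.congr_hom (congrArg (fun z => z.app (op U)) I.quotHom.comm) r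
        exact (show I.quotHom.hom.app (op U) (𝒮.str.app (op U) r) = I.quotAlg.str.app (op U) r from h) ▸
          hmem U hU 0 _ (𝒮.str_mem U hU r) }
  exact ⟨𝒬, I.quotHom, hmem, fun U hU => ⟨I.quotHom_surjective hU, I.quotHom_eq_zero_iff hU, hsurj U hU⟩⟩

end Groth.Agent.RelVALib
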