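import Mathlib.LinearAlgebra.Matrix.Charpoly.Coeff
import Mathlib.LinearAlgebra.Charpoly.ToMatrix
import Mathlib.RingTheory.Localization.FractionRing
import Mathlib.RingTheory.Ideal.Maximal

/-!
# Coefficients of the characteristic polynomial in a finite free algebra

`charCoef b a i` is the `i`-th elementary symmetric function, up to sign, of multiplication by `a`: a homogeneous
function of degree `i` which detects the primes over a given prime containing `a`.
-/

set_option autoImplicit false

open Polynomial

namespace Groth.Agent.RelVALib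

variable {R A : Type*} [CommRing R] [CommRing A] [Algebra R A] {ι : Type*} [Fintype ι] [DecidableEq ι]

/-- The degree-`i` coefficient of the reversed characteristic polynomial of multiplication by `a`. -/
noncomputable def charCoef (b : Module.Basis ι R A) (a : A) (i : ℕ) : R :=
  (Algebra.leftMulMatrix b a).charpolyRev.coeff i

theorem charCoef_indep {κ : Type*} [Fintype κ] [DecidableEq κ] (b : Module.Basis ι R A) (b' : Module.Basis κ R A)
    (a : A) (i : ℕ) : charCoef b a i = charCoef b' a i := by
  haveI := Module.Free.of_basis b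
  haveI := Module.Finite.of_basis b
  rw [charCoef, charCoef, ← Matrix.reverse_charpoly, ← Matrix.reverse_charpoly, Algebra.leftMulMatrix_apply,
    Algebra.leftMulMatrix_apply, LinearMap.charpoly_toMatrix, LinearMap.charpoly_toMatrix]

theorem charCoef_smul (b : Module.Basis ι R A) (u : R) (a : A) (i : ℕ) :
    charCoef b (u • a) i = u ^ i * charCoef b a i := by
  have h : ((Algebra.leftMulMatrix b (u • a)).charpolyRev) =
      (Algebra.leftMulMatrix b a).charpolyRev.comp (C u * X) := by
    rw [Matrix.charpolyRev, Matrix.charpolyRev, ← coe_compRingHom_apply, RingHom.map_det, map_smul]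
    congr 1
    refine Matrix.ext fun k l => ?_
    rcases eq_or_ne k l with rfl | hkl
    · simp; ring
    · simp [hkl]; ring
  rw [charCoef, h, comp_C_mul_X_coeff, mul_comm]
  rfl

theorem charCoef_map {S B : Type*} [CommRing S] [CommRing B] [Algebra S B] (φ : R →+* S) (ψ : A →+* B)
    (b : Module.Basis ι R A) (b' : Module.Basis ι S B) (hb : ∀ i, ψ (b i) = b' i)
    (hrepr : ∀ x i, b'.repr (ψ x) i = φ (b.repr x i)) (a : A) (i : ℕ) :
    charCoef b' (ψ a) i = φ (charCoef b a i) := by
  have h : Algebra.leftMulMatrix b' (ψ a) = (Algebra.leftMulMatrix b a).map φ := by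
    refine Matrix.ext fun k l => ?_
    rw [Matrix.map_apply, Algebra.leftMulMatrix_eq_repr_mul, Algebra.leftMulMatrix_eq_repr_mul, ← hb, ← map_mul,
      hrepr]
  have h2 : ((Algebra.leftMulMatrix b a).map φ).charpolyRev = (Algebra.leftMulMatrix b a).charpolyRev.map φ := by
    rw [Matrix.charpolyRev, Matrix.charpolyRev, ← coe_mapRingHom, RingHom.map_det]
    congr 1
    refine Matrix.ext fun k l => ?_
    simp [Matrix.one_apply, apply_ite (Polynomial.map φ)]
  rw [charCoef, h, h2, coeff_map]
  rfl

/-- If `a` misses a prime over `p`, a coefficient of positive degree misses `p`. -/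
theorem exists_charCoef_notMem (b : Module.Basis ι R A) (a : A) (p : Ideal R) (q : Ideal A) [q.IsPrime]
    (hpq : q.comap (algebraMap R A) = p) (ha : a ∉ q) : ∃ i, 0 < i ∧ charCoef b a i ∉ p := by
  haveI : p.IsPrime := hpq ▸ inferInstance
  haveI : Nontrivial R := ⟨⟨0, 1, fun h => ‹p.IsPrime›.ne_top (Ideal.eq_top_of_isUnit_mem p (p.zero_mem)
    (h ▸ isUnit_one))⟩⟩
  by_contra H
  push_neg at H
  set M := Algebra.leftMulMatrix b a with hM
  have hcp : aeval a M.charpoly = 0 := Algebra.leftMulMatrix_injective b (by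
    rw [map_zero, ← aeval_algHom_apply]
    exact Matrix.aeval_self_charpoly M)
  have hd := M.charpoly_natDegree_eq_dim
  rw [aeval_eq_sum_range, Finset.sum_range_succ] at hcp
  have hlast : M.charpoly.coeff M.charpoly.natDegree • a ^ M.charpoly.natDegree = a ^ M.charpoly.natDegree := by
    rw [show M.charpoly.coeff M.charpoly.natDegree = 1 from M.charpoly_monic, one_smul]
  rw [hlast] at hcp
  have hmem : a ^ M.charpoly.natDegree ∈ q := by
    rw [eq_neg_of_add_eq_zero_right hcp]
    refine q.neg_mem (q.sum_mem fun j hj => ?_)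
    rw [Algebra.smul_def]
    refine q.mul_mem_right _ ?_
    have hjd : j < M.charpoly.natDegree := Finset.mem_range.1 hj
    have := H (M.charpoly.natDegree - j) (by omega)
    rw [charCoef, ← hM, ← Matrix.reverse_charpoly, coeff_reverse, revAt_le (by omega),
      Nat.sub_sub_self hjd.le, ← hpq] at this
    exact this
  exact ha (‹q.IsPrime›.mem_of_pow_mem _ hmem)

/-- If `a` is in every prime over `p`, every coefficient of positive degree is in `p`. -/
theorem charCoef_mem (b : Module.Basis ι R A) (a : A) (p : Ideal R) [p.IsPrime]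
    (ha : ∀ q : Ideal A, q.IsPrime → q.comap (algebraMap R A) = p → a ∈ q) {i : ℕ} (hi : 0 < i) :
    charCoef b a i ∈ p := by
  let S : Submonoid A := Submonoid.powers a ⊔ p.primeCompl.map (algebraMap R A).toMonoidHom
  have hS : ¬ Disjoint ((p.map (algebraMap R A) : Ideal A) : Set A) (S : Set A) := fun hd => by
    obtain ⟨q, hq, hle, hdisj⟩ := Ideal.exists_le_prime_disjoint _ S hd
    have h1 : q.comap (algebraMap R A) = p := le_antisymm (fun r hr => by
        by_contra hrp
        exact Set.disjoint_left.1 hdisj hr (Submonoid.mem_sup_right ⟨r, hrp, rfl⟩))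
      (Ideal.map_le_iff_le_comap.1 hle)
    exact Set.disjoint_left.1 hdisj (ha q hq h1) (Submonoid.mem_sup_left (Submonoid.mem_powers a))
  obtain ⟨z, hzp, hzS⟩ := Set.not_disjoint_iff.1 hS
  obtain ⟨_, ⟨n, rfl⟩, _, ⟨s, hs, rfl⟩, rfl⟩ := Submonoid.mem_sup.1 hzS
  let φ : R →+* FractionRing (R ⧸ p) := (algebraMap (R ⧸ p) _).comp (Ideal.Quotient.mk p)
  have hφ : ∀ r, φ r = 0 ↔ r ∈ p := fun r => by
    simp [φ, Ideal.Quotient.eq_zero_iff_mem]
  let Φ : A →+* Matrix ι ι (FractionRing (R ⧸ p)) := φ.mapMatrix.comp (Algebra.leftMulMatrix b).toRingHom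
  have hker : p.map (algebraMap R A) ≤ RingHom.ker Φ := by
    refine Ideal.map_le_iff_le_comap.2 fun r hr => ?_
    show φ.mapMatrix (Algebra.leftMulMatrix b (algebraMap R A r)) = 0
    rw [AlgHom.commutes]
    refine Matrix.ext fun k l => ?_
    rcases eq_or_ne k l with rfl | hkl
    · simp [RingHom.mapMatrix_apply, Matrix.algebraMap_matrix_apply, (hφ r).2 hr]
    · simp [RingHom.mapMatrix_apply, Matrix.algebraMap_matrix_apply, hkl]
  have h0 : Φ a ^ n * Φ (algebraMap R A s) = 0 := by rw [← map_pow, ← map_mul]; exact hker hzp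
  have hnil : IsNilpotent ((Algebra.leftMulMatrix b a).map φ) := by
    refine ⟨n, ?_⟩
    have hs' : Φ (algebraMap R A s) = φ s • 1 := by
      show φ.mapMatrix (Algebra.leftMulMatrix b (algebraMap R A s)) = _
      rw [AlgHom.commutes]
      ext k l
      rcases eq_or_ne k l with rfl | hkl
      · simp [RingHom.mapMatrix_apply, Matrix.algebraMap_matrix_apply]
      · simp [RingHom.mapMatrix_apply, Matrix.algebraMap_matrix_apply, hkl]
    rw [hs', mul_smul_comm, mul_one] at h0
    exact (smul_eq_zero.1 h0).resolve_left fun h => hs ((hφ s).1 h)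
  have hu := (Polynomial.isUnit_iff_coeff_isUnit_isNilpotent.1 (Matrix.isUnit_charpolyRev_of_isNilpotent hnil)).2
    i hi.ne'
  have h2 : ((Algebra.leftMulMatrix b a).map φ).charpolyRev = (Algebra.leftMulMatrix b a).charpolyRev.map φ := by
    rw [Matrix.charpolyRev, Matrix.charpolyRev, ← coe_mapRingHom, RingHom.map_det]
    congr 1
    refine Matrix.ext fun k l => ?_
    simp [Matrix.one_apply, apply_ite (Polynomial.map φ)]
  rw [h2, coeff_map] at hu
  exact (hφ _).1 hu.eq_zero

end Groth.Agent.RelVALib
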