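import Groth.Agent.RelVALib.NormDescent
import Groth.Agent.RelVALib.AffineProj
import Groth.Agent.RelVALib.CharCoefInt
import Groth.Agent.RelVALib.NormalAlg
import Groth.Agent.MorProj.FinFree
import Groth.Agent.FlatMorGeneric.Scheme
import Mathlib.AlgebraicGeometry.Noetherian
import Mathlib.Topology.Sober

/-!
# Descent of ampleness along finite surjective morphisms at normal points
-/

set_option autoImplicit false
set_option backward.isDefEq.respectTransparency.types false

universe u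

open CategoryTheory CategoryTheory.Limits AlgebraicGeometry Opposite TopologicalSpace
open Groth.Agent.Coherent Groth.Agent.PicLib Groth.Agent.AmpleLib

noncomputable section

namespace Groth.Agent.RelVALib

variable {X X' : Scheme.{u}} (g : X' ⟶ X)

/-- Frames of the direct image exist on a dense set. -/
def DenseFrames : Prop :=
  ∀ O : X.Opens, (O : Set X).Nonempty → ∃ (U : X.Opens) (n : ℕ) (e : ULift.{u} (Fin n) → Γ(pushO g, U)) (w : X),
    w ∈ O ∧ w ∈ U ∧ IsBasisOn (pushO g) U e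

/-- Frames over an open subscheme are frames. -/
theorem exists_basisOn_of_morphismRestrict (T : X.Opens) (h : HasFrames (g ∣_ T)) {x : X} (hx : x ∈ T) :
    ∃ (U : X.Opens) (n : ℕ) (e : ULift.{u} (Fin n) → Γ(pushO g, U)), x ∈ U ∧ IsBasisOn (pushO g) U e := by
  obtain ⟨U₀, n, e, hx₀, he⟩ := h ⟨x, hx⟩
  let τ : ∀ W : T.toScheme.Opens, Γ(X', g ⁻¹ᵁ (T.ι ''ᵁ W)) ⟶ Γ((g ⁻¹ᵁ T).toScheme, (g ∣_ T) ⁻¹ᵁ W) := fun W =>
    X'.presheaf.map (eqToHom (image_morphismRestrict_preimage g T W)).op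
  have hτ : ∀ W, IsIso (τ W) := fun W => inferInstanceAs (IsIso (X'.presheaf.map (eqToHom _).op))
  refine ⟨T.ι ''ᵁ U₀, n, fun i => toPush g ((inv (τ U₀)) (show Γ((g ⁻¹ᵁ T).toScheme, (g ∣_ T) ⁻¹ᵁ U₀) from e i)),
    ⟨⟨x, hx⟩, hx₀, rfl⟩, fun V hV => ?_⟩
  obtain ⟨W, rfl⟩ : ∃ W : T.toScheme.Opens, T.ι ''ᵁ W = V := by
    refine ⟨T.ι ⁻¹ᵁ V, ?_⟩
    rw [T.ι.image_preimage_eq_opensRange_inf, Scheme.Opens.opensRange_ι, inf_eq_right]
    exact hV.trans (T.ι_image_le U₀)
  have hW : W ≤ U₀ := (T.ι.image_le_image_iff W U₀).1 hV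
  have h2 := ConcreteCategory.bijective_of_isIso (τ W)
  refine (Function.Bijective.of_comp_iff' h2 _).1 ?_
  show Function.Bijective fun c : ULift.{u} (Fin n) → Γ(X, T.ι ''ᵁ W) => _
  refine (congrArg Function.Bijective (funext fun c => ?_)).mpr (he hW)
  refine (map_sum (τ W).hom _ _).trans (Finset.sum_congr rfl fun i _ => ?_)
  show τ W (g.app _ (c i) * _) = ((g ∣_ T).app W (c i) * _ : Γ((g ⁻¹ᵁ T).toScheme, (g ∣_ T) ⁻¹ᵁ W))
  rw [map_mul]
  congr 1
  · rw [morphismRestrict_app]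
    rfl
  · show (inv (τ U₀) ≫ X'.presheaf.map _ ≫ X'.presheaf.map _) (show Γ((g ⁻¹ᵁ T).toScheme, (g ∣_ T) ⁻¹ᵁ U₀) from e i) =
      X'.presheaf.map _ (show Γ((g ⁻¹ᵁ T).toScheme, (g ∣_ T) ⁻¹ᵁ U₀) from e i)
    congr 2
    rw [IsIso.inv_comp_eq]
    exact (X'.presheaf.map_comp _ _).symm.trans
      ((congrArg X'.presheaf.map (Subsingleton.elim _ _)).trans (X'.presheaf.map_comp _ _))

/-- A finite morphism of reduced Noetherian schemes has frames on a dense set. -/
theorem denseFrames_of_isReduced [IsFinite g] [IsReduced X] : DenseFrames g := by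
  obtain ⟨U, hU, hflat, hlfp⟩ := FlatMorGeneric.exists_dense_flat_lfp g
  have : IsFinite (g ∣_ U) := IsZariskiLocalAtTarget.restrict ‹IsFinite g› U
  have hfr : HasFrames (g ∣_ U) := HasFrames.of_isFinLocFree _
    (MorProj.finLocFree_pushforward_of_isFinLocFree _ ⟨inferInstance, hflat, hlfp⟩).2
  intro O hO
  obtain ⟨w, hwO, hwU⟩ := hU.inter_open_nonempty _ O.2 hO
  obtain ⟨U₁, n, e, hw, he⟩ := exists_basisOn_of_morphismRestrict g U hfr hwU
  exact ⟨U₁, n, e, w, hwO, hw, he⟩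

variable {M : X.Modules}

/-- The section given by a frame. -/
def Frame.formula (hM : PicF.IsInvertible M) (s : Γ((Scheme.Modules.pullback g).obj M, ⊤)) (i : ℕ) (F : Frame g M) :
    Γ(CohB1.tensorPow M i, F.V) :=
  frameCoef g F.hb le_rfl (F.coord g hM s le_rfl) i • powSec F.h i

theorem Frame.formula_compat (hM : PicF.IsInvertible M) (s : Γ((Scheme.Modules.pullback g).obj M, ⊤)) (i : ℕ)
    (F F' : Frame g M) {W : X.Opens} (hW : W ≤ F.V) (hW' : W ≤ F'.V) :
    resM _ hW (F.formula g hM s i) = resM _ hW' (F'.formula g hM s i) := by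
  rw [Frame.formula, Frame.formula, resM_smul, resM_smul, ← frameCoef_res g F.hb le_rfl hW,
    ← frameCoef_res g F'.hb le_rfl hW',
    ← F.coord_res g hM s le_rfl hW, ← F'.coord_res g hM s le_rfl hW',
    frameCoef_indep g F'.hb F.hb hW' hW, resM_powSec, resM_powSec]
  obtain ⟨r, hr⟩ : ∃ r : Γ(X, W), r • resM M hW' F'.h = resM M hW F.h := (F'.hgen W hW').2 _
  have hg : F'.coord g hM s hW' = g.app W r * F.coord g hM s hW := by
    refine (isGen_pullSec g F'.hgen hM).coef_eq (g.preimage_mono hW') ?_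
    rw [mul_comm, mul_smul, resM_pullSec g hW', ← pullSec_smul, hr, ← resM_pullSec g hW]
    exact (isGen_pullSec g F.hgen hM).coef_spec _ _
  rw [hg, frameCoef_smul, ← hr, powSec_smul, smul_smul, mul_comm (r ^ i)]

/-- The section is given by the frames inside its domain. -/
def IsCoefSec (hM : PicF.IsInvertible M) (s : Γ((Scheme.Modules.pullback g).obj M, ⊤)) (i : ℕ) (O : X.Opens)
    (c : Γ(CohB1.tensorPow M i, O)) : Prop :=
  ∀ (F : Frame g M) (hF : F.V ≤ O), resM _ hF c = F.formula g hM s i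

theorem exists_frame_in (hdf : DenseFrames g) (hM : PicF.IsInvertible M) {O : X.Opens} (hO : (O : Set X).Nonempty) :
    ∃ F : Frame g M, (F.V : Set X).Nonempty ∧ F.V ≤ O := by
  obtain ⟨U₁, n, e, w, hwO, hwU, he⟩ := hdf O hO
  obtain ⟨U₂, hx₂, h, hgen⟩ := exists_isGen hM w
  obtain ⟨V, hV, hxV, hle⟩ := exists_isAffineOpen_mem_and_subset (x := w) (U := U₁ ⊓ U₂ ⊓ O) ⟨⟨hwU, hx₂⟩, hwO⟩
  have h₁ : V ≤ U₁ := fun _ hw => (hle hw).1.1
  have h₂ : V ≤ U₂ := fun _ hw => (hle hw).1.2
  refine ⟨⟨V, hV, n, fun k => resM _ h₁ (e k), fun W hW => ?_, _, hgen.restrict h₂⟩, ⟨w, hxV⟩, fun _ hw => (hle hw).2⟩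
  convert he (hW.trans h₁) using 1
  funext c
  exact Finset.sum_congr rfl fun k _ => by rw [resM_resM]

variable [IsReduced X]

/-- Sections of an invertible module agreeing on frames inside a dense part are equal. -/
theorem eq_of_frames (hdf : DenseFrames g) (hM : PicF.IsInvertible M) {N : X.Modules} (hN : PicF.IsInvertible N)
    {O : X.Opens} {a b : Γ(N, O)} (D : X.Opens)
    (hD : ∀ W : X.Opens, W ≤ O → (W : Set X).Nonempty → ((W ⊓ D : X.Opens) : Set X).Nonempty)
    (h : ∀ (F : Frame g M) (hF : F.V ≤ O), F.V ≤ D → resM N hF a = resM N hF b) : a = b := by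
  refine sec_ext N _ _ fun y hy => ?_
  obtain ⟨W, hyW, t, ht⟩ := exists_isGen hN y
  let W' := W ⊓ O
  have hW : W' ≤ O := inf_le_right
  refine ⟨W', hW, ⟨hyW, hy⟩, ?_⟩
  have ht' := ht.restrict (inf_le_left : W' ≤ W)
  let r := ht'.coef le_rfl (resM N hW a) - ht'.coef le_rfl (resM N hW b)
  have hr : r = 0 := by
    by_contra hne
    have hne' : ((X.basicOpen r : X.Opens) : Set X).Nonempty := by
      rw [Set.nonempty_iff_ne_empty]
      intro he
      exact hne ((basicOpen_eq_bot_iff r).1 (Opens.ext he))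
    obtain ⟨F, ⟨w, hw⟩, hF⟩ := exists_frame_in g hdf hM (hD _ ((X.basicOpen_le r).trans hW) hne')
    have hFr : F.V ≤ X.basicOpen r := hF.trans inf_le_left
    have hFW : F.V ≤ W' := hFr.trans (X.basicOpen_le r)
    have hab := h F (hFW.trans hW) (hF.trans inf_le_right)
    have hr0 : res hFW r = 0 := by
      show res hFW (ht'.coef le_rfl (resM N hW a) - ht'.coef le_rfl (resM N hW b)) = 0
      rw [map_sub, sub_eq_zero]
      refine (ht'.coef_res le_rfl hFW _).symm.trans (Eq.trans ?_ (ht'.coef_res le_rfl hFW _))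
      rw [resM_resM, resM_resM, hab]
    have hmem : w ∈ X.basicOpen (res hFW r) := by
      rw [Scheme.basicOpen_res]
      exact ⟨hw, hFr hw⟩
    rw [hr0, Scheme.basicOpen_zero] at hmem
    exact hmem
  have ha := ht'.coef_spec le_rfl (resM N hW a)
  have hb := ht'.coef_spec le_rfl (resM N hW b)
  rw [← ha, ← hb, sub_eq_zero.1 hr]

/-- A section given by frames near a point with a frame. -/
theorem isCoefSec_frame (hM : PicF.IsInvertible M) (s : Γ((Scheme.Modules.pullback g).obj M, ⊤)) (i : ℕ)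
    (F : Frame g M) : IsCoefSec g hM s i F.V (F.formula g hM s i) := fun F' hF' => by
  rw [Frame.formula_compat g hM s i F F' hF' le_rfl, resM_self]

/-- The open set `V` with a frame on a dense basic open `D(f)` and the action of its functions. -/
structure NormalChart (M : X.Modules) : Type u where
  V : X.Opens
  aff : IsAffineOpen V
  dom : IsDomain Γ(X, V)
  h : Γ(M, V)
  hgen : IsGen M V h
  f : Γ(X, V)
  hf : f ≠ 0
  n : ℕ
  e : ULift.{u} (Fin n) → Γ(pushO g, X.basicOpen f)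
  hb : IsBasisOn (pushO g) (X.basicOpen f) e

theorem NormalChart.meets (C : NormalChart g M) {W : X.Opens} (hW : W ≤ C.V) (hne : (W : Set X).Nonempty) :
    ((W ⊓ X.basicOpen C.f : X.Opens) : Set X).Nonempty := by
  have := C.dom
  obtain ⟨w, hw⟩ := hne
  obtain ⟨r, hr, hwr⟩ := C.aff.exists_basicOpen_le (V := W) ⟨w, hw⟩ (hW hw)
  have hr0 : r ≠ 0 := fun h0 => by rw [h0, Scheme.basicOpen_zero] at hwr; exact hwr
  have hne : X.basicOpen (r * C.f) ≠ ⊥ := fun hbot => mul_ne_zero hr0 C.hf ((basicOpen_eq_bot_iff _).1 hbot)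
  obtain ⟨z, hz⟩ := (Opens.ne_bot_iff_nonempty _).1 hne
  rw [Scheme.basicOpen_mul] at hz
  exact ⟨z, hr hz.1, hz.2⟩

theorem exists_normalChart [IsNoetherian X] (hdf : DenseFrames g) (hM : PicF.IsInvertible M) {O : X.Opens} {x : X}
    (hx : x ∈ O) (hdom : IsDomain (X.presheaf.stalk x)) : ∃ C : NormalChart g M, x ∈ C.V ∧ C.V ≤ O := by
  obtain ⟨U₂, hx₂, h, hgen⟩ := exists_isGen hM x
  obtain ⟨V₀, hV₀, hxV₀, hle⟩ := exists_isAffineOpen_mem_and_subset (x := x) (U := U₂ ⊓ O) ⟨hx₂, hx⟩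
  have := IsLocallyNoetherian.component_noetherian (X := X) ⟨V₀, hV₀⟩
  let p := (hV₀.primeIdealOf ⟨x, hxV₀⟩).asIdeal
  letI : Algebra Γ(X, V₀) (X.presheaf.stalk x) := TopCat.Presheaf.algebra_section_stalk X.presheaf ⟨x, hxV₀⟩
  have : IsLocalization.AtPrime (X.presheaf.stalk x) p := hV₀.isLocalization_stalk ⟨x, hxV₀⟩
  obtain ⟨t, ht, hT⟩ := exists_isDomain_away (S := X.presheaf.stalk x) p
  letI := (X.presheaf.map (homOfLE (X.basicOpen_le t)).op).hom.toAlgebra
  have := hV₀.isLocalization_basicOpen t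
  have hd : IsDomain Γ(X, X.basicOpen t) := hT _
  have hxt : x ∈ X.basicOpen t := by
    have : hV₀.primeIdealOf ⟨x, hxV₀⟩ ∈ hV₀.fromSpec ⁻¹ᵁ X.basicOpen t := by
      rw [hV₀.fromSpec_preimage_basicOpen]; exact ht
    have h2 : hV₀.fromSpec (hV₀.primeIdealOf ⟨x, hxV₀⟩) ∈ X.basicOpen t := this
    rwa [hV₀.fromSpec_primeIdealOf] at h2
  let V := X.basicOpen t
  have hVle : V ≤ V₀ := X.basicOpen_le t
  have hVU : V ≤ U₂ := fun w hw => (hle (hVle hw)).1
  obtain ⟨U₁, n, e, w, hwV, hwU, he⟩ := hdf V ⟨x, hxt⟩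
  obtain ⟨f, hf, hwf⟩ := (hV₀.basicOpen t).exists_basicOpen_le (V := U₁) ⟨w, hwU⟩ hwV
  refine ⟨⟨V, hV₀.basicOpen t, hd, _, hgen.restrict hVU, f, ?_, n, fun k => resM _ hf (e k), fun W hW => ?_⟩, hxt,
    fun w hw => (hle (hVle hw)).2⟩
  · intro h0
    rw [h0, Scheme.basicOpen_zero] at hwf
    exact hwf
  · convert he (hW.trans hf) using 1
    funext c
    exact Finset.sum_congr rfl fun k _ => by rw [resM_resM]

variable (hM : PicF.IsInvertible M) (s : Γ((Scheme.Modules.pullback g).obj M, ⊤))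

/-- The frame on the basic open of a normal chart. -/
abbrev NormalChart.frame (C : NormalChart g M) : Frame g M where
  V := X.basicOpen C.f
  aff := C.aff.basicOpen C.f
  n := C.n
  e := C.e
  hb := C.hb
  h := resM M (X.basicOpen_le C.f) C.h
  hgen := C.hgen.restrict _

/-- The function of the section on a normal chart. -/
def NormalChart.coord (C : NormalChart g M) : Γ(X', g ⁻¹ᵁ C.V) :=
  (isGen_pullSec g C.hgen hM).coef le_rfl (resM _ le_top s)

theorem NormalChart.frame_coord (C : NormalChart g M) :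
    (C.frame g).coord g hM s le_rfl = res (g.preimage_mono (X.basicOpen_le C.f)) (C.coord g hM s) := by
  refine (isGen_pullSec g (C.frame g).hgen hM).coef_eq _ ?_
  show _ • resM _ _ (pullSec g (resM M (X.basicOpen_le C.f) C.h)) = _
  rw [resM_pullSec g (le_refl (X.basicOpen C.f)), resM_self, ← resM_pullSec g (X.basicOpen_le C.f)]
  have h1 := congrArg (resM _ (g.preimage_mono (X.basicOpen_le C.f)))
    ((isGen_pullSec g C.hgen hM).coef_spec le_rfl (resM _ le_top s))
  rw [resM_smul, resM_resM, resM_resM] at h1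
  exact h1

variable [IsFinite g]

set_option maxHeartbeats 1000000 in
/-- The functions of `g⁻¹(V)` act on a vector space over the fraction field of a normal chart. -/
theorem NormalChart.exists_action (C : NormalChart g M) :
    letI := preAlg g C.V
    letI := C.dom
    Module.Finite Γ(X, C.V) Γ(X', g ⁻¹ᵁ C.V) ∧
    ∃ (j : Γ(X, X.basicOpen C.f) →+* FractionRing Γ(X, C.V))
      (Ψ : Γ(X', g ⁻¹ᵁ C.V) →ₐ[Γ(X, C.V)]
        Matrix (ULift.{u} (Fin C.n)) (ULift.{u} (Fin C.n)) (FractionRing Γ(X, C.V))),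
      Function.Injective j ∧
      (∀ r, j (res (X.basicOpen_le C.f) r) = algebraMap Γ(X, C.V) _ r) ∧
      (∀ i a, (Ψ a).charpolyRev.coeff i =
        j (frameCoef g C.hb le_rfl (res (g.preimage_mono (X.basicOpen_le C.f)) a) i)) ∧
      (∀ a, Ψ a = 0 → res (g.preimage_mono (X.basicOpen_le C.f)) a = 0) := by
  classical
  letI := preAlg g C.V
  letI := preAlg g (X.basicOpen C.f)
  letI := C.dom
  refine ⟨g.finite_app C.V C.aff, ?_⟩
  let K := FractionRing Γ(X, C.V)
  letI := (X.presheaf.map (homOfLE (X.basicOpen_le C.f)).op).hom.toAlgebra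
  have := C.aff.isLocalization_basicOpen C.f
  have hu : IsUnit (algebraMap Γ(X, C.V) K C.f) :=
    isUnit_iff_ne_zero.2 ((map_ne_zero_iff _ (IsFractionRing.injective _ K)).2 C.hf)
  let j : Γ(X, X.basicOpen C.f) →+* K := IsLocalization.Away.lift C.f hu
  have hj : ∀ r, j (res (X.basicOpen_le C.f) r) = algebraMap Γ(X, C.V) K r := IsLocalization.Away.lift_eq C.f hu
  have hjinj : Function.Injective j := IsLocalization.lift_injective_iff _ |>.2 fun a b => by
    refine ⟨fun h => ?_, fun h => ?_⟩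
    · have h1 := congrArg j h
      rwa [show j (algebraMap _ _ a) = algebraMap _ K a from hj a,
        show j (algebraMap _ _ b) = algebraMap _ K b from hj b] at h1
    · rw [IsFractionRing.injective _ K h]
  let B := frameBasis g C.hb (le_refl (X.basicOpen C.f))
  let ρ : Γ(X', g ⁻¹ᵁ C.V) →+* Γ(X', g ⁻¹ᵁ X.basicOpen C.f) :=
    res (g.preimage_mono (X.basicOpen_le C.f))
  have hρ : ∀ r, ρ (g.app C.V r) = g.app (X.basicOpen C.f) (res (X.basicOpen_le C.f) r) := fun r =>
    (ConcreteCategory.congr_hom (g.naturality (homOfLE (X.basicOpen_le C.f)).op) r).symm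
  let Ψ : Γ(X', g ⁻¹ᵁ C.V) →ₐ[Γ(X, C.V)] Matrix (ULift.{u} (Fin C.n)) (ULift.{u} (Fin C.n)) K :=
    { toRingHom := (j.mapMatrix.comp (Algebra.leftMulMatrix B).toRingHom).comp ρ
      commutes' := fun r => by
        show j.mapMatrix (Algebra.leftMulMatrix B (ρ (g.app C.V r))) = _
        rw [hρ]
        show j.mapMatrix (Algebra.leftMulMatrix B (algebraMap Γ(X, X.basicOpen C.f) _ (res _ r))) = _
        rw [AlgHom.commutes]
        refine Matrix.ext fun k l => ?_
        rcases eq_or_ne k l with rfl | hkl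
        · simp [RingHom.mapMatrix_apply, Matrix.algebraMap_matrix_apply, hj]
        · simp [RingHom.mapMatrix_apply, Matrix.algebraMap_matrix_apply, hkl] }
  refine ⟨j, Ψ, hjinj, hj, fun i a => ?_, fun a ha => ?_⟩
  · have h1 : Ψ a = (Algebra.leftMulMatrix B (ρ a)).map j := rfl
    have h2 : ((Algebra.leftMulMatrix B (ρ a)).map j).charpolyRev =
        (Algebra.leftMulMatrix B (ρ a)).charpolyRev.map j := by
      rw [Matrix.charpolyRev, Matrix.charpolyRev, ← Polynomial.coe_mapRingHom, RingHom.map_det]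
      congr 1
      refine Matrix.ext fun k l => ?_
      simp [Matrix.one_apply, apply_ite (Polynomial.map j)]
    rw [h1, h2, Polynomial.coeff_map]
    unfold frameCoef charCoef
    congr!
  · have h0 : (Algebra.leftMulMatrix B (ρ a)).map j = 0 := ha
    refine Algebra.leftMulMatrix_injective B ?_
    rw [map_zero]
    refine Matrix.ext fun k l => hjinj ?_
    rw [Matrix.zero_apply, map_zero]
    exact congrFun (congrFun h0 k) l

/-- At a normal point the coefficient is a fraction with denominator nonzero at the point, and gives a section. -/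
theorem NormalChart.exists_coefSec (hdf : DenseFrames g) (C : NormalChart g M) {x : X} (hx : x ∈ C.V)
    (hnor : IsIntegrallyClosed (X.presheaf.stalk x)) (i : ℕ) :
    letI := preAlg g C.V
    letI := C.dom
    ∀ (j : Γ(X, X.basicOpen C.f) →+* FractionRing Γ(X, C.V))
      (Ψ : Γ(X', g ⁻¹ᵁ C.V) →ₐ[Γ(X, C.V)]
        Matrix (ULift.{u} (Fin C.n)) (ULift.{u} (Fin C.n)) (FractionRing Γ(X, C.V))),
      Function.Injective j →
      (∀ r, j (res (X.basicOpen_le C.f) r) = algebraMap Γ(X, C.V) _ r) →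
      (∀ k a, (Ψ a).charpolyRev.coeff k =
        j (frameCoef g C.hb le_rfl (res (g.preimage_mono (X.basicOpen_le C.f)) a) k)) →
    ∃ (r t : Γ(X, C.V)) (O : X.Opens) (c : Γ(CohB1.tensorPow M i, O)),
      algebraMap Γ(X, C.V) (FractionRing Γ(X, C.V)) r =
        algebraMap Γ(X, C.V) _ t * (Ψ (C.coord g hM s)).charpolyRev.coeff i ∧
      t ∉ (C.aff.primeIdealOf ⟨x, hx⟩).asIdeal ∧ x ∈ O ∧ IsCoefSec g hM s i O c ∧
      (∀ (d : Γ(CohB1.tensorPow M i, ⊤)), resM _ le_top d = c → (x ∈ glocus _ d ↔ x ∈ X.basicOpen r)) := by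
  letI := preAlg g C.V
  letI := C.dom
  intro j Ψ hjinj hj hΨ
  letI : Algebra Γ(X, C.V) (X.presheaf.stalk x) := TopCat.Presheaf.algebra_section_stalk X.presheaf ⟨x, hx⟩
  have hloc : IsLocalization.AtPrime (X.presheaf.stalk x) (C.aff.primeIdealOf ⟨x, hx⟩).asIdeal :=
    C.aff.isLocalization_stalk ⟨x, hx⟩
  have : IsDomain (X.presheaf.stalk x) :=
    IsLocalization.isDomain_of_le_nonZeroDivisors (X.presheaf.stalk x)
      (C.aff.primeIdealOf ⟨x, hx⟩).asIdeal.primeCompl_le_nonZeroDivisors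
  have : Module.Finite Γ(X, C.V) Γ(X', g ⁻¹ᵁ C.V) := g.finite_app C.V C.aff
  obtain ⟨r, t, ht, hrt⟩ := exists_fraction_of_isIntegral (S := X.presheaf.stalk x)
    (C.aff.primeIdealOf ⟨x, hx⟩).asIdeal (isIntegral_charCoef_action Ψ (C.coord g hM s) i)
  let O := X.basicOpen t
  have hO : O ≤ C.V := X.basicOpen_le t
  have hxO : x ∈ O := by
    have : C.aff.primeIdealOf ⟨x, hx⟩ ∈ C.aff.fromSpec ⁻¹ᵁ O := by
      rw [C.aff.fromSpec_preimage_basicOpen]; exact ht
    have h2 : C.aff.fromSpec (C.aff.primeIdealOf ⟨x, hx⟩) ∈ O := this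
    rwa [C.aff.fromSpec_primeIdealOf] at h2
  obtain ⟨ti, hti⟩ : ∃ ti : Γ(X, O), ti * res hO t = 1 :=
    (RingedSpace.isUnit_res_basicOpen X.toLocallyRingedSpace.toRingedSpace t).exists_left_inv
  let v : Γ(X, O) := ti * res hO r
  have hv : res hO t * v = res hO r := by
    show res hO t * (ti * res hO r) = _
    rw [← mul_assoc, mul_comm (res hO t) ti]
    exact (congrArg (· * _) hti).trans (one_mul _)
  refine ⟨r, t, O, v • powSec (resM M hO C.h) i, hrt, ht, hxO, fun F hF => ?_, ?_⟩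
  · refine eq_of_frames g hdf hM (isInvertible_tensorPow hM i) (X.basicOpen C.f)
      (fun W hW hne => C.meets g (hW.trans (hF.trans hO)) hne) fun G hG hGD => ?_
    have hGO : G.V ≤ O := hG.trans hF
    have hE : res hGO v = res hGD (frameCoef g C.hb le_rfl ((C.frame g).coord g hM s le_rfl) i) := by
      have hE0 : res (X.basicOpen_le C.f) r =
          res (X.basicOpen_le C.f) t * frameCoef g C.hb le_rfl ((C.frame g).coord g hM s le_rfl) i := by
        refine hjinj ?_
        rw [map_mul, hj, hj, hrt, hΨ, C.frame_coord g hM s]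
      have h1 := congrArg (res hGD) hE0
      rw [map_mul, res_res, res_res] at h1
      have h2 := congrArg (res hGO) hv
      rw [map_mul, res_res, res_res] at h2
      have hu : IsUnit (res (hGO.trans hO) t : Γ(X, G.V)) := by
        have := (RingedSpace.isUnit_res_basicOpen X.toLocallyRingedSpace.toRingedSpace t).map (res hGO)
        rw [← res_res hO hGO]
        exact this
      exact hu.mul_right_injective (h2.trans h1)
    rw [resM_resM, resM_smul, resM_powSec, resM_resM, hE, Frame.formula_compat g hM s i F G hG le_rfl,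
      resM_self, ← resM_self (CohB1.tensorPow M i) (le_refl G.V) (G.formula g hM s i),
      Frame.formula_compat g hM s i G (C.frame g) le_rfl hGD, Frame.formula, resM_smul, resM_powSec]
    congr 2
    exact (resM_resM M (X.basicOpen_le C.f) hGD C.h).symm
  · have key : ∀ d : Γ(CohB1.tensorPow M i, ⊤), resM _ le_top d = v • powSec (resM M hO C.h) i →
        glocus _ d ⊓ O = X.basicOpen v := fun d hd => by
      rw [AmpleLib.glocus_inf d (isGen_powSec (C.hgen.restrict hO) i)]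
      congr 1
      refine IsGen.coef_eq _ _ ?_
      rw [resM_self, hd]
    have hrv : X.basicOpen r ⊓ O = X.basicOpen v := by
      have : X.basicOpen (res hO r) = X.basicOpen v := by
        rw [← hv, Scheme.basicOpen_mul]
        have : X.basicOpen (res hO t) = O := by
          show X.basicOpen (X.presheaf.map (homOfLE hO).op t) = O
          rw [Scheme.basicOpen_res]
          exact inf_idem _
        rw [this]
        exact inf_eq_right.2 (X.basicOpen_le v)
      rw [← this, inf_comm]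
      exact (Scheme.basicOpen_res X r (homOfLE hO).op).symm
    exact fun d hd => ⟨fun h => (hrv.ge ((key d hd).le ⟨h, hxO⟩)).1, fun h => ((key d hd).ge (hrv.le ⟨h, hxO⟩)).1⟩

omit [IsReduced X] [IsFinite g] in
/-- A locally free restriction of the direct image gives frames. -/
theorem exists_basisOn_of_restrict {T : X.Opens} (h : FlatMod.IsFinLocFree ((pushO g).restrict T.ι)) {x : X}
    (hx : x ∈ T) : ∃ (U : X.Opens) (n : ℕ) (e : ULift.{u} (Fin n) → Γ(pushO g, U)), x ∈ U ∧ IsBasisOn (pushO g) U e := by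
  obtain ⟨U₀, n, e, hx₀, he⟩ := exists_isBasisOn h (⟨x, hx⟩ : T)
  let ψ := fun W : T.toScheme.Opens => ((pushO g).restrictAppIso T.ι W).hom
  refine ⟨T.ι ''ᵁ U₀, n, fun i => ψ U₀ (e i), ⟨⟨x, hx⟩, hx₀, rfl⟩, fun V hV => ?_⟩
  obtain ⟨W, rfl⟩ : ∃ W : T.toScheme.Opens, T.ι ''ᵁ W = V := by
    refine ⟨T.ι ⁻¹ᵁ V, ?_⟩
    rw [T.ι.image_preimage_eq_opensRange_inf, Scheme.Opens.opensRange_ι, inf_eq_right]
    exact hV.trans (T.ι_image_le U₀)
  have hW : W ≤ U₀ := (T.ι.image_le_image_iff W U₀).1 hV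
  have h1 : Function.Bijective (fun c : ULift.{u} (Fin n) → Γ(X, T.ι ''ᵁ W) => fun i => (T.ι.appIso W).hom (c i)) :=
    Function.Bijective.piMap fun _ => ConcreteCategory.bijective_of_isIso (T.ι.appIso W).hom
  have h2 := (ConcreteCategory.bijective_of_isIso (ψ W)).comp ((he hW).comp h1)
  refine (congrArg Function.Bijective (funext fun c => ?_)).mpr h2
  refine Eq.trans (Finset.sum_congr rfl fun i _ => ?_) (map_sum (ψ W).hom _ _).symm
  refine Eq.trans ?_ (Scheme.Modules.smul_restrictAppIso_hom_apply T.ι (pushO g) W _ _).symm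
  congr 1
  show c i = (T.ι.appIso W).inv ((T.ι.appIso W).hom (c i))
  rw [← ConcreteCategory.comp_apply, Iso.hom_inv_id]
  rfl

/-- The hypothesis at a point: a frame, or a normal local ring. -/
def FrameOrNormal (x : X) : Prop :=
  (∃ (U : X.Opens) (n : ℕ) (e : ULift.{u} (Fin n) → Γ(pushO g, U)), x ∈ U ∧ IsBasisOn (pushO g) U e) ∨
    (IsDomain (X.presheaf.stalk x) ∧ IsIntegrallyClosed (X.presheaf.stalk x))

omit [IsFinite g] [IsReduced X] in
theorem exists_frame_at {x : X} (h : ∃ (U : X.Opens) (n : ℕ) (e : ULift.{u} (Fin n) → Γ(pushO g, U)),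
    x ∈ U ∧ IsBasisOn (pushO g) U e) (hM : PicF.IsInvertible M) : ∃ F : Frame g M, x ∈ F.V := by
  obtain ⟨U₁, n, e, hwU, he⟩ := h
  obtain ⟨U₂, hx₂, h, hgen⟩ := exists_isGen hM x
  obtain ⟨V, hV, hxV, hle⟩ := exists_isAffineOpen_mem_and_subset (x := x) (U := U₁ ⊓ U₂) ⟨hwU, hx₂⟩
  have h₁ : V ≤ U₁ := fun _ hw => (hle hw).1
  have h₂ : V ≤ U₂ := fun _ hw => (hle hw).2
  refine ⟨⟨V, hV, n, fun k => resM _ h₁ (e k), fun W hW => ?_, _, hgen.restrict h₂⟩, hxV⟩
  convert he (hW.trans h₁) using 1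
  funext c
  exact Finset.sum_congr rfl fun k _ => by rw [resM_resM]

/-- The symmetric functions of a section glue. -/
theorem exists_coefSec_top [IsNoetherian X] (hdf : DenseFrames g) (hW : ∀ x : X, FrameOrNormal g x) (i : ℕ) :
    ∃ d : Γ(CohB1.tensorPow M i, ⊤), IsCoefSec g hM s i ⊤ d := by
  have hloc : ∀ x : X, ∃ (O : X.Opens) (c : Γ(CohB1.tensorPow M i, O)), x ∈ O ∧ IsCoefSec g hM s i O c := by
    intro x
    rcases hW x with hF | ⟨hd, hn⟩
    · obtain ⟨F, hxF⟩ := exists_frame_at g hF hM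
      exact ⟨F.V, _, hxF, isCoefSec_frame g hM s i F⟩
    · obtain ⟨C, hxC, -⟩ := exists_normalChart g hdf hM (O := ⊤) (x := x) trivial hd
      obtain ⟨-, j, Ψ, hj1, hj2, hΨ, -⟩ := C.exists_action g
      obtain ⟨r, t, O, c, -, -, hxO, hc, -⟩ := C.exists_coefSec g hM s hdf hxC hn i j Ψ hj1 hj2 hΨ
      exact ⟨O, c, hxO, hc⟩
  choose O c hxO hc using hloc
  obtain ⟨d, hd, -⟩ := TopCat.Sheaf.existsUnique_gluing'
    (⟨(CohB1.tensorPow M i).presheaf, (CohB1.tensorPow M i).isSheaf⟩ : TopCat.Sheaf Ab X)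
    O ⊤ (fun x => homOfLE le_top) (fun x _ => Opens.mem_iSup.2 ⟨x, hxO x⟩) c
    (fun x y => by
      show resM _ (inf_le_left : O x ⊓ O y ≤ O x) _ = resM _ (inf_le_right : O x ⊓ O y ≤ O y) _
      refine eq_of_frames g hdf hM (isInvertible_tensorPow hM i) ⊤ (fun W _ hne => by rwa [inf_top_eq]) fun F hF _ => ?_
      rw [resM_resM, resM_resM, hc x F, hc y F])
  have hd' : ∀ x, resM _ (le_top : O x ≤ ⊤) d = c x := hd
  refine ⟨d, fun F hF => eq_of_frames g hdf hM (isInvertible_tensorPow hM i) ⊤ (fun W _ hne => by rwa [inf_top_eq])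
    fun G hG _ => sec_ext _ _ _ fun y hy => ?_⟩
  obtain ⟨G', hy', hG'⟩ : ∃ G' : Frame g M, y ∈ G'.V ∧ G'.V ≤ G.V ⊓ O y := by
    obtain ⟨U₁, hyU₁, hle⟩ : ∃ U₁ : X.Opens, y ∈ U₁ ∧ U₁ ≤ G.V ⊓ O y := ⟨G.V ⊓ O y, ⟨hy, hxO y⟩, le_rfl⟩
    obtain ⟨V, hV, hyV, hle'⟩ := exists_isAffineOpen_mem_and_subset (x := y) (U := U₁) hyU₁
    have hVG : V ≤ G.V := fun _ hw => (hle (hle' hw)).1
    refine ⟨⟨V, hV, G.n, fun k => resM _ hVG (G.e k), fun W hW => ?_, _, G.hgen.restrict hVG⟩, hyV,
      fun _ hw => hle (hle' hw)⟩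
    convert G.hb (hW.trans hVG) using 1
    funext c
    exact Finset.sum_congr rfl fun k _ => by rw [resM_resM]
  refine ⟨G'.V, hG'.trans inf_le_left, hy', ?_⟩
  rw [resM_resM, resM_resM, resM_resM, ← resM_resM (CohB1.tensorPow M i) (le_top : O y ≤ ⊤) (hG'.trans inf_le_right) d,
    hd' y, hc y G',
    Frame.formula_compat g hM s i F G' ((hG'.trans inf_le_left).trans hG) le_rfl, resM_self]

omit [IsReduced X] in
/-- The specialisation of a point of the generic fibre. -/
theorem exists_generic_point_over [Surjective g] (x : X) : ∃ (η : X) (z' z : X'), g z' = η ∧ g z = x ∧ z' ⤳ z ∧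
    ∀ y : X, y ⤳ η → y = η := by
  obtain ⟨η, hη⟩ : ∃ η, IsGenericPoint η (irreducibleComponent x) :=
    ⟨_, isIrreducible_irreducibleComponent.isGenericPoint_genericPoint isClosed_irreducibleComponent⟩
  obtain ⟨z', hz'⟩ := g.surjective η
  have hxη : x ∈ closure ({η} : Set X) := hη.def.ge mem_irreducibleComponent
  have : x ∈ g '' closure {z'} := by
    rw [← g.isClosedMap.closure_image_eq_of_continuous g.continuous, Set.image_singleton, hz']
    exact hxη
  obtain ⟨z, hz, hzx⟩ := this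
  refine ⟨η, z', z, hz', hzx, specializes_iff_mem_closure.2 hz, fun y hy => ?_⟩
  have h1 : closure ({η} : Set X) ⊆ closure {y} :=
    closure_minimal (Set.singleton_subset_iff.2 (specializes_iff_mem_closure.1 hy)) isClosed_closure
  rw [hη.def] at h1
  have h2 : closure ({y} : Set X) ⊆ irreducibleComponent x :=
    (irreducibleComponent_mem_irreducibleComponents x).2 (isIrreducible_singleton.closure) h1
  exact IsGenericPoint.eq (show IsGenericPoint y (irreducibleComponent x) from h2.antisymm h1) hη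

/-- Ampleness descends at normal points and at points with a frame. -/
theorem isAmple_of_isAmple_pullback_normal [IsNoetherian X] [Surjective g] (hW : ∀ x : X, FrameOrNormal g x)
    {L : X.Modules} (hL : PicF.IsInvertible L) (h : CohB1.IsAmple ((Scheme.Modules.pullback g).obj L)) :
    CohB1.IsAmple L := by
  have hdf := denseFrames_of_isReduced g
  refine isAmple_iff_affGlocus.2 ⟨hL, inferInstance, fun x => ?_⟩
  obtain ⟨η, z', z, hz', hzx, hsp, hmax⟩ := exists_generic_point_over g x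
  obtain ⟨U, hU, hxU, -⟩ := exists_isAffineOpen_mem_and_subset (x := x) (U := ⊤) trivial
  obtain ⟨m, hm, b, hzb, hbU, -⟩ :=
    affGlocus_of_mem h (U := g ⁻¹ᵁ U) (x := z) (show g z ∈ U by rw [hzx]; exact hxU)
  obtain ⟨ε, -⟩ := exists_pullPowIso g hL m
  let s : Γ((Scheme.Modules.pullback g).obj (CohB1.tensorPow L m), ⊤) := ε.inv.app ⊤ b
  have hs : glocus _ s = glocus _ b := glocus_map_iso ε.symm b
  have hM := isInvertible_tensorPow hL m
  choose d hd using fun i => exists_coefSec_top g hM s hdf hW i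
  have hfr : ∀ (F : Frame g (CohB1.tensorPow L m)) (i : ℕ), glocus _ (d i) ⊓ F.V =
      X.basicOpen (frameCoef g F.hb le_rfl (F.coord g hM s le_rfl) i) := fun F i => by
    rw [AmpleLib.glocus_inf (d i) (isGen_powSec F.hgen i)]
    congr 1
    refine IsGen.coef_eq _ _ ?_
    rw [resM_self, hd i F le_top, Frame.formula]
  obtain ⟨i, hi, hxd⟩ : ∃ i, 0 < i ∧ x ∈ glocus _ (d i) := by
    rcases hW x with hF | ⟨hdx, hn⟩
    · obtain ⟨F, hxF⟩ := exists_frame_at g hF hM
      have hzF : z ∈ X'.basicOpen (F.coord g hM s le_rfl) := by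
        rw [← F.glocus_inf g hM s, hs]
        exact ⟨hzb, (show g z ∈ F.V by rw [hzx]; exact hxF)⟩
      obtain ⟨i, hi, hmem⟩ := exists_frameCoef_mem_basicOpen g F.hb le_rfl F.aff _ hzF
      have : g z ∈ glocus _ (d i) ⊓ F.V := by rw [hfr]; exact hmem
      exact ⟨i, hi, hzx ▸ this.1⟩
    · obtain ⟨C, hxC, -⟩ := exists_normalChart g hdf hM (O := ⊤) (x := x) trivial hdx
      obtain ⟨-, j, Ψ, hj1, hj2, hΨ, hker⟩ := C.exists_action g
      have := C.dom
      letI := preAlg g C.V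
      have hV' : IsAffineOpen (g ⁻¹ᵁ C.V) := C.aff.preimage g
      have hzV : z ∈ g ⁻¹ᵁ C.V := show g z ∈ C.V by rw [hzx]; exact hxC
      have hηf : η ∈ X.basicOpen C.f := by
        let w := C.aff.fromSpec ⟨⊥, Ideal.bot_prime⟩
        have hηV : η ∈ C.V := by
          rw [← hz']
          exact hsp.mem_open (g ⁻¹ᵁ C.V).2 hzV
        have hwη : w ⤳ η := by
          have h0 := ((PrimeSpectrum.le_iff_specializes ⟨⊥, Ideal.bot_prime⟩ (C.aff.primeIdealOf ⟨η, hηV⟩)).1
            bot_le).map C.aff.fromSpec.continuous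
          rwa [C.aff.fromSpec_primeIdealOf] at h0
        rw [← hmax w hwη]
        show (⟨⊥, Ideal.bot_prime⟩ : PrimeSpectrum _) ∈ C.aff.fromSpec ⁻¹ᵁ X.basicOpen C.f
        rw [C.aff.fromSpec_preimage_basicOpen]
        exact C.hf
      have hmemq : ∀ a : Γ(X', g ⁻¹ᵁ C.V), a ∈ (hV'.primeIdealOf ⟨z, hzV⟩).asIdeal ↔ z ∉ X'.basicOpen a := fun a => by
        rw [← not_iff_not, not_not, ← PrimeSpectrum.mem_basicOpen, ← hV'.fromSpec_preimage_basicOpen]
        show hV'.fromSpec _ ∈ X'.basicOpen a ↔ _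
        rw [hV'.fromSpec_primeIdealOf]
      have hco : ((hV'.primeIdealOf ⟨z, hzV⟩).asIdeal.comap (algebraMap Γ(X, C.V) Γ(X', g ⁻¹ᵁ C.V))) =
          (C.aff.primeIdealOf ⟨x, hxC⟩).asIdeal := by
        have : (⟨g z, hzV⟩ : C.V) = ⟨x, hxC⟩ := Subtype.ext hzx
        rw [← this, ← C.aff.comap_primeIdealOf_appLE _ _ hV' le_rfl hzV, Scheme.Hom.appLE_eq_app]
        rfl
      have ha : C.coord g hM s ∉ (hV'.primeIdealOf ⟨z, hzV⟩).asIdeal := fun ha => (hmemq _).1 ha (by
        have : glocus _ s ⊓ g ⁻¹ᵁ C.V = X'.basicOpen (C.coord g hM s) :=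
          AmpleLib.glocus_inf s (isGen_pullSec g C.hgen hM)
        rw [← this, hs]
        exact ⟨hzb, hzV⟩)
      have hk : ∀ a, Ψ a = 0 → a ∈ (hV'.primeIdealOf ⟨z, hzV⟩).asIdeal := fun a ha0 => (hmemq a).2 fun hza => by
        have hz'a : z' ∈ X'.basicOpen a := hsp.mem_open (X'.basicOpen a).2 hza
        have : z' ∈ X'.basicOpen (res (g.preimage_mono (X.basicOpen_le C.f)) a) := by
          rw [Scheme.basicOpen_res]
          exact ⟨(show g z' ∈ X.basicOpen C.f by rw [hz']; exact hηf), hz'a⟩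
        rw [hker a ha0, Scheme.basicOpen_zero] at this
        exact this
      obtain ⟨i, hi, hni⟩ := exists_charCoef_action_notMem Ψ (C.coord g hM s) _ _ hco hk ha
      obtain ⟨r, t, O, c, hrt, ht, hxO, hc, hiff⟩ := C.exists_coefSec g hM s hdf hxC hn i j Ψ hj1 hj2 hΨ
      refine ⟨i, hi, (hiff (d i) ?_).2 ?_⟩
      · exact eq_of_frames g hdf hM (isInvertible_tensorPow hM i) ⊤ (fun W _ hne => by rwa [inf_top_eq])
          fun G hG _ => by rw [resM_resM, hd i G, hc G]
      · have := hni r t ht hrt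
        rw [← PrimeSpectrum.mem_basicOpen, ← C.aff.fromSpec_preimage_basicOpen] at this
        have h2 : C.aff.fromSpec (C.aff.primeIdealOf ⟨x, hxC⟩) ∈ X.basicOpen r := this
        rwa [C.aff.fromSpec_primeIdealOf] at h2
  have hle : glocus _ (d i) ≤ U := fun y hy => by
    by_contra hyU
    have hfib : ∀ w : X', g w = y → w ∉ glocus _ s := fun w hw hwb => hyU (hw ▸ hbU (hs ▸ hwb) : y ∈ U)
    rcases hW y with hF | ⟨hdy, hn⟩
    · obtain ⟨F, hyF⟩ := exists_frame_at g hF hM
      refine frameCoef_notMem_basicOpen g F.hb le_rfl F.aff (F.coord g hM s le_rfl) hyF (fun w hw hwb => ?_) hi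
        ((hfr F i).le ⟨hy, hyF⟩)
      rw [← F.glocus_inf g hM s] at hwb
      exact hfib w hw hwb.1
    · obtain ⟨C, hyC, -⟩ := exists_normalChart g hdf hM (O := ⊤) (x := y) trivial hdy
      obtain ⟨hfin, j, Ψ, hj1, hj2, hΨ, -⟩ := C.exists_action g
      have := C.dom
      letI := preAlg g C.V
      have := hfin
      obtain ⟨r, t, O, c, hrt, -, hyO, hc, hiff⟩ := C.exists_coefSec g hM s hdf hyC hn i j Ψ hj1 hj2 hΨ
      have hyr : y ∈ X.basicOpen r := (hiff (d i) (eq_of_frames g hdf hM (isInvertible_tensorPow hM i) ⊤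
        (fun W _ hne => by rwa [inf_top_eq]) fun G hG _ => by rw [resM_resM, hd i G, hc G])).1 hy
      have hV' : IsAffineOpen (g ⁻¹ᵁ C.V) := C.aff.preimage g
      have hrp : r ∉ (C.aff.primeIdealOf ⟨y, hyC⟩).asIdeal := by
        rw [← PrimeSpectrum.mem_basicOpen, ← C.aff.fromSpec_preimage_basicOpen]
        show C.aff.fromSpec _ ∈ X.basicOpen r
        rwa [C.aff.fromSpec_primeIdealOf]
      refine hrp (charCoef_action_mem Ψ (C.coord g hM s) _ (fun q hq hqp => ?_) hi hrt)
      by_contra haq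
      let w : X' := hV'.fromSpec ⟨q, hq⟩
      have hwV : w ∈ g ⁻¹ᵁ C.V := hV'.range_fromSpec.le ⟨⟨q, hq⟩, rfl⟩
      have hwq : hV'.primeIdealOf ⟨w, hwV⟩ = ⟨q, hq⟩ :=
        hV'.fromSpec.isOpenEmbedding.injective (hV'.fromSpec_primeIdealOf ⟨w, hwV⟩)
      have hgw : g w = y := by
        have h1 := C.aff.comap_primeIdealOf_appLE _ _ hV' (f := g) le_rfl hwV
        rw [hwq, Scheme.Hom.appLE_eq_app] at h1
        have h2 : C.aff.primeIdealOf ⟨g w, hwV⟩ = C.aff.primeIdealOf ⟨y, hyC⟩ := by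
          rw [← h1]; exact PrimeSpectrum.ext hqp
        have h3 := congrArg C.aff.fromSpec h2
        rwa [C.aff.fromSpec_primeIdealOf, C.aff.fromSpec_primeIdealOf] at h3
      have hwa : w ∈ X'.basicOpen (C.coord g hM s) := by
        show (⟨q, hq⟩ : PrimeSpectrum _) ∈ hV'.fromSpec ⁻¹ᵁ X'.basicOpen (C.coord g hM s)
        rw [hV'.fromSpec_preimage_basicOpen]
        exact haq
      rw [show X'.basicOpen (C.coord g hM s) = glocus _ s ⊓ g ⁻¹ᵁ C.V from
        (AmpleLib.glocus_inf s (isGen_pullSec g C.hgen hM)).symm] at hwa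
      exact hfib w hgw hwa.1
  have haff : IsAffineOpen (glocus _ (d i)) := by
    rw [← inf_eq_left.2 hle]
    exact isAffineOpen_glocus_inf (isInvertible_tensorPow hM i) (d i) hU
  obtain ⟨δ, -⟩ := exists_powPowIso hL m i
  exact ⟨m * i, Nat.mul_pos hm hi, δ.hom.app ⊤ (d i), by rwa [glocus_map_iso], le_top, by rwa [glocus_map_iso]⟩

/-- Relative ampleness over an affine base descends at normal points and at points with a frame. -/
theorem isRelAmple_iff_pullback_normal [IsNoetherian X] [Surjective g] {Y : Scheme.{u}} [IsAffine Y] (f : X ⟶ Y)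
    [QuasiCompact f] (hW : ∀ x : X, FrameOrNormal g x) {L : X.Modules} (hL : PicF.IsInvertible L) :
    RelAmple.IsRelAmple f L ↔ RelAmple.IsRelAmple (g ≫ f) ((Scheme.Modules.pullback g).obj L) := by
  refine ⟨fun h => isRelAmple_pullback f g (fun U M _ hM => isAmple_pullback_of_isAffineHom _ hM) h, fun h => ?_⟩
  have hA := isAmple_of_isAmple_pullback_normal g hW hL (isAmple_of_isRelAmple_of_isAffine (g ≫ f) h)
  rw [isRelAmple_iff]
  refine ⟨inferInstance, fun V => ?_⟩
  have : CompactSpace (f ⁻¹ᵁ V.1 : Scheme.{u}) :=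
    isCompact_iff_compactSpace.1 (QuasiCompact.isCompact_preimage (f := f) _ V.1.2 V.2.isCompact)
  exact isAmple_pullback_of_isOpenImmersion _ hA

end Groth.Agent.RelVALib
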