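import Groth.Agent.RelVALib.CoefModel
import Groth.Agent.RelVALib.NormalDescent

/-!
# Where the coefficient model is an isomorphism
-/

set_option autoImplicit false
set_option backward.isDefEq.respectTransparency.types false

universe u

open CategoryTheory CategoryTheory.Limits AlgebraicGeometry Opposite TopologicalSpace
open Groth.Agent.Coherent Groth.Agent.PicLib

noncomputable section

namespace Groth.Agent.RelVALib

variable {X X' : Scheme.{u}}

theorem exists_evaluation_fraction {U : X.Opens} (hU : IsAffineOpen U) {η : X} (hη : η ∈ U)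
    (k : X.residueField η) :
    ∃ r t : Γ(X, U), X.evaluation U η hη t ≠ 0 ∧ X.evaluation U η hη t * k = X.evaluation U η hη r := by
  letI : Algebra Γ(X, U) (X.presheaf.stalk η) := TopCat.Presheaf.algebra_section_stalk X.presheaf ⟨η, hη⟩
  have := hU.isLocalization_stalk ⟨η, hη⟩
  obtain ⟨s, rfl⟩ := X.residue_surjective η k
  obtain ⟨⟨r, t⟩, hrt⟩ := IsLocalization.surj (hU.primeIdealOf ⟨η, hη⟩).asIdeal.primeCompl s
  refine ⟨r, t.1, fun h0 => ?_, ?_⟩
  · rw [X.evaluation_eq_zero_iff_notMem_basicOpen η hη] at h0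
    apply h0
    have h1 : hU.primeIdealOf ⟨η, hη⟩ ∈ hU.fromSpec ⁻¹ᵁ X.basicOpen t.1 := by
      rw [hU.fromSpec_preimage_basicOpen]; exact t.2
    have h2 : hU.fromSpec (hU.primeIdealOf ⟨η, hη⟩) ∈ X.basicOpen t.1 := h1
    rwa [hU.fromSpec_primeIdealOf] at h2
  · show (X.residue η) (algebraMap Γ(X, U) _ t.1) * (X.residue η) s = (X.residue η) (algebraMap Γ(X, U) _ r)
    rw [← map_mul, mul_comm, hrt]

variable (g : X' ⟶ X) [IsFinite g] [IsReduced X]

/-- The coefficients are already functions over this open. -/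
def CoefTriv (U : X.Opens) : Prop := ∀ c ∈ coefRing g U, ∃ r, genVal U r = c

theorem isIso_coefπ_restrict {U : X.Opens} (hU : IsAffineOpen U) (h : CoefTriv g U) : IsIso (coefπ g ∣_ U) := by
  rw [isIso_morphismRestrict_iff_isIso_app _ hU, ConcreteCategory.isIso_iff_bijective]
  refine ⟨fun a b hab => genVal_injective U (funext fun η => ?_), fun c => ?_⟩
  · show X.evaluation U η.1 η.2.2 a = X.evaluation U η.1 η.2.2 b
    rw [← coefPr_app g hU η a, ← coefPr_app g hU η b]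
    exact congrArg _ hab
  · obtain ⟨r, hr⟩ := h _ (coefSec g hU c).2
    exact ⟨r, coefPr_ext g hU fun η => (coefPr_app g hU η r).trans (congrFun hr η)⟩

theorem coefTriv_of_frame {I : Type u} [Fintype I] {U : X.Opens} {e : I → Γ(pushO g, U)} (hb : IsBasisOn (pushO g) U e)
    {V : X.Opens} (h : V ≤ U) (hV : IsAffineOpen V) : CoefTriv g V := by
  intro c hc
  refine Subring.closure_induction ?_ ⟨0, map_zero _⟩ ⟨1, map_one _⟩ ?_ ?_ ?_ hc
  · rintro _ (⟨r, rfl⟩ | ⟨⟨a, i⟩, rfl⟩)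
    · exact ⟨r, rfl⟩
    · exact ⟨frameCoef g hb h a i, funext fun η => (genCoef_frame g hb h hV η.2.2 a i).symm⟩
  · rintro _ _ _ _ ⟨r, rfl⟩ ⟨r', rfl⟩
    exact ⟨r + r', map_add _ _ _⟩
  · rintro _ _ ⟨r, rfl⟩
    exact ⟨-r, map_neg _ _⟩
  · rintro _ _ _ _ ⟨r, rfl⟩ ⟨r', rfl⟩
    exact ⟨r * r', map_mul _ _ _⟩

/-- In an integral affine open there is one generic point. -/
theorem genPt_bot {V : X.Opens} (hV : IsAffineOpen V) [IsDomain Γ(X, V)] (η : GenPt V) :
    hV.fromSpec ⟨⊥, Ideal.bot_prime⟩ = η.1 := by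
  refine η.2.1 _ ?_
  have h0 := ((PrimeSpectrum.le_iff_specializes ⟨⊥, Ideal.bot_prime⟩ (hV.primeIdealOf ⟨η.1, η.2.2⟩)).1
    bot_le).map hV.fromSpec.continuous
  rwa [hV.fromSpec_primeIdealOf] at h0

theorem exists_coefTriv_of_normal [IsNoetherian X] {x : X} (hd : IsDomain (X.presheaf.stalk x))
    (hn : IsIntegrallyClosed (X.presheaf.stalk x)) :
    ∃ U : X.Opens, x ∈ U ∧ IsAffineOpen U ∧ CoefTriv g U := by
  classical
  obtain ⟨V₀, hV₀, hxV₀, -⟩ := exists_isAffineOpen_mem_and_subset (x := x) (U := ⊤) trivial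
  have := IsLocallyNoetherian.component_noetherian (X := X) ⟨V₀, hV₀⟩
  let p₀ := (hV₀.primeIdealOf ⟨x, hxV₀⟩).asIdeal
  letI : Algebra Γ(X, V₀) (X.presheaf.stalk x) := TopCat.Presheaf.algebra_section_stalk X.presheaf ⟨x, hxV₀⟩
  have : IsLocalization.AtPrime (X.presheaf.stalk x) p₀ := hV₀.isLocalization_stalk ⟨x, hxV₀⟩
  obtain ⟨t₀, ht₀, hT₀⟩ := exists_isDomain_away (S := X.presheaf.stalk x) p₀
  let V := X.basicOpen t₀
  have hV : IsAffineOpen V := hV₀.basicOpen t₀
  have hxV : x ∈ V := by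
    have h1 : hV₀.primeIdealOf ⟨x, hxV₀⟩ ∈ hV₀.fromSpec ⁻¹ᵁ X.basicOpen t₀ := by
      rw [hV₀.fromSpec_preimage_basicOpen]; exact ht₀
    have h2 : hV₀.fromSpec (hV₀.primeIdealOf ⟨x, hxV₀⟩) ∈ X.basicOpen t₀ := h1
    rwa [hV₀.fromSpec_primeIdealOf] at h2
  letI := (X.presheaf.map (homOfLE (X.basicOpen_le t₀)).op).hom.toAlgebra
  have := hV₀.isLocalization_basicOpen t₀
  have hdom : IsDomain Γ(X, V) := hT₀ _
  letI : Algebra Γ(X, V) (X.presheaf.stalk x) := TopCat.Presheaf.algebra_section_stalk X.presheaf ⟨x, hxV⟩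
  let p := (hV.primeIdealOf ⟨x, hxV⟩).asIdeal
  have : IsLocalization.AtPrime (X.presheaf.stalk x) p := hV.isLocalization_stalk ⟨x, hxV⟩
  obtain ⟨η₀, hη₀, hsp⟩ := IsGen₀.exists_specializes x
  let η : GenPt V := ⟨η₀, hη₀, hsp.mem_open V.2 hxV⟩
  have huniq : ∀ η' : GenPt V, η' = η := fun η' => Subtype.ext ((genPt_bot hV η').symm.trans (genPt_bot hV η))
  letI := evalAlg (X := X) η.2.2
  have hinj : Function.Injective (algebraMap Γ(X, V) (X.residueField η.1)) := fun a b hab =>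
    genVal_injective V (funext fun η' => by rw [huniq η']; exact hab)
  have : FaithfulSMul Γ(X, V) (X.residueField η.1) := (faithfulSMul_iff_algebraMap_injective _ _).2 hinj
  have hfr : IsFractionRing Γ(X, V) (X.residueField η.1) := IsFractionRing.of_field _ _ fun z => by
    obtain ⟨r, t, ht, he⟩ := exists_evaluation_fraction hV η.2.2 z
    exact ⟨r, t, ((div_eq_iff ht).2 (he.symm.trans (mul_comm _ _))).symm⟩
  obtain ⟨T, hT, hfin⟩ := coefRing_finite g hV
  letI := genAlg V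
  obtain ⟨k, v, hv⟩ := Module.Finite.exists_fin (R := Γ(X, V)) (M := T)
  have hrt : ∀ i, ∃ r t, t ∉ p ∧ algebraMap Γ(X, V) (X.residueField η.1) r =
      algebraMap Γ(X, V) (X.residueField η.1) t * (v i).1 η := fun i => by
    refine exists_fraction_of_isIntegral (S := X.presheaf.stalk x) p ?_
    let pr : T →ₐ[Γ(X, V)] X.residueField η.1 :=
      { toRingHom := (Pi.evalRingHom _ η).comp T.val.toRingHom, commutes' := fun _ => rfl }
    exact (IsIntegral.of_finite Γ(X, V) (v i)).map pr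
  choose r t ht hrt using hrt
  let τ := ∏ i, t i
  let U := X.basicOpen τ
  have hτ : τ ∉ p := fun h => by
    obtain ⟨i, -, hi⟩ := (Ideal.IsPrime.prod_mem_iff).1 h
    exact ht i hi
  have hxU : x ∈ U := by
    have h1 : hV.primeIdealOf ⟨x, hxV⟩ ∈ hV.fromSpec ⁻¹ᵁ U := by
      rw [hV.fromSpec_preimage_basicOpen]; exact hτ
    have h2 : hV.fromSpec (hV.primeIdealOf ⟨x, hxV⟩) ∈ U := h1
    rwa [hV.fromSpec_primeIdealOf] at h2
  refine ⟨U, hxU, hV.basicOpen τ, fun c hc => ?_⟩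
  obtain ⟨n, d, hd', he⟩ := exists_pow_mul_coefRing g hV τ hc
  have hdT : ∃ s : Γ(X, V), genVal V s = genVal V τ * d := by
    have hd'' : (⟨d, hT.ge hd'⟩ : T) ∈ Submodule.span Γ(X, V) (Set.range v) := hv.ge Submodule.mem_top
    obtain ⟨w, hw⟩ := (Submodule.mem_span_range_iff_exists_fun _).1 hd''
    refine ⟨∑ i, w i * ((∏ j ∈ Finset.univ.erase i, t j) * r i), funext fun η' => ?_⟩
    rw [huniq η']
    show algebraMap Γ(X, V) (X.residueField η.1) _ = algebraMap _ _ τ * d η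
    have hdη : d η = ∑ i, algebraMap Γ(X, V) (X.residueField η.1) (w i) * (v i).1 η := by
      refine (congrArg (fun z : T => z.1 η) hw).symm.trans ?_
      simp only [AddSubmonoidClass.coe_finset_sum, Finset.sum_apply, SetLike.val_smul, Pi.smul_apply]
      rfl
    rw [hdη, map_sum, Finset.mul_sum]
    refine Finset.sum_congr rfl fun i _ => ?_
    have hτi : algebraMap Γ(X, V) (X.residueField η.1) τ =
        algebraMap Γ(X, V) _ (∏ j ∈ Finset.univ.erase i, t j) * algebraMap Γ(X, V) _ (t i) := by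
      rw [← map_mul, Finset.prod_erase_mul _ _ (Finset.mem_univ i)]
    rw [map_mul, map_mul, hrt, hτi]
    ring
  obtain ⟨s, hs⟩ := hdT
  obtain ⟨ti, hti⟩ := (isUnit_res_basicOpen' τ).exists_left_inv
  refine ⟨ti ^ (n + 1) * res (X.basicOpen_le τ) s, ?_⟩
  have hAB : genVal U ti * genVal U (res (X.basicOpen_le τ) τ) = 1 := by rw [← map_mul, hti, map_one]
  have h1 : genVal U (res (X.basicOpen_le τ) s) =
      genVal U (res (X.basicOpen_le τ) τ) * (genVal U (res (X.basicOpen_le τ) τ) ^ n * c) := by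
    rw [genVal_res, hs, map_mul, ← genVal_res, he]
  rw [map_mul, map_pow, h1]
  have : genVal U ti ^ (n + 1) * (genVal U (res (X.basicOpen_le τ) τ) * (genVal U (res (X.basicOpen_le τ) τ) ^ n * c)) =
      (genVal U ti * genVal U (res (X.basicOpen_le τ) τ)) ^ (n + 1) * c := by ring
  rw [this, hAB, one_pow, one_mul]

/-- The open where the model is trivial. -/
def trivLocus : X.Opens := ⨆ U : {U : X.Opens // IsAffineOpen U ∧ CoefTriv g U}, U.1

theorem isIso_coefπ_trivLocus : IsIso (coefπ g ∣_ trivLocus g) := by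
  let ι₀ := {U : X.Opens // IsAffineOpen U ∧ CoefTriv g U}
  show MorphismProperty.isomorphisms Scheme (coefπ g ∣_ trivLocus g)
  have hle : ∀ U : ι₀, U.1 ≤ trivLocus g := fun U => le_iSup (fun U : ι₀ => U.1) U
  refine (IsZariskiLocalAtTarget.iff_of_iSup_eq_top (fun U : ι₀ => (trivLocus g).ι ⁻¹ᵁ U.1) ?_).2 fun U => ?_
  · rw [← Scheme.Hom.preimage_iSup]
    exact (trivLocus g).ι_preimage_self
  · refine (MorphismProperty.arrow_mk_iso_iff _ (morphismRestrictRestrict (coefπ g) (trivLocus g) _)).2 ?_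
    have he : (trivLocus g).ι ''ᵁ ((trivLocus g).ι ⁻¹ᵁ U.1) = U.1 := by
      rw [Scheme.Hom.image_preimage_eq_opensRange_inf, Scheme.Opens.opensRange_ι, inf_eq_right]
      exact hle U
    refine (MorphismProperty.arrow_mk_iso_iff _ (morphismRestrictEq (coefπ g) he)).2 ?_
    exact isIso_coefπ_restrict g U.2.1 U.2.2

theorem isIso_coefπ_of_le {W : X.Opens} (hW : W ≤ trivLocus g) : IsIso (coefπ g ∣_ W) := by
  have := isIso_coefπ_trivLocus g
  have he : (trivLocus g).ι ''ᵁ ((trivLocus g).ι ⁻¹ᵁ W) = W := by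
    rw [Scheme.Hom.image_preimage_eq_opensRange_inf, Scheme.Opens.opensRange_ι, inf_eq_right]
    exact hW
  show MorphismProperty.isomorphisms Scheme _
  refine (MorphismProperty.arrow_mk_iso_iff _ (morphismRestrictEq (coefπ g) he)).1 ?_
  refine (MorphismProperty.arrow_mk_iso_iff _ (morphismRestrictRestrict (coefπ g) (trivLocus g) _)).1 ?_
  exact IsZariskiLocalAtTarget.restrict (P := MorphismProperty.isomorphisms Scheme) (isIso_coefπ_trivLocus g) _

theorem mem_trivLocus_of_isGen₀ [IsNoetherian X] {η : X} (hη : IsGen₀ η) : η ∈ trivLocus g := by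
  have hfield : IsField (X.presheaf.stalk η) := by
    obtain ⟨U, hU, hxU, -⟩ := exists_isAffineOpen_mem_and_subset (x := η) (U := ⊤) trivial
    letI : Algebra Γ(X, U) (X.presheaf.stalk η) := TopCat.Presheaf.algebra_section_stalk X.presheaf ⟨η, hxU⟩
    have := hU.isLocalization_stalk ⟨η, hxU⟩
    have hmin : (hU.primeIdealOf ⟨η, hxU⟩).asIdeal ∈ minimalPrimes Γ(X, U) := by
      refine ⟨⟨(hU.primeIdealOf ⟨η, hxU⟩).isPrime, bot_le⟩, fun q ⟨hq, _⟩ hle => ?_⟩
      have h0 := ((PrimeSpectrum.le_iff_specializes ⟨q, hq⟩ (hU.primeIdealOf ⟨η, hxU⟩)).1 hle).map hU.fromSpec.continuous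
      rw [hU.fromSpec_primeIdealOf] at h0
      have h1 : hU.primeIdealOf ⟨η, hxU⟩ = ⟨q, hq⟩ := hU.fromSpec.isOpenEmbedding.injective
        ((hU.fromSpec_primeIdealOf ⟨η, hxU⟩).trans (hη _ h0).symm)
      exact le_of_eq (congrArg PrimeSpectrum.asIdeal h1)
    rw [← PrimeSpectrum.subsingleton_iff_isField_of_isReduced]
    exact IsLocalization.subsingleton_primeSpectrum_of_mem_minimalPrimes _ hmin (X.presheaf.stalk η)
  letI := hfield.toField
  obtain ⟨U, hxU, hU, hT⟩ := exists_coefTriv_of_normal g (x := η) hfield.isDomain inferInstance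
  exact Opens.mem_iSup.2 ⟨⟨U, hU, hT⟩, hxU⟩

theorem exists_generic_over [IsNoetherian X] (ζ : coefModel g) :
    ∃ w : coefModel g, w ⤳ ζ ∧ IsGen₀ (coefπ g w) := by
  obtain ⟨U, hU, hxU, -⟩ := exists_isAffineOpen_mem_and_subset (x := coefπ g ζ) (U := ⊤) trivial
  have hU' : IsAffineOpen (coefπ g ⁻¹ᵁ U) := hU.preimage (coefπ g)
  let p := hU'.primeIdealOf ⟨ζ, hxU⟩
  have := finite_genPt U
  have := Fintype.ofFinite (GenPt U)
  obtain ⟨η, hη⟩ : ∃ η, RingHom.ker (coefPr g hU η) ≤ p.asIdeal := by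
    by_contra H
    push Not at H
    choose a ha hap using fun η => SetLike.not_le_iff_exists.1 (H η)
    have : (∏ η, a η) = 0 := coefPr_ext g hU fun η => by
      rw [map_prod, map_zero]
      exact Finset.prod_eq_zero (Finset.mem_univ η) (ha η)
    obtain ⟨η, -, hmem⟩ := p.isPrime.prod_mem_iff.1 (this ▸ p.asIdeal.zero_mem)
    exact hap η hmem
  let q : PrimeSpectrum Γ(coefModel g, coefπ g ⁻¹ᵁ U) := ⟨RingHom.ker (coefPr g hU η), RingHom.ker_isPrime _⟩
  have hsp := ((PrimeSpectrum.le_iff_specializes q p).1 hη).map hU'.fromSpec.continuous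
  rw [hU'.fromSpec_primeIdealOf] at hsp
  refine ⟨_, hsp, ?_⟩
  have hmem : hU'.fromSpec q ∈ coefπ g ⁻¹ᵁ U := hU'.range_fromSpec.le ⟨q, rfl⟩
  have hq : hU'.primeIdealOf ⟨hU'.fromSpec q, hmem⟩ = q :=
    hU'.fromSpec.isOpenEmbedding.injective (hU'.fromSpec_primeIdealOf ⟨hU'.fromSpec q, hmem⟩)
  have hcomap : hU.primeIdealOf ⟨coefπ g (hU'.fromSpec q), hmem⟩ = hU.primeIdealOf ⟨η.1, η.2.2⟩ := by
    rw [← hU.comap_primeIdealOf_appLE _ _ hU' le_rfl hmem, hq, Scheme.Hom.appLE_eq_app]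
    refine PrimeSpectrum.ext (Ideal.ext fun r => ?_)
    show coefPr g hU η ((coefπ g).app U r) = 0 ↔ _
    rw [coefPr_app, X.evaluation_eq_zero_iff_notMem_basicOpen η.1 η.2.2, ← not_iff_not, not_not,
      ← PrimeSpectrum.mem_basicOpen, ← hU.fromSpec_preimage_basicOpen]
    show η.1 ∈ X.basicOpen r ↔ hU.fromSpec _ ∈ X.basicOpen r
    rw [hU.fromSpec_primeIdealOf]
  have h3 := congrArg hU.fromSpec hcomap
  rw [hU.fromSpec_primeIdealOf, hU.fromSpec_primeIdealOf] at h3
  exact (congrArg IsGen₀ h3).mpr η.2.1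

theorem dense_trivLocus [IsNoetherian X] : Dense (trivLocus g : Set X) := fun x => by
  obtain ⟨η, hη, hsp⟩ := IsGen₀.exists_specializes x
  exact closure_mono (Set.singleton_subset_iff.2 (mem_trivLocus_of_isGen₀ g hη)) (specializes_iff_mem_closure.1 hsp)

theorem dense_preimage_trivLocus [IsNoetherian X] :
    Dense ((coefπ g ⁻¹ᵁ trivLocus g : (coefModel g).Opens) : Set (coefModel g)) := fun ζ => by
  obtain ⟨w, hsp, hw⟩ := exists_generic_over g ζ
  exact closure_mono (Set.singleton_subset_iff.2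
    (show w ∈ ((coefπ g ⁻¹ᵁ trivLocus g : (coefModel g).Opens) : Set (coefModel g)) from
      mem_trivLocus_of_isGen₀ g hw)) (specializes_iff_mem_closure.1 hsp)

end Groth.Agent.RelVALib
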