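import Groth.Agent.RelVALib.CoefRing
import Groth.Agent.SymAlgLib.AffData

/-!
# The finite birational model with all characteristic coefficients
-/

set_option autoImplicit false
set_option backward.isDefEq.respectTransparency.types false

universe u

open CategoryTheory CategoryTheory.Limits AlgebraicGeometry Opposite TopologicalSpace
open Groth.Agent.Coherent Groth.Agent.PicLib

noncomputable section

namespace Groth.Agent.RelVALib

variable {X X' : Scheme.{u}}

theorem isUnit_res_basicOpen' {U : X.Opens} (f : Γ(X, U)) : IsUnit (res (X.basicOpen_le f) f) :=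
  RingedSpace.isUnit_res_basicOpen X.toLocallyRingedSpace.toRingedSpace f

variable (g : X' ⟶ X) [IsFinite g]

theorem res_app {U V : X.Opens} (h : V ≤ U) (r : Γ(X, U)) :
    res (g.preimage_mono h) (g.app U r) = g.app V (res h r) :=
  (ConcreteCategory.congr_hom (g.naturality (homOfLE h).op) r).symm

theorem exists_pow_mul_coefRing {U : X.Opens} (hU : IsAffineOpen U) (f : Γ(X, U)) {x : GenFun (X.basicOpen f)}
    (hx : x ∈ coefRing g (X.basicOpen f)) : ∃ (n : ℕ) (c : GenFun U), c ∈ coefRing g U ∧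
      genVal (X.basicOpen f) (res (X.basicOpen_le f) f) ^ n * x = genRestr (X.basicOpen_le f) c := by
  refine Subring.closure_induction ?_ ⟨0, 0, zero_mem _, by simp⟩ ⟨0, 1, one_mem _, by simp⟩ ?_ ?_ ?_ hx
  · rintro _ (⟨s, rfl⟩ | ⟨⟨a', i⟩, rfl⟩)
    · letI := (X.presheaf.map (homOfLE (X.basicOpen_le f)).op).hom.toAlgebra
      have := hU.isLocalization_basicOpen f
      obtain ⟨n, t, ht⟩ := IsLocalization.Away.surj f s
      refine ⟨n, genVal U t, genVal_mem g U t, ?_⟩
      rw [← map_pow, ← map_mul, ← genVal_res]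
      refine congrArg _ ((mul_comm _ _).trans ?_)
      exact ht
    · let F := res (X.basicOpen_le f) f
      letI := (X'.presheaf.map (homOfLE (g.preimage_mono (X.basicOpen_le f))).op).hom.toAlgebra
      have : IsLocalization.Away (g.app U f) Γ(X', g ⁻¹ᵁ X.basicOpen f) :=
        (hU.preimage g).isLocalization_of_eq_basicOpen (g.app U f) (homOfLE (g.preimage_mono (X.basicOpen_le f)))
          (Scheme.preimage_basicOpen g f)
      obtain ⟨n, a, ha⟩ := IsLocalization.Away.surj (g.app U f) a'
      refine ⟨n * i, coefVal g U a i, coefVal_mem g U a i, ?_⟩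
      have ha' : res (g.preimage_mono (X.basicOpen_le f)) a = g.app (X.basicOpen f) (F ^ n) * a' := by
        rw [map_pow, ← res_app g (X.basicOpen_le f) f, mul_comm]
        exact ha.symm
      rw [← coefVal_res g (X.basicOpen_le f), ha', ← map_pow]
      refine funext fun η => ?_
      show X.evaluation _ η.1 η.2.2 (F ^ (n * i)) * genCoef g η.2.2 a' i = genCoef g η.2.2 (g.app _ (F ^ n) * a') i
      rw [genCoef_smul, map_pow, map_pow, pow_mul]
  · rintro x y _ _ ⟨n, c, hc, hxc⟩ ⟨m, d, hd, hyd⟩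
    refine ⟨n + m, genVal U f ^ m * c + genVal U f ^ n * d,
      add_mem (mul_mem (pow_mem (genVal_mem g U f) m) hc) (mul_mem (pow_mem (genVal_mem g U f) n) hd), ?_⟩
    simp only [map_add, map_mul, map_pow, ← genVal_res, ← hxc, ← hyd]
    ring
  · rintro x _ ⟨n, c, hc, hxc⟩
    exact ⟨n, -c, neg_mem hc, by rw [map_neg, mul_neg, hxc]⟩
  · rintro x y _ _ ⟨n, c, hc, hxc⟩ ⟨m, d, hd, hyd⟩
    refine ⟨n + m, c * d, mul_mem hc hd, ?_⟩
    simp only [map_mul, ← hxc, ← hyd]
    ring

/-- The inclusion of functions. -/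
def coefStr (U : X.Opens) : Γ(X, U) →+* coefRing g U := (genVal U).codRestrict _ (genVal_mem g U)

/-- The restriction. -/
def coefRes {U V : X.Opens} (h : V ≤ U) : coefRing g U →+* coefRing g V :=
  ((genRestr h).comp (coefRing g U).subtype).codRestrict _ fun c => genRestr_mem g h c.2

/-- The functor of coefficient rings. -/
def coefFunctor : X.AffineZariskiSiteᵒᵖ ⥤ CommRingCat.{u} where
  obj U := CommRingCat.of (coefRing g U.unop.1)
  map i := CommRingCat.ofHom (coefRes g (Scheme.AffineZariskiSite.toOpens_mono i.unop.le))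
  map_id _ := rfl
  map_comp _ _ := rfl

/-- The structure map. -/
def coefAlpha : (Scheme.AffineZariskiSite.toOpensFunctor X).op ⋙ X.presheaf ⟶ coefFunctor g where
  app U := CommRingCat.ofHom (coefStr g U.unop.1)
  naturality U V i := CommRingCat.hom_ext (RingHom.ext fun r => Subtype.ext (funext fun η =>
    evaluation_res (Scheme.AffineZariskiSite.toOpens_mono i.unop.le) η.2.2 r))

theorem coequifibered_coefAlpha [IsReduced X] : (coefAlpha g).Coequifibered := by
  refine Scheme.AffineZariskiSite.coequifibered_iff_forall_isLocalizationAway.2 fun U f => ?_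
  let V := X.basicOpen f
  have hV : V ≤ U.1 := X.basicOpen_le f
  letI := (coefRes g hV).toAlgebra
  show IsLocalization.Away (coefStr g U.1 f) (coefRing g V)
  have hmap : ∀ c : coefRing g U.1, ((algebraMap _ (coefRing g V) c).1 : GenFun V) = genRestr hV c.1 := fun _ => rfl
  refine IsLocalization.Away.mk _ ?_ ?_ ?_
  · have : algebraMap (coefRing g U.1) (coefRing g V) (coefStr g U.1 f) = coefStr g V (res hV f) :=
      Subtype.ext (genVal_res hV f).symm
    rw [this]
    exact (isUnit_res_basicOpen' f).map _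
  · intro s
    obtain ⟨n, c, hc, he⟩ := exists_pow_mul_coefRing g U.2 f s.2
    refine ⟨n, ⟨c, hc⟩, Subtype.ext ?_⟩
    show s.1 * (genRestr hV (genVal U.1 f)) ^ n = genRestr hV c
    rw [← genVal_res, mul_comm, he]
  · intro a b hab
    refine ⟨1, Subtype.ext (funext fun η => ?_)⟩
    show (genVal U.1 f η) ^ 1 * a.1 η = (genVal U.1 f η) ^ 1 * b.1 η
    by_cases hη : η.1 ∈ V
    · have := congrFun (congrArg Subtype.val hab) ⟨η.1, η.2.1, hη⟩
      exact congrArg (_ * ·) this
    · have h0 : genVal U.1 f η = 0 := (X.evaluation_eq_zero_iff_notMem_basicOpen η.1 η.2.2 f).2 hη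
      rw [h0]
      simp

variable [IsReduced X]

/-- The model. -/
def coefModel : Scheme.{u} := SymAlgLib.total (coequifibered_coefAlpha g)

/-- Its structure morphism. -/
def coefπ : coefModel g ⟶ X := SymAlgLib.toBase (coequifibered_coefAlpha g)

instance : IsAffineHom (coefπ g) := inferInstanceAs (IsAffineHom (SymAlgLib.toBase (coequifibered_coefAlpha g)))

/-- The sections over the preimage of an affine open. -/
def coefSec {U : X.Opens} (hU : IsAffineOpen U) : Γ(coefModel g, coefπ g ⁻¹ᵁ U) →+* coefRing g U :=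
  (SymAlgLib.secHom (coequifibered_coefAlpha g) ⟨U, hU⟩).hom

theorem bijective_coefSec {U : X.Opens} (hU : IsAffineOpen U) : Function.Bijective (coefSec g hU) :=
  ConcreteCategory.bijective_of_isIso (SymAlgLib.secHom (coequifibered_coefAlpha g) ⟨U, hU⟩)

/-- The value at a generic point of a function on the model. -/
def coefPr {U : X.Opens} (hU : IsAffineOpen U) (η : GenPt U) :
    Γ(coefModel g, coefπ g ⁻¹ᵁ U) →+* X.residueField η.1 :=
  ((Pi.evalRingHom _ η).comp (coefRing g U).subtype).comp (coefSec g hU)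

theorem coefPr_ext {U : X.Opens} (hU : IsAffineOpen U) {a b : Γ(coefModel g, coefπ g ⁻¹ᵁ U)}
    (h : ∀ η, coefPr g hU η a = coefPr g hU η b) : a = b :=
  (bijective_coefSec g hU).1 (Subtype.ext (funext h))

theorem coefPr_app {U : X.Opens} (hU : IsAffineOpen U) (η : GenPt U) (r : Γ(X, U)) :
    coefPr g hU η ((coefπ g).app U r) = X.evaluation U η.1 η.2.2 r :=
  congrFun (congrArg Subtype.val
    (ConcreteCategory.congr_hom (SymAlgLib.toBase_app_secHom (coequifibered_coefAlpha g) ⟨U, hU⟩) r)) η

theorem coefPr_res_basicOpen {U : X.Opens} (hU : IsAffineOpen U) (f : Γ(X, U)) (η : GenPt (X.basicOpen f))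
    (c : Γ(coefModel g, coefπ g ⁻¹ᵁ U)) :
    coefPr g (hU.basicOpen f) η (res ((coefπ g).preimage_mono (X.basicOpen_le f)) c) =
      coefPr g hU ⟨η.1, η.2.1, X.basicOpen_le f η.2.2⟩ c := by
  let U₀ : X.AffineZariskiSite := ⟨U, hU⟩
  exact congrFun (congrArg Subtype.val (ConcreteCategory.congr_hom
    (SymAlgLib.secHom_natural (coequifibered_coefAlpha g) (homOfLE (U₀.basicOpen_le f))) c)) η

theorem coefPr_res {U V : X.Opens} (hU : IsAffineOpen U) (hV : IsAffineOpen V) (h : V ≤ U) (η : GenPt V)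
    (c : Γ(coefModel g, coefπ g ⁻¹ᵁ U)) :
    coefPr g hV η (res ((coefπ g).preimage_mono h) c) = coefPr g hU ⟨η.1, η.2.1, h η.2.2⟩ c := by
  obtain ⟨f, f', he, hη⟩ := exists_basicOpen_le_affine_inter hV hU η.1 ⟨η.2.2, h η.2.2⟩
  have hη' : η.1 ∈ X.basicOpen f' := he ▸ hη
  have h1 := coefPr_res_basicOpen g hV f ⟨η.1, η.2.1, hη⟩ (res ((coefπ g).preimage_mono h) c)
  have h2 := coefPr_res_basicOpen g hU f' ⟨η.1, η.2.1, hη'⟩ c
  refine h1.symm.trans (Eq.trans ?_ h2)
  clear h1 h2
  have key : ∀ (O : X.Opens) (hO : IsAffineOpen O) (hle : O ≤ U) (hle' : O ≤ V) (hηO : η.1 ∈ O),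
      O = X.basicOpen f' →
      coefPr g hO ⟨η.1, η.2.1, hηO⟩ (res ((coefπ g).preimage_mono hle') (res ((coefπ g).preimage_mono h) c)) =
      coefPr g (hU.basicOpen f') ⟨η.1, η.2.1, hη'⟩ (res ((coefπ g).preimage_mono (X.basicOpen_le f')) c) := by
    rintro O hO hle hle' hηO rfl
    rw [res_res]
  exact key _ (hV.basicOpen f) ((X.basicOpen_le f).trans h) (X.basicOpen_le f) hη he

theorem exists_coefPr {U : X.Opens} (hU : IsAffineOpen U) (a : Γ(X', g ⁻¹ᵁ U)) (i : ℕ) :
    ∃ c : Γ(coefModel g, coefπ g ⁻¹ᵁ U), ∀ η, coefPr g hU η c = genCoef g η.2.2 a i := by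
  obtain ⟨c, hc⟩ := (bijective_coefSec g hU).2 ⟨_, coefVal_mem g U a i⟩
  exact ⟨c, fun η => congrFun (congrArg Subtype.val hc) η⟩

instance [IsNoetherian X] : IsFinite (coefπ g) := by
  refine ⟨fun U hU => ?_⟩
  let e := CommRingCat.ofHom (coefSec g hU)
  have he : (coefπ g).app U ≫ e = CommRingCat.ofHom (coefStr g U) :=
    SymAlgLib.toBase_app_secHom (coequifibered_coefAlpha g) ⟨U, hU⟩
  obtain ⟨T, hT, hfin⟩ := coefRing_finite g hU
  let E : coefRing g U ≃+* Γ(coefModel g, coefπ g ⁻¹ᵁ U) :=
    (RingEquiv.ofBijective (coefSec g hU) (bijective_coefSec g hU)).symm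
  letI := genAlg U
  let j : T →+* coefRing g U := T.val.toRingHom.codRestrict _ fun c => hT.le c.2
  have hj : Function.Surjective j := fun c => ⟨⟨c.1, hT.ge c.2⟩, rfl⟩
  have : ((coefπ g).app U).hom = E.toRingHom.comp (j.comp (algebraMap Γ(X, U) T)) := RingHom.ext fun r => by
    refine (bijective_coefSec g hU).1 ?_
    refine (ConcreteCategory.congr_hom he r).trans ?_
    show _ = coefSec g hU (E (j (algebraMap Γ(X, U) T r)))
    rw [show ∀ y, coefSec g hU (E y) = y from fun y => (RingEquiv.ofBijective _ (bijective_coefSec g hU)).apply_symm_apply y]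
    rfl
  rw [this]
  exact (RingHom.Finite.of_surjective _ E.surjective).comp
    ((RingHom.Finite.of_surjective _ hj).comp (RingHom.finite_algebraMap.2 hfin))

instance : IsReduced (coefModel g) := by
  have : ∀ U, IsReduced ((SymAlgLib.data (coequifibered_coefAlpha g)).cover.X U) := fun U =>
    haveI : _root_.IsReduced (GenFun U.1) := inferInstance
    haveI : _root_.IsReduced (coefRing g U.1) :=
      isReduced_of_injective (coefRing g U.1).subtype Subtype.val_injective
    haveI : _root_.IsReduced (CommRingCat.of (coefRing g U.1) : CommRingCat.{u}) := ‹_›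
    inferInstanceAs (IsReduced (Spec (CommRingCat.of (coefRing g U.1))))
  exact IsReduced.of_openCover (X := coefModel g) (SymAlgLib.data (coequifibered_coefAlpha g)).cover

end Groth.Agent.RelVALib
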