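import Groth.Agent.RelVALib.FibreCoef
import Groth.Agent.RelVALib.NormalAlg

/-!
# The ring of characteristic coefficients
-/

set_option autoImplicit false
set_option backward.isDefEq.respectTransparency.types false

universe u

open CategoryTheory CategoryTheory.Limits AlgebraicGeometry Opposite TopologicalSpace
open Groth.Agent.Coherent Groth.Agent.PicLib

noncomputable section

namespace Groth.Agent.RelVALib

variable {X X' : Scheme.{u}}

/-- A point without proper generalisations. -/
def IsGen₀ (η : X) : Prop := ∀ y : X, y ⤳ η → y = η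

theorem IsGen₀.exists_specializes (x : X) : ∃ η : X, IsGen₀ η ∧ η ⤳ x := by
  obtain ⟨η, hη⟩ : ∃ η, IsGenericPoint η (irreducibleComponent x) :=
    ⟨_, isIrreducible_irreducibleComponent.isGenericPoint_genericPoint isClosed_irreducibleComponent⟩
  refine ⟨η, fun y hy => ?_, specializes_iff_mem_closure.2 (hη.def.ge mem_irreducibleComponent)⟩
  have h1 : closure ({η} : Set X) ⊆ closure {y} :=
    closure_minimal (Set.singleton_subset_iff.2 (specializes_iff_mem_closure.1 hy)) isClosed_closure
  rw [hη.def] at h1
  have h2 : closure ({y} : Set X) ⊆ irreducibleComponent x :=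
    (irreducibleComponent_mem_irreducibleComponents x).2 (isIrreducible_singleton.closure) h1
  exact IsGenericPoint.eq (show IsGenericPoint y (irreducibleComponent x) from h2.antisymm h1) hη

/-- The generic points in an open. -/
abbrev GenPt (U : X.Opens) : Type u := {η : X // IsGen₀ η ∧ η ∈ U}

theorem finite_genPt [IsNoetherian X] (U : X.Opens) : Finite (GenPt U) := by
  have hfin : (irreducibleComponents X).Finite := TopologicalSpace.NoetherianSpace.finite_irreducibleComponents
  have := hfin.to_subtype
  refine Finite.of_injective (β := irreducibleComponents X)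
    (fun η => ⟨irreducibleComponent η.1, irreducibleComponent_mem_irreducibleComponents η.1⟩) fun a b hab => ?_
  have hab' : irreducibleComponent a.1 = irreducibleComponent b.1 := congrArg Subtype.val hab
  have key : ∀ c : GenPt U, IsGenericPoint c.1 (irreducibleComponent c.1) := fun c => by
    obtain ⟨η, hη⟩ : ∃ η, IsGenericPoint η (irreducibleComponent c.1) :=
      ⟨_, isIrreducible_irreducibleComponent.isGenericPoint_genericPoint isClosed_irreducibleComponent⟩
    have : η ⤳ c.1 := specializes_iff_mem_closure.2 (hη.def.ge mem_irreducibleComponent)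
    rwa [c.2.1 η this] at hη
  exact Subtype.ext ((key a).eq (hab' ▸ key b))

/-- The functions at the generic points. -/
abbrev GenFun (U : X.Opens) : Type u := ∀ η : GenPt U, X.residueField η.1

/-- The values at the generic points of a function. -/
def genVal (U : X.Opens) : Γ(X, U) →+* GenFun U := Pi.ringHom fun η => (X.evaluation U η.1 η.2.2).hom

/-- The restriction of functions at generic points. -/
def genRestr {U V : X.Opens} (h : V ≤ U) : GenFun U →+* GenFun V :=
  Pi.ringHom fun η => Pi.evalRingHom (fun η : GenPt U => X.residueField η.1) ⟨η.1, η.2.1, h η.2.2⟩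

theorem evaluation_res {U V : X.Opens} (h : V ≤ U) {η : X} (hη : η ∈ V) (r : Γ(X, U)) :
    X.evaluation V η hη (res h r) = X.evaluation U η (h hη) r := by
  show (X.presheaf.map (homOfLE h).op ≫ X.presheaf.germ V η hη ≫ X.residue η) r = _
  rw [TopCat.Presheaf.germ_res_assoc]
  rfl

theorem genVal_res {U V : X.Opens} (h : V ≤ U) (r : Γ(X, U)) : genVal V (res h r) = genRestr h (genVal U r) :=
  funext fun η => evaluation_res h η.2.2 r

theorem genVal_injective [IsReduced X] (U : X.Opens) : Function.Injective (genVal U : Γ(X, U) → GenFun U) := by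
  rw [injective_iff_map_eq_zero]
  intro r hr
  rw [← basicOpen_eq_bot_iff]
  by_contra hne
  obtain ⟨w, hw⟩ := (Opens.ne_bot_iff_nonempty _).1 hne
  obtain ⟨η, hη, hsp⟩ := IsGen₀.exists_specializes w
  have hηr : η ∈ X.basicOpen r := hsp.mem_open (X.basicOpen r).2 hw
  exact (X.evaluation_ne_zero_iff_mem_basicOpen η (X.basicOpen_le r hηr) r).2 hηr
    (congrFun hr ⟨η, hη, X.basicOpen_le r hηr⟩)

variable (g : X' ⟶ X) [IsFinite g]

/-- The coefficient at the generic points. -/
def coefVal (U : X.Opens) (a : Γ(X', g ⁻¹ᵁ U)) (i : ℕ) : GenFun U := fun η => genCoef g η.2.2 a i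

theorem coefVal_res {U V : X.Opens} (h : V ≤ U) (a : Γ(X', g ⁻¹ᵁ U)) (i : ℕ) :
    coefVal g V (res (g.preimage_mono h) a) i = genRestr h (coefVal g U a i) :=
  funext fun η => genCoef_res g η.2.2 h a i

/-- The generators of the ring of coefficients. -/
def coefGens (U : X.Opens) : Set (GenFun U) :=
  Set.range (genVal U) ∪ Set.range fun p : Γ(X', g ⁻¹ᵁ U) × ℕ => coefVal g U p.1 p.2

/-- The ring generated by the functions and the coefficients. -/
def coefRing (U : X.Opens) : Subring (GenFun U) := Subring.closure (coefGens g U)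

theorem genVal_mem (U : X.Opens) (r : Γ(X, U)) : genVal U r ∈ coefRing g U :=
  Subring.subset_closure (Or.inl ⟨r, rfl⟩)

theorem coefVal_mem (U : X.Opens) (a : Γ(X', g ⁻¹ᵁ U)) (i : ℕ) : coefVal g U a i ∈ coefRing g U :=
  Subring.subset_closure (Or.inr ⟨(a, i), rfl⟩)

theorem genRestr_mem {U V : X.Opens} (h : V ≤ U) {c : GenFun U} (hc : c ∈ coefRing g U) :
    genRestr h c ∈ coefRing g V := by
  suffices coefRing g U ≤ (coefRing g V).comap (genRestr h) from this hc
  refine Subring.closure_le.2 ?_
  rintro _ (⟨r, rfl⟩ | ⟨⟨a, i⟩, rfl⟩)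
  · show genRestr h (genVal U r) ∈ coefRing g V
    rw [← genVal_res]
    exact genVal_mem g V _
  · show genRestr h (coefVal g U a i) ∈ coefRing g V
    rw [← coefVal_res]
    exact coefVal_mem g V _ _

/-- A finite submodule contains all the coefficients of an action. -/
theorem exists_finite_submodule_charCoef {R A K : Type u} [CommRing R] [CommRing A] [Algebra R A] [Module.Finite R A]
    [Field K] [Algebra R K] {ι : Type u} [Fintype ι] [DecidableEq ι] (Ψ : A →ₐ[R] Matrix ι ι K) (i : ℕ) :
    ∃ N : Submodule R K, N.FG ∧ ∀ a, (Ψ a).charpolyRev.coeff i ∈ N := by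
  classical
  obtain ⟨n, v, hv⟩ := Module.Finite.exists_fin (R := R) (M := A)
  let G : Matrix ι ι (MvPolynomial (Fin n) K) :=
    ∑ k : Fin n, (MvPolynomial.X k : MvPolynomial (Fin n) K) • (Ψ (v k)).map (MvPolynomial.C (σ := Fin n))
  let q := G.charpolyRev.coeff i
  refine ⟨Submodule.span R (q.support.image fun d => q.coeff d : Set K), Submodule.fg_span (Finset.finite_toSet _),
    fun a => ?_⟩
  obtain ⟨r, hr⟩ := (Submodule.mem_span_range_iff_exists_fun R).1 (hv.ge (Submodule.mem_top (x := a)))
  let φ : MvPolynomial (Fin n) K →+* K := MvPolynomial.eval fun k => algebraMap R K (r k)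
  have hG : G.map φ = Ψ a := by
    rw [← hr, map_sum]
    refine Matrix.ext fun s t => ?_
    simp only [G, Matrix.map_apply, Matrix.sum_apply, map_sum, Matrix.smul_apply, smul_eq_mul, map_mul, φ,
      MvPolynomial.eval_X, MvPolynomial.eval_C, map_smul]
    refine Finset.sum_congr rfl fun k _ => (Algebra.smul_def _ _).symm
  have h2 : (Ψ a).charpolyRev = G.charpolyRev.map φ := by
    rw [← hG, Matrix.charpolyRev, Matrix.charpolyRev, ← Polynomial.coe_mapRingHom, RingHom.map_det]
    congr 1
    refine Matrix.ext fun k l => ?_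
    simp [Matrix.one_apply, apply_ite (Polynomial.map φ)]
  rw [h2, Polynomial.coeff_map]
  show MvPolynomial.eval (fun k => algebraMap R K (r k)) q ∈ _
  rw [MvPolynomial.eval_eq]
  refine Submodule.sum_mem _ fun d hd => ?_
  rw [mul_comm, ← Finset.prod_congr rfl (fun k _ => map_pow (algebraMap R K) (r k) (d k)), ← map_prod,
    ← Algebra.smul_def]
  refine Submodule.smul_mem _ _ (Submodule.subset_span ?_)
  exact Finset.mem_coe.2 (Finset.mem_image.2 ⟨d, hd, rfl⟩)

/-- The algebra structure on functions at the generic points. -/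
@[reducible] def genAlg (U : X.Opens) : Algebra Γ(X, U) (GenFun U) := (genVal U).toAlgebra

theorem coefRing_finite [IsNoetherian X] {U : X.Opens} (hU : IsAffineOpen U) :
    letI := genAlg U
    ∃ T : Subalgebra Γ(X, U) (GenFun U), (T : Set (GenFun U)) = coefRing g U ∧ Module.Finite Γ(X, U) T := by
  classical
  letI := genAlg U
  letI := preAlg g U
  have := finite_genPt U
  have := Fintype.ofFinite (GenPt U)
  have : IsNoetherianRing Γ(X, U) := IsLocallyNoetherian.component_noetherian (X := X) ⟨U, hU⟩
  have : Module.Finite Γ(X, U) Γ(X', g ⁻¹ᵁ U) := g.finite_app U hU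
  let S : Set (GenFun U) := Set.range fun p : Γ(X', g ⁻¹ᵁ U) × ℕ => coefVal g U p.1 p.2
  let T := Algebra.adjoin Γ(X, U) S
  have hT : (T : Set (GenFun U)) = coefRing g U := by
    refine le_antisymm (fun c hc => ?_) ?_
    · induction hc using Algebra.adjoin_induction with
      | mem x hx => exact Subring.subset_closure (Or.inr hx)
      | algebraMap r => exact genVal_mem g U r
      | add x y _ _ hx hy => exact add_mem hx hy
      | mul x y _ _ hx hy => exact mul_mem hx hy
    · show coefRing g U ≤ T.toSubring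
      refine Subring.closure_le.2 ?_
      rintro _ (⟨r, rfl⟩ | hS)
      · exact T.algebraMap_mem r
      · exact Algebra.subset_adjoin hS
  refine ⟨T, hT, ?_⟩
  have hint : ∀ c ∈ S, IsIntegral Γ(X, U) c := by
    rintro _ ⟨⟨a, i⟩, rfl⟩
    choose p hp hp0 using fun η : GenPt U =>
      (letI := evalAlg (X := X) η.2.2; isIntegral_charCoef_action (fibAct g η.2.2) a i)
    refine ⟨∏ η, p η, Polynomial.monic_prod_of_monic _ _ fun η _ => hp η, funext fun η => ?_⟩
    have : Pi.evalRingHom (fun η : GenPt U => X.residueField η.1) η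
        ((∏ η, p η).eval₂ (algebraMap Γ(X, U) (GenFun U)) (coefVal g U a i)) = 0 := by
      rw [Polynomial.hom_eval₂, Polynomial.eval₂_finsetProd]
      exact Finset.prod_eq_zero (Finset.mem_univ η) (hp0 η)
    exact this
  obtain ⟨m, hm⟩ : ∃ m, ∀ η : GenPt U, fibDim g η.1 ≤ m :=
    ⟨Finset.univ.sup fun η : GenPt U => fibDim g η.1, fun η => Finset.le_sup (f := fun η : GenPt U => fibDim g η.1) (Finset.mem_univ η)⟩
  have hN : ∀ η : GenPt U, letI := evalAlg (X := X) η.2.2
      ∃ N : Submodule Γ(X, U) (X.residueField η.1), N.FG ∧ ∀ a i, genCoef g η.2.2 a i ∈ N := fun η => by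
    letI := evalAlg (X := X) η.2.2
    choose N hN1 hN2 using fun i => exists_finite_submodule_charCoef (fibAct g η.2.2) i
    refine ⟨⨆ i : Fin (m + 1), N i, Submodule.fg_iSup _ fun i => hN1 i, fun a i => ?_⟩
    by_cases hi : i ≤ m
    · exact Submodule.mem_iSup_of_mem (⟨i, Nat.lt_succ_of_le hi⟩ : Fin (m + 1)) (hN2 i a)
    · have h0 : genCoef g η.2.2 a i = 0 := by
        rw [genCoef_eq_act, ← Matrix.reverse_charpoly]
        refine Polynomial.coeff_eq_zero_of_natDegree_lt (lt_of_le_of_lt ?_ (not_le.1 hi))
        refine (Polynomial.reverse_natDegree_le _).trans ?_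
        rw [Matrix.charpoly_natDegree_eq_dim]
        simpa using hm η
      rw [h0]
      exact zero_mem _
  choose N hN1 hN2 using hN
  let φ : ∀ η : GenPt U, letI := evalAlg (X := X) η.2.2; GenFun U →ₗ[Γ(X, U)] X.residueField η.1 := fun η =>
    letI := evalAlg (X := X) η.2.2
    { toFun := fun c => c η, map_add' := fun _ _ => rfl, map_smul' := fun _ _ => rfl }
  let M : Submodule Γ(X, U) (GenFun U) := ⨅ η, letI := evalAlg (X := X) η.2.2; (N η).comap (φ η)
  have hM : M.FG := by
    letI : ∀ η : GenPt U, Algebra Γ(X, U) (X.residueField η.1) := fun η => evalAlg (X := X) η.2.2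
    have : ∀ η, Module.Finite Γ(X, U) (N η) := fun η => Module.Finite.iff_fg.2 (hN1 η)
    let Φ : M →ₗ[Γ(X, U)] ∀ η, N η :=
      { toFun := fun c η => ⟨c.1 η, (Submodule.mem_iInf _).1 c.2 η⟩
        map_add' := fun _ _ => rfl
        map_smul' := fun _ _ => rfl }
    exact Module.Finite.iff_fg.1 (Module.Finite.of_injective Φ fun c d h =>
      Subtype.ext (funext fun η => congrArg Subtype.val (congrFun h η)))
  have hSM : Submodule.span Γ(X, U) S ≤ M := Submodule.span_le.2 (by
    rintro _ ⟨⟨a, i⟩, rfl⟩
    exact (Submodule.mem_iInf _).2 fun η => hN2 η a i)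
  obtain ⟨t, ht, htS⟩ : ∃ t : Set (GenFun U), t.Finite ∧ Submodule.span Γ(X, U) t = Submodule.span Γ(X, U) S := by
    have : Module.Finite Γ(X, U) M := Module.Finite.iff_fg.2 hM
    obtain ⟨t, ht⟩ := (isNoetherian_submodule.1 (inferInstance : _root_.IsNoetherian Γ(X, U) M) _ hSM)
    exact ⟨t, t.finite_toSet, ht⟩
  have hTt : T = Algebra.adjoin Γ(X, U) t := by
    show Algebra.adjoin Γ(X, U) S = _
    rw [← Algebra.adjoin_span, ← htS, Algebra.adjoin_span]
  rw [hTt]
  refine Module.Finite.iff_fg.2 (fg_adjoin_of_finite ht fun c hc => ?_)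
  have hc' : c ∈ Submodule.span Γ(X, U) S := htS.le (Submodule.subset_span hc)
  clear hc
  induction hc' using Submodule.span_induction with
  | mem z hz => exact hint z hz
  | zero => exact isIntegral_zero
  | add z w _ _ hz hw => exact hz.add hw
  | smul r z _ hz => rw [Algebra.smul_def]; exact isIntegral_algebraMap.mul hz

end Groth.Agent.RelVALib
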