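import Mathlib
import Groth.Prelude.Def_RelSpec2
import Groth.Agent.SymAlgLib.Consequences
import Groth.Agent.SymAlgLib.Grading
import Groth.Agent.RelSpecLib.Basic
import Groth.Agent.AmpleLib.Ample
import Groth.Agent.AmpleLib.Local

/-!
# Ampleness from a contraction of the zero section of a line bundle

A function near the zero section of a line bundle has Taylor coefficients along the fibres, sections
of the powers of the line bundle.
-/

set_option autoImplicit false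
set_option linter.unusedSectionVars false
set_option backward.isDefEq.respectTransparency.types false
set_option maxHeartbeats 1000000

universe u

open AlgebraicGeometry CategoryTheory CategoryTheory.Limits TopologicalSpace Opposite
open Groth.Agent.Coherent Groth.Agent.PicLib Groth.Agent.AmpleLib

namespace Groth.Agent.RelVALib

/-- The value on a power series scheme of a function on the target. -/
noncomputable def valAt {C : Scheme.{u}} {R : CommRingCat.{u}} (f : Spec R ⟶ C) (W : C.Opens)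
    (e : ⊤ ≤ f ⁻¹ᵁ W) : Γ(C, W) ⟶ R :=
  f.appLE W ⊤ e ≫ (Scheme.ΓSpecIso R).hom

theorem valAt_comp {C : Scheme.{u}} {R R' : CommRingCat.{u}} (σ : R ⟶ R') (f : Spec R ⟶ C)
    (f' : Spec R' ⟶ C) (hf : Spec.map σ ≫ f = f') (W : C.Opens) (e : ⊤ ≤ f ⁻¹ᵁ W) (e' : ⊤ ≤ f' ⁻¹ᵁ W) :
    valAt f' W e' = valAt f W e ≫ σ := by
  subst hf
  have t : (Spec.map σ).appLE ⊤ ⊤ le_top = (Spec.map σ).appTop := Scheme.Hom.appLE_eq_app _
  rw [valAt, valAt, ← Scheme.Hom.appLE_comp_appLE (Spec.map σ) f W ⊤ ⊤ e le_top, t, Category.assoc,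
    Category.assoc, Scheme.ΓSpecIso_naturality]

theorem mem_basicOpen_iff_valAt {C : Scheme.{u}} {R : CommRingCat.{u}} (f : Spec R ⟶ C) (W : C.Opens)
    (e : ⊤ ≤ f ⁻¹ᵁ W) (h : Γ(C, W)) (P : Spec R) :
    f P ∈ C.basicOpen h ↔ valAt f W e h ∉ P.asIdeal := by
  have h1 : f ⁻¹ᵁ C.basicOpen h = (Spec R).basicOpen ((Scheme.ΓSpecIso R).inv (valAt f W e h)) := by
    have h2 : (Scheme.ΓSpecIso R).inv (valAt f W e h) = f.appLE W ⊤ e h := by
      rw [valAt, CommRingCat.comp_apply, Iso.hom_inv_id_apply]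
    rw [h2, Scheme.Hom.appLE, CommRingCat.comp_apply, Scheme.basicOpen_res, Scheme.preimage_basicOpen, top_inf_eq]
  show P ∈ f ⁻¹ᵁ C.basicOpen h ↔ _
  rw [h1, basicOpen_eq_of_affine]
  rfl

/-- Every maximal ideal of a power series ring contains the variable. -/
theorem X_mem_of_isMaximal {R : Type u} [CommRing R] (m : Ideal (PowerSeries R)) [m.IsMaximal] :
    PowerSeries.X ∈ m := by
  by_contra h
  obtain ⟨y, z, hz, e⟩ := Ideal.IsMaximal.exists_inv ‹m.IsMaximal› h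
  refine (inferInstance : m.IsMaximal).ne_top (Ideal.eq_top_of_isUnit_mem m hz ?_)
  rw [PowerSeries.isUnit_iff_constantCoeff]
  have := congrArg PowerSeries.constantCoeff e
  rw [map_add, map_mul, PowerSeries.constantCoeff_X, mul_zero, zero_add, map_one] at this
  rw [this]
  exact isUnit_one

/-- Every point of the power series scheme specializes to a point of the base. -/
theorem exists_specializes_of_powerSeries {R : Type u} [CommRing R]
    (P : Spec (CommRingCat.of (PowerSeries R))) :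
    ∃ P₀ : Spec (CommRingCat.of R), P ⤳ Spec.map (CommRingCat.ofHom (PowerSeries.constantCoeff (R := R))) P₀ := by
  obtain ⟨m, hm, hle⟩ := P.asIdeal.exists_le_maximal P.2.ne_top
  have := hm
  let cc : PowerSeries R →+* R := PowerSeries.constantCoeff
  have hs : Function.Surjective cc := fun r => ⟨PowerSeries.C r, PowerSeries.constantCoeff_C r⟩
  have hker : RingHom.ker cc ≤ m := fun a ha => by
    obtain ⟨b, rfl⟩ := PowerSeries.X_dvd_iff.2 ha
    exact m.mul_mem_right _ (X_mem_of_isMaximal m)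
  have hmem : (⟨m, inferInstance⟩ : PrimeSpectrum (PowerSeries R)) ∈ Set.range (PrimeSpectrum.comap cc) := by
    rw [range_comap_of_surjective _ cc hs]
    exact hker
  obtain ⟨P₀, hP₀⟩ := hmem
  refine ⟨P₀, ?_⟩
  show (P : PrimeSpectrum (PowerSeries R)) ⤳ PrimeSpectrum.comap cc P₀
  rw [hP₀]
  exact (PrimeSpectrum.le_iff_specializes _ _).1 hle

variable {X : Scheme.{u}} {L : X.Modules} {𝒜 : RelProj.QCGrAlg X} {jL : L ⟶ 𝒜.toModule}

/-- A ring map to power series sending the generator to the variable. -/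
def IsTaylor (𝒜 : RelProj.QCGrAlg X) (jL : L ⟶ 𝒜.toModule) {U : X.Opens} {g : Γ(L, U)} (hg : IsGen L U g)
    (ψ : 𝒜.presheaf.obj (op U) →+* PowerSeries Γ(X, U)) : Prop :=
  (∀ r, ψ (𝒜.str.app (op U) r) = PowerSeries.C r) ∧
    ∀ m : Γ(L, U), ψ (jL.app U m) = PowerSeries.C (hg.coef le_rfl m) * PowerSeries.X

theorem exists_isTaylor [Coh.IsQCoh L] (hA : RelSpec.IsSymAlg L 𝒜.toQCAlg jL) {U : X.Opens} (hU : IsAffineOpen U)
    {g : Γ(L, U)} (hg : IsGen L U g) : ∃ ψ, IsTaylor 𝒜 jL hg ψ := by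
  obtain ⟨F, h0, h1⟩ := SymAlgLib.exists_sectionsHom hA hU (PowerSeries.C (R := Γ(X, U)))
    (AddMonoidHom.mk' (fun m => PowerSeries.C (hg.coef le_rfl m) * PowerSeries.X)
      fun a b => by rw [hg.coef_add, map_add, add_mul])
    (fun r m => by
      show PowerSeries.C (hg.coef le_rfl (r • m)) * PowerSeries.X = PowerSeries.C r * (PowerSeries.C (hg.coef le_rfl m) * PowerSeries.X)
      rw [hg.coef_smul, map_mul, mul_assoc])
  exact ⟨F, h0, h1⟩

theorem str_res (U V : X.Opens) (h : V ≤ U) (r : Γ(X, U)) :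
    𝒜.presheaf.map (homOfLE h).op (𝒜.str.app (op U) r) = 𝒜.str.app (op V) (res h r) :=
  (ConcreteCategory.congr_hom (𝒜.str.naturality (homOfLE h).op) r).symm

theorem gen_res (U V : X.Opens) (h : V ≤ U) (m : Γ(L, U)) :
    𝒜.presheaf.map (homOfLE h).op (show 𝒜.presheaf.obj (op U) from jL.app U m) =
      (show 𝒜.presheaf.obj (op V) from jL.app V (resM L h m)) :=
  (app_resM jL h m).symm

/-- The morphism of a power series scheme into the line bundle. -/
noncomputable def taylorMap {U : X.Opens} (hU : IsAffineOpen U)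
    (ψ : 𝒜.presheaf.obj (op U) →+* PowerSeries Γ(X, U)) :
    Spec (CommRingCat.of (PowerSeries Γ(X, U))) ⟶ 𝒜.toQCAlg.spec :=
  Spec.map (CommRingCat.ofHom ψ) ≫ 𝒜.toQCAlg.ι U hU

theorem taylorMap_res [Coh.IsQCoh L] (hA : RelSpec.IsSymAlg L 𝒜.toQCAlg jL) {U V : X.Opens} (hU : IsAffineOpen U)
    (hV : IsAffineOpen V) (h : V ≤ U) {g : Γ(L, U)} {hg : IsGen L U g} {ψ}
    (hψ : IsTaylor 𝒜 jL hg ψ) {g' : Γ(L, V)} {hg' : IsGen L V g'} {ψ'} (hψ' : IsTaylor 𝒜 jL hg' ψ')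
    (w : Γ(X, V)) (hw : g' = w • resM L h g) :
    Spec.map (CommRingCat.ofHom ((PowerSeries.rescale w).comp ψ')) ≫ 𝒜.toQCAlg.ι V hV =
      Spec.map (CommRingCat.ofHom (PowerSeries.map (res h))) ≫ taylorMap hU ψ := by
  have e : (PowerSeries.rescale w).comp (ψ'.comp (𝒜.presheaf.map (homOfLE h).op).hom) =
      (PowerSeries.map (res h)).comp ψ := by
    refine SymAlgLib.sectionsHom_ext hA hU (fun r => ?_) fun m => ?_
    · show PowerSeries.rescale w (ψ' (𝒜.presheaf.map (homOfLE h).op (𝒜.str.app (op U) r))) =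
        PowerSeries.map (res h) (ψ (𝒜.str.app (op U) r))
      rw [str_res, hψ'.1, hψ.1, PowerSeries.map_C]
      refine PowerSeries.ext fun n => ?_
      rw [PowerSeries.coeff_rescale, PowerSeries.coeff_C]
      split <;> rename_i hn
      · subst hn; rw [pow_zero, one_mul]
      · rw [mul_zero]
    · show PowerSeries.rescale w (ψ' (𝒜.presheaf.map (homOfLE h).op (show 𝒜.presheaf.obj (op U) from jL.app U m))) =
        PowerSeries.map (res h) (ψ (jL.app U m))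
      rw [gen_res]
      refine (congrArg (PowerSeries.rescale w) (hψ'.2 _)).trans ?_
      rw [hψ.2, map_mul, map_mul, PowerSeries.map_C, PowerSeries.map_X, PowerSeries.rescale_X, ← mul_assoc]
      congr 1
      refine PowerSeries.ext fun n => ?_
      rw [PowerSeries.coeff_mul_C, PowerSeries.coeff_rescale, PowerSeries.coeff_C, PowerSeries.coeff_C]
      split <;> rename_i hn
      · subst hn
        rw [pow_zero, one_mul, ← hg.coef_res le_rfl h]
        refine ((hg.coef_eq _ ?_)).symm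
        rw [mul_smul, ← hw]
        exact (congrArg _ (resM_self _ le_rfl g').symm).trans (hg'.coef_spec le_rfl _)
      · rw [mul_zero, zero_mul]
  rw [taylorMap, ← Spec.map_comp_assoc, ← RelSpecLib.ι_res' 𝒜.toQCAlg hU hV h, ← Spec.map_comp_assoc]
  congr 2
  exact CommRingCat.hom_ext e

/-- The value of a function of the target on the power series scheme. -/
theorem taylorMap_closed [Coh.IsQCoh L] (hA : RelProj.IsGrSymAlg L 𝒜 jL)
    {aug : 𝒜.toQCAlg ⟶ RelSpec.QCAlg.unit X} (haug : RelCone.IsAugmentation 𝒜 aug)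
    {j0 : X ⟶ 𝒜.toQCAlg.spec} (hj0 : RelCone.IsVertex 𝒜 aug j0)
    {U : X.Opens} (hU : IsAffineOpen U) {g : Γ(L, U)} {hg : IsGen L U g} {ψ} (hψ : IsTaylor 𝒜 jL hg ψ) :
    Spec.map (CommRingCat.ofHom (PowerSeries.constantCoeff (R := Γ(X, U)))) ≫ taylorMap hU ψ =
      hU.fromSpec ≫ j0 := by
  rw [hj0.chart U hU, taylorMap, ← Spec.map_comp_assoc]
  congr 2
  refine CommRingCat.hom_ext (SymAlgLib.sectionsHom_ext hA.1 hU (fun r => ?_) fun m => ?_)
  · show PowerSeries.constantCoeff (ψ (𝒜.str.app (op U) r)) = aug.hom.app (op U) (𝒜.str.app (op U) r)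
    rw [hψ.1, PowerSeries.constantCoeff_C]
    exact (ConcreteCategory.congr_hom (NatTrans.congr_app aug.comm (op U)) r).symm
  · show PowerSeries.constantCoeff (ψ (jL.app U m)) = aug.hom.app (op U) (show 𝒜.presheaf.obj (op U) from jL.app U m)
    rw [hψ.2, map_mul, PowerSeries.constantCoeff_X, mul_zero]
    exact (haug U hU 0 _ (hA.2 U hU m)).symm

theorem taylorMap_π [Coh.IsQCoh L] {U : X.Opens} (hU : IsAffineOpen U) {g : Γ(L, U)} {hg : IsGen L U g} {ψ}
    (hψ : IsTaylor 𝒜 jL hg ψ) :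
    taylorMap hU ψ ≫ 𝒜.toQCAlg.π = Spec.map (CommRingCat.ofHom (PowerSeries.C (R := Γ(X, U)))) ≫ hU.fromSpec := by
  rw [taylorMap, Category.assoc, RelSpec.QCAlg.ι_π, ← Spec.map_comp_assoc]
  congr 2
  exact CommRingCat.hom_ext (RingHom.ext fun r => hψ.1 r)

variable {Y C : Scheme.{u}} {p : X ⟶ Y} {ε : Y ⟶ C} {q : 𝒜.toQCAlg.spec ⟶ C}
  {aug : 𝒜.toQCAlg ⟶ RelSpec.QCAlg.unit X} {j0 : X ⟶ 𝒜.toQCAlg.spec}

theorem taylor_range [Coh.IsQCoh L] (hA : RelProj.IsGrSymAlg L 𝒜 jL) (haug : RelCone.IsAugmentation 𝒜 aug)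
    (hj0 : RelCone.IsVertex 𝒜 aug j0) (hq : j0 ≫ q = p ≫ ε) {U : X.Opens} (hU : IsAffineOpen U)
    {g : Γ(L, U)} {hg : IsGen L U g} {ψ} (hψ : IsTaylor 𝒜 jL hg ψ) {W : C.Opens} (hW : U ≤ p ⁻¹ᵁ (ε ⁻¹ᵁ W)) :
    ⊤ ≤ (taylorMap hU ψ ≫ q) ⁻¹ᵁ W := by
  intro P _
  obtain ⟨P₀, hP⟩ := exists_specializes_of_powerSeries P
  refine (hP.map (taylorMap hU ψ ≫ q).continuous).mem_open W.2 ?_
  show (Spec.map _ ≫ taylorMap hU ψ ≫ q) P₀ ∈ W
  rw [reassoc_of% (taylorMap_closed hA haug hj0 hU hψ), hq]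
  have hmem : hU.fromSpec P₀ ∈ U := by
    rw [← SetLike.mem_coe, ← hU.range_fromSpec]
    exact ⟨P₀, rfl⟩
  exact hW hmem

/-- Contractions of the zero section detect ampleness. -/
theorem exists_taylor_section [Coh.IsQCoh L] (hL : PicF.IsInvertible L) (hA : RelProj.IsGrSymAlg L 𝒜 jL)
    (haug : RelCone.IsAugmentation 𝒜 aug) (hj0 : RelCone.IsVertex 𝒜 aug j0) (hq : j0 ≫ q = p ≫ ε)
    (V0 : 𝒜.toQCAlg.spec.Opens) (hV0 : (V0 : Set 𝒜.toQCAlg.spec) = (Set.range j0.base)ᶜ)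
    [IsOpenImmersion (V0.ι ≫ q)] (hdisj : Set.range (V0.ι ≫ q).base ∩ Set.range ε.base = ∅)
    {W : C.Opens} (hW : IsAffineOpen W) {x : X} (hxW : ε (p x) ∈ W) {N : X.Opens} (hxN : x ∈ N) :
    ∃ (m : ℕ) (s : Γ(CohB1.tensorPow L m, p ⁻¹ᵁ (ε ⁻¹ᵁ W))), 0 < m ∧
      (∀ (U : X.Opens), IsAffineOpen U → ∀ (hUP : U ≤ p ⁻¹ᵁ (ε ⁻¹ᵁ W)) (g : Γ(L, U)) (hg : IsGen L U g),
        X.basicOpen ((isGen_powSec hg m).coef le_rfl (resM (CohB1.tensorPow L m) hUP s)) ≤ N) ∧
      ∃ (U : X.Opens) (_ : IsAffineOpen U) (hUP : U ≤ p ⁻¹ᵁ (ε ⁻¹ᵁ W)) (g : Γ(L, U)) (hg : IsGen L U g),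
        x ∈ X.basicOpen ((isGen_powSec hg m).coef le_rfl (resM (CohB1.tensorPow L m) hUP s)) := by
  classical
  let P := p ⁻¹ᵁ (ε ⁻¹ᵁ W)
  let π := 𝒜.toQCAlg.π
  let I := Σ' (U : X.Opens) (_ : IsAffineOpen U) (_ : U ≤ P) (g : Γ(L, U)), IsGen L U g
  have hex : ∀ i : I, ∃ ψ, IsTaylor 𝒜 jL i.2.2.2.2 ψ := fun i => exists_isTaylor hA.1 i.2.1 _
  choose Ψ hΨ using hex
  let θ : ∀ i : I, Spec (CommRingCat.of (PowerSeries Γ(X, i.1))) ⟶ C := fun i => taylorMap i.2.1 (Ψ i) ≫ q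
  have hθ : ∀ i, ⊤ ≤ θ i ⁻¹ᵁ W := fun i => taylor_range hA haug hj0 hq i.2.1 (hΨ i) i.2.2.1
  -- the test function
  have hcov : ∀ z ∈ P, ∃ i : I, z ∈ i.1 := fun z hz => by
    obtain ⟨U₀, hz₀, g₀, hg₀⟩ := exists_isGen hL z
    obtain ⟨U, hU, hzU, hle⟩ := exists_isAffineOpen_mem_and_subset (X := X) (x := z) (U := U₀ ⊓ P) ⟨hz₀, hz⟩
    exact ⟨⟨U, hU, fun y hy => (hle hy).2, _, hg₀.restrict (fun y hy => (hle hy).1)⟩, hzU⟩
  -- residue morphisms
  let ev : ∀ (i : I) (z : X) (_ : z ∈ i.1), PowerSeries Γ(X, i.1) →+* PowerSeries (X.residueField z) :=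
    fun i z hz => PowerSeries.map (X.evaluation i.1 z hz).hom
  let ϑ : ∀ (i : I) (z : X) (_ : z ∈ i.1), Spec (CommRingCat.of (PowerSeries (X.residueField z))) ⟶ 𝒜.toQCAlg.spec :=
    fun i z hz => Spec.map (CommRingCat.ofHom (ev i z hz)) ≫ taylorMap i.2.1 (Ψ i)
  let η : ∀ z : X, Spec (CommRingCat.of (PowerSeries (X.residueField z))) := fun z =>
    (⟨⊥, Ideal.isPrime_bot⟩ : PrimeSpectrum (PowerSeries (X.residueField z)))
  have hπ : ∀ (i : I) (z : X) (hz : z ∈ i.1) (Q), π (ϑ i z hz Q) = z := by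
    intro i z hz Q
    have e : ϑ i z hz ≫ π = Spec.map (CommRingCat.ofHom (PowerSeries.C (R := X.residueField z))) ≫
        X.fromSpecResidueField z := by
      rw [show X.fromSpecResidueField z = Spec.map (X.evaluation i.1 z hz) ≫ i.2.1.fromSpec from ?_]
      · simp only [ϑ, π, Category.assoc, taylorMap_π i.2.1 (hΨ i)]
        rw [← Spec.map_comp_assoc, ← Spec.map_comp_assoc]
        congr 2
        exact CommRingCat.hom_ext (RingHom.ext fun r => PowerSeries.map_C (X.evaluation i.1 z hz).hom r)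
      · rw [← X.germ_residue, Spec.map_comp, Category.assoc, Scheme.fromSpecResidueField,
          ← IsAffineOpen.fromSpecStalk_eq_fromSpecStalk i.2.1 hz, IsAffineOpen.fromSpecStalk]
    show (ϑ i z hz ≫ π) Q = z
    rw [e, Scheme.Hom.comp_apply, Scheme.fromSpecResidueField_apply]
  have hη : ∀ (i : I) (z : X) (hz : z ∈ i.1), ϑ i z hz (η z) ∈ V0 := by
    intro i z hz
    obtain ⟨U, hU, hUP, g, hg⟩ := i
    rw [← SetLike.mem_coe, hV0]
    rintro ⟨y, hy⟩
    have hyz : y = z := by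
      refine Eq.trans ?_ (hπ ⟨U, hU, hUP, g, hg⟩ z hz (η z))
      refine Eq.trans ?_ (congrArg π hy)
      show y = (j0 ≫ π) y
      rw [hj0.comp_π]
      rfl
    subst hyz
    let P₁ : Spec Γ(X, U) := hU.primeIdealOf ⟨y, hz⟩
    have e1 : Spec.map (CommRingCat.ofHom ((ev ⟨U, hU, hUP, g, hg⟩ y hz).comp (Ψ ⟨U, hU, hUP, g, hg⟩))) (η y) =
        Spec.map (aug.hom.app (op U)) P₁ := by
      refine (𝒜.toQCAlg.ι U hU).isOpenEmbedding.injective ?_
      refine Eq.trans ?_ (Eq.trans hy.symm ?_)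
      · rfl
      · show j0 y = (Spec.map (aug.hom.app (op U)) ≫ 𝒜.toQCAlg.ι U hU) P₁
        exact (congrArg j0 (hU.fromSpec_primeIdealOf ⟨y, hz⟩).symm).trans
          (congrArg (fun q : Spec Γ(X, U) ⟶ 𝒜.toQCAlg.spec => q P₁) (hj0.chart U hU))
    have hT : (show 𝒜.presheaf.obj (op U) from jL.app U g) ∈
        (Spec.map (aug.hom.app (op U)) P₁).asIdeal := by
      show aug.hom.app (op U) (show 𝒜.presheaf.obj (op U) from jL.app U g) ∈ P₁.asIdeal
      rw [haug U hU 0 _ (hA.2 U hU g)]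
      exact P₁.asIdeal.zero_mem
    rw [← e1] at hT
    have hT' : ev ⟨U, hU, hUP, g, hg⟩ y hz (Ψ ⟨U, hU, hUP, g, hg⟩ (jL.app U g)) = 0 := hT
    have hgg : hg.coef le_rfl g = 1 := hg.coef_eq _ (by rw [one_smul, resM_self])
    rw [(hΨ ⟨U, hU, hUP, g, hg⟩).2, hgg, map_one, one_mul] at hT'
    simp only [ev, PowerSeries.map_X] at hT'
    exact PowerSeries.X_ne_zero hT'
  -- the point over `x`
  obtain ⟨ix, hix⟩ := hcov x hxW
  let vx := ϑ ix x hix (η x)
  let O' : (V0.toScheme).Opens := V0.ι ⁻¹ᵁ (π ⁻¹ᵁ (N ⊓ P))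
  let O := (V0.ι ≫ q) ''ᵁ O'
  have hvxO : q vx ∈ O := ⟨⟨vx, hη ix x hix⟩, (by
    show π vx ∈ N ⊓ P
    rw [hπ]
    exact ⟨hxN, hxW⟩), rfl⟩
  have hvxW : q vx ∈ W := hθ ix (Set.mem_univ (Spec.map (CommRingCat.ofHom (ev ix x hix)) (η x)))
  obtain ⟨h, hle, hvh⟩ := hW.exists_basicOpen_le (V := O ⊓ W) ⟨q vx, hvxO, hvxW⟩ hvxW
  let val : ∀ i : I, PowerSeries Γ(X, i.1) := fun i => valAt (θ i) W (hθ i) h
  -- values at residue fields
  have hϑW : ∀ (i : I) (z : X) (hz : z ∈ i.1), ⊤ ≤ (ϑ i z hz ≫ q) ⁻¹ᵁ W := fun i z hz Q _ =>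
    hθ i (Set.mem_univ (Spec.map (CommRingCat.ofHom (ev i z hz)) Q))
  have hval : ∀ (i : I) (z : X) (hz : z ∈ i.1), valAt (ϑ i z hz ≫ q) W (hϑW i z hz) h = ev i z hz (val i) :=
    fun i z hz => ConcreteCategory.congr_hom
      (valAt_comp (CommRingCat.ofHom (ev i z hz)) (θ i) (ϑ i z hz ≫ q) (Category.assoc _ _ _).symm W (hθ i) _) h
  have hzero : ∀ (i : I) (z : X) (hz : z ∈ i.1), X.evaluation i.1 z hz (PowerSeries.coeff 0 (val i)) = 0 := by
    intro i z hz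
    let m₀ : Spec (CommRingCat.of (PowerSeries (X.residueField z))) :=
      Spec.map (CommRingCat.ofHom (PowerSeries.constantCoeff (R := X.residueField z)))
        (⟨⊥, Ideal.isPrime_bot⟩ : PrimeSpectrum (X.residueField z))
    have hm : (ϑ i z hz ≫ q) m₀ = (Spec.map (CommRingCat.ofHom (PowerSeries.constantCoeff (R := X.residueField z))) ≫
        ϑ i z hz ≫ q) (⟨⊥, Ideal.isPrime_bot⟩ : PrimeSpectrum (X.residueField z)) := rfl
    have he : Spec.map (CommRingCat.ofHom (PowerSeries.constantCoeff (R := X.residueField z))) ≫ ϑ i z hz ≫ q =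
        Spec.map (X.evaluation i.1 z hz) ≫ i.2.1.fromSpec ≫ p ≫ ε := by
      rw [← hq, ← reassoc_of% (taylorMap_closed hA haug hj0 i.2.1 (hΨ i))]
      simp only [ϑ, Category.assoc]
      rw [← Spec.map_comp_assoc, ← Spec.map_comp_assoc]
      congr 2
    have hnot : ¬ (ϑ i z hz ≫ q) m₀ ∈ C.basicOpen h := by
      rw [hm, he]
      intro hcontra
      obtain ⟨o, -, ho⟩ := (hle hcontra).1
      exact Set.eq_empty_iff_forall_notMem.1 hdisj _ ⟨⟨o, ho⟩, ⟨_, rfl⟩⟩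
    rw [mem_basicOpen_iff_valAt _ W (hϑW i z hz), not_not, hval] at hnot
    have : PowerSeries.constantCoeff (ev i z hz (val i)) = 0 := hnot
    rw [← PowerSeries.coeff_zero_eq_constantCoeff_apply, PowerSeries.coeff_map] at this
    exact this
  -- vanishing outside
  have hout : ∀ (i : I) (z : X) (hz : z ∈ i.1), z ∉ N → ev i z hz (val i) = 0 := by
    intro i z hz hzN
    by_contra hne
    have hmem : (ϑ i z hz ≫ q) (η z) ∈ C.basicOpen h := by
      rw [mem_basicOpen_iff_valAt _ W (hϑW i z hz), hval]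
      exact hne
    obtain ⟨o, ho, hoq⟩ := (hle hmem).1
    have e : o = ⟨ϑ i z hz (η z), hη i z hz⟩ := (V0.ι ≫ q).isOpenEmbedding.injective hoq
    subst e
    have : π (ϑ i z hz (η z)) ∈ N ⊓ P := ho
    rw [hπ] at this
    exact hzN this.1
  -- compatibility
  let c : ∀ i : I, ℕ → Γ(X, i.1) := fun i n => PowerSeries.coeff n (val i)
  have hcompat : ∀ (n : ℕ) (i k : I) (hle : k.1 ≤ i.1) (w : Γ(X, k.1)), k.2.2.2.1 = w • resM L hle i.2.2.2.1 →
      w ^ n * c k n = res hle (c i n) := by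
    intro n i k hle w hw
    have e1 := taylorMap_res hA.1 i.2.1 k.2.1 hle (hΨ i) (hΨ k) w hw
    rw [CommRingCat.ofHom_comp, Spec.map_comp, Category.assoc] at e1
    have e2 : Spec.map (CommRingCat.ofHom (PowerSeries.rescale w)) ≫ θ k =
        Spec.map (CommRingCat.ofHom (PowerSeries.map (res hle))) ≫ θ i := by
      show _ ≫ (Spec.map _ ≫ _) ≫ q = _ ≫ _ ≫ q
      rw [← Category.assoc, e1, Category.assoc]
    have hr : ⊤ ≤ (Spec.map (CommRingCat.ofHom (PowerSeries.rescale w)) ≫ θ k) ⁻¹ᵁ W :=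
      fun Q _ => hθ k (Set.mem_univ (Spec.map (CommRingCat.ofHom (PowerSeries.rescale w)) Q))
    have h1 := valAt_comp (CommRingCat.ofHom (PowerSeries.rescale w)) (θ k) _ rfl W (hθ k) hr
    have h2 := valAt_comp (CommRingCat.ofHom (PowerSeries.map (res hle))) (θ i) _ e2.symm W (hθ i) hr
    have h3 : PowerSeries.rescale w (val k) = PowerSeries.map (res hle) (val i) :=
      ConcreteCategory.congr_hom (h1.symm.trans h2) h
    have h4 := congrArg (PowerSeries.coeff n) h3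
    rw [PowerSeries.coeff_rescale, PowerSeries.coeff_map] at h4
    exact h4
  -- the coefficient that does not vanish at `x`
  have hx : ev ix x hix (val ix) ≠ 0 := by
    have hmem : (ϑ ix x hix ≫ q) (η x) ∈ C.basicOpen h := hvh
    rw [mem_basicOpen_iff_valAt _ W (hϑW ix x hix), hval] at hmem
    exact fun e => hmem (e ▸ (η x).asIdeal.zero_mem)
  obtain ⟨m, hm⟩ : ∃ m, PowerSeries.coeff m (ev ix x hix (val ix)) ≠ 0 := by
    by_contra hall
    push_neg at hall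
    exact hx (PowerSeries.ext fun k => (hall k).trans (map_zero _).symm)
  have hm' : X.evaluation ix.1 x hix (c ix m) ≠ 0 := fun e => hm ((PowerSeries.coeff_map _ _ _).trans e)
  have hmpos : 0 < m := Nat.pos_of_ne_zero fun h0 => by
    subst h0
    exact hm' (hzero ix x hix)
  -- gluing
  let M := CohB1.tensorPow L m
  let loc : ∀ i : I, Γ(M, i.1) := fun i => c i m • powSec i.2.2.2.1 m
  have hagree : ∀ i k : I, resM M (inf_le_left : i.1 ⊓ k.1 ≤ i.1) (loc i) = resM M inf_le_right (loc k) := by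
    intro i k
    refine sec_ext M _ _ fun y hy => ?_
    obtain ⟨U'', hU'', hyU'', hle''⟩ :=
      exists_isAffineOpen_mem_and_subset (X := X) (x := y) (U := i.1 ⊓ k.1) hy
    have hi : U'' ≤ i.1 := fun a ha => (hle'' ha).1
    have hk : U'' ≤ k.1 := fun a ha => (hle'' ha).2
    refine ⟨U'', fun a ha => hle'' ha, hyU'', ?_⟩
    let l : I := ⟨U'', hU'', hi.trans i.2.2.1, _, i.2.2.2.2.restrict hi⟩
    let w := k.2.2.2.2.coef hk (resM L hi i.2.2.2.1)
    have e1 := hcompat m i l hi 1 (one_smul _ _).symm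
    have e2 := hcompat m k l hk w (k.2.2.2.2.coef_spec hk _).symm
    rw [one_pow, one_mul] at e1
    rw [resM_resM, resM_resM, resM_smul, resM_smul, resM_powSec, resM_powSec, ← e1, ← e2, mul_comm, mul_smul,
      ← powSec_smul, k.2.2.2.2.coef_spec hk]
  have hPle : P ≤ ⨆ i : I, i.1 := fun z hz => Opens.mem_iSup.2 (hcov z hz)
  obtain ⟨s, hs, -⟩ := TopCat.Sheaf.existsUnique_gluing' (⟨M.presheaf, M.isSheaf⟩ : TopCat.Sheaf Ab X)
    (fun i : I => i.1) P (fun i => homOfLE i.2.2.1) hPle loc hagree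
  have hcoef : ∀ i : I, (isGen_powSec i.2.2.2.2 m).coef le_rfl (resM M i.2.2.1 s) = c i m := fun i =>
    IsGen.coef_eq _ _ (by rw [resM_self]; exact (hs i).symm)
  refine ⟨m, s, hmpos, fun U hU hUP g hg z hz => ?_, ⟨ix.1, ix.2.1, ix.2.2.1, ix.2.2.2.1, ix.2.2.2.2, ?_⟩⟩
  · by_contra hzN
    have hzU : z ∈ U := X.basicOpen_le _ hz
    let i : I := ⟨U, hU, hUP, g, hg⟩
    rw [hcoef i] at hz
    refine (Scheme.evaluation_ne_zero_iff_mem_basicOpen _ _ hzU _).2 hz ?_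
    have := congrArg (PowerSeries.coeff m) (hout i z hzU hzN)
    rw [PowerSeries.coeff_map, map_zero] at this
    exact this
  · rw [hcoef ix]
    exact (Scheme.evaluation_ne_zero_iff_mem_basicOpen _ _ hix _).1 hm'

/-- A module with a contraction of its zero section is relatively ample. -/
theorem isRelAmple_of_contraction [QuasiCompact p] (hL : PicF.IsInvertible L) (hA : RelProj.IsGrSymAlg L 𝒜 jL)
    (haug : RelCone.IsAugmentation 𝒜 aug) (hj0 : RelCone.IsVertex 𝒜 aug j0) (hq : j0 ≫ q = p ≫ ε)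
    (V0 : 𝒜.toQCAlg.spec.Opens) (hV0 : (V0 : Set 𝒜.toQCAlg.spec) = (Set.range j0.base)ᶜ)
    [IsOpenImmersion (V0.ι ≫ q)] (hdisj : Set.range (V0.ι ≫ q).base ∩ Set.range ε.base = ∅) :
    RelAmple.IsRelAmple p L := by
  have := isQCoh_of_isInvertible hL
  refine isRelAmple_of_affine_cover p hL fun y => ?_
  obtain ⟨W, hW, hyW, -⟩ := exists_isAffineOpen_mem_and_subset (X := C) (x := ε y) (U := ⊤) trivial
  obtain ⟨Y', hY', hyY', hle⟩ := exists_isAffineOpen_mem_and_subset (X := Y) (x := y) (U := ε ⁻¹ᵁ W) hyW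
  refine ⟨⟨Y', hY'⟩, hyY', ?_⟩
  let P' := p ⁻¹ᵁ Y'
  let σ := P'.ι
  have hP'P : P' ≤ p ⁻¹ᵁ (ε ⁻¹ᵁ W) := p.preimage_mono hle
  let L' := (Scheme.Modules.pullback σ).obj L
  rw [isAmple_iff_affGlocus]
  refine ⟨PicLoc.isInvertible_pullback σ hL,
    isCompact_iff_compactSpace.1 (p.isCompact_preimage hY'.isCompact), fun w => ?_⟩
  obtain ⟨N, hN, hxN, hNle⟩ := exists_isAffineOpen_mem_and_subset (X := X) (x := σ w) (U := P') w.2
  obtain ⟨m, s, hm, hbound, U, hU, hUP, g, hg, hxs⟩ :=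
    exists_taylor_section hL hA haug hj0 hq V0 hV0 hdisj hW (x := σ w) (hP'P w.2) hxN
  obtain ⟨e, he⟩ := exists_pullPowIso σ hL m
  have hsle : (⊤ : P'.toScheme.Opens) ≤ σ ⁻¹ᵁ (p ⁻¹ᵁ (ε ⁻¹ᵁ W)) := fun z _ => hP'P z.2
  let a : Γ(CohB1.tensorPow L' m, ⊤) := resM _ hsle (e.hom.app _ (pullSec σ s))
  have hloc : ∀ (U : X.Opens) (hUP : U ≤ p ⁻¹ᵁ (ε ⁻¹ᵁ W)) (g : Γ(L, U)) (hg : IsGen L U g),
      glocus _ a ⊓ σ ⁻¹ᵁ U =
        σ ⁻¹ᵁ X.basicOpen ((isGen_powSec hg m).coef le_rfl (resM (CohB1.tensorPow L m) hUP s)) := by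
    intro U hUP g hg
    rw [glocus_inf a (isGen_powSec (isGen_pullSec σ hg hL) m), Scheme.preimage_basicOpen]
    congr 1
    refine IsGen.coef_eq _ _ ?_
    have h0 := (isGen_powSec hg m).coef_spec le_rfl (resM (CohB1.tensorPow L m) hUP s)
    rw [resM_self] at h0
    rw [resM_self, ← he U g, ← Scheme.Modules.Hom.app_smul, ← pullSec_smul, h0, ← resM_pullSec, app_resM]
    exact (resM_resM _ _ _ _).symm
  refine ⟨m, hm, a, ?_, le_top, ?_⟩
  · have : w ∈ glocus _ a ⊓ σ ⁻¹ᵁ U := by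
      rw [hloc U hUP g hg]
      exact hxs
    exact this.1
  · have hleN : glocus _ a ≤ σ ⁻¹ᵁ N := by
      intro z hz
      obtain ⟨U₀, hz₀, g₀, hg₀⟩ := exists_isGen hL (σ z)
      obtain ⟨U₁, hU₁, hzU₁, hle₁⟩ := exists_isAffineOpen_mem_and_subset (X := X) (x := σ z) (U := U₀ ⊓ P') ⟨hz₀, z.2⟩
      have h0 : U₁ ≤ U₀ := fun a ha => (hle₁ ha).1
      have hUP₁ : U₁ ≤ p ⁻¹ᵁ (ε ⁻¹ᵁ W) := fun a ha => hP'P (hle₁ ha).2
      have : z ∈ σ ⁻¹ᵁ X.basicOpen ((isGen_powSec (hg₀.restrict h0) m).coef le_rfl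
          (resM (CohB1.tensorPow L m) hUP₁ s)) := by
        rw [← hloc U₁ hUP₁ _ (hg₀.restrict h0)]
        exact ⟨hz, hzU₁⟩
      exact hbound U₁ hU₁ hUP₁ _ (hg₀.restrict h0) this
    have hN' : IsAffineOpen (σ ⁻¹ᵁ N) :=
      hN.preimage_of_isOpenImmersion σ (by rw [Scheme.Opens.opensRange_ι]; exact hNle)
    have h1 := isAffineOpen_glocus_inf (isInvertible_tensorPow (PicLoc.isInvertible_pullback σ hL) m) a hN'
    rwa [inf_eq_left.2 hleN] at h1

end Groth.Agent.RelVALib
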