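import Groth.Agent.RelVALib.VATensor
import Groth.Agent.RelVALib.UPFunctor
import Groth.Agent.RelVALib.Coprod
import Groth.Agent.TwistLib.G.Gen
import Groth.Agent.Coherent.QcohOps

/-!
# Very ample modules on disjoint sums
-/

set_option autoImplicit false
set_option linter.unusedSectionVars false
set_option linter.deprecated false
set_option backward.isDefEq.respectTransparency.types false
set_option maxHeartbeats 1000000

universe u

open AlgebraicGeometry CategoryTheory CategoryTheory.Limits TopologicalSpace Opposite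
open Groth.Agent.Coherent Groth.Agent.PicLib Groth.Agent.AmpleLib

namespace Groth.Agent.RelVALib

variable {X X' Y Z : Scheme.{u}}

/-- A generating zero section lives on the empty open. -/
theorem eq_bot_of_isGen_zero {L : Z.Modules} {W : Z.Opens} {s : Γ(L, W)} (hs : IsGen L W s) (h0 : s = 0) :
    W = ⊥ := by
  have h : (1 : Γ(Z, W)) = 0 := (hs W le_rfl).1 (by
    show (1 : Γ(Z, W)) • resM L le_rfl s = (0 : Γ(Z, W)) • resM L le_rfl s
    rw [resM_self, h0, smul_zero, smul_zero])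
  rw [← Scheme.basicOpen_of_isUnit _ (isUnit_one : IsUnit (1 : Γ(Z, W))), h, Scheme.basicOpen_zero]

/-- Generation can be checked after pulling back to an open subscheme containing the open. -/
theorem isGen_of_pullSec (σ : X ⟶ Z) [IsOpenImmersion σ] {L : Z.Modules} (hL : PicF.IsInvertible L) {W : Z.Opens}
    (hW : W ≤ σ.opensRange) (m : Γ(L, W))
    (h : IsGen ((Scheme.Modules.pullback σ).obj L) (σ ⁻¹ᵁ W) (pullSec σ m)) : IsGen L W m := by
  intro V hV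
  have hb := bijective_pullSec_opensRange σ hL V (hV.trans hW)
  have := σ.isIso_app V (hV.trans hW)
  have key : (pullSec σ : Γ(L, V) → _) ∘ (fun c : Γ(Z, V) => c • resM L hV m) =
      (fun c : Γ(X, σ ⁻¹ᵁ V) => c • resM _ (σ.preimage_mono hV) (pullSec σ m)) ∘ σ.app V := by
    funext c
    rw [Function.comp_apply, Function.comp_apply, pullSec_smul, ← resM_pullSec]
  exact Function.Bijective.of_comp_iff' hb _ |>.1
    (key ▸ (h _ (σ.preimage_mono hV)).comp (ConcreteCategory.bijective_of_isIso (σ.app V)))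

/-- Sections over an open of a direct sum are determined by their components. -/
theorem biprod_sec_eq {A B : Z.Modules} {V : Z.Opens} (w : Γ(A ⊞ B, V)) :
    (biprod.inl : A ⟶ A ⊞ B).app V ((biprod.fst : A ⊞ B ⟶ A).app V w) +
      (biprod.inr : B ⟶ A ⊞ B).app V ((biprod.snd : A ⊞ B ⟶ B).app V w) = w :=
  congr(($(biprod.total (X := A) (Y := B))).app V w)

theorem comp_sec_eq {M N K : Z.Modules} {a : M ⟶ N} {b : N ⟶ K} {c : M ⟶ K} (h : a ≫ b = c) (V : Z.Opens)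
    (x : Γ(M, V)) : b.app V (a.app V x) = c.app V x :=
  congr(($h).app V x)

/-- A map into a direct sum is bijective on sections where one component is and the other vanishes. -/
theorem bijective_lift_left {M A B : Z.Modules} (f : M ⟶ A) (g : M ⟶ B) (V : Z.Opens)
    (hf : Function.Bijective (f.app V)) (hB : Subsingleton Γ(B, V)) :
    Function.Bijective ((biprod.lift f g).app V) := by
  refine ⟨fun a b h => hf.1 ?_, fun w => ?_⟩
  · rw [← comp_sec_eq (biprod.lift_fst f g) V a, ← comp_sec_eq (biprod.lift_fst f g) V b, h]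
  · obtain ⟨m, hm⟩ := hf.2 ((biprod.fst : A ⊞ B ⟶ A).app V w)
    refine ⟨m, ?_⟩
    rw [← biprod_sec_eq w, ← biprod_sec_eq ((biprod.lift f g).app V m), comp_sec_eq (biprod.lift_fst f g) V m, hm]
    congr 2
    exact Subsingleton.elim _ _

theorem bijective_lift_right {M A B : Z.Modules} (f : M ⟶ A) (g : M ⟶ B) (V : Z.Opens)
    (hg : Function.Bijective (g.app V)) (hA : Subsingleton Γ(A, V)) :
    Function.Bijective ((biprod.lift f g).app V) := by
  refine ⟨fun a b h => hg.1 ?_, fun w => ?_⟩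
  · rw [← comp_sec_eq (biprod.lift_snd f g) V a, ← comp_sec_eq (biprod.lift_snd f g) V b, h]
  · obtain ⟨m, hm⟩ := hg.2 ((biprod.snd : A ⊞ B ⟶ B).app V w)
    refine ⟨m, ?_⟩
    rw [← biprod_sec_eq w, ← biprod_sec_eq ((biprod.lift f g).app V m), comp_sec_eq (biprod.lift_snd f g) V m, hm]
    congr 2
    exact Subsingleton.elim _ _

theorem subsingleton_of_disjoint (σ : X ⟶ Z) [IsOpenImmersion σ] (M : X.Modules) {V : Z.Opens}
    (h : Disjoint V σ.opensRange) : Subsingleton Γ((Scheme.Modules.pushforward σ).obj M, V) := by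
  have hV : σ ⁻¹ᵁ V = ⊥ := eq_bot_iff.2 fun z hz => (Disjoint.le_bot h) ⟨hz, ⟨z, rfl⟩⟩
  have : Subsingleton Γ(X, σ ⁻¹ᵁ V) := by
    rw [hV]
    exact CommRingCat.subsingleton_of_isTerminal X.sheaf.isTerminalOfEmpty
  exact Module.subsingleton Γ(X, σ ⁻¹ᵁ V) Γ(M, σ ⁻¹ᵁ V)

/-- A module on a sum is the direct sum of its two parts. -/
theorem isIso_unit_lift (L : (X ⨿ X').Modules) (hL : PicF.IsInvertible L) :
    IsIso (biprod.lift ((Scheme.Modules.pullbackPushforwardAdjunction (coprod.inl : X ⟶ X ⨿ X')).unit.app L)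
      ((Scheme.Modules.pullbackPushforwardAdjunction (coprod.inr : X' ⟶ X ⨿ X')).unit.app L)) := by
  let a : X ⟶ X ⨿ X' := coprod.inl
  let b : X' ⟶ X ⨿ X' := coprod.inr
  have hd : Disjoint a.opensRange b.opensRange := (isCompl_opensRange_inl_inr X X').disjoint
  refine TwistLib.G.isIso_of_bijective_on _
    (fun t : ULift.{u} Bool => if t.down then a.opensRange else b.opensRange) (fun z => ?_) fun t V hV => ?_
  · rcases ((isCompl_opensRange_inl_inr X X').sup_eq_top.ge (show z ∈ (⊤ : (X ⨿ X').Opens) from trivial) :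
      _ ∈ _ ⊔ _) with h' | h'
    · exact ⟨⟨true⟩, h'⟩
    · exact ⟨⟨false⟩, h'⟩
  · obtain ⟨t⟩ := t
    cases t
    · exact bijective_lift_right _ _ V (bijective_pullSec_opensRange b hL V hV)
        (subsingleton_of_disjoint a _ (hd.symm.mono_left hV))
    · exact bijective_lift_left _ _ V (bijective_pullSec_opensRange a hL V hV)
        (subsingleton_of_disjoint b _ (hd.mono_left hV))

/-- Splitting maps: sections on one part extended by zero. -/
theorem exists_extension (L : (X ⨿ X').Modules) (hL : PicF.IsInvertible L) :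
    ∃ (wa : (Scheme.Modules.pushforward (coprod.inl : X ⟶ X ⨿ X')).obj
        ((Scheme.Modules.pullback (coprod.inl : X ⟶ X ⨿ X')).obj L) ⟶ L)
      (wb : (Scheme.Modules.pushforward (coprod.inr : X' ⟶ X ⨿ X')).obj
        ((Scheme.Modules.pullback (coprod.inr : X' ⟶ X ⨿ X')).obj L) ⟶ L),
      (∀ (V : (X ⨿ X').Opens) (m), pullSec (coprod.inl : X ⟶ X ⨿ X') (wa.app V m) = m) ∧
      (∀ (V : (X ⨿ X').Opens) (m), pullSec (coprod.inr : X' ⟶ X ⨿ X') (wa.app V m) = 0) ∧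
      (∀ (V : (X ⨿ X').Opens) (m), pullSec (coprod.inr : X' ⟶ X ⨿ X') (wb.app V m) = m) ∧
      (∀ (V : (X ⨿ X').Opens) (m), pullSec (coprod.inl : X ⟶ X ⨿ X') (wb.app V m) = 0) := by
  let ηa := (Scheme.Modules.pullbackPushforwardAdjunction (coprod.inl : X ⟶ X ⨿ X')).unit.app L
  let ηb := (Scheme.Modules.pullbackPushforwardAdjunction (coprod.inr : X' ⟶ X ⨿ X')).unit.app L
  have := isIso_unit_lift L hL
  let w := inv (biprod.lift ηa ηb)
  have haa : (biprod.inl ≫ w) ≫ ηa = 𝟙 _ := by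
    rw [Category.assoc, ← biprod.lift_fst ηa ηb, IsIso.inv_hom_id_assoc, biprod.inl_fst]
  have hab : (biprod.inl ≫ w) ≫ ηb = 0 := by
    rw [Category.assoc, ← biprod.lift_snd ηa ηb, IsIso.inv_hom_id_assoc, biprod.inl_snd]
  have hbb : (biprod.inr ≫ w) ≫ ηb = 𝟙 _ := by
    rw [Category.assoc, ← biprod.lift_snd ηa ηb, IsIso.inv_hom_id_assoc, biprod.inr_snd]
  have hba : (biprod.inr ≫ w) ≫ ηa = 0 := by
    rw [Category.assoc, ← biprod.lift_fst ηa ηb, IsIso.inv_hom_id_assoc, biprod.inr_fst]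
  exact ⟨biprod.inl ≫ w, biprod.inr ≫ w, fun V m => comp_sec_eq haa V m, fun V m => comp_sec_eq hab V m,
    fun V m => comp_sec_eq hbb V m, fun V m => comp_sec_eq hba V m⟩

/-- The sections of a module that come from a component, as a linear map. -/
noncomputable def appLin {M N : Y.Modules} (a : M ⟶ N) (U : Y.Opens) : Γ(M, U) →ₗ[Γ(Y, U)] Γ(N, U) where
  toFun x := a.app U x
  map_add' x y := map_add (a.app U).hom x y
  map_smul' r x := Scheme.Modules.Hom.app_smul a r x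

variable {L : Z.Modules} {q : Z ⟶ Y} {E E₂ : Y.Modules}

/-- The cover condition over the image of one part. -/
theorem exists_gen_on_part (a : X ⟶ Z) [IsOpenImmersion a] (hL : PicF.IsInvertible L) {k : X ⟶ Y} (hk : a ≫ q = k)
    (t : E ⟶ (Scheme.Modules.pushforward k).obj ((Scheme.Modules.pullback a).obj L))
    (s : E₂ ⟶ (Scheme.Modules.pushforward q).obj L) (c : E ⟶ E₂)
    (hs : ∀ (U : Y.Opens) (e : Γ(E, U)) (hle : k ⁻¹ᵁ U ≤ a ⁻¹ᵁ (q ⁻¹ᵁ U)),
      t.app U e = resM _ hle (pullSec a (show Γ(L, q ⁻¹ᵁ U) from s.app U (c.app U e))))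
    (hcov : ∀ x : X, ∃ (U : Y.Opens) (_ : IsAffineOpen U) (e : Γ(E, U)) (W : X.Opens)
      (hW : W ≤ k ⁻¹ᵁ U), x ∈ W ∧ IsGen _ W (resM _ hW (t.app U e))) (x : X) :
    ∃ (U : Y.Opens) (_ : IsAffineOpen U) (e : Γ(E₂, U)) (W : Z.Opens) (hW : W ≤ q ⁻¹ᵁ U),
      a x ∈ W ∧ IsGen L W (resM L hW (s.app U e)) := by
  subst hk
  obtain ⟨U, hU, e, W, hW, hxW, hg⟩ := hcov x
  have hW' : a ''ᵁ W ≤ q ⁻¹ᵁ U := by
    rintro _ ⟨y, hy, rfl⟩
    exact hW hy
  refine ⟨U, hU, c.app U e, a ''ᵁ W, hW', ⟨x, hxW, rfl⟩, isGen_of_pullSec a hL (a.image_le_opensRange W) _ ?_⟩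
  rw [← resM_pullSec]
  have h1 := hg.restrict (a.preimage_image_eq W).le
  refine isGen_congr ?_ h1
  refine (congrArg _ (congrArg _ (hs U e le_rfl))).trans ?_
  exact (resM_resM _ _ _ _).trans (resM_resM _ _ _ _)

/-- An immersion on one part lands in opens whose preimages stay in the part. -/
theorem isImmersion_part_open (a : X ⟶ Z) (b : X' ⟶ Z) [IsOpenImmersion a] [IsOpenImmersion b]
    (hcompl : IsCompl a.opensRange b.opensRange) {𝒮 : RelProj.QCGrAlg Y} {j : E₂ ⟶ 𝒮.toModule}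
    {P : Scheme.{u}} {p : P ⟶ Y}
    {chart : ∀ (U : Y.Opens) (hU : IsAffineOpen U), ((p ⁻¹ᵁ U : P.Opens) : Scheme.{u}) ≅ Proj (𝒮.deg U hU)}
    {O1 : P.Modules}
    {lam : ∀ (U : Y.Opens) (hU : IsAffineOpen U),
      O1 ⟶ (Scheme.Modules.pushforward (RelProj.emb p chart U hU)).obj (GrTwist.twist (𝒮.deg U hU) 1)}
    {φ : E₂ ⟶ (Scheme.Modules.pushforward p).obj O1} (D : PBundle E₂ 𝒮 j p chart O1 lam φ)
    {s : E₂ ⟶ (Scheme.Modules.pushforward q).obj L}
    {r : Z ⟶ P} {hr : r ≫ p = q} {τ : (Scheme.Modules.pullback r).obj O1 ≅ L} (hτ : Classifies φ q s r hr τ)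
    (hL : PicF.IsInvertible L) {U : Y.Opens} (hU : IsAffineOpen U) (e : Γ(E₂, U))
    (h0 : pullSec b (show Γ(L, q ⁻¹ᵁ U) from s.app U e) = 0) [IsImmersion (a ≫ r)] :
    IsImmersion ((r ⁻¹ᵁ opn j p chart hU e).ι ≫ r) := by
  let W := r ⁻¹ᵁ opn j p chart hU e
  have hW : W ≤ q ⁻¹ᵁ U := (r.preimage_mono (D.opn_le hU _)).trans (le_of_over hr _)
  have hgen : IsGen L W (resM L hW (s.app U e)) := by
    refine isGen_congr ?_ (isGen_of_iso τ (isGen_pullSec r (D.isGen_phi hU e) D.invertible))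
    rw [← resM_pullSec, app_resM, hτ U hU e]
    exact resM_resM L _ _ _
  have hWb : b ⁻¹ᵁ W = ⊥ := by
    refine eq_bot_of_isGen_zero (isGen_pullSec b hgen hL) ?_
    rw [← resM_pullSec]
    exact (congrArg (resM _ _) h0).trans (map_zero _)
  have hWa : W ≤ a.opensRange := fun z hz => by
    rcases (hcompl.sup_eq_top.ge (show z ∈ (⊤ : Z.Opens) from trivial) : _ ∈ _ ⊔ _) with h | ⟨y, rfl⟩
    · exact h
    · exact (hWb.le (show y ∈ b ⁻¹ᵁ W from hz)).elim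
  let l : W.toScheme ⟶ X := IsOpenImmersion.lift a W.ι (by
    rw [Scheme.Opens.range_ι]
    exact hWa)
  have hl : l ≫ a = W.ι := IsOpenImmersion.lift_fac _ _ _
  have : IsOpenImmersion (l ≫ a) := by rw [hl]; infer_instance
  have : IsOpenImmersion l := IsOpenImmersion.of_comp l a
  rw [← hl, Category.assoc]
  infer_instance

/-- The restriction of a classifying morphism to one part is an immersion. -/
theorem isImmersion_part (a : X ⟶ Z) [IsOpenImmersion a] {k : X ⟶ Y} (hk : a ≫ q = k)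
    {𝒮 : RelProj.QCGrAlg Y} {j : E ⟶ 𝒮.toModule} {P : Scheme.{u}} {p : P ⟶ Y}
    {chart : ∀ (U : Y.Opens) (hU : IsAffineOpen U), ((p ⁻¹ᵁ U : P.Opens) : Scheme.{u}) ≅ Proj (𝒮.deg U hU)}
    {O1 : P.Modules}
    {lam : ∀ (U : Y.Opens) (hU : IsAffineOpen U),
      O1 ⟶ (Scheme.Modules.pushforward (RelProj.emb p chart U hU)).obj (GrTwist.twist (𝒮.deg U hU) 1)}
    {φ : E ⟶ (Scheme.Modules.pushforward p).obj O1} (D : PBundle E 𝒮 j p chart O1 lam φ)
    {𝒮₂ : RelProj.QCGrAlg Y} {j₂ : E₂ ⟶ 𝒮₂.toModule} {P₂ : Scheme.{u}} {p₂ : P₂ ⟶ Y}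
    {chart₂ : ∀ (U : Y.Opens) (hU : IsAffineOpen U), ((p₂ ⁻¹ᵁ U : P₂.Opens) : Scheme.{u}) ≅ Proj (𝒮₂.deg U hU)}
    {O₂ : P₂.Modules}
    {lam₂ : ∀ (U : Y.Opens) (hU : IsAffineOpen U),
      O₂ ⟶ (Scheme.Modules.pushforward (RelProj.emb p₂ chart₂ U hU)).obj (GrTwist.twist (𝒮₂.deg U hU) 1)}
    {φ₂ : E₂ ⟶ (Scheme.Modules.pushforward p₂).obj O₂} (D₂ : PBundle E₂ 𝒮₂ j₂ p₂ chart₂ O₂ lam₂ φ₂)
    {t : E ⟶ (Scheme.Modules.pushforward k).obj ((Scheme.Modules.pullback a).obj L)}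
    {i : X ⟶ P} {hi : i ≫ p = k} {σ : (Scheme.Modules.pullback i).obj O1 ≅ (Scheme.Modules.pullback a).obj L}
    (hσ : Classifies φ k t i hi σ) [IsImmersion i]
    {s : E₂ ⟶ (Scheme.Modules.pushforward q).obj L}
    {r : Z ⟶ P₂} {hr : r ≫ p₂ = q} {τ : (Scheme.Modules.pullback r).obj O₂ ≅ L} (hτ : Classifies φ₂ q s r hr τ)
    (c : E ⟶ E₂)
    (hs : ∀ (U : Y.Opens) (e : Γ(E, U)) (hle : k ⁻¹ᵁ U ≤ a ⁻¹ᵁ (q ⁻¹ᵁ U)),
      t.app U e = resM _ hle (pullSec a (show Γ(L, q ⁻¹ᵁ U) from s.app U (c.app U e))))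
    (hcov : ∀ x : X, ∃ (U : Y.Opens) (_ : IsAffineOpen U) (e : Γ(E, U)) (W : X.Opens)
      (hW : W ≤ k ⁻¹ᵁ U), x ∈ W ∧ IsGen _ W (resM _ hW (t.app U e))) :
    IsImmersion (a ≫ r) := by
  subst hk
  let ηa := (Scheme.Modules.pullbackPushforwardAdjunction a).unit.app L
  let sa : E₂ ⟶ (Scheme.Modules.pushforward (a ≫ q)).obj ((Scheme.Modules.pullback a).obj L) :=
    s ≫ (Scheme.Modules.pushforward q).map ηa ≫
      (Scheme.Modules.pushforwardComp a q).hom.app ((Scheme.Modules.pullback a).obj L)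
  have hsa : ∀ (U : Y.Opens) (e : Γ(E₂, U)), sa.app U e = pullSec a (show Γ(L, q ⁻¹ᵁ U) from s.app U e) :=
    fun U e => rfl
  obtain ⟨τa, hτa⟩ := hτ.comp a rfl (Iso.refl _) sa fun U _ e hle => by
    rw [hsa]
    exact (resM_self _ _ _).symm
  refine isImmersion_of_dominates D D₂ hσ hτa fun x => ?_
  obtain ⟨U, hU, e, W, hW, hxW, hg⟩ := hcov x
  have heq : ∀ e' : Γ(E, U), sa.app U (appLin c U e') = t.app U e' := fun e' => by
    exact (hsa U _).trans ((hs U e' le_rfl).trans (resM_self _ _ _)).symm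
  refine ⟨U, hU, e, appLin c U, ⟨W, hW, hxW, isGen_congr (by rw [heq]) hg⟩, fun W' hW' h => ?_⟩
  rw [heq] at h
  exact ⟨h, fun e' c' hc => by rw [heq, heq]; exact hc⟩

/-- A module which is very ample on both parts of a sum is very ample. -/
theorem isRelVeryAmple_coprod (q : X ⨿ X' ⟶ Y) (L : (X ⨿ X').Modules) (hL : PicF.IsInvertible L)
    (ha : RelProj.IsRelVeryAmple ((coprod.inl : X ⟶ X ⨿ X') ≫ q)
      ((Scheme.Modules.pullback (coprod.inl : X ⟶ X ⨿ X')).obj L))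
    (hb : RelProj.IsRelVeryAmple ((coprod.inr : X' ⟶ X ⨿ X') ≫ q)
      ((Scheme.Modules.pullback (coprod.inr : X' ⟶ X ⨿ X')).obj L)) :
    RelProj.IsRelVeryAmple q L := by
  let a : X ⟶ X ⨿ X' := coprod.inl
  let b : X' ⟶ X ⨿ X' := coprod.inr
  obtain ⟨E, hE, 𝒮, j, hj, P, p, chart, hP, O1, lam, hO1, i, hi, hip, ⟨eL⟩⟩ := ha
  obtain ⟨F, hF, 𝒯, k, hk, Q, p', chart', hQ, O1', lam', hO1', i', hi', hip', ⟨eL'⟩⟩ := hb
  obtain ⟨φ, D⟩ := exists_pBundle hE hj hP hO1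
  obtain ⟨φ', D'⟩ := exists_pBundle hF hk hQ hO1'
  obtain ⟨t, ht, hcov⟩ := exists_gen_classified D i hip eL.symm
  obtain ⟨t', ht', hcov'⟩ := exists_gen_classified D' i' hip' eL'.symm
  obtain ⟨wa, wb, haa, hab, hbb, hba⟩ := exists_extension L hL
  let sa : E ⟶ (Scheme.Modules.pushforward q).obj L :=
    t ≫ (Scheme.Modules.pushforwardComp a q).inv.app _ ≫ (Scheme.Modules.pushforward q).map wa
  let sb : F ⟶ (Scheme.Modules.pushforward q).obj L :=
    t' ≫ (Scheme.Modules.pushforwardComp b q).inv.app _ ≫ (Scheme.Modules.pushforward q).map wb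
  let s := biprod.desc sa sb
  have hinl : ∀ (U : Y.Opens) (e : Γ(E, U)), s.app U ((biprod.inl : E ⟶ E ⊞ F).app U e) = sa.app U e :=
    fun U e => comp_sec_eq (biprod.inl_desc sa sb) U e
  have hinr : ∀ (U : Y.Opens) (e : Γ(F, U)), s.app U ((biprod.inr : F ⟶ E ⊞ F).app U e) = sb.app U e :=
    fun U e => comp_sec_eq (biprod.inr_desc sa sb) U e
  have hsA : ∀ (U : Y.Opens) (e : Γ(E, U)) (hle : (a ≫ q) ⁻¹ᵁ U ≤ a ⁻¹ᵁ (q ⁻¹ᵁ U)),
      t.app U e = resM _ hle (pullSec a (show Γ(L, q ⁻¹ᵁ U) from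
        s.app U ((biprod.inl : E ⟶ E ⊞ F).app U e))) := fun U e hle => by
    rw [hinl]
    refine (haa (q ⁻¹ᵁ U) (t.app U e)).symm.trans ?_
    exact (resM_self _ hle _).symm
  have hsB : ∀ (U : Y.Opens) (e : Γ(F, U)) (hle : (b ≫ q) ⁻¹ᵁ U ≤ b ⁻¹ᵁ (q ⁻¹ᵁ U)),
      t'.app U e = resM _ hle (pullSec b (show Γ(L, q ⁻¹ᵁ U) from
        s.app U ((biprod.inr : F ⟶ E ⊞ F).app U e))) := fun U e hle => by
    rw [hinr]
    refine (hbb (q ⁻¹ᵁ U) (t'.app U e)).symm.trans ?_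
    exact (resM_self _ hle _).symm
  have := hE
  have := hF
  have hcompl := isCompl_opensRange_inl_inr X X'
  have hcov₂ : ∀ z : (X ⨿ X' : Scheme.{u}), ∃ (U : Y.Opens) (_ : IsAffineOpen U) (e : Γ(E ⊞ F, U))
      (W : (X ⨿ X').Opens) (hW : W ≤ q ⁻¹ᵁ U), z ∈ W ∧ IsGen L W (resM L hW (s.app U e)) := fun z => by
    rcases (hcompl.sup_eq_top.ge (show z ∈ (⊤ : (X ⨿ X').Opens) from trivial) : _ ∈ _ ⊔ _) with ⟨x, rfl⟩ | ⟨x, rfl⟩
    · exact exists_gen_on_part a hL rfl t s _ hsA hcov x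
    · exact exists_gen_on_part b hL rfl t' s _ hsB hcov' x
  refine isRelVeryAmple_of_classifies q L (E ⊞ F) (Coherent.isQCoh_biprod E F) s hcov₂
    fun 𝒮₂ j₂ P₂ p₂ chart₂ O₂ lam₂ φ₂ D₂ r hr τ hτ => ?_
  have : IsImmersion (a ≫ r) := isImmersion_part a rfl D D₂ ht hτ biprod.inl hsA hcov
  have : IsImmersion (b ≫ r) := isImmersion_part b rfl D' D₂ ht' hτ biprod.inr hsB hcov'
  choose U₁ hU₁ e₁ W₁ hW₁ hx₁ hg₁ using hcov
  choose U₂ hU₂ e₂ W₂ hW₂ hx₂ hg₂ using hcov'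
  refine isImmersion_of_cover r (fun x : X ⊕ X' => x.elim
      (fun x => opn j₂ p₂ chart₂ (hU₁ x) ((biprod.inl : E ⟶ E ⊞ F).app (U₁ x) (e₁ x)))
      (fun x => opn j₂ p₂ chart₂ (hU₂ x) ((biprod.inr : F ⟶ E ⊞ F).app (U₂ x) (e₂ x))))
    (fun z => ?_) fun x => ?_
  · rcases (hcompl.sup_eq_top.ge (show z ∈ (⊤ : (X ⨿ X').Opens) from trivial) : _ ∈ _ ⊔ _) with ⟨x, rfl⟩ | ⟨x, rfl⟩
    · refine ⟨.inl x, ?_⟩
      have hW' : a ''ᵁ W₁ x ≤ q ⁻¹ᵁ U₁ x := by
        rintro _ ⟨y, hy, rfl⟩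
        exact hW₁ x hy
      have hg : IsGen L (a ''ᵁ W₁ x) (resM L hW' (s.app (U₁ x) ((biprod.inl : E ⟶ E ⊞ F).app (U₁ x) (e₁ x)))) := by
        refine isGen_of_pullSec a hL (a.image_le_opensRange _) _ ?_
        rw [← resM_pullSec]
        refine isGen_congr ?_ ((hg₁ x).restrict (a.preimage_image_eq (W₁ x)).le)
        refine (congrArg _ (congrArg _ (hsA _ _ le_rfl))).trans ?_
        exact (resM_resM _ _ _ _).trans (resM_resM _ _ _ _)
      exact (range_le_iff r _).1 (good_of_classifies D₂ hτ (hU₁ x) _ hW' hg).range ⟨x, hx₁ x, rfl⟩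
    · refine ⟨.inr x, ?_⟩
      have hW' : b ''ᵁ W₂ x ≤ q ⁻¹ᵁ U₂ x := by
        rintro _ ⟨y, hy, rfl⟩
        exact hW₂ x hy
      have hg : IsGen L (b ''ᵁ W₂ x) (resM L hW' (s.app (U₂ x) ((biprod.inr : F ⟶ E ⊞ F).app (U₂ x) (e₂ x)))) := by
        refine isGen_of_pullSec b hL (b.image_le_opensRange _) _ ?_
        rw [← resM_pullSec]
        refine isGen_congr ?_ ((hg₂ x).restrict (b.preimage_image_eq (W₂ x)).le)
        refine (congrArg _ (congrArg _ (hsB _ _ le_rfl))).trans ?_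
        exact (resM_resM _ _ _ _).trans (resM_resM _ _ _ _)
      exact (range_le_iff r _).1 (good_of_classifies D₂ hτ (hU₂ x) _ hW' hg).range ⟨x, hx₂ x, rfl⟩
  · rcases x with x | x
    · exact isImmersion_part_open a b hcompl D₂ hτ hL (hU₁ x) _ (by rw [hinl]; exact hab _ _)
    · exact isImmersion_part_open b a hcompl.symm D₂ hτ hL (hU₂ x) _ (by rw [hinr]; exact hba _ _)

/-- Very ampleness on a sum. -/
theorem isRelVeryAmple_coprod_iff (q : X ⨿ X' ⟶ Y) (L : (X ⨿ X').Modules) (hL : PicF.IsInvertible L) :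
    RelProj.IsRelVeryAmple q L ↔
      RelProj.IsRelVeryAmple ((coprod.inl : X ⟶ X ⨿ X') ≫ q)
          ((Scheme.Modules.pullback (coprod.inl : X ⟶ X ⨿ X')).obj L) ∧
        RelProj.IsRelVeryAmple ((coprod.inr : X' ⟶ X ⨿ X') ≫ q)
          ((Scheme.Modules.pullback (coprod.inr : X' ⟶ X ⨿ X')).obj L) :=
  ⟨fun h => ⟨isRelVeryAmple_of_immersion coprod.inl rfl h (Iso.refl _),
    isRelVeryAmple_of_immersion coprod.inr rfl h (Iso.refl _)⟩,
    fun h => isRelVeryAmple_coprod q L hL h.1 h.2⟩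

end Groth.Agent.RelVALib
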