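import Groth.Agent.RelVALib.ChartTwist
import Groth.Agent.AmpleLib.CounitEpi
import Groth.Agent.AmpleLib.Generated
import Groth.Agent.AmpleLib.RestrictTensor
import Groth.Agent.Desc19b.GGFpqc
import Groth.Agent.TwistLib.G.Inv

/-!
# Eventual surjectivity of the counit on a relative homogeneous spectrum
-/

set_option autoImplicit false
set_option backward.isDefEq.respectTransparency.types false

universe u

open AlgebraicGeometry CategoryTheory CategoryTheory.Limits TopologicalSpace Opposite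
open Groth.Agent.Coherent Groth.Agent.PicLib Groth.Agent.AmpleLib Groth.Agent.TwistLib

namespace Groth.Agent.RelVALib

variable {Y P : Scheme.{u}} {𝒮 : RelProj.QCGrAlg Y} {p : P ⟶ Y}
  {chart : ∀ (U : Y.Opens) (hU : IsAffineOpen U), (((p ⁻¹ᵁ U : P.Opens) : Scheme.{u}) ≅ Proj (𝒮.deg U hU))}

/-- `O(1)` on a chart is ample. -/
theorem isAmple_chart_twist_one (hgen : 𝒮.IsGenDegOne) (hft : 𝒮.IsFTDeg 1) (U : Y.Opens) (hU : IsAffineOpen U) :
    CohB1.IsAmple (GrTwist.twist (𝒮.deg U hU) 1) := by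
  obtain ⟨T, hT, hTgen⟩ := hft U hU
  refine G.isAmple_twist_one T (fun f hf => hT hf) (le_antisymm
    ((RelConeLib.irrelevant_le_span_degOne 𝒮 hgen U hU).trans (Ideal.span_le.2 fun x hx => ?_))
    (Ideal.span_le.2 fun x hx => HomogeneousIdeal.mem_irrelevant_of_mem _ Nat.one_pos (hT hx)))
  obtain ⟨c, rfl⟩ := hTgen x hx
  exact Ideal.sum_mem _ fun t ht => Ideal.mul_mem_left _ _ (Ideal.subset_span ht)

/-- Twists are generated over the members of a finite affine cover of the base. -/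
theorem exists_gg_cover [CompactSpace Y] (hgen : 𝒮.IsGenDegOne) (hft : 𝒮.IsFTDeg 1) (F : P.Modules)
    (hFq : Coh.IsQCoh F) (hFt : CohB1.IsFT F) :
    ∃ (t : Finset Y.affineOpens) (k₀ : ℕ), (∀ y : Y, ∃ V ∈ t, y ∈ V.1) ∧ ∀ k, k₀ ≤ k → ∀ M : P.Modules, PicF.IsInvertible M →
      (∀ (U : Y.Opens) (hU : IsAffineOpen U),
        Nonempty ((Scheme.Modules.pullback (RelProj.emb p chart U hU)).obj M ≅ GrTwist.twist (𝒮.deg U hU) (k : ℤ))) →
      ∀ V ∈ t, Curv2.IsGloballyGenerated ((CohB1.tensorMod F M).restrict (p ⁻¹ᵁ V.1).ι) := by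
  classical
  have key : ∀ V : Y.affineOpens, ∃ N : ℕ, ∀ k, N ≤ k → ∀ M : P.Modules, PicF.IsInvertible M →
      Nonempty ((Scheme.Modules.pullback (RelProj.emb p chart V.1 V.2)).obj M ≅ GrTwist.twist (𝒮.deg V.1 V.2) (k : ℤ)) →
      Curv2.IsGloballyGenerated ((CohB1.tensorMod F M).restrict (p ⁻¹ᵁ V.1).ι) := fun V => by
    let e := RelProj.emb p chart V.1 V.2
    obtain ⟨N, hN⟩ := eventually_globallyGenerated (isAmple_chart_twist_one hgen hft V.1 V.2) _
      (isCoh_restrict e F ⟨hFq, hFt⟩)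
    refine ⟨N, fun k hk M hM ⟨φ⟩ => ?_⟩
    obtain ⟨ψ⟩ := G.nonempty_twist_pow_iso (degOneCov hgen V.1 V.2) k
    have := isIso_restrictTensorHom e F M hM
    have h1 : Curv2.IsGloballyGenerated ((CohB1.tensorMod F M).restrict e) :=
      globallyGenerated_of_iso
        (tensorIso (Iso.refl _) (ψ.symm ≪≫ φ.symm ≪≫ (restrictIsoPullback e M).symm) ≪≫ asIso (restrictTensorHom e F M))
        (hN k hk)
    refine globallyGenerated_of_iso ?_ (Desc19b.isGloballyGenerated_pullback (chart V.1 V.2).hom h1)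
    exact (Scheme.Modules.pullback (chart V.1 V.2).hom).mapIso (restrictIsoPullback e _) ≪≫
      (Scheme.Modules.pullbackComp (chart V.1 V.2).hom e).app _ ≪≫
      (Scheme.Modules.pullbackCongr (show (chart V.1 V.2).hom ≫ e = (p ⁻¹ᵁ V.1).ι by simp [e, RelProj.emb])).app _ ≪≫
      (restrictIsoPullback _ _).symm
  choose N hN using key
  obtain ⟨t, ht⟩ := isCompact_univ.elim_finite_subcover (fun V : Y.affineOpens => (V.1 : Set Y))
    (fun V => V.1.2) fun y _ => by
      obtain ⟨V, hV, hyV, -⟩ := exists_isAffineOpen_mem_and_subset (x := y) (U := ⊤) trivial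
      exact Set.mem_iUnion.2 ⟨⟨V, hV⟩, hyV⟩
  refine ⟨t, t.sup N, fun y => ?_, fun k hk M hM hφ V hV => hN V k ((Finset.le_sup hV).trans hk) M hM (hφ V.1 V.2)⟩
  obtain ⟨V, hVt, hyV⟩ := Set.mem_iUnion₂.1 (ht (Set.mem_univ y))
  exact ⟨V, hVt, hyV⟩

/-- The counit at `F(n)` is an epimorphism for large `n`. -/
theorem exists_epi_counit [CompactSpace Y] (hgen : 𝒮.IsGenDegOne) (hft : 𝒮.IsFTDeg 1) (F : P.Modules)
    (hFq : Coh.IsQCoh F) (hFt : CohB1.IsFT F) :
    ∃ k₀ : ℕ, ∀ k, k₀ ≤ k → ∀ M : P.Modules, PicF.IsInvertible M →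
      (∀ (U : Y.Opens) (hU : IsAffineOpen U),
        Nonempty ((Scheme.Modules.pullback (RelProj.emb p chart U hU)).obj M ≅ GrTwist.twist (𝒮.deg U hU) (k : ℤ))) →
      Epi ((Scheme.Modules.pullbackPushforwardAdjunction p).counit.app (CohB1.tensorMod F M)) := by
  obtain ⟨t, k₀, hcov, h⟩ := exists_gg_cover (p := p) (chart := chart) hgen hft F hFq hFt
  refine ⟨k₀, fun k hk M hM hφ => epi_counit_of_globallyGenerated p _ fun x => ?_⟩
  obtain ⟨V, hVt, hxV⟩ := hcov (p x)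
  exact ⟨V.1, hxV, h k hk M hM hφ V hVt⟩

end Groth.Agent.RelVALib
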