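import Groth.Agent.RelVALib.DirImgFull

/-!
# The direct image by an affine morphism reflects isomorphisms of quasi-coherent modules
-/

set_option autoImplicit false
set_option backward.isDefEq.respectTransparency false

universe u

open AlgebraicGeometry CategoryTheory CategoryTheory.Limits TopologicalSpace Opposite
open Groth.Agent.Coherent Groth.Agent.PicLib

namespace Groth.Agent.RelVALib

variable {X S : Scheme.{u}} (f : X ⟶ S) [IsAffineHom f]

theorem isIso_of_isIso_push {M N : X.Modules} [Coh.IsQCoh M] [Coh.IsQCoh N] (v : M ⟶ N)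
    (h : IsIso ((Scheme.Modules.pushforward f).map v)) : IsIso v := by
  have hb : ∀ U : S.Opens, Function.Bijective (v.app (f ⁻¹ᵁ U)) := fun U =>
    (ConcreteCategory.isIso_iff_bijective _).1 (Scheme.Modules.Hom.isIso_iff_isIso_app.1 h U)
  have hcomp : ∀ {A B C : X.Modules} (a : A ⟶ B) (b : B ⟶ C) (W : X.Opens) (m : Γ(A, W)),
      (a ≫ b).app W m = b.app W (a.app W m) := fun _ _ _ _ => rfl
  have : Mono v := by
    have := isQCoh_kernel v
    refine Preadditive.mono_of_kernel_zero (hom_eq_zero_of_affine_cover _ fun x => ?_)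
    obtain ⟨U, hU, hxU⟩ := affine_preimage_cover f x
    refine ⟨f ⁻¹ᵁ U, hxU, hU.preimage f, fun m => (hb U).1 ?_⟩
    rw [← hcomp, kernel.condition, map_zero]
    rfl
  have : Epi v := by
    refine Preadditive.epi_of_cancel_zero _ fun {Q} d hd => hom_eq_zero_of_affine_cover d fun x => ?_
    obtain ⟨U, hU, hxU⟩ := affine_preimage_cover f x
    refine ⟨f ⁻¹ᵁ U, hxU, hU.preimage f, fun m => ?_⟩
    obtain ⟨a, rfl⟩ := (hb U).2 m
    rw [← hcomp, hd]
    rfl
  exact isIso_of_mono_of_epi v

end Groth.Agent.RelVALib
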