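import Groth.Agent.RelVALib.ChowOpen
import Groth.Agent.ValExtLib.Criterion
import Groth.Agent.ValExtLib.Closure

/-!
# Discrete valuation rings of the function field test properness
-/

set_option autoImplicit false
set_option backward.isDefEq.respectTransparency.types false

universe u

open CategoryTheory CategoryTheory.Limits AlgebraicGeometry TopologicalSpace IsLocalRing

namespace Groth.Agent.RelVALib

/-- Two opens of immersion identify the local rings of one integral scheme inside the function field of another. -/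
theorem exists_stalk_to_functionField {W X Z : Scheme.{u}} [IsIntegral W] [IsIntegral X] [IsIntegral Z] (a : W ⟶ X)
    [IsOpenImmersion a] (c : W ⟶ Z) [IsOpenImmersion c] (z : Z) :
    ∃ (α : Z.presheaf.stalk z ⟶ X.functionField) (κ : Spec X.functionField ⟶ W),
      κ ≫ a = X.fromSpecStalk (genericPoint X) ∧ κ ≫ c = Spec.map α ≫ Z.fromSpecStalk z ∧
        Function.Injective α.hom ∧
        ∀ G : Subfield X.functionField, (∀ b, α.hom b ∈ G) → ∀ v : X.functionField, v ∈ G := by
  have ha : a (genericPoint W) = genericPoint X := genericPoint_eq_of_isOpenImmersion a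
  have hc : c (genericPoint W) = genericPoint Z := genericPoint_eq_of_isOpenImmersion c
  have hsa : a (genericPoint W) ⤳ genericPoint X := ha ▸ specializes_rfl
  have hsa' : genericPoint X ⤳ a (genericPoint W) := ha ▸ specializes_rfl
  have hsc : c (genericPoint W) ⤳ genericPoint Z := hc ▸ specializes_rfl
  have hsc' : genericPoint Z ⤳ c (genericPoint W) := hc ▸ specializes_rfl
  have : IsIso (X.presheaf.stalkSpecializes hsa) :=
    ⟨X.presheaf.stalkSpecializes hsa', by simp, by simp⟩
  have : IsIso (Z.presheaf.stalkSpecializes hsc) :=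
    ⟨Z.presheaf.stalkSpecializes hsc', by simp, by simp⟩
  let A : X.functionField ⟶ W.functionField := X.presheaf.stalkSpecializes hsa ≫ a.stalkMap (genericPoint W)
  let C : Z.functionField ⟶ W.functionField := Z.presheaf.stalkSpecializes hsc ≫ c.stalkMap (genericPoint W)
  let ι : Z.presheaf.stalk z ⟶ Z.functionField := Z.presheaf.stalkSpecializes (genericPoint_specializes z)
  have : IsIso A := inferInstanceAs (IsIso (_ ≫ _))
  have : IsIso C := inferInstanceAs (IsIso (_ ≫ _))
  refine ⟨ι ≫ C ≫ inv A, Spec.map (inv A) ≫ W.fromSpecStalk (genericPoint W), ?_, ?_, ?_, fun G hG v => ?_⟩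
  · rw [Category.assoc, ← Scheme.SpecMap_stalkMap_fromSpecStalk, ← Scheme.SpecMap_stalkSpecializes_fromSpecStalk hsa,
      ← Spec.map_comp_assoc, ← Spec.map_comp_assoc, ← Category.assoc (X.presheaf.stalkSpecializes hsa)]
    show Spec.map (A ≫ inv A) ≫ _ = _
    simp
  · rw [Category.assoc, ← Scheme.SpecMap_stalkMap_fromSpecStalk,
      ← Scheme.SpecMap_stalkSpecializes_fromSpecStalk hsc]
    simp only [ι, C, Spec.map_comp, Category.assoc, Scheme.SpecMap_stalkSpecializes_fromSpecStalk]
  · exact (ConcreteCategory.bijective_of_isIso (C ≫ inv A)).injective.comp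
      (IsFractionRing.injective (Z.presheaf.stalk z) Z.functionField)
  · obtain ⟨w, rfl⟩ := (ConcreteCategory.bijective_of_isIso (C ≫ inv A)).surjective v
    obtain ⟨p, q, hq, rfl⟩ := IsFractionRing.div_surjective (Z.presheaf.stalk z) w
    rw [map_div₀]
    exact div_mem (hG p) (hG q)

/-- Discrete valuation rings of the function field suffice for properness over a locally noetherian base. -/
theorem isProper_of_dvrs {X Y : Scheme.{u}} [IsIntegral X] [X.IsSeparated] [Y.IsSeparated] [IsLocallyNoetherian Y]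
    (f : X ⟶ Y) [LocallyOfFiniteType f] [QuasiCompact f]
    (h : ∀ (R : ValuationSubring X.functionField), IsDiscreteValuationRing R →
      ∀ (y : Y) (hy : f (genericPoint X) ⤳ y),
        ((∀ a, (Y.presheaf.stalkSpecializes hy ≫ f.stalkMap (genericPoint X)).hom a ∈ R) ∧
          ∀ a ∈ maximalIdeal (Y.presheaf.stalk y),
            R.valuation ((Y.presheaf.stalkSpecializes hy ≫ f.stalkMap (genericPoint X)).hom a) < 1) →
        ∃ x : X, ∀ a : X.presheaf.stalk x, algebraMap (X.presheaf.stalk x) X.functionField a ∈ R) :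
    IsProper f := by
  have : IsSeparated f :=
    have : IsSeparated (f ≫ terminal.from Y) := by rw [terminal.comp_from]; infer_instance
    IsSeparated.of_comp f (terminal.from Y)
  refine IsZariskiLocalAtTarget.of_iSup_eq_top (P := @IsProper) (fun V : Y.affineOpens => V.1)
    (iSup_affineOpens_eq_top Y) fun V => ?_
  rcases isEmpty_or_nonempty (f ⁻¹ᵁ V.1 : Scheme.{u}) with hE | hE
  · infer_instance
  have hVa : IsAffine (V.1 : Scheme.{u}) := V.2
  have hVn : IsLocallyNoetherian (V.1 : Scheme.{u}) := LocallyOfFiniteType.isLocallyNoetherian V.1.ι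
  have : AlgebraicGeometry.IsNoetherian (V.1 : Scheme.{u}) := {}
  have : Nonempty (f ⁻¹ᵁ V.1) := hE
  have hXV : IsIntegral (f ⁻¹ᵁ V.1 : Scheme.{u}) := isIntegral_of_isOpenImmersion (f ⁻¹ᵁ V.1).ι
  obtain ⟨X', π, hπ, hqp, hπs, ⟨U, hUd, hUd', hiso⟩, hred, hirr, -⟩ :=
    exists_chow_dense (f ∣_ V.1) (Or.inl inferInstance)
  have := hirr inferInstance
  have := hred inferInstance
  have : IsIntegral X' := isIntegral_of_irreducibleSpace_of_isReduced X'
  have := isProper_of_isProjective hπ
  obtain ⟨M, E, hft, 𝒮, j₀, Q, p, chart, O1, lam, φ₀, i, D, hi, hip, -⟩ :=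
    exists_hasBundleImmersion_of_isQuasiProjective (Or.inl ⟨inferInstance, inferInstance⟩) hqp
  have hp : IsProper p := isProper_bundle D.hE hft D.hj D.hP
  have := hi
  have : LocallyOfFiniteType (π ≫ f ∣_ V.1) := hqp.1
  have : QuasiCompact (i ≫ p) := by rw [hip]; exact hqp.2.1
  have : QuasiCompact i := QuasiCompact.of_comp i p
  let j := i.toImage
  have hjq : j ≫ i.imageι ≫ p = π ≫ f ∣_ V.1 := by rw [← Category.assoc, Scheme.Hom.toImage_imageι, hip]
  have := isSchemeTheoreticallyDominant_toImage i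
  have : IsReduced i.image := IsSchemeTheoreticallyDominant.isReduced j
  have : IrreducibleSpace i.image := by
    have hr : IsIrreducible (Set.range j) := by
      rw [← Set.image_univ]
      exact (IrreducibleSpace.isIrreducible_univ _).image j j.continuous.continuousOn
    exact (irreducibleSpace_def _).2 ((j.denseRange.closure_eq).subst (motive := IsIrreducible) hr.closure)
  have : IsIntegral i.image := isIntegral_of_irreducibleSpace_of_isReduced i.image
  have : IsLocallyNoetherian i.image := LocallyOfFiniteType.isLocallyNoetherian (i.imageι ≫ p)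
  suffices hj : Surjective j by
    have : Epi j.base := (TopCat.epi_iff_surjective _).2 hj.surj
    have : IsIso j := IsOpenImmersion.isIso j
    have : IsProper (π ≫ f ∣_ V.1) := by rw [← hjq]; infer_instance
    exact { toUniversallyClosed := UniversallyClosed.of_comp_surjective π (f ∣_ V.1) }
  refine ⟨fun z => ?_⟩
  by_contra hz
  -- the common open
  have : Nonempty (π ⁻¹ᵁ U) := hUd'.nonempty.to_subtype
  have := isIntegral_of_isOpenImmersion (π ⁻¹ᵁ U).ι
  let a : (π ⁻¹ᵁ U : Scheme.{u}) ⟶ X := (π ∣_ U) ≫ U.ι ≫ (f ⁻¹ᵁ V.1).ι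
  let c : (π ⁻¹ᵁ U : Scheme.{u}) ⟶ i.image := (π ⁻¹ᵁ U).ι ≫ j
  obtain ⟨α, κ, hκa, hκc, hα, hgen⟩ := exists_stalk_to_functionField a c z
  let _ : Algebra (i.image.presheaf.stalk z) X.functionField := α.hom.toAlgebra
  have hB : ¬ IsField (i.image.presheaf.stalk z) := fun hB => by
    letI := hB.toField
    obtain ⟨t, ht⟩ : genericPoint i.image ∈ Set.range (i.image.fromSpecStalk z) := by
      rw [Scheme.range_fromSpecStalk]
      exact genericPoint_specializes z
    rw [(inferInstance : Subsingleton (PrimeSpectrum (i.image.presheaf.stalk z))).elim t (closedPoint _),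
      Scheme.fromSpecStalk_closedPoint] at ht
    exact hz ⟨(π ⁻¹ᵁ U).ι (genericPoint (π ⁻¹ᵁ U : Scheme.{u})),
      ((Scheme.Hom.comp_apply _ j _).symm.trans (genericPoint_eq_of_isOpenImmersion c)).trans ht.symm⟩
  obtain ⟨R, hR, hαR, hαm⟩ := ValExtLib.exists_dvr_dominating' (B := i.image.presheaf.stalk z) (L := X.functionField)
    hB hα ∅ fun G hG _ v => hgen G hG v
  let g : i.image.presheaf.stalk z ⟶ CommRingCat.of R := CommRingCat.ofHom (α.hom.codRestrict R.toSubring hαR)
  have : IsLocalHom g.hom := ⟨fun b hb => by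
    by_contra hu
    exact ((R.valuation_lt_one_iff _).mpr (hαm b hu) : g.hom b ∈ maximalIdeal R) hb⟩
  let φ : Spec (CommRingCat.of R) ⟶ i.image := Spec.map g ≫ i.image.fromSpecStalk z
  have hφz : φ (closedPoint R) = z := Groth.Agent.DVRDom.closedPoint_spec_comp g
  have hφgen : Spec.map (CommRingCat.ofHom R.subtype) ≫ φ = κ ≫ c := by
    rw [hκc, ← Spec.map_comp_assoc]
    rfl
  let φY : Spec (CommRingCat.of R) ⟶ Y := φ ≫ i.imageι ≫ p ≫ V.1.ι
  have hφY : Spec.map (CommRingCat.ofHom R.subtype) ≫ φY = X.fromSpecStalk (genericPoint X) ≫ f := by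
    rw [reassoc_of% hφgen, ← hκa]
    simp only [c, a, Category.assoc, reassoc_of% hjq, morphismRestrict_ι, morphismRestrict_ι_assoc]
  obtain ⟨hy, h1, h2⟩ := ValExtLib.exists_base_dominated_of_spec f R φY hφY
  obtain ⟨x, hx⟩ := h R hR _ hy ⟨h1, h2⟩
  obtain ⟨l, hl⟩ := ValExtLib.exists_spec_of_dominated R x hx
  have hlf : l ≫ f = φY :=
    ValExtLib.hom_ext_of_generic (CommRingCat.ofHom R.subtype) Subtype.coe_injective (by rw [reassoc_of% hl, hφY])
  have hlV : Set.range l ⊆ Set.range (f ⁻¹ᵁ V.1).ι := by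
    rw [Scheme.Opens.range_ι]
    rintro _ ⟨t, rfl⟩
    show f (l t) ∈ V.1
    rw [← Scheme.Hom.comp_apply, hlf]
    exact ((φ ≫ i.imageι ≫ p) t).2
  let l' := IsOpenImmersion.lift (f ⁻¹ᵁ V.1).ι l hlV
  let S : ValuativeCommSq π :=
    { R := R, K := X.functionField, i₁ := κ ≫ (π ⁻¹ᵁ U).ι, i₂ := l'
      commSq := ⟨by
        rw [← cancel_mono (f ⁻¹ᵁ V.1).ι]
        show ((κ ≫ (π ⁻¹ᵁ U).ι) ≫ π) ≫ _ = (Spec.map (CommRingCat.ofHom R.subtype) ≫ l') ≫ _
        simp only [Category.assoc, l', IsOpenImmersion.lift_fac, hl]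
        rw [← hκa]
        simp only [a, morphismRestrict_ι_assoc]⟩ }
  have hEx : ValuativeCriterion.Existence π :=
    ((iff_of_eq (congrFun (congrFun (congrFun UniversallyClosed.eq_valuativeCriterion X') _) π)).mp
      inferInstance).1
  obtain ⟨m, hm, -⟩ := (hEx S).exists_lift.some
  have : i.image.IsSeparated := ⟨by
    rw [show terminal.from i.image = i.imageι ≫ p ≫ terminal.from _ from terminal.hom_ext _ _]
    infer_instance⟩
  have hmj : m ≫ j = φ :=
    ValExtLib.hom_ext_of_generic (CommRingCat.ofHom R.subtype) Subtype.coe_injective (by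
      rw [hφgen, ← Category.assoc]
      exact (congrArg (· ≫ j) hm).trans (Category.assoc _ _ _))
  exact hz ⟨m (closedPoint R), by rw [← Scheme.Hom.comp_apply, hmj, hφz]⟩

end Groth.Agent.RelVALib
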