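import Groth.Agent.RelVALib.Projective
import Groth.Agent.AmpleLib.Generated
import Groth.Agent.AmpleLib.RestrictTensor
import Groth.Agent.Coherent.SubFTApps

/-!
# Twisted modules of finite type as quotients of pullbacks of modules of finite type
-/

set_option autoImplicit false
set_option linter.unusedSectionVars false
set_option linter.deprecated false
set_option backward.isDefEq.respectTransparency.types false
set_option maxHeartbeats 1000000

universe u

open AlgebraicGeometry CategoryTheory CategoryTheory.Limits TopologicalSpace Opposite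
open Groth.Agent.Coherent Groth.Agent.PicLib Groth.Agent.AmpleLib Groth.Agent.AssSch12

namespace Groth.Agent.RelVALib

variable {X Y Z : Scheme.{u}}

theorem GenOn_of_iso {M N : X.Modules} (e : M ≅ N) {U : X.Opens} {I : Type u} [Fintype I] {s : I → Γ(M, U)}
    (h : GenOn M U s) : GenOn N U fun i => e.hom.app U (s i) := by
  intro W hW a z hz
  obtain ⟨W', hle, hz', c, hc⟩ := h W hW (e.inv.app W a) z hz
  refine ⟨W', hle, hz', c, ?_⟩
  have h' := congrArg (e.hom.app W') hc
  rw [map_sum, app_resM] at h'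
  rw [show e.hom.app W (e.inv.app W a) = a from by
    show (e.inv ≫ e.hom).app W a = a
    rw [e.inv_hom_id]; rfl] at h'
  rw [h']
  exact Finset.sum_congr rfl fun i _ => by rw [Scheme.Modules.Hom.app_smul, app_resM]

/-- Twists of a module of finite type by an ample module are eventually generated by finitely many sections
near each point. -/
theorem eventually_genOn {L : X.Modules} (hL : CohB1.IsAmple L) (F : X.Modules) [Coh.IsQCoh F] (hF : CohB1.IsFT F) :
    ∃ N : ℕ, ∀ n, N ≤ n → ∀ x : X, ∃ (A : X.Opens) (r : ℕ)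
      (u : Fin r → Γ(CohB1.tensorMod F (CohB1.tensorPow L n), ⊤)),
      x ∈ A ∧ GenOn (CohB1.tensorMod F (CohB1.tensorPow L n)) A
        fun i : ULift.{u} (Fin r) => resM _ (le_top : A ≤ ⊤) (u i.down) := by
  classical
  obtain ⟨hLi, hc, -⟩ := isAmple_iff_affGlocus.1 hL
  have := hc
  have key : ∀ x : X, ∃ (A : X.Opens) (N : ℕ), x ∈ A ∧ ∀ n, N ≤ n → ∃ (r : ℕ)
      (u : Fin r → Γ(CohB1.tensorMod F (CohB1.tensorPow L n), ⊤)),
      GenOn (CohB1.tensorMod F (CohB1.tensorPow L n)) A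
        fun i : ULift.{u} (Fin r) => resM _ (le_top : A ≤ ⊤) (u i.down) := fun x => by
    obtain ⟨V, hxV, g, hg⟩ := exists_isGen hLi x
    obtain ⟨m, hm, b, hxb, hbV, hb⟩ := affGlocus_of_mem (x := x) (U := V) hL hxV
    let A := glocus _ b
    obtain ⟨r, f, hf⟩ := (Coherent.finite_sections F (Coherent.locallyFinGen_of_isFT F hF) hb).exists_fin
    have := fun i : Fin r => exists_twist_section hL F hm b (hg.restrict hbV) (f i)
    choose N hN using this
    refine ⟨A, Finset.univ.sup N, hxb, fun n hn => ?_⟩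
    have hN' := fun i => hN i n ((Finset.le_sup (Finset.mem_univ i)).trans hn)
    choose u h hh hu using hN'
    refine ⟨r, u, fun W hW a z hz => ?_⟩
    have hgA : IsGen _ A (powSec (resM L hbV g) n) := isGen_powSec (hg.restrict hbV) n
    obtain ⟨x₀, rfl⟩ := (bijective_tmul_gen (M := F) hgA W hW).2 a
    have hgen : GenOn F A fun i : ULift.{u} (Fin r) => f i.down := genOn_of_span_top F hb _ (by
      rw [← hf]; congr 1; exact Equiv.ulift.surjective.range_comp f)
    obtain ⟨W', hle, hzW', c, hc⟩ := hgen W hW x₀ z hz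
    choose d hd using fun i : Fin r =>
      ((hh i) W' (hle.trans hW)).2 (resM _ (hle.trans hW) (powSec (resM L hbV g) n))
    refine ⟨W', hle, hzW', fun i => c i * d i.down, ?_⟩
    rw [resM_tmul, hc, resM_resM]
    let Φ : Γ(F, W') →+ Γ(CohB1.tensorMod F (CohB1.tensorPow L n), W') :=
      AddMonoidHom.mk' (fun x => tmul x (resM _ (hle.trans hW) (powSec (resM L hbV g) n)))
        fun x y => tmul_add_left x y _
    show Φ _ = _
    rw [map_sum]
    refine Finset.sum_congr rfl fun i _ => ?_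
    show tmul (c i • resM F (hle.trans hW) (f i.down)) (resM _ (hle.trans hW) (powSec (resM L hbV g) n)) = _
    rw [tmul_smul_left, ← hd i.down]
    show c i • tmul _ (d i.down • resM _ _ (h i.down)) = _
    rw [tmul_smul_right, smul_smul]
    simp only [hu i.down, resM_tmul]
  choose A N hxA hA using key
  obtain ⟨t, ht⟩ := isCompact_univ.elim_finite_subcover (fun x : X => (A x : Set X)) (fun x => (A x).2)
    fun x _ => Set.mem_iUnion.2 ⟨x, hxA x⟩
  refine ⟨t.sup N, fun n hn y => ?_⟩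
  obtain ⟨x, hxt, hyx⟩ := Set.mem_iUnion₂.1 (ht (Set.mem_univ y))
  obtain ⟨r, u, hu⟩ := hA x n ((Finset.le_sup hxt).trans hn)
  exact ⟨A x, r, u, hyx, hu⟩

/-- Twists of a module of finite type by a very ample module are quotients of pullbacks of modules of finite type. -/
theorem exists_ft_quotient
    (hZ : (CompactSpace Z ∧ Z.IsSeparated) ∨ TopologicalSpace.NoetherianSpace Z) (g : Y ⟶ Z) [QuasiCompact g]
    (K : Y.Modules) (hK : PicF.IsInvertible K) (hKva : RelProj.IsRelVeryAmple g K)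
    (E : Y.Modules) (hE : Coh.IsQCoh E) (hEft : CohB1.IsFT E) :
    ∃ m₀ : ℕ, ∀ m : ℕ, m₀ ≤ m →
      ∃ (F : Z.Modules) (φ : (Scheme.Modules.pullback g).obj F ⟶ CohB1.tensorMod E (CohB1.tensorPow K m)),
        Coh.IsQCoh F ∧ CohB1.IsFT F ∧ Epi φ := by
  classical
  have := isSeparated_of_isRelVeryAmple hKva
  have := hE
  have hamp := (AmpleLib.isRelAmple_iff g).1 (isRelAmple_of_isRelVeryAmple g hKva)
  have : CompactSpace Z := by
    rcases hZ with ⟨h, -⟩ | h
    · exact h
    · exact inferInstance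
  obtain ⟨T, hT, hcov⟩ := isCompact_iff_finite_and_eq_biUnion_affineOpens.1
    (show IsCompact ((⊤ : Z.Opens) : Set Z) from isCompact_univ)
  have : Fintype T := hT.fintype
  have hloc : ∀ V : T, ∃ M : ℕ, ∀ m, M ≤ m → ∀ y : Y, g y ∈ V.1.1 → ∃ (A : Y.Opens) (hA : A ≤ g ⁻¹ᵁ V.1.1)
      (r : ℕ) (s : Fin r → Γ(CohB1.tensorMod E (CohB1.tensorPow K m), g ⁻¹ᵁ V.1.1)),
      y ∈ A ∧ GenOn (CohB1.tensorMod E (CohB1.tensorPow K m)) A fun i : ULift.{u} (Fin r) => resM _ hA (s i.down) := by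
    intro V
    let ι := (g ⁻¹ᵁ V.1.1).ι
    have hq : Coh.IsQCoh ((Scheme.Modules.pullback ι).obj E) := EGA43.InjFibre.isQCoh_pullback ι E
    obtain ⟨M, hM⟩ := eventually_genOn (hamp.2 V.1) ((Scheme.Modules.pullback ι).obj E) (isFT_pullback_qcoh ι hE hEft)
    refine ⟨M, fun m hm y hy => ?_⟩
    let N := CohB1.tensorMod E (CohB1.tensorPow K m)
    obtain ⟨e, -⟩ := exists_pullPowIso ι hK m
    have := isIso_restrictTensorHom ι E (CohB1.tensorPow K m) (isInvertible_tensorPow hK m)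
    let θ : CohB1.tensorMod ((Scheme.Modules.pullback ι).obj E) (CohB1.tensorPow ((Scheme.Modules.pullback ι).obj K) m) ≅
        N.restrict ι :=
      (AmpleLib.tensorIso (restrictIsoPullback ι E) (restrictIsoPullback ι _ ≪≫ e)).symm ≪≫
        asIso (restrictTensorHom ι E (CohB1.tensorPow K m))
    obtain ⟨A, r, u, hyA, hu⟩ := hM m hm ⟨y, hy⟩
    have hu' := GenOn_of_iso θ hu
    have htop : g ⁻¹ᵁ V.1.1 ≤ ι ''ᵁ ⊤ := (Scheme.Opens.ι_image_top _).ge
    have hA' : ι ''ᵁ A ≤ g ⁻¹ᵁ V.1.1 := Scheme.Opens.ι_image_le (g ⁻¹ᵁ V.1.1) A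
    refine ⟨ι ''ᵁ A, hA', r, fun i => resM N htop ((N.restrictAppIso ι ⊤).hom (θ.hom.app ⊤ (u i))),
      ⟨_, hyA, rfl⟩, fun W hW a z hz => ?_⟩
    obtain ⟨z', hz', rfl⟩ := hW hz
    have him : ι ''ᵁ (ι ⁻¹ᵁ W) ≤ W := ι.image_preimage_eq_opensRange_inf W ▸ inf_le_right
    have hWA : ι ⁻¹ᵁ W ≤ A := fun t ht => by
      obtain ⟨t', ht', e⟩ := hW ht
      rwa [← ι.isOpenEmbedding.injective e]
    obtain ⟨W', hW', hzW', c, hc⟩ := hu' (ι ⁻¹ᵁ W) hWA ((N.restrictAppIso ι _).inv (resM N him a)) z' hz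
    refine ⟨ι ''ᵁ W', (ι.image_mono hW').trans him, ⟨z', hzW', rfl⟩, fun i => (ι.appIso W').inv (c i), ?_⟩
    have h' := congrArg (N.restrictAppIso ι W').hom hc
    rw [map_sum] at h'
    refine (Eq.trans ?_ h').trans (Finset.sum_congr rfl fun i _ => ?_)
    · show resM N _ a = resM N (ι.image_mono hW') (resM N him a)
      rw [resM_resM]
    · dsimp only
      rw [Scheme.Modules.smul_restrictAppIso_hom_apply, app_resM, resM_resM]
      refine congrArg _ ((resM_resM N hA' _ _).trans (resM_resM N htop _ _)).symm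
  choose M hM using hloc
  refine ⟨Finset.univ.sup M, fun m hm => ?_⟩
  let N := CohB1.tensorMod E (CohB1.tensorPow K m)
  have : Coh.IsQCoh N := isQCoh_tensor_invertible E (isInvertible_tensorPow hK m)
  let G := (Scheme.Modules.pushforward g).obj N
  have : Coh.IsQCoh G := Coherent.isQCoh_push g N
  have hV : ∀ y : Y, ∃ V : T, g y ∈ V.1.1 := fun y => by
    have hy : g y ∈ (⊤ : Z.Opens) := trivial
    rw [hcov] at hy
    simp only [Opens.mem_iSup] at hy
    obtain ⟨V, hVT, h⟩ := hy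
    exact ⟨⟨V, hVT⟩, h⟩
  choose V hgV using hV
  have hloc := fun y : Y => hM (V y) m ((Finset.le_sup (Finset.mem_univ _)).trans hm) y (hgV y)
  choose A hA r s hyA hs using hloc
  have : CompactSpace Y := QuasiCompact.compactSpace_of_compactSpace g
  obtain ⟨Y₀, hY₀⟩ := isCompact_univ.elim_finite_subcover (fun y : Y => (A y : Set Y)) (fun y => (A y).2)
    fun y _ => Set.mem_iUnion.2 ⟨y, hyA y⟩
  have hext : ∀ y : Y₀, ∃ Q : SubM G, Q.Good ⊤ ∧
      ∀ i : ULift.{u} (Fin (r y.1)), (show Γ(G, (V y.1).1.1) from s y.1 i.down) ∈ Q.carrier (V y.1).1.1 := fun y => by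
    rcases hZ with ⟨-, hsep⟩ | hnoe
    · exact exists_good_containing_qcqs (V y.1).1.2.isCompact
        fun i : ULift.{u} (Fin (r y.1)) => (show Γ(G, (V y.1).1.1) from s y.1 i.down)
    · exact exists_good_containing_locallyNoetherian (fun y => ⟨⊤, trivial, inferInstance⟩)
        fun i : ULift.{u} (Fin (r y.1)) => (show Γ(G, (V y.1).1.1) from s y.1 i.down)
  choose Q hQ hQmem using hext
  let F := SubM.sum Q
  refine ⟨F.toMod, ((Scheme.Modules.pullbackPushforwardAdjunction g).homEquiv _ N).symm F.toι,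
    SubM.isQCoh (SubM.good_sum Q hQ), SubM.isFT (SubM.good_sum Q hQ), ?_⟩
  refine epi_of_locally_surjective _ fun W a y hy => ?_
  obtain ⟨y₀, hy₀, hyA₀⟩ := Set.mem_iUnion₂.1 (hY₀ (Set.mem_univ y))
  let U := (V y₀).1.1
  obtain ⟨W', hW', hyW', c, hc⟩ := hs y₀ (W ⊓ A y₀) inf_le_right (resM N inf_le_left a) y ⟨hy, hyA₀⟩
  have hW'U : W' ≤ g ⁻¹ᵁ U := hW'.trans (inf_le_right.trans (hA y₀))
  choose e he using fun i : ULift.{u} (Fin (r y₀)) =>
    (F.mem_range_toι).2 (SubM.le_sum Q ⟨y₀, hy₀⟩ U (hQmem ⟨y₀, hy₀⟩ i))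
  refine ⟨W', hW'.trans inf_le_left, hyW', ∑ i, c i • resM _ hW'U (pullSec g (e i)), ?_⟩
  rw [resM_resM] at hc
  rw [hc, map_sum]
  refine Finset.sum_congr rfl fun i _ => ?_
  rw [Scheme.Modules.Hom.app_smul, app_resM, resM_resM]
  refine congrArg (c i • ·) ?_
  rw [homEquiv_symm_app_pullSec g F.toι (e i), he i]

end Groth.Agent.RelVALib
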