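import Groth.Agent.H8Lim.ModEpiStage
import Groth.Agent.BlowUpCoh.GGVanish

/-!
# Modules of finite type generated over affines of the base are quotients of pullbacks
-/

set_option autoImplicit false
set_option backward.isDefEq.respectTransparency.types false

universe u

open AlgebraicGeometry CategoryTheory CategoryTheory.Limits TopologicalSpace Opposite
open Groth.Agent.Coherent Groth.Agent.PicLib Groth.Agent.H8Lim

namespace Groth.Agent.RelVALib

variable {X Y : Scheme.{u}}

/-- Over an affine open of a generated open, the sections of the latter span. -/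
theorem span_eq_top_of_gg (F : X.Modules) [Coh.IsQCoh F] {Z W : X.Opens}
    (hgg : Curv2.IsGloballyGenerated (F.restrict Z.ι)) (hW : IsAffineOpen W) (hWZ : W ≤ Z) :
    Submodule.span Γ(X, W) (Set.range fun s : Γ(F, Z) => resM F hWZ s) = ⊤ := by
  haveI : Coh.IsQCoh (F.restrict Z.ι) := inferInstanceAs (Coh.IsQCoh (F.restrict Z.ι))
  have hW' : IsAffineOpen (Z.ι ⁻¹ᵁ W) := hW.preimage_of_isOpenImmersion Z.ι (by
    rw [Scheme.Opens.opensRange_ι]; exact hWZ)
  have hspan := BlowUpCoh.span_res_eq_top hgg hW'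
  have him : Z.ι ''ᵁ (Z.ι ⁻¹ᵁ W) = W := by
    rw [Scheme.Hom.image_preimage_eq_opensRange_inf, Scheme.Opens.opensRange_ι, inf_eq_right]
    exact hWZ
  refine Submodule.eq_top_iff'.2 fun a => ?_
  have key : ∀ b ∈ Submodule.span Γ(Z.toScheme, Z.ι ⁻¹ᵁ W)
      (Set.range fun s : Γ(F.restrict Z.ι, ⊤) => resM (F.restrict Z.ι) (le_top : Z.ι ⁻¹ᵁ W ≤ ⊤) s),
      resM F him.ge ((F.restrictAppIso Z.ι (Z.ι ⁻¹ᵁ W)).hom b) ∈
        Submodule.span Γ(X, W) (Set.range fun s : Γ(F, Z) => resM F hWZ s) := fun b hb => by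
    induction hb using Submodule.span_induction with
    | mem z hz =>
      obtain ⟨s, rfl⟩ := hz
      refine Submodule.subset_span ⟨resM F (Scheme.Opens.ι_image_top Z).ge ((F.restrictAppIso Z.ι ⊤).hom s), ?_⟩
      show resM F hWZ (resM F (Scheme.Opens.ι_image_top Z).ge ((F.restrictAppIso Z.ι ⊤).hom s)) = _
      rw [resM_resM]
      exact (resM_resM F (Scheme.Hom.image_mono _ le_top) him.ge ((F.restrictAppIso Z.ι ⊤).hom s)).symm
    | zero => rw [map_zero, map_zero]; exact Submodule.zero_mem _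
    | add z w _ _ hz hw => rw [map_add, map_add]; exact Submodule.add_mem _ hz hw
    | smul c z _ hz =>
      rw [Scheme.Modules.smul_restrictAppIso_hom_apply, resM_smul]
      exact Submodule.smul_mem _ _ hz
  have h := key ((F.restrictAppIso Z.ι (Z.ι ⁻¹ᵁ W)).inv (resM F him.le a)) (hspan ▸ Submodule.mem_top)
  rw [Iso.inv_hom_id_apply] at h
  simpa [resM_resM, resM_self] using h

/-- A module of finite type generated over the members of a finite affine cover of the base is a quotient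
of the pullback of a module of finite type. -/
theorem exists_epi_pullback_of_gg (g : Y ⟶ X) [QuasiCompact g] [QuasiSeparated g] [CompactSpace X]
    [QuasiSeparatedSpace X] (F : Y.Modules) [Coh.IsQCoh F] (hF : CohB1.IsFT F) (t : Finset X.affineOpens)
    (hcov : ∀ x : X, ∃ V ∈ t, x ∈ V.1) (hgg : ∀ V ∈ t, Curv2.IsGloballyGenerated (F.restrict (g ⁻¹ᵁ V.1).ι)) :
    ∃ (G : X.Modules) (φ : (Scheme.Modules.pullback g).obj G ⟶ F),
      Coh.IsQCoh G ∧ CohB1.IsFT G ∧ Epi φ := by
  classical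
  let N := (Scheme.Modules.pushforward g).obj F
  have : Coh.IsQCoh N := isQCoh_push g F
  haveI : CompactSpace Y := QuasiCompact.compactSpace_of_compactSpace g
  choose A hA hxA hAle using fun y : Y => exists_isAffineOpen_mem_and_subset (x := y)
    (U := g ⁻¹ᵁ (hcov (g y)).choose.1) (hcov (g y)).choose_spec.2
  obtain ⟨c, hc⟩ := isCompact_univ.elim_finite_subcover (fun y : Y => (A y : Set Y)) (fun y => (A y).2)
    fun y _ => Set.mem_iUnion.2 ⟨y, hxA y⟩
  let V : c → X.affineOpens := fun k => (hcov (g k.1)).choose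
  have hAV : ∀ k : c, A k.1 ≤ g ⁻¹ᵁ (V k).1 := fun k z hz => hAle k.1 hz
  have hgen : ∀ k : c, ∃ S : Finset Γ(F, g ⁻¹ᵁ (V k).1),
      Submodule.span Γ(Y, A k.1) ((fun s => resM F (hAV k) s) '' (S : Set _)) = ⊤ := fun k => by
    have hfin : Module.Finite Γ(Y, A k.1) Γ(F, A k.1) := finite_sections F (locallyFinGen_of_isFT F hF) (hA k.1)
    have htop := span_eq_top_of_gg F (hgg (V k) (hcov (g k.1)).choose_spec.1) (hA k.1) (hAV k)
    obtain ⟨S', hS', hspan⟩ := (Submodule.fg_span_iff_fg_span_finset_subset _).1 (htop ▸ hfin.fg_top)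
    choose r hr using fun a : S' => hS' a.2
    refine ⟨Finset.univ.image r, top_le_iff.1 ?_⟩
    rw [← htop, hspan]
    exact Submodule.span_mono fun a ha => ⟨r ⟨a, ha⟩, Finset.mem_coe.2 (Finset.mem_image.2 ⟨_, Finset.mem_univ _, rfl⟩), hr ⟨a, ha⟩⟩
  choose S hS using hgen
  have hQ : ∀ k : c, ∃ Q : SubM N, Q.Good ⊤ ∧ ∀ s : S k, (show Γ(N, (V k).1) from s.1) ∈ Q.carrier (V k).1 :=
    fun k => exists_good_containing_qcqs (F := N) (V k).2.isCompact (fun s : S k => s.1)
  choose Q hQg hQs using hQ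
  let P := SubM.sum Q
  have hP : P.Good ⊤ := SubM.good_sum Q hQg
  refine ⟨P.toMod, ((Scheme.Modules.pullbackPushforwardAdjunction g).homEquiv P.toMod F).symm P.toι,
    SubM.isQCoh hP, SubM.isFT hP, ⟨fun {N'} u v huv => ?_⟩⟩
  have hloc : homLocTop u = homLocTop v := by
    refine locHom_ext_cover (fun k : c => A k.1) (fun k => hA k.1) (fun _ => le_top) (fun y _ => ?_)
      (fun k => (fun s => resM F (hAV k) s) '' (S k : Set _)) hS fun k a ha => ?_
    · obtain ⟨z, hz, hyz⟩ := Set.mem_iUnion₂.1 (hc (Set.mem_univ y))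
      exact ⟨⟨z, hz⟩, hyz⟩
    · obtain ⟨s, hs, rfl⟩ := ha
      obtain ⟨s', hs'⟩ := P.mem_range_toι.2 (SubM.le_sum Q k (V k).1 (hQs k ⟨s, hs⟩))
      have e := congr(($huv).app (g ⁻¹ᵁ (V k).1) (pullSec g s'))
      rw [Scheme.Modules.Hom.comp_app, Scheme.Modules.Hom.comp_app, ConcreteCategory.comp_apply,
        ConcreteCategory.comp_apply, homEquiv_symm_app_pullSec, hs'] at e
      show u.app (A k.1) (resM F (hAV k) s) = v.app (A k.1) (resM F (hAV k) s)
      rw [app_resM, app_resM]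
      exact congrArg _ e
  refine Scheme.Modules.hom_ext _ _ fun U => ConcreteCategory.hom_ext _ _ fun a => ?_
  exact congrArg (fun θ : locHom F N' ⊤ => ev θ U le_top a) hloc

end Groth.Agent.RelVALib
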