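import Mathlib
import Groth.Agent.ProjLib.RelProjBasics
import Groth.Agent.ProjLib.MapLocal
import Groth.Agent.ProjLib.SpecLocus
import Groth.Agent.TwistLib.G.RelTildeTrans
import Groth.Agent.TwistLib.G.RelMap

/-!
# Integral relative homogeneous spectra
-/

set_option autoImplicit false
set_option linter.unusedSectionVars false
set_option backward.isDefEq.respectTransparency.types false
set_option maxHeartbeats 800000

universe u

open AlgebraicGeometry CategoryTheory TopologicalSpace Opposite HomogeneousLocalization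
open scoped HomogeneousIdeal

namespace Groth.Agent.RelVALib

section graded

variable {A σ : Type u} [CommRing A] [SetLike σ A] [AddSubgroupClass σ A] (𝒜 : ℕ → σ) [GradedRing 𝒜]

/-- The image in `Spec A₀`. -/
theorem toSpecZero_mem_iff (z : Proj 𝒜) (c : 𝒜 0) :
    c ∉ (Proj.toSpecZero 𝒜 z).asIdeal ↔ (c : A) ∉ z.asHomogeneousIdeal := by
  obtain ⟨⟨n, f⟩, w, hw⟩ := (Proj.affineOpenCover 𝒜).openCover.exists_eq z
  obtain ⟨f, hf⟩ := f
  have hn : 0 < (n : ℕ) := n.2
  replace hw : Proj.awayι 𝒜 f hf hn w = z := hw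
  have hfz : f ∉ z.asHomogeneousIdeal := by
    have : z ∈ Proj.basicOpen 𝒜 f := by
      rw [← Proj.opensRange_awayι 𝒜 f hf hn]
      exact ⟨w, hw⟩
    exact this
  have hfc : f * (c : A) ∈ 𝒜 n := by simpa using SetLike.mul_mem_graded hf c.2
  have e1 : Away.isLocalizationElem hf hfc = (fromZeroRingHom 𝒜 (Submonoid.powers f) c) ^ (n : ℕ) := by
    apply HomogeneousLocalization.val_injective
    rw [HomogeneousLocalization.val_pow, Away.isLocalizationElem, Away.val_mk]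
    simp only [fromZeroRingHom, RingHom.coe_mk, MonoidHom.coe_mk, OneHom.coe_mk, HomogeneousLocalization.val_mk,
      Localization.mk_pow, Localization.mk_eq_mk_iff, Localization.r_iff_exists]
    refine ⟨1, ?_⟩
    simp [mul_pow]
  have h1 : z ∈ Proj.basicOpen 𝒜 (f * (c : A)) ↔
      (fromZeroRingHom 𝒜 (Submonoid.powers f) c) ∉ w.asIdeal := by
    have h0 := SetLike.ext_iff.1 (Proj.awayι_preimage_basicOpen (𝒜 := 𝒜) (f_deg := hf) (hm := hn)
      (g := f * (c : A)) (g_deg := hfc) (hm' := hn)) w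
    have h' : z ∈ Proj.basicOpen 𝒜 (f * (c : A)) ↔ w ∈ Proj.awayι 𝒜 f hf hn ⁻¹ᵁ Proj.basicOpen 𝒜 (f * (c : A)) := by
      rw [← hw]; exact Iff.rfl
    refine (h'.trans h0).trans ?_
    show Away.isLocalizationElem hf hfc ∉ w.asIdeal ↔ _
    rw [e1]
    exact ⟨fun h h' => h (w.asIdeal.pow_mem_of_mem h' _ hn), fun h h' => h (w.2.mem_of_pow_mem _ h')⟩
  have h2 : Proj.toSpecZero 𝒜 z = Spec.map (CommRingCat.ofHom (fromZeroRingHom 𝒜 (Submonoid.powers f))) w := by
    rw [← hw, ← Scheme.Hom.comp_apply, Proj.awayι_toSpecZero]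
  rw [h2]
  refine h1.symm.trans ⟨fun h h' => h (z.asHomogeneousIdeal.toIdeal.mul_mem_left f h'), fun h h' => ?_⟩
  rcases z.isPrime.mem_or_mem h' with h'' | h''
  · exact hfz h''
  · exact h h''

/-- Two homogeneous elements of positive degree with product zero, in an integral `Proj`. -/
theorem eq_zero_or_of_mul_eq_zero [IrreducibleSpace (Proj 𝒜)]
    (hred : ∀ x ∈ (HomogeneousIdeal.irrelevant 𝒜).toIdeal, IsNilpotent x → x = 0) {a b : A}
    (ha : a ∈ (HomogeneousIdeal.irrelevant 𝒜).toIdeal) (hb : b ∈ (HomogeneousIdeal.irrelevant 𝒜).toIdeal)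
    (h : a * b = 0) : a = 0 ∨ b = 0 := by
  by_contra hne
  push_neg at hne
  have key : ∀ x ∈ (HomogeneousIdeal.irrelevant 𝒜).toIdeal, x ≠ 0 → ((Proj.basicOpen 𝒜 x : Set (Proj 𝒜))).Nonempty := by
    intro x hx hx0
    by_contra hemp
    refine hx0 (hred x hx (ProjLib.isNilpotent_of_forall_mem 𝒜 hx fun y => ?_))
    by_contra hy
    exact hemp ⟨y, hy⟩
  obtain ⟨z, hza, hzb⟩ := nonempty_preirreducible_inter (Proj.basicOpen 𝒜 a).2 (Proj.basicOpen 𝒜 b).2
    (key a ha hne.1) (key b hb hne.2)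
  rcases z.isPrime.mem_or_mem (show a * b ∈ z.asHomogeneousIdeal.toIdeal from h ▸ zero_mem _) with h' | h'
  · exact hza h'
  · exact hzb h'

end graded

variable {Y P : Scheme.{u}} {𝒮 : RelProj.QCGrAlg Y} {p : P ⟶ Y}
  {chart : ∀ (U : Y.Opens) (hU : IsAffineOpen U), (((p ⁻¹ᵁ U : P.Opens) : Scheme.{u}) ≅ Proj (𝒮.deg U hU))}

theorem p_emb (hP : RelProj.IsRelProj 𝒮 p chart) {U : Y.Opens} (hU : IsAffineOpen U) (z : Proj (𝒮.deg U hU)) :
    p (RelProj.emb p chart U hU z) = hU.fromSpec (Spec.map (𝒮.strZero U hU) (Proj.toSpecZero (𝒮.deg U hU) z)) := by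
  have h : RelProj.emb p chart U hU ≫ p =
      Proj.toSpecZero (𝒮.deg U hU) ≫ Spec.map (𝒮.strZero U hU) ≫ hU.fromSpec := by
    rw [RelProj.emb, Category.assoc, ← hP.chart_over U hU, Iso.inv_hom_id_assoc]
  exact congrArg (fun q : Proj (𝒮.deg U hU) ⟶ Y => q z) h

theorem emb_mem_iff (hP : RelProj.IsRelProj 𝒮 p chart) {U : Y.Opens} (hU : IsAffineOpen U) (r : Γ(Y, U))
    (z : Proj (𝒮.deg U hU)) :
    p (RelProj.emb p chart U hU z) ∈ Y.basicOpen r ↔ 𝒮.str.app (op U) r ∉ z.asHomogeneousIdeal := by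
  rw [p_emb hP hU]
  have h1 := SetLike.ext_iff.1 (hU.fromSpec_preimage_basicOpen r) (Spec.map (𝒮.strZero U hU) (Proj.toSpecZero _ z))
  exact h1.trans (toSpecZero_mem_iff (𝒮.deg U hU) z (𝒮.strZero U hU r))

theorem isIntegral_relProj [IsIntegral Y] (h0 : ∀ (U : Y.Opens) (hU : IsAffineOpen U), Function.Bijective (𝒮.strZero U hU).hom)
    (hint : ∀ (U : Y.Opens) (hU : IsAffineOpen U), (U : Set Y).Nonempty →
      IsDomain (𝒮.presheaf.obj (op U)) ∧ ((𝒮.deg U hU)₊).toIdeal ≠ ⊥)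
    (hP : RelProj.IsRelProj 𝒮 p chart) : IsIntegral P ∧ DenseRange p.base := by
  let ξ : Y := genericPoint Y
  have hξ : ∀ U : Y.Opens, (U : Set Y).Nonempty → ξ ∈ U := fun U hU =>
    ((genericPoint_spec Y).mem_open_set_iff U.2).2 (by simpa using hU)
  -- generic points of the pieces
  have hgen : ∀ (U : Y.Opens) (hU : IsAffineOpen U), (U : Set Y).Nonempty →
      ∃ η : Proj (𝒮.deg U hU), η.asHomogeneousIdeal.toIdeal = ⊥ ∧ p (RelProj.emb p chart U hU η) = ξ := by
    intro U hU hne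
    obtain ⟨hdom, hirr⟩ := hint U hU hne
    let η : Proj (𝒮.deg U hU) := ⟨⊥, by
      show (⊥ : HomogeneousIdeal (𝒮.deg U hU)).toIdeal.IsPrime
      rw [HomogeneousIdeal.toIdeal_bot]
      exact Ideal.isPrime_bot, fun hle => hirr (eq_bot_iff.2 fun x hx => by
        have := hle hx
        rwa [← HomogeneousIdeal.mem_iff, HomogeneousIdeal.toIdeal_bot] at this)⟩
    have hη : η.asHomogeneousIdeal.toIdeal = ⊥ := HomogeneousIdeal.toIdeal_bot
    refine ⟨η, hη, ?_⟩
    have : Nonempty U := ⟨⟨_, hξ U hne⟩⟩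
    rw [p_emb hP hU]
    have hb : Spec.map (𝒮.strZero U hU) (Proj.toSpecZero (𝒮.deg U hU) η) =
        (⟨⊥, Ideal.isPrime_bot⟩ : PrimeSpectrum Γ(Y, U)) := by
      refine PrimeSpectrum.ext (eq_bot_iff.2 fun r hr => ?_)
      by_contra hr0
      refine (toSpecZero_mem_iff (𝒮.deg U hU) η (𝒮.strZero U hU r)).2 (fun h => ?_) hr
      rw [← HomogeneousIdeal.mem_iff, hη] at h
      have h' : 𝒮.strZero U hU r = 𝒮.strZero U hU 0 := by
        rw [map_zero]
        exact Subtype.ext h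
      exact hr0 ((h0 U hU).1 h')
    rw [hb]
    have h2 := hU.fromSpec_primeIdealOf ⟨ξ, hξ U hne⟩
    rw [hU.primeIdealOf_genericPoint] at h2
    refine Eq.trans ?_ h2
    congr 1
    exact (genericPoint_eq_bot_of_affine (Γ(Y, U))).symm
  have hred : AlgebraicGeometry.IsReduced P := by
    refine ProjLib.isReduced_relProj hP fun U hU => ?_
    rcases (U : Set Y).eq_empty_or_nonempty with he | hne
    · have : IsEmpty (Proj (𝒮.deg U hU)) := ⟨fun z => by
        have h : p (RelProj.emb p chart U hU z) ∈ U :=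
          (TwistLib.G.opensRange_emb (p := p) (chart := chart) U hU).le ⟨z, rfl⟩
        exact Set.eq_empty_iff_forall_notMem.1 he _ h⟩
      refine ⟨fun V => ⟨fun f _ => ?_⟩⟩
      obtain rfl : V = ⊥ := eq_bot_iff.2 fun z _ => (this.false z).elim
      have : Subsingleton Γ(Proj (𝒮.deg U hU), ⊥) :=
        CommRingCat.subsingleton_of_isTerminal (Proj (𝒮.deg U hU)).sheaf.isTerminalOfEmpty
      exact Subsingleton.elim _ _
    · have := (hint U hU hne).1
      exact ProjLib.proj_isReduced _ fun f _ hf => hf.eq_zero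
  obtain ⟨U₀, hU₀, hξU₀, -⟩ := exists_isAffineOpen_mem_and_subset (X := Y) (x := ξ) (U := ⊤) trivial
  obtain ⟨η₀, hη₀, hpη₀⟩ := hgen U₀ hU₀ ⟨ξ, hξU₀⟩
  have hpiece : ∀ (U : Y.Opens) (hU : IsAffineOpen U) (η : Proj (𝒮.deg U hU)), η.asHomogeneousIdeal.toIdeal = ⊥ →
      ∀ O : P.Opens, ((O : Set P) ∩ (p ⁻¹ᵁ U : P.Opens)).Nonempty → RelProj.emb p chart U hU η ∈ O := by
    rintro U hU η hη O ⟨w, hwO, hwU⟩
    obtain ⟨z, rfl⟩ := TwistLib.G.exists_preimage (chart := chart) hU hwU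
    let η' : ProjectiveSpectrum (𝒮.deg U hU) := η
    have hle : η' ≤ z := fun a ha => by
      have h1 : a ∈ η.asHomogeneousIdeal.toIdeal := ha
      rw [hη] at h1
      rw [show a = 0 from h1]
      exact zero_mem _
    have hspec : η ⤳ z := specializes_iff_mem_closure.2 ((ProjectiveSpectrum.le_iff_mem_closure _ η' z).1 hle)
    exact (hspec.map (RelProj.emb p chart U hU).continuous).mem_open O.2 hwO
  have hdense : ∀ O : P.Opens, (O : Set P).Nonempty → RelProj.emb p chart U₀ hU₀ η₀ ∈ O := by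
    rintro O ⟨w, hw⟩
    obtain ⟨U, hU, hwU, -⟩ := exists_isAffineOpen_mem_and_subset (X := Y) (x := p w) (U := ⊤) trivial
    obtain ⟨η, hη, hpη⟩ := hgen U hU ⟨_, hwU⟩
    refine hpiece U₀ hU₀ η₀ hη₀ O ⟨RelProj.emb p chart U hU η, hpiece U hU η hη O ⟨w, hw, hwU⟩, ?_⟩
    show p (RelProj.emb p chart U hU η) ∈ U₀
    rw [hpη]
    exact hξU₀
  have : IrreducibleSpace P := by
    have : Nonempty P := ⟨RelProj.emb p chart U₀ hU₀ η₀⟩
    exact { toNonempty := this, isPreirreducible_univ := fun O O' hO hO' hne hne' =>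
      ⟨RelProj.emb p chart U₀ hU₀ η₀, trivial, hdense ⟨O, hO⟩ (by simpa using hne), hdense ⟨O', hO'⟩ (by simpa using hne')⟩ }
  refine ⟨isIntegral_of_irreducibleSpace_of_isReduced P, fun y => ?_⟩
  refine closure_mono ((Set.singleton_subset_iff (s := Set.range p.base)).2 ⟨RelProj.emb p chart U₀ hU₀ η₀, hpη₀⟩) ?_
  exact (genericPoint_specializes y).mem_closure

theorem integral_of_isIntegral_relProj [IsIntegral Y]
    (h0 : ∀ (U : Y.Opens) (hU : IsAffineOpen U), Function.Bijective (𝒮.strZero U hU).hom)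
    (hred : ∀ (U : Y.Opens) (hU : IsAffineOpen U) (x : 𝒮.presheaf.obj (op U)),
      x ∈ (𝒮.deg U hU)₊ → IsNilpotent x → x = 0)
    (hP : RelProj.IsRelProj 𝒮 p chart) [IsIntegral P] (hdom : DenseRange p.base)
    {U : Y.Opens} (hU : IsAffineOpen U) (hne : (U : Set Y).Nonempty) :
    IsDomain (𝒮.presheaf.obj (op U)) ∧ ((𝒮.deg U hU)₊).toIdeal ≠ ⊥ := by
  obtain ⟨x, hxU⟩ := hdom.exists_mem_open U.2 hne
  obtain ⟨z₀, -⟩ := TwistLib.G.exists_preimage (chart := chart) hU hxU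
  have : Nonempty (Proj (𝒮.deg U hU)) := ⟨z₀⟩
  have : IsIntegral (Proj (𝒮.deg U hU)) := isIntegral_of_isOpenImmersion (RelProj.emb p chart U hU)
  have hirr : ((𝒮.deg U hU)₊).toIdeal ≠ ⊥ := fun h => z₀.not_irrelevant_le (by
    intro a ha
    have : a ∈ ((𝒮.deg U hU)₊).toIdeal := ha
    rw [h] at this
    rw [show a = 0 from this]
    exact zero_mem _)
  refine ⟨?_, hirr⟩
  have : Nonempty U := ⟨⟨_, hne.some_mem⟩⟩
  -- scalars act injectively on positive degrees
  have hscalar : ∀ (r : Γ(Y, U)), r ≠ 0 → ∀ a ∈ ((𝒮.deg U hU)₊).toIdeal, 𝒮.str.app (op U) r * a = 0 → a = 0 := by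
    intro r hr a ha hra
    refine hred U hU a ha (ProjLib.isNilpotent_of_forall_mem _ ha fun y => ?_)
    by_contra hy
    have hDr : ((Y.basicOpen r : Y.Opens) : Set Y).Nonempty := by
      by_contra he
      exact hr ((basicOpen_eq_bot_iff r).1 (by
        ext z
        exact ⟨fun hz => (he ⟨z, hz⟩).elim, fun hz => hz.elim⟩))
    obtain ⟨w, hw⟩ := hdom.exists_mem_open (Y.basicOpen r).2 hDr
    obtain ⟨z, rfl⟩ := TwistLib.G.exists_preimage (chart := chart) hU (Y.basicOpen_le r hw)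
    obtain ⟨t, ht1, ht2⟩ := nonempty_preirreducible_inter
      ((RelProj.emb p chart U hU).continuous.isOpen_preimage _ ((Y.basicOpen r).2.preimage p.continuous))
      (Proj.basicOpen (𝒮.deg U hU) a).2 ⟨z, hw⟩ ⟨y, hy⟩
    rcases t.isPrime.mem_or_mem (show 𝒮.str.app (op U) r * a ∈ t.asHomogeneousIdeal.toIdeal from hra ▸ zero_mem _)
      with h' | h'
    · exact (emb_mem_iff hP hU r t).1 ht1 h'
    · exact ht2 h'
  have hhom : ∀ {a b : 𝒮.presheaf.obj (op U)}, SetLike.IsHomogeneousElem (𝒮.deg U hU) a →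
      SetLike.IsHomogeneousElem (𝒮.deg U hU) b → a * b ∈ (⊥ : Ideal (𝒮.presheaf.obj (op U))) →
      a ∈ (⊥ : Ideal (𝒮.presheaf.obj (op U))) ∨ b ∈ (⊥ : Ideal (𝒮.presheaf.obj (op U))) := by
    intro a b ha hb hab
    simp only [Ideal.mem_bot] at hab ⊢
    obtain ⟨i, hi⟩ := ha
    obtain ⟨k, hk⟩ := hb
    rcases Nat.eq_zero_or_pos i with rfl | hi'
    · obtain ⟨r, hr⟩ := (h0 U hU).2 ⟨a, hi⟩
      replace hr : 𝒮.str.app (op U) r = a := congrArg Subtype.val hr
      rcases eq_or_ne r 0 with rfl | hr0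
      · exact Or.inl (hr ▸ map_zero _)
      rcases Nat.eq_zero_or_pos k with rfl | hk'
      · obtain ⟨s, hs⟩ := (h0 U hU).2 ⟨b, hk⟩
        replace hs : 𝒮.str.app (op U) s = b := congrArg Subtype.val hs
        have h1 : 𝒮.strZero U hU (r * s) = 𝒮.strZero U hU 0 := Subtype.ext (by
          show 𝒮.str.app (op U) (r * s) = 𝒮.str.app (op U) 0
          rw [map_mul, hr, hs, hab, map_zero])
        rcases mul_eq_zero.1 ((h0 U hU).1 h1) with h | h
        · exact absurd h hr0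
        · exact Or.inr (hs ▸ h ▸ map_zero _)
      · exact Or.inr (hscalar r hr0 b (HomogeneousIdeal.mem_irrelevant_of_mem _ hk' hk) (hr ▸ hab))
    rcases Nat.eq_zero_or_pos k with rfl | hk'
    · obtain ⟨r, hr⟩ := (h0 U hU).2 ⟨b, hk⟩
      replace hr : 𝒮.str.app (op U) r = b := congrArg Subtype.val hr
      rcases eq_or_ne r 0 with rfl | hr0
      · exact Or.inr (hr ▸ map_zero _)
      · exact Or.inl (hscalar r hr0 a (HomogeneousIdeal.mem_irrelevant_of_mem _ hi' hi)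
          (by rw [hr, mul_comm, hab]))
    exact eq_zero_or_of_mul_eq_zero _ (hred U hU) (HomogeneousIdeal.mem_irrelevant_of_mem _ hi' hi)
      (HomogeneousIdeal.mem_irrelevant_of_mem _ hk' hk) hab
  have hne' : (⊥ : Ideal (𝒮.presheaf.obj (op U))) ≠ ⊤ := fun h =>
    z₀.isPrime.ne_top (eq_top_iff.2 (h ▸ bot_le))
  have hp := (Ideal.IsHomogeneous.bot (𝒮.deg U hU)).isPrime_of_homogeneous_mem_or_mem hne' hhom
  exact @IsDomain.of_bot_isPrime _ _ hp

end Groth.Agent.RelVALib
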