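import Mathlib.LinearAlgebra.Matrix.Charpoly.Coeff
import Mathlib.RingTheory.Norm.Defs
import Mathlib.RingTheory.Localization.FractionRing
import Mathlib.RingTheory.Ideal.Maximal

/-!
# When the norm of an element of a finite free algebra lies in a prime
-/

set_option autoImplicit false

open Polynomial

namespace Groth.Agent.RelVALib

variable {R A : Type*} [CommRing R] [CommRing A] [Algebra R A] {ι : Type*} [Fintype ι] [DecidableEq ι]

theorem norm_mem_of_mem (b : Module.Basis ι R A) (a : A) (p : Ideal R) (q : Ideal A)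
    (hpq : q.comap (algebraMap R A) = p) (ha : a ∈ q) : Algebra.norm R a ∈ p := by
  set M := Algebra.leftMulMatrix b a
  have hcp : aeval a M.charpoly = 0 := Algebra.leftMulMatrix_injective b (by
    rw [map_zero, ← aeval_algHom_apply]
    exact Matrix.aeval_self_charpoly M)
  rw [aeval_eq_sum_range, Finset.sum_range_succ'] at hcp
  have hc0 : algebraMap R A (M.charpoly.coeff 0) ∈ q := by
    rw [Algebra.algebraMap_eq_smul_one, ← pow_zero a, eq_neg_of_add_eq_zero_right hcp]
    refine q.neg_mem (q.sum_mem fun j _ => ?_)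
    rw [Algebra.smul_def, pow_succ]
    exact q.mul_mem_left _ (q.mul_mem_left _ ha)
  rw [Algebra.norm_eq_matrix_det b, Matrix.det_eq_sign_charpoly_coeff, ← hpq]
  show algebraMap R A _ ∈ q
  rw [map_mul]
  exact q.mul_mem_left _ hc0

theorem norm_notMem_of_forall (b : Module.Basis ι R A) (a : A) (p : Ideal R) [p.IsPrime]
    (ha : ∀ q : Ideal A, q.IsPrime → q.comap (algebraMap R A) = p → a ∉ q) : Algebra.norm R a ∉ p := by
  have hS : ¬ Disjoint ((p.map (algebraMap R A) ⊔ Ideal.span {a} : Ideal A) : Set A)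
      (p.primeCompl.map (algebraMap R A).toMonoidHom : Set A) := fun hd => by
    obtain ⟨q, hq, hle, hdisj⟩ := Ideal.exists_le_prime_disjoint _ _ hd
    have h1 : q.comap (algebraMap R A) = p := le_antisymm (fun r hr => by
        by_contra hrp
        exact Set.disjoint_left.1 hdisj hr ⟨r, hrp, rfl⟩)
      (Ideal.map_le_iff_le_comap.1 (le_sup_left.trans hle))
    exact ha q hq h1 (le_sup_right.trans hle (Ideal.mem_span_singleton_self a))
  obtain ⟨_, hzp, s, hs, rfl⟩ := Set.not_disjoint_iff.1 hS
  obtain ⟨z, hz, w, hw, hzw⟩ := Submodule.mem_sup.1 hzp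
  obtain ⟨y, rfl⟩ := Ideal.mem_span_singleton'.1 hw
  let φ : R →+* FractionRing (R ⧸ p) := (algebraMap (R ⧸ p) _).comp (Ideal.Quotient.mk p)
  have hφ : ∀ r, φ r = 0 ↔ r ∈ p := fun r => by
    simp [φ, Ideal.Quotient.eq_zero_iff_mem]
  let Φ : A →+* Matrix ι ι (FractionRing (R ⧸ p)) := φ.mapMatrix.comp (Algebra.leftMulMatrix b).toRingHom
  have hsc : ∀ r, Φ (algebraMap R A r) = φ r • 1 := fun r => by
    show φ.mapMatrix (Algebra.leftMulMatrix b (algebraMap R A r)) = _
    rw [AlgHom.commutes]
    refine Matrix.ext fun k l => ?_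
    rcases eq_or_ne k l with rfl | hkl
    · simp [RingHom.mapMatrix_apply, Matrix.algebraMap_matrix_apply]
    · simp [RingHom.mapMatrix_apply, Matrix.algebraMap_matrix_apply, hkl]
  have hker : p.map (algebraMap R A) ≤ RingHom.ker Φ :=
    Ideal.map_le_iff_le_comap.2 fun r hr => by
      show Φ (algebraMap R A r) = 0
      rw [hsc, (hφ r).2 hr, zero_smul]
  have h0 : (Φ y * Φ a).det = (φ s) ^ Fintype.card ι := by
    have := congrArg Φ hzw
    rw [map_add, show Φ z = 0 from hker hz, zero_add, map_mul] at this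
    rw [this]
    show (Φ (algebraMap R A s)).det = _
    rw [hsc, Matrix.det_smul, Matrix.det_one, mul_one]
  intro hN
  have hd : (Φ a).det = 0 := by
    show (φ.mapMatrix (Algebra.leftMulMatrix b a)).det = 0
    rw [← RingHom.map_det, ← Algebra.norm_eq_matrix_det b]
    exact (hφ _).2 hN
  rw [Matrix.det_mul, hd, mul_zero] at h0
  exact hs ((hφ s).1 (eq_zero_of_pow_eq_zero h0.symm))

end Groth.Agent.RelVALib
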