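import Mathlib
import Groth.Prelude.Def_RelSpec
import Groth.Prelude.Def_AffAlg
import Groth.Agent.AffAlgLib.Basic

/-!
# Pushouts of quasi-coherent algebras are tested on affine opens
-/

set_option autoImplicit false
set_option backward.isDefEq.respectTransparency false

universe u

open AlgebraicGeometry CategoryTheory CategoryTheory.Limits TopologicalSpace Opposite

namespace Groth.Agent.RelVALib

variable {S : Scheme.{u}}

theorem isBasis_range_affineOpens :
    Opens.IsBasis (Set.range (fun U : S.affineOpens => (U : S.Opens))) := by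
  rw [Subtype.range_coe]
  exact S.isBasis_affineOpens

theorem qcAlg_hom_ext {A B : RelSpec.QCAlg S} {a b : A ⟶ B}
    (h : ∀ U : S.affineOpens, a.hom.app (op (U : S.Opens)) = b.hom.app (op (U : S.Opens))) : a = b :=
  RelSpec.QCAlg.hom_ext (TopCat.Sheaf.hom_ext A.presheaf ⟨B.presheaf, B.isSheaf⟩ isBasis_range_affineOpens h)

/-- A square of quasi-coherent algebras is a pushout when it is one over every affine open. -/
theorem isPushout_qcAlg {A B B' C : RelSpec.QCAlg S} {a : A ⟶ B} {a' : A ⟶ B'} {b : B ⟶ C} {b' : B' ⟶ C}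
    (h : ∀ U : S.affineOpens, IsPushout (a.hom.app (op (U : S.Opens))) (a'.hom.app (op (U : S.Opens)))
      (b.hom.app (op (U : S.Opens))) (b'.hom.app (op (U : S.Opens)))) : IsPushout a a' b b' := by
  have w : a ≫ b = a' ≫ b' := qcAlg_hom_ext fun U => (h U).w
  have key : ∀ s : PushoutCocone a a', ∃ d : C ⟶ s.pt, b ≫ d = s.inl ∧ b' ≫ d = s.inr := fun s => by
    have hc : ∀ U : S.affineOpens, a.hom.app (op (U : S.Opens)) ≫ s.inl.hom.app (op (U : S.Opens)) =
        a'.hom.app (op (U : S.Opens)) ≫ s.inr.hom.app (op (U : S.Opens)) := fun U =>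
      NatTrans.congr_app (congrArg RelSpec.QCAlg.Hom.hom s.condition) (op (U : S.Opens))
    let D : ∀ U : S.affineOpens, C.presheaf.obj (op (U : S.Opens)) ⟶ s.pt.presheaf.obj (op (U : S.Opens)) :=
      fun U => (h U).desc (s.inl.hom.app _) (s.inr.hom.app _) (hc U)
    let B₀ := fun U : S.affineOpens => (U : S.Opens)
    let α : (inducedFunctor B₀).op ⋙ C.presheaf ⟶ (inducedFunctor B₀).op ⋙
        (⟨s.pt.presheaf, s.pt.isSheaf⟩ : TopCat.Sheaf CommRingCat.{u} S.carrier).1 :=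
      { app := fun U => D U.unop
        naturality := fun U V i => by
          refine (h U.unop).hom_ext ?_ ?_
          · show b.hom.app _ ≫ C.presheaf.map _ ≫ D V.unop = b.hom.app _ ≫ D U.unop ≫ s.pt.presheaf.map _
            rw [← b.hom.naturality_assoc, (h V.unop).inl_desc, (h U.unop).inl_desc_assoc]
            exact s.inl.hom.naturality _
          · show b'.hom.app _ ≫ C.presheaf.map _ ≫ D V.unop = b'.hom.app _ ≫ D U.unop ≫ s.pt.presheaf.map _
            rw [← b'.hom.naturality_assoc, (h V.unop).inr_desc, (h U.unop).inr_desc_assoc]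
            exact s.inr.hom.naturality _ }
    let d₀ := TopCat.Sheaf.restrictHomEquivHom C.presheaf _ isBasis_range_affineOpens α
    have hd : ∀ U : S.affineOpens, d₀.app (op (U : S.Opens)) = D U := fun U =>
      TopCat.Sheaf.extend_hom_app C.presheaf _ isBasis_range_affineOpens α U
    have hinl : b.hom ≫ d₀ = s.inl.hom :=
      TopCat.Sheaf.hom_ext B.presheaf ⟨s.pt.presheaf, s.pt.isSheaf⟩ isBasis_range_affineOpens fun U => by
        rw [NatTrans.comp_app, hd, (h U).inl_desc]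
    have hcomm : C.str ≫ d₀ = s.pt.str := by
      rw [← b.comm, Category.assoc, hinl, s.inl.comm]
    refine ⟨⟨d₀, hcomm⟩, RelSpec.QCAlg.hom_ext hinl, qcAlg_hom_ext fun U => ?_⟩
    show b'.hom.app _ ≫ d₀.app _ = _
    rw [hd, (h U).inr_desc]
  choose d hd₁ hd₂ using key
  refine ⟨⟨w⟩, ⟨PushoutCocone.IsColimit.mk w d hd₁ hd₂ fun s m h₁ h₂ => qcAlg_hom_ext fun U => ?_⟩⟩
  refine (h U).hom_ext ?_ ?_
  · exact NatTrans.congr_app (congrArg RelSpec.QCAlg.Hom.hom (h₁.trans (hd₁ s).symm)) (op (U : S.Opens))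
  · exact NatTrans.congr_app (congrArg RelSpec.QCAlg.Hom.hom (h₂.trans (hd₂ s).symm)) (op (U : S.Opens))

variable {X X' Y Z : Scheme.{u}}

theorem isPushout_algHom (g : Y ⟶ S) [IsAffineHom g] (f : X ⟶ Y) [IsAffineHom f] (f' : X' ⟶ Y) [IsAffineHom f']
    {p : Z ⟶ X} {p' : Z ⟶ X'} (hZ : IsPullback p p' f f') (h' : p' ≫ f' ≫ g = p ≫ f ≫ g)
    (U : S.Opens) (hU : IsAffineOpen U) :
    IsPushout ((AffAlg.algHom g (f ≫ g) f rfl).app (op U)) ((AffAlg.algHom g (f' ≫ g) f' rfl).app (op U))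
      ((AffAlg.algHom (f ≫ g) (p ≫ f ≫ g) p rfl).app (op U))
      ((AffAlg.algHom (f' ≫ g) (p ≫ f ≫ g) p' h').app (op U)) := by
  have e' : (p ≫ f ≫ g) ⁻¹ᵁ U ≤ p' ⁻¹ᵁ (f' ≫ g) ⁻¹ᵁ U := by rw [← Scheme.Hom.comp_preimage, h']
  rw [AffAlgLib.algHom_app g (f ≫ g) f rfl U le_rfl, AffAlgLib.algHom_app g (f' ≫ g) f' rfl U le_rfl,
    AffAlgLib.algHom_app (f ≫ g) (p ≫ f ≫ g) p rfl U le_rfl,
    AffAlgLib.algHom_app (f' ≫ g) (p ≫ f ≫ g) p' h' U e']
  let UY := g ⁻¹ᵁ U
  exact (isIso_pushoutSection_iff hZ (US := UY) (UT := f' ⁻¹ᵁ UY) (UX := f ⁻¹ᵁ UY) le_rfl le_rfl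
    (UY := (p ≫ f ≫ g) ⁻¹ᵁ U) (le_antisymm (le_inf le_rfl e') inf_le_left)).1
    (isIso_pushoutSection_of_isAffineOpen hZ _ _ _ (hU.preimage g) ((hU.preimage g).preimage f')
      ((hU.preimage g).preimage f))

end Groth.Agent.RelVALib
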