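import Mathlib
import Groth.Prelude.Def_RelSpec
import Groth.Prelude.Def_AffAlg
import Groth.Agent.H8Lim.RelSpecMap
import Groth.Agent.H8Lim.AffineModel
import Groth.Agent.H8Lim.ImmersionStage

/-!
# Quasi-affine morphisms and the relative spectrum of the direct image
-/

set_option autoImplicit false
set_option backward.isDefEq.respectTransparency.types false

universe u

open CategoryTheory Limits AlgebraicGeometry TopologicalSpace Opposite

namespace Groth.Agent.RelVALib

variable {X Y : Scheme.{u}} (f : X ⟶ Y)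

/-- A morphism with quasi-affine preimages of affine opens is separated. -/
theorem isSeparated_of_quasiAffine_preimage
    (hf : ∀ V : Y.Opens, IsAffineOpen V → Scheme.IsQuasiAffine (f ⁻¹ᵁ V : Scheme.{u})) :
    IsSeparated f := by
  refine IsZariskiLocalAtTarget.of_iSup_eq_top (P := @IsSeparated)
    (fun V : Y.affineOpens ↦ V.1) (iSup_affineOpens_eq_top Y) fun V ↦ ?_
  have := hf V.1 V.2
  have : IsSeparated ((f ∣_ V.1) ≫ terminal.from V.1.toScheme) := by
    rw [terminal.comp_from]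
    exact inferInstance
  exact IsSeparated.of_comp (f ∣_ V.1) (terminal.from V.1.toScheme)

variable [QuasiCompact f] [QuasiSeparated f]

/-- The canonical morphism into the relative spectrum of the direct image. -/
noncomputable def toRelSpec : X ⟶ (RelSpec.QCAlg.directImage f).spec :=
  H8Lim.toSpec f (A := RelSpec.QCAlg.directImage f) (𝟙 _)

@[reassoc]
theorem toRelSpec_π : toRelSpec f ≫ (RelSpec.QCAlg.directImage f).π = f :=
  H8Lim.toSpec_π f (A := RelSpec.QCAlg.directImage f) (𝟙 _) (Category.comp_id _)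

/-- The canonical morphism of a quasi-affine morphism is an open immersion. -/
theorem isOpenImmersion_toRelSpec
    (hf : ∀ V : Y.Opens, IsAffineOpen V → Scheme.IsQuasiAffine (f ⁻¹ᵁ V : Scheme.{u})) :
    IsOpenImmersion (toRelSpec f) := by
  let A := RelSpec.QCAlg.directImage f
  let c := toRelSpec f
  refine IsZariskiLocalAtTarget.of_iSup_eq_top (P := @IsOpenImmersion)
    (fun V : Y.affineOpens ↦ A.π ⁻¹ᵁ V.1)
    (by rw [← Scheme.Hom.preimage_iSup, iSup_affineOpens_eq_top, Scheme.Hom.preimage_top]) fun V ↦ ?_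
  have := hf V.1 V.2
  have hchart : IsOpenImmersion ((f ⁻¹ᵁ V.1).ι ≫ c) := by
    rw [show (f ⁻¹ᵁ V.1).ι ≫ c = H8Lim.toSpecChart f (A := A) (𝟙 _) V from
      H8Lim.ι_toSpec f (A := A) (𝟙 _) V, H8Lim.toSpecChart]
    have : IsIso (Spec.map (H8Lim.algComp f (A := A) (𝟙 _) V.1)) := by
      have : IsIso (H8Lim.algComp f (A := A) (𝟙 _) V.1) := by
        change IsIso ((𝟙 (f.base _* X.presheaf) : _ ⟶ _).app (op V.1))
        infer_instance
      infer_instance
    have : IsOpenImmersion (f ⁻¹ᵁ V.1).toSpecΓ := by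
      unfold Scheme.Opens.toSpecΓ
      infer_instance
    infer_instance
  have heq : c ⁻¹ᵁ (A.π ⁻¹ᵁ V.1) = f ⁻¹ᵁ V.1 := by
    rw [← Scheme.Hom.comp_preimage, toRelSpec_π]
  have : IsOpenImmersion ((c ∣_ (A.π ⁻¹ᵁ V.1)) ≫ (A.π ⁻¹ᵁ V.1).ι) := by
    rw [morphismRestrict_ι, show (c ⁻¹ᵁ (A.π ⁻¹ᵁ V.1)).ι =
      (X.isoOfEq heq).hom ≫ (f ⁻¹ᵁ V.1).ι from (X.isoOfEq_hom_ι heq).symm, Category.assoc]
    exact inferInstance
  exact IsOpenImmersion.of_comp _ (A.π ⁻¹ᵁ V.1).ι

theorem quasiCompact_toRelSpec : QuasiCompact (toRelSpec f) := by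
  have : QuasiCompact (toRelSpec f ≫ (RelSpec.QCAlg.directImage f).π) := by
    rw [toRelSpec_π]; infer_instance
  exact QuasiCompact.of_comp _ (RelSpec.QCAlg.directImage f).π

theorem algHom_app_eq {T : Scheme.{u}} (g : T ⟶ Y) (p : X ⟶ Y) (c : T ⟶ X) (w : c ≫ p = g)
    (U : Y.Opens) :
    (AffAlg.algHom p g c w).app (op U) =
      c.appLE (p ⁻¹ᵁ U) (g ⁻¹ᵁ U) (by rw [← w, Scheme.Hom.comp_preimage]) := by
  subst w
  simp only [AffAlg.algHom, eqToHom_refl, Category.comp_id, Scheme.Hom.appLE]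
  erw [CategoryTheory.Functor.map_id, Category.comp_id]
  rfl

theorem gammaMap_eq_algHom :
    (RelSpec.QCAlg.directImage f).gammaMap =
      AffAlg.algHom (RelSpec.QCAlg.directImage f).π f (toRelSpec f) (toRelSpec_π f) := by
  let A := RelSpec.QCAlg.directImage f
  apply (Functor.IsCoverDense.restrictHomEquivHom (G := Scheme.AffineZariskiSite.toOpensFunctor Y)
    (K := Opens.grothendieckTopology Y) (ℱ := A.π.base _* A.spec.presheaf)
    (ℱ' := (⟨A.presheaf, A.isSheaf⟩ : TopCat.Sheaf CommRingCat.{u} Y.carrier))).symm.injective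
  ext U : 2
  change A.gammaMap.app (op U.unop.1) = (AffAlg.algHom A.π f (toRelSpec f) (toRelSpec_π f)).app (op U.unop.1)
  rw [A.gammaMap_app U.unop.1 U.unop.2, algHom_app_eq]
  refine Eq.trans ?_ (H8Lim.toSpec_appLE f (A := A) (𝟙 _) ⟨U.unop.1, U.unop.2⟩ _).symm
  exact (Category.comp_id _).symm

/-- A morphism admitting a quasi-compact immersion into a scheme affine over the base has
quasi-affine preimages of affine opens. -/
theorem quasiAffine_preimage_of_immersion {P : Scheme.{u}} (c : X ⟶ P) (p : P ⟶ Y) [IsImmersion c]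
    [IsAffineHom p] (e : c ≫ p = f) {V : Y.Opens} (hV : IsAffineOpen V) :
    Scheme.IsQuasiAffine (f ⁻¹ᵁ V : Scheme.{u}) := by
  have : IsAffine (p ⁻¹ᵁ V).toScheme := hV.preimage p
  have : CompactSpace (f ⁻¹ᵁ V).toScheme :=
    isCompact_iff_compactSpace.mp (f.isCompact_preimage hV.isCompact)
  have hle : f ⁻¹ᵁ V ≤ c ⁻¹ᵁ (p ⁻¹ᵁ V) := by rw [← Scheme.Hom.comp_preimage, e]
  let l : (f ⁻¹ᵁ V).toScheme ⟶ (p ⁻¹ᵁ V).toScheme := c.resLE _ _ hle
  have : IsImmersion (l ≫ (p ⁻¹ᵁ V).ι) := by rw [Scheme.Hom.resLE_comp_ι]; infer_instance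
  have : IsImmersion l := IsImmersion.of_comp l (p ⁻¹ᵁ V).ι
  exact Scheme.IsQuasiAffine.of_isImmersion l

end Groth.Agent.RelVALib
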