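import Mathlib
import Groth.Prelude.Def_RelProj4
import Groth.Agent.RelSpecLib.Basic
import Groth.Agent.SymAlgLib.SpecMaps

/-!
# Base change of relative spectra
-/

set_option autoImplicit false
set_option linter.unusedSectionVars false
set_option backward.isDefEq.respectTransparency.types false
set_option maxHeartbeats 800000

universe u

open AlgebraicGeometry CategoryTheory CategoryTheory.Limits TopologicalSpace Opposite

namespace Groth.Agent.RelVALib

variable {S S' : Scheme.{u}} {g : S' ⟶ S} {A : RelSpec.QCAlg S} {B : RelSpec.QCAlg S'} {u : RelSpec.QHom g A B}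
  {h : B.spec ⟶ A.spec}

theorem specQMap_π (hh : RelSpec.IsSpecQMap u h) : h ≫ A.π = B.π ≫ g := by
  refine RelSpecLib.hom_ext_charts B (fun p : RelSpecLib.Pairs g ↦ p.1.2.1) (fun p ↦ p.1.2.2)
    (RelSpecLib.pairs_cover g) fun p ↦ ?_
  rw [reassoc_of% (hh _ p.1.1.2 _ p.1.2.2 p.2), A.ι_π, reassoc_of% (B.ι_π _ p.1.2.2), ← Spec.map_comp_assoc,
    ← IsAffineOpen.SpecMap_appLE_fromSpec g p.1.1.2 p.1.2.2 p.2, ← Spec.map_comp_assoc]
  congr 2
  rw [RelSpec.QHom.appLE, ← Category.assoc, u.str_app, Scheme.Hom.appLE, Category.assoc, Category.assoc]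
  congr 1
  exact (B.str.naturality (homOfLE p.2).op).symm

theorem isPullback_specQMap (hu : RelSpec.IsQBaseChange u) (hh : RelSpec.IsSpecQMap u h) :
    IsPullback h B.π A.π g := by
  have w := specQMap_π hh
  let L := pullback.lift h B.π w
  suffices IsIso L from IsPullback.of_iso_pullback ⟨w⟩ (asIso L) (pullback.lift_fst _ _ _) (pullback.lift_snd _ _ _)
  let J := RelSpecLib.Pairs g
  let m : ∀ V : J, pullback (A.ι V.1.1.1 V.1.1.2 ≫ A.π) (V.1.2.2.fromSpec ≫ g) ⟶ pullback A.π g := fun V =>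
    pullback.map _ _ _ _ (A.ι V.1.1.1 V.1.1.2) V.1.2.2.fromSpec (𝟙 S) (Category.comp_id _) (Category.comp_id _)
  have hsup : ⨆ V : J, (m V).opensRange = ⊤ := top_le_iff.1 fun z _ => by
    obtain ⟨V, hV⟩ := RelSpecLib.pairs_cover g (pullback.snd A.π g z)
    refine Opens.mem_iSup.2 ⟨V, ?_⟩
    show z ∈ Set.range (m V)
    rw [Scheme.Pullback.range_map]
    have hA : A.π (pullback.fst A.π g z) ∈ V.1.1.1 := by
      rw [← Scheme.Hom.comp_apply, pullback.condition, Scheme.Hom.comp_apply]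
      exact V.2 hV
    exact ⟨(A.π_preimage V.1.1.1 V.1.1.2).le hA, (V.1.2.2.range_fromSpec).ge hV⟩
  show MorphismProperty.isomorphisms Scheme L
  refine (IsZariskiLocalAtTarget.iff_of_iSup_eq_top _ hsup).2 fun V => ?_
  have hsq : IsPullback (Spec.map (u.appLE V.1.1.1 V.1.2.1 V.2)) (Spec.map (B.str.app (op V.1.2.1)))
      (A.ι V.1.1.1 V.1.1.2 ≫ A.π) (V.1.2.2.fromSpec ≫ g) := by
    rw [A.ι_π, ← IsAffineOpen.SpecMap_appLE_fromSpec g V.1.1.2 V.1.2.2 V.2]
    exact SymAlgLib.isPullback_comp_mono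
      (isPullback_SpecMap_of_isPushout _ _ _ _ (hu _ V.1.1.2 _ V.1.2.2 V.2).flip) _
  let k := hsq.isoPullback.hom
  have hLk : B.ι V.1.2.1 V.1.2.2 ≫ L = k ≫ m V := by
    refine pullback.hom_ext ?_ ?_
    · simp only [k, m, L, pullback.map, Category.assoc, pullback.lift_fst,
        hh _ V.1.1.2 _ V.1.2.2 V.2, IsPullback.isoPullback_hom_fst_assoc]
    · simp only [k, m, L, pullback.map, Category.assoc, pullback.lift_snd, RelSpec.QCAlg.ι_π,
        IsPullback.isoPullback_hom_snd_assoc]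
  have hpre : L ⁻¹ᵁ (m V).opensRange = (B.ι V.1.2.1 V.1.2.2).opensRange := by
    refine le_antisymm (fun z hz => ?_) ?_
    · obtain ⟨t, ht⟩ := hz
      have hsnd : pullback.snd A.π g (m V t) =
          V.1.2.2.fromSpec (pullback.snd (A.ι V.1.1.1 V.1.1.2 ≫ A.π) (V.1.2.2.fromSpec ≫ g) t) := by
        rw [← Scheme.Hom.comp_apply, pullback.lift_snd, Scheme.Hom.comp_apply]
      have h2 : B.π z = V.1.2.2.fromSpec (pullback.snd (A.ι V.1.1.1 V.1.1.2 ≫ A.π) (V.1.2.2.fromSpec ≫ g) t) := by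
        rw [← hsnd, ht, ← Scheme.Hom.comp_apply, pullback.lift_snd]
      rw [← B.π_preimage V.1.2.1 V.1.2.2]
      show B.π z ∈ V.1.2.1
      rw [h2]
      exact (V.1.2.2.range_fromSpec).le ⟨_, rfl⟩
    · rintro _ ⟨t, rfl⟩
      exact ⟨k t, by rw [← Scheme.Hom.comp_apply, ← hLk]; rfl⟩
  have hpb := (IsOpenImmersion.isPullback k (B.ι V.1.2.1 V.1.2.2) (m V) L hLk hpre).flip
  show MorphismProperty.isomorphisms Scheme (L ∣_ (m V).opensRange)
  refine (MorphismProperty.arrow_mk_iso_iff (MorphismProperty.isomorphisms Scheme)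
    (morphismRestrictOpensRange L (m V))).2 ?_
  rw [← hpb.isoPullback_inv_snd]
  exact MorphismProperty.comp_mem _ _ _ (inferInstanceAs (IsIso hpb.isoPullback.inv)) (inferInstanceAs (IsIso k))

end Groth.Agent.RelVALib
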