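import Groth.Agent.RelVALib.SpecBaseChange
import Groth.Agent.SymAlgLib.Consequences
import Groth.Agent.Coherent.PullUnit

/-!
# The symmetric algebra commutes with base change
-/

set_option autoImplicit false
set_option linter.unusedSectionVars false
set_option backward.isDefEq.respectTransparency false
set_option maxHeartbeats 800000

universe u

open AlgebraicGeometry CategoryTheory CategoryTheory.Limits TopologicalSpace Opposite
open Groth.Agent.Coherent Groth.Agent.PicLib Groth.Agent.EGA43.InjFibre

namespace Groth.Agent.RelVALib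

variable {S S' : Scheme.{u}} {g : S' ⟶ S} {E : S.Modules} {A : RelSpec.QCAlg S} {j : E ⟶ A.toModule}
  {B : RelSpec.QCAlg S'} {j' : (Scheme.Modules.pullback g).obj E ⟶ B.toModule} {u : RelSpec.QHom g A B}

theorem appLE_j (hu : ∀ (U : S.Opens) (x : Γ(E, U)),
      (u.app U).hom ((j.app U) x) =
        (j'.app (g ⁻¹ᵁ U)) (((Scheme.Modules.pullbackPushforwardAdjunction g).unit.app E).app U x))
    [Coh.IsQCoh E] {U : S.Opens} (hU : IsAffineOpen U) {U' : S'.Opens} (hU' : IsAffineOpen U')
    (hle : U' ≤ g ⁻¹ᵁ U) (x : Γ(E, U)) :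
    (u.appLE U U' hle).hom (j.app U x) = j'.app U' (pullMap g hU hU' hle E x) := by
  rw [pullMap_eq_resM_pullSec]
  show B.presheaf.map (homOfLE hle).op ((u.app U).hom (j.app U x)) = _
  rw [hu U x]
  exact congr($(j'.mapPresheaf.naturality (homOfLE hle).op) _).symm

theorem isQBaseChange_sym (hE : Coh.IsQCoh E) (hA : RelSpec.IsSymAlg E A j)
    (hB : RelSpec.IsSymAlg ((Scheme.Modules.pullback g).obj E) B j')
    (hu : ∀ (U : S.Opens) (x : Γ(E, U)),
      (u.app U).hom ((j.app U) x) =
        (j'.app (g ⁻¹ᵁ U)) (((Scheme.Modules.pullbackPushforwardAdjunction g).unit.app E).app U x)) :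
    RelSpec.IsQBaseChange u := by
  intro U hU U' hU' hle
  have w : g.appLE U U' hle ≫ B.str.app (op U') = A.str.app (op U) ≫ u.appLE U U' hle := by
    rw [RelSpec.QHom.appLE, ← Category.assoc, u.str_app, Scheme.Hom.appLE, Category.assoc, Category.assoc]
    congr 1
    exact B.str.naturality (homOfLE hle).op
  have hE' : Coh.IsQCoh ((Scheme.Modules.pullback g).obj E) := isQCoh_pullback g E
  let _ := (g.appLE U U' hle).hom.toAlgebra
  let _ := Module.compHom Γ((Scheme.Modules.pullback g).obj E, U') (g.appLE U U' hle).hom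
  have : IsScalarTower Γ(S, U) Γ(S', U') Γ((Scheme.Modules.pullback g).obj E, U') :=
    IsScalarTower.of_algebraMap_smul fun _ _ => rfl
  obtain ⟨μ, hμ, hμe⟩ := pullMap_isBaseChange g hU hU' hle E
  have lift : ∀ {C : CommRingCat.{u}} (p : Γ(S', U') ⟶ C) (q : A.presheaf.obj (op U) ⟶ C),
      g.appLE U U' hle ≫ p = A.str.app (op U) ≫ q →
      ∃ F : B.presheaf.obj (op U') ⟶ C, B.str.app (op U') ≫ F = p ∧ u.appLE U U' hle ≫ F = q := by
    intro C p q hpq
    let _ : Module Γ(S', U') C := Module.compHom C p.hom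
    let _ : Module Γ(S, U) C := Module.compHom C (g.appLE U U' hle ≫ p).hom
    have : IsScalarTower Γ(S, U) Γ(S', U') C := IsScalarTower.of_algebraMap_smul fun _ _ => rfl
    let b₀ : Γ(E, U) →ₗ[Γ(S, U)] C :=
      { toFun := fun x => q (j.app U x)
        map_add' := fun x y => by rw [map_add, map_add]
        map_smul' := fun r x => by
          rw [Scheme.Modules.Hom.app_smul]
          show q.hom ((A.str.app (op U)).hom r * _) = p.hom ((g.appLE U U' hle).hom r) * q (j.app U x)
          rw [map_mul]
          exact congrArg (· * _) (ConcreteCategory.congr_hom hpq r).symm }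
    let b := hμ.lift b₀
    obtain ⟨F, hF0, hF1⟩ := SymAlgLib.exists_sectionsHom hB hU' p.hom b.toAddMonoidHom
      (fun r x => b.map_smul r x)
    refine ⟨CommRingCat.ofHom F, CommRingCat.hom_ext (RingHom.ext hF0), CommRingCat.hom_ext ?_⟩
    refine SymAlgLib.sectionsHom_ext hA hU (fun r => ?_) (fun x => ?_)
    · show F ((u.appLE U U' hle).hom ((A.str.app (op U)).hom r)) = _
      rw [← ConcreteCategory.comp_apply, ← w]
      exact (hF0 _).trans (ConcreteCategory.congr_hom hpq r)
    · show F ((u.appLE U U' hle).hom (j.app U x)) = _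
      rw [appLE_j hu hU hU' hle x, ← hμe]
      exact (hF1 _).trans (hμ.lift_eq b₀ x)
  have uniq : ∀ {C : CommRingCat.{u}} {F G : B.presheaf.obj (op U') ⟶ C},
      B.str.app (op U') ≫ F = B.str.app (op U') ≫ G → u.appLE U U' hle ≫ F = u.appLE U U' hle ≫ G → F = G := by
    intro C F G h0 h1
    refine CommRingCat.hom_ext (SymAlgLib.sectionsHom_ext hB hU' (fun r => ConcreteCategory.congr_hom h0 r) ?_)
    intro z
    induction z using hμ.inductionOn with
    | zero => simp
    | tmul x =>
      rw [hμe, ← appLE_j hu hU hU' hle x]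
      exact ConcreteCategory.congr_hom h1 _
    | smul r z hz =>
      rw [Scheme.Modules.Hom.app_smul]
      show F.hom ((B.str.app (op U')).hom r * _) = G.hom ((B.str.app (op U')).hom r * _)
      rw [map_mul, map_mul, hz]
      exact congrArg (· * _) (ConcreteCategory.congr_hom h0 r)
    | add a b ha hb => rw [map_add, map_add, map_add, ha, hb]
  refine ⟨⟨w⟩, ⟨PushoutCocone.IsColimit.mk _ (fun s => (lift s.inl s.inr s.condition).choose)
    (fun s => (lift s.inl s.inr s.condition).choose_spec.1)
    (fun s => (lift s.inl s.inr s.condition).choose_spec.2) (fun s m h1 h2 => ?_)⟩⟩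
  exact uniq (h1.trans (lift s.inl s.inr s.condition).choose_spec.1.symm)
    (h2.trans (lift s.inl s.inr s.condition).choose_spec.2.symm)

end Groth.Agent.RelVALib
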