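import Groth.Agent.RelVALib.UPPhi
import Groth.Agent.QCohLoc.Basic

/-!
# Local morphisms into a projective bundle
-/

set_option autoImplicit false
set_option linter.unusedSectionVars false
set_option backward.isDefEq.respectTransparency.types false
set_option maxHeartbeats 1000000

universe u

open AlgebraicGeometry CategoryTheory TopologicalSpace Opposite HomogeneousLocalization
open Groth.Agent.Coherent Groth.Agent.PicLib Groth.Agent.AmpleLib

namespace Groth.Agent.RelVALib

variable {Y P X : Scheme.{u}} {E : Y.Modules} {𝒮 : RelProj.QCGrAlg Y} {j : E ⟶ 𝒮.toModule} {p : P ⟶ Y}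
  {chart : ∀ (U : Y.Opens) (hU : IsAffineOpen U), ((p ⁻¹ᵁ U : P.Opens) : Scheme.{u}) ≅ Proj (𝒮.deg U hU)}
  {O1 : P.Modules}
  {lam : ∀ (U : Y.Opens) (hU : IsAffineOpen U),
    O1 ⟶ (Scheme.Modules.pushforward (RelProj.emb p chart U hU)).obj (GrTwist.twist (𝒮.deg U hU) 1)}
  {φ : E ⟶ (Scheme.Modules.pushforward p).obj O1}

variable (D : PBundle E 𝒮 j p chart O1 lam φ) (g : X ⟶ Y) {L : X.Modules}
  (t : E ⟶ (Scheme.Modules.pushforward g).obj L)

/-- A local morphism given by the coordinates `t` relative to `t e`. -/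
structure Good (r : X.Opens) (f : (r : Scheme.{u}) ⟶ P) {U : Y.Opens} (hU : IsAffineOpen U) (e : Γ(E, U)) : Prop where
  le : r ≤ g ⁻¹ᵁ U
  isOver : f ≫ p = r.ι ≫ g
  range : (⊤ : r.toScheme.Opens) ≤ f ⁻¹ᵁ opn j p chart hU e
  gen : IsGen L r (resM L le (t.app U e))
  rel : ∀ (e' : Γ(E, U)) (c : Γ(P, opn j p chart hU e)),
    c • resM O1 (D.opn_le hU e) (φ.app U e) = resM O1 (D.opn_le hU e) (φ.app U e') →
      ev f (opn j p chart hU e) range c • resM L le (t.app U e) = resM L le (t.app U e')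

variable {D g t}

theorem t_res {U V : Y.Opens} (hVU : V ≤ U) (e : Γ(E, U)) :
    t.app V (resM E hVU e) = resM L (g.preimage_mono hVU) (t.app U e) := app_resM t hVU e

theorem t_smul {U : Y.Opens} (r : Γ(Y, U)) (e : Γ(E, U)) :
    t.app U (r • e) = (show Γ(X, g ⁻¹ᵁ U) from g.app U r) • (show Γ(L, g ⁻¹ᵁ U) from t.app U e) :=
  Scheme.Modules.Hom.app_smul t r e

theorem phi_smul {U : Y.Opens} (r : Γ(Y, U)) (e : Γ(E, U)) :
    φ.app U (r • e) = (show Γ(P, p ⁻¹ᵁ U) from p.app U r) • (show Γ(O1, p ⁻¹ᵁ U) from φ.app U e) :=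
  Scheme.Modules.Hom.app_smul φ r e

/-- There is a local morphism wherever `t e` generates. -/
theorem exists_good {U : Y.Opens} (hU : IsAffineOpen U) (e : Γ(E, U)) {W : X.Opens} (hW : W ≤ g ⁻¹ᵁ U)
    (hgen : IsGen L W (resM L hW (t.app U e))) : ∃ f, Good D g t W f hU e := by
  have := D.hE
  let a : Γ(Y, U) →+* Γ(X, W) := (g.appLE U W hW).hom
  let co : Γ(E, U) → Γ(X, W) := fun e' => hgen.coef le_rfl (resM L hW (t.app U e'))
  have hco : ∀ e', co e' • resM L hW (t.app U e) = resM L hW (t.app U e') := fun e' => by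
    have h := hgen.coef_spec le_rfl (resM L hW (t.app U e'))
    rwa [resM_self] at h
  obtain ⟨F, hF0, hF1⟩ := SymAlgLib.exists_sectionsHom D.hj.1 hU a
    (AddMonoidHom.mk' co fun x y => (congrArg (hgen.coef le_rfl)
      ((congrArg (resM L hW) (map_add (t.app U).hom x y)).trans (map_add (resM L hW) _ _))).trans (hgen.coef_add _ _ _))
    (fun r x => by
      show co (r • x) = a r * co x
      simp only [co]
      rw [t_smul, resM_smul, hgen.coef_smul]
      rfl)
  have hFe : F (gen1 j U e) = 1 := (hF1 e).trans (hgen.coef_eq le_rfl (by rw [resM_self, one_smul]))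
  have hu : IsUnit (F (gen1 j U e)) := hFe.symm ▸ isUnit_one
  let ρ : Γ(P, opn j p chart hU e) →+* Γ(X, W) :=
    (RelConeLib.awayLift (ℬ := 𝒮.deg U hU) F (gen1 j U e) hu).comp
      (RingEquiv.ofBijective (PBundle.theta D.hj hU e) (D.theta_bijective hU e)).symm.toRingHom
  have hρ : ∀ q, ρ (PBundle.theta D.hj hU e q) = RelConeLib.awayLift (ℬ := 𝒮.deg U hU) F (gen1 j U e) hu q := fun q =>
    congrArg (RelConeLib.awayLift (ℬ := 𝒮.deg U hU) F (gen1 j U e) hu) ((RingEquiv.ofBijective (PBundle.theta D.hj hU e) (D.theta_bijective hU e)).symm_apply_apply q)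
  have hmk : ∀ (n : ℕ) (b : 𝒮.presheaf.obj (op U)) (hb : b ∈ 𝒮.deg U hU (n • 1)),
      RelConeLib.awayLift (ℬ := 𝒮.deg U hU) F (gen1 j U e) hu (Away.mk _ (D.gen1_mem hU e) n b hb) = F b :=
    fun n b hb => by
      have h := RelConeLib.awayLift_mk (ℬ := 𝒮.deg U hU) F (D.gen1_mem hU e) hu n b hb
      rwa [hFe, one_pow, mul_one] at h
  have h0 : ∀ r, ρ (p.appLE U _ (D.opn_le hU e) r) = a r := fun r => by
    rw [← D.theta_zero hU e r (by simpa using 𝒮.str_mem U hU r), hρ, hmk]
    exact hF0 r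
  obtain ⟨f, hrange, hev⟩ := exists_piece (D.isAffineOpen_opn hU e) ρ
  refine ⟨f, hW, ?_, hrange, hgen, fun e' c hc => ?_⟩
  · rw [eq_piece f (D.isAffineOpen_opn hU e) hrange, hev, Category.assoc, Category.assoc,
      ← IsAffineOpen.SpecMap_appLE_fromSpec p hU (D.isAffineOpen_opn hU e) (D.opn_le hU e), ← Spec.map_comp_assoc,
      show p.appLE U _ (D.opn_le hU e) ≫ CommRingCat.ofHom ρ = g.appLE U W hW from CommRingCat.hom_ext (RingHom.ext h0),
      Scheme.Opens.toSpecΓ_SpecMap_appLE_assoc, IsAffineOpen.toSpecΓ_fromSpec, Scheme.Hom.resLE_comp_ι]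
  · have hc' : c = PBundle.theta D.hj hU e
        (Away.mk (𝒮.deg U hU) (D.gen1_mem hU e) 1 (gen1 j U e') (by simpa using D.gen1_mem hU e')) := by
      refine ((D.isGen_phi hU e) _ le_rfl).1 ?_
      show c • resM O1 le_rfl _ = _ • resM O1 le_rfl _
      rw [resM_self, hc, D.theta_one]
    rw [hev, hc', hρ, hmk]
    show F (j.app U e') • _ = _
    rw [hF1]
    exact hco e'

namespace Good

variable {W : X.Opens} {f : (W : Scheme.{u}) ⟶ P} {U : Y.Opens} {hU : IsAffineOpen U} {e : Γ(E, U)}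

theorem ev_base (h : Good D g t W f hU e) (r : Γ(Y, U)) :
    ev f _ h.range (p.appLE U _ (D.opn_le hU e) r) = g.appLE U W h.le r :=
  ev_comp f p g h.isOver _ _ _ r

/-- A local morphism is unique. -/
theorem eq (h : Good D g t W f hU e) {f' : (W : Scheme.{u}) ⟶ P} (h' : Good D g t W f' hU e) : f = f' :=
  eq_of_ev (D.isAffineOpen_opn hU e) h.range h'.range (D.ringHom_ext hU e (fun r => by rw [h.ev_base, h'.ev_base])
    fun e' c hc => (h.gen W le_rfl).1 (by
      show ev f _ h.range c • resM L le_rfl _ = ev f' _ h'.range c • resM L le_rfl _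
      rw [resM_self, h.rel e' c hc, h'.rel e' c hc]))

/-- Shrinking the source. -/
theorem mono (h : Good D g t W f hU e) {W' : X.Opens} (hle : W' ≤ W) :
    Good D g t W' (X.homOfLE hle ≫ f) hU e where
  le := hle.trans h.le
  isOver := by rw [Category.assoc, h.isOver, Scheme.homOfLE_ι_assoc]
  range := fun y _ => h.range (Set.mem_univ (X.homOfLE hle y))
  gen := isGen_congr (resM_resM L h.le hle (t.app U e)) (h.gen.restrict hle)
  rel e' c hc := by
    rw [ev_homOfLE hle f h.range]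
    have h1 := congrArg (resM L hle) (h.rel e' c hc)
    rwa [resM_smul, resM_resM, resM_resM] at h1

/-- Changing the coordinate. -/
theorem change (h : Good D g t W f hU e) (e' : Γ(E, U)) (hgen' : IsGen L W (resM L h.le (t.app U e'))) :
    Good D g t W f hU e' := by
  let O := opn j p chart hU e
  let c := (D.isGen_phi hU e).coef le_rfl (resM O1 (D.opn_le hU e) (φ.app U e'))
  have hc : c • resM O1 (D.opn_le hU e) (φ.app U e) = resM O1 (D.opn_le hU e) (φ.app U e') := by
    simpa only [resM_self] using (D.isGen_phi hU e).coef_spec le_rfl (resM O1 (D.opn_le hU e) (φ.app U e'))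
  let B := P.basicOpen c
  have hgB : IsGen O1 B (resM O1 ((P.basicOpen_le c).trans (D.opn_le hU e)) (φ.app U e')) :=
    isGen_congr (resM_resM O1 _ _ _) (isGen_basicOpen_of_smul (D.isGen_phi hU e) hc)
  have hB' : B ≤ opn j p chart hU e' := D.le_opn hU e' _ hgB
  have hrB : (⊤ : W.toScheme.Opens) ≤ f ⁻¹ᵁ B := by
    have hu : IsUnit (ev f O h.range c) := by
      have h2 := h.gen.isUnit_coef hgen'
      rwa [h.gen.coef_eq le_rfl (by rw [resM_self]; exact h.rel e' c hc)] at h2
    have hu' : IsUnit (f.appLE O ⊤ h.range c) := by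
      have h3 := hu.map W.topIso.inv.hom
      have h4 : W.topIso.inv (ev f O h.range c) = f.appLE O ⊤ h.range c :=
        ConcreteCategory.congr_hom W.topIso.hom_inv_id _
      exact h4 ▸ h3
    have h5 := Scheme.basicOpen_of_isUnit W.toScheme hu'
    rw [Scheme.basicOpen_appLE] at h5
    exact fun y hy => (h5.ge hy).2
  refine ⟨h.le, h.isOver, hrB.trans (f.preimage_mono hB'), hgen', fun e'' c' hc' => ?_⟩
  let cc := (D.isGen_phi hU e).coef le_rfl (resM O1 (D.opn_le hU e) (φ.app U e''))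
  have hcc : cc • resM O1 (D.opn_le hU e) (φ.app U e) = resM O1 (D.opn_le hU e) (φ.app U e'') := by
    simpa only [resM_self] using (D.isGen_phi hU e).coef_spec le_rfl (resM O1 (D.opn_le hU e) (φ.app U e''))
  have hBc : res hB' c' * res (P.basicOpen_le c) c = res (P.basicOpen_le c) cc := by
    refine ((D.isGen_phi hU e) B (P.basicOpen_le c)).1 ?_
    show (res hB' c' * res (P.basicOpen_le c) c) • resM O1 _ _ = res (P.basicOpen_le c) cc • resM O1 _ _
    have h1 := congrArg (resM O1 (P.basicOpen_le c)) hc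
    have h2 := congrArg (resM O1 hB') hc'
    have h3 := congrArg (resM O1 (P.basicOpen_le c)) hcc
    rw [resM_smul, resM_resM, resM_resM] at h1 h2 h3
    rw [resM_resM, mul_smul, h1, h2, h3]
  have hev := congrArg (ev f B hrB) hBc
  rw [map_mul, ev_res f hB' hrB, ev_res f (P.basicOpen_le c) hrB, ev_res f (P.basicOpen_le c) hrB] at hev
  rw [← h.rel e' c hc, ← mul_smul, hev, h.rel e'' cc hcc]

/-- Shrinking the base to a basic open. -/
theorem basic (h : Good D g t W f hU e) (s : Γ(Y, U)) (hW : W ≤ g ⁻¹ᵁ Y.basicOpen s) :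
    Good D g t W f (hU.basicOpen s) (resM E (Y.basicOpen_le s) e) := by
  have := D.hE
  let V := Y.basicOpen s
  let hVU : V ≤ U := Y.basicOpen_le s
  let O := opn j p chart hU e
  let O' := opn j p chart (hU.basicOpen s) (resM E hVU e)
  have hO' : O' = O ⊓ p ⁻¹ᵁ V := D.opn_res hU (hU.basicOpen s) hVU e
  have hO'O : O' ≤ O := hO'.le.trans inf_le_left
  have hrange : (⊤ : W.toScheme.Opens) ≤ f ⁻¹ᵁ O' := by
    intro y _
    refine hO'.ge ⟨h.range (Set.mem_univ y), ?_⟩
    show (f ≫ p) y ∈ V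
    rw [h.isOver]
    exact hW y.2
  refine ⟨hW, h.isOver, hrange, ?_, fun e' c' hc' => ?_⟩
  · refine isGen_congr ?_ h.gen
    rw [t_res hVU, resM_resM]
  · obtain ⟨n, e0, he0⟩ := QCohLoc.exists_smul_eq_map E hU s e'
    replace he0 : resM E hVU e0 = res hVU (s ^ n) • e' := he0
    let c0 := (D.isGen_phi hU e).coef le_rfl (resM O1 (D.opn_le hU e) (φ.app U e0))
    have hc0 : c0 • resM O1 (D.opn_le hU e) (φ.app U e) = resM O1 (D.opn_le hU e) (φ.app U e0) := by
      simpa only [resM_self] using (D.isGen_phi hU e).coef_spec le_rfl (resM O1 (D.opn_le hU e) (φ.app U e0))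
    let b := p.appLE V O' (D.opn_le (hU.basicOpen s) _) (res hVU (s ^ n))
    have hbc : b * c' = res hO'O c0 := by
      refine ((D.isGen_phi (hU.basicOpen s) (resM E hVU e)) O' le_rfl).1 ?_
      show (b * c') • resM O1 le_rfl _ = res hO'O c0 • resM O1 le_rfl _
      rw [resM_self, mul_smul, hc']
      have h1 := congrArg (resM O1 hO'O) hc0
      rw [resM_smul, resM_resM, resM_resM] at h1
      rw [D.phi_res hVU e, resM_resM, h1]
      rw [← resM_resM O1 (p.preimage_mono hVU) (D.opn_le (hU.basicOpen s) _), ← D.phi_res hVU e0, he0, phi_smul, resM_smul]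
      rfl
    have hev := congrArg (ev f O' hrange) hbc
    rw [map_mul, ev_res f hO'O hrange, ev_comp f p g h.isOver _ _ hW] at hev
    have hu : IsUnit (g.appLE V W hW (res hVU (s ^ n))) := by
      rw [map_pow]
      exact ((RingedSpace.isUnit_res_basicOpen Y.toLocallyRingedSpace.toRingedSpace s).pow n).map _
    refine hu.smul_left_cancel.1 ?_
    rw [← mul_smul, hev, t_res hVU e, resM_resM, h.rel e0 c0 hc0]
    have h2 : resM L h.le (t.app U e0) = resM L hW (t.app V (resM E hVU e0)) := by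
      rw [t_res hVU e0, resM_resM]
    rw [h2, he0, t_smul, resM_smul]
    rfl

/-- Two local morphisms agree on overlaps. -/
theorem agree (h : Good D g t W f hU e) {U' : Y.Opens} {hU' : IsAffineOpen U'} {e' : Γ(E, U')} {W' : X.Opens}
    {f' : (W' : Scheme.{u}) ⟶ P} (h' : Good D g t W' f' hU' e') :
    X.homOfLE (inf_le_left : W ⊓ W' ≤ W) ≫ f = X.homOfLE (inf_le_right : W ⊓ W' ≤ W') ≫ f' := by
  have hloc : ∀ x : (W ⊓ W' : X.Opens), ∃ (s : Γ(Y, U)) (s' : Γ(Y, U')),
      Y.basicOpen s = Y.basicOpen s' ∧ g x.1 ∈ Y.basicOpen s := fun x =>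
    exists_basicOpen_le_affine_inter hU hU' (g x.1) ⟨h.le x.2.1, h'.le x.2.2⟩
  choose s s' hs hxs using hloc
  let M : (W ⊓ W' : X.Opens) → (W ⊓ W' : X.Opens).toScheme.Opens := fun x =>
    (W ⊓ W').ι ⁻¹ᵁ (g ⁻¹ᵁ Y.basicOpen (s x))
  have hM : IsOpenCover M := eq_top_iff.2 fun x _ => Opens.mem_iSup.2 ⟨x, hxs x⟩
  refine ((W ⊓ W' : X.Opens).toScheme.openCoverOfIsOpenCover M hM).hom_ext _ _ fun x => ?_
  let T : X.Opens := W ⊓ W' ⊓ g ⁻¹ᵁ Y.basicOpen (s x)
  have hTg : T ≤ g ⁻¹ᵁ Y.basicOpen (s x) := inf_le_right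
  have h1 := ((h.mono (inf_le_left.trans inf_le_left : T ≤ W)).basic (s x) hTg)
  have h2 := ((h'.mono (inf_le_left.trans inf_le_right : T ≤ W')).basic (s' x) (hTg.trans (g.preimage_mono (hs x).le)))
  have key : X.homOfLE (inf_le_left.trans inf_le_left : T ≤ W) ≫ f =
      X.homOfLE (inf_le_left.trans inf_le_right : T ≤ W') ≫ f' := by
    revert h2
    generalize Y.basicOpen_le (s' x) = hle
    generalize hU'.basicOpen (s' x) = hV
    revert hle hV
    rw [← hs x]
    intro hle hV h2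
    exact (h1.change _ h2.gen).eq h2
  have hlift : ∀ z, ((M x).ι ≫ (W ⊓ W').ι) z ∈ T := fun z => ⟨((M x).ι z).2, z.2⟩
  let l : (M x).toScheme ⟶ T.toScheme := IsOpenImmersion.lift T.ι ((M x).ι ≫ (W ⊓ W').ι) (by
    rintro _ ⟨z, rfl⟩
    rw [Scheme.Opens.range_ι]
    exact hlift z)
  have hl : (M x).ι = l ≫ X.homOfLE (inf_le_left : T ≤ W ⊓ W') := by
    rw [← cancel_mono (W ⊓ W').ι, Category.assoc, Scheme.homOfLE_ι]
    exact (IsOpenImmersion.lift_fac _ _ _).symm
  show (M x).ι ≫ X.homOfLE inf_le_left ≫ f = (M x).ι ≫ X.homOfLE inf_le_right ≫ f'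
  rw [hl, Category.assoc, Category.assoc, Scheme.homOfLE_homOfLE_assoc, Scheme.homOfLE_homOfLE_assoc, key]

end Good

end Groth.Agent.RelVALib
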