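import Groth.Agent.RelVALib.UPFunctor

/-!
# A criterion for classifying morphisms to be immersions
-/

set_option autoImplicit false
set_option linter.unusedSectionVars false
set_option backward.isDefEq.respectTransparency.types false
set_option maxHeartbeats 1000000

universe u

open AlgebraicGeometry CategoryTheory TopologicalSpace Opposite HomogeneousLocalization
open Groth.Agent.Coherent Groth.Agent.PicLib Groth.Agent.AmpleLib

namespace Groth.Agent.RelVALib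

variable {X Y P P₂ : Scheme.{u}} {E E₂ : Y.Modules}

/-- A morphism is an immersion if it is one over opens covering its image. -/
theorem isImmersion_of_cover {Z : Scheme.{u}} (r : X ⟶ Z) {ι : Type*} (G : ι → Z.Opens)
    (hcov : ∀ x : X, ∃ i, r x ∈ G i) (h : ∀ i, IsImmersion ((r ⁻¹ᵁ G i).ι ≫ r)) : IsImmersion r := by
  let G₀ : Z.Opens := ⨆ i, G i
  let l : X ⟶ G₀.toScheme := IsOpenImmersion.lift G₀.ι r (by
    rintro _ ⟨x, rfl⟩
    rw [Scheme.Opens.range_ι]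
    obtain ⟨i, hi⟩ := hcov x
    exact Opens.mem_iSup.2 ⟨i, hi⟩)
  have hl : l ≫ G₀.ι = r := IsOpenImmersion.lift_fac _ _ _
  have hcv : ⨆ i, G₀.ι ⁻¹ᵁ G i = ⊤ := eq_top_iff.2 fun z _ => by
    obtain ⟨i, hi⟩ := Opens.mem_iSup.1 z.2
    exact Opens.mem_iSup.2 ⟨i, hi⟩
  have : IsImmersion l := by
    refine (IsZariskiLocalAtTarget.iff_of_iSup_eq_top (P := @IsImmersion) _ hcv).2 fun i => ?_
    have hW : l ⁻¹ᵁ (G₀.ι ⁻¹ᵁ G i) = r ⁻¹ᵁ G i := by rw [← Scheme.Hom.comp_preimage, hl]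
    have e : (l ∣_ (G₀.ι ⁻¹ᵁ G i)) ≫ ((G₀.ι ⁻¹ᵁ G i).ι ≫ G₀.ι) = (X.isoOfEq hW).hom ≫ (r ⁻¹ᵁ G i).ι ≫ r := by
      rw [← Category.assoc, morphismRestrict_ι, Category.assoc, hl, Scheme.isoOfEq_hom_ι_assoc]
    have := h i
    have : IsImmersion ((l ∣_ (G₀.ι ⁻¹ᵁ G i)) ≫ ((G₀.ι ⁻¹ᵁ G i).ι ≫ G₀.ι)) := by rw [e]; infer_instance
    exact IsImmersion.of_comp _ ((G₀.ι ⁻¹ᵁ G i).ι ≫ G₀.ι)
  rw [← hl]
  infer_instance

/-- The ring map of a composite through open subschemes. -/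
theorem ev_resLE_comp {Z : Scheme.{u}} {r : X ⟶ Z} {G : Z.Opens} {W : X.Opens} (hW : W ≤ r ⁻¹ᵁ G)
    (f : (G : Scheme.{u}) ⟶ P) {O : P.Opens} (hO : IsAffineOpen O) (h : (⊤ : G.toScheme.Opens) ≤ f ⁻¹ᵁ O)
    (h' : (⊤ : W.toScheme.Opens) ≤ (r.resLE G W hW ≫ f) ⁻¹ᵁ O) (c : Γ(P, O)) :
    ev (r.resLE G W hW ≫ f) O h' c = r.appLE G W hW (ev f O h c) := by
  have e1 := eq_piece f hO h
  have e2 := eq_piece (r.resLE G W hW ≫ f) hO h'
  have e3 : W.toSpecΓ ≫ Spec.map (CommRingCat.ofHom (ev f O h) ≫ r.appLE G W hW) ≫ hO.fromSpec =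
      W.toSpecΓ ≫ Spec.map (CommRingCat.ofHom (ev (r.resLE G W hW ≫ f) O h')) ≫ hO.fromSpec := by
    rw [← e2, Spec.map_comp, Category.assoc, Scheme.Opens.toSpecΓ_SpecMap_appLE_assoc, ← e1]
  rw [← Category.assoc, ← Category.assoc, cancel_mono] at e3
  exact (ConcreteCategory.congr_hom (UPLib.toSpecΓ_map_injective e3) c).symm

variable {𝒮 : RelProj.QCGrAlg Y} {j : E ⟶ 𝒮.toModule} {p : P ⟶ Y}
  {chart : ∀ (U : Y.Opens) (hU : IsAffineOpen U), ((p ⁻¹ᵁ U : P.Opens) : Scheme.{u}) ≅ Proj (𝒮.deg U hU)}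
  {O1 : P.Modules}
  {lam : ∀ (U : Y.Opens) (hU : IsAffineOpen U),
    O1 ⟶ (Scheme.Modules.pushforward (RelProj.emb p chart U hU)).obj (GrTwist.twist (𝒮.deg U hU) 1)}
  {φ : E ⟶ (Scheme.Modules.pushforward p).obj O1}
  {𝒮₂ : RelProj.QCGrAlg Y} {j₂ : E₂ ⟶ 𝒮₂.toModule} {p₂ : P₂ ⟶ Y}
  {chart₂ : ∀ (U : Y.Opens) (hU : IsAffineOpen U), ((p₂ ⁻¹ᵁ U : P₂.Opens) : Scheme.{u}) ≅ Proj (𝒮₂.deg U hU)}
  {O₂ : P₂.Modules}
  {lam₂ : ∀ (U : Y.Opens) (hU : IsAffineOpen U),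
    O₂ ⟶ (Scheme.Modules.pushforward (RelProj.emb p₂ chart₂ U hU)).obj (GrTwist.twist (𝒮₂.deg U hU) 1)}
  {φ₂ : E₂ ⟶ (Scheme.Modules.pushforward p₂).obj O₂}

/-- A morphism into `opn` from coordinates. -/
theorem exists_coordPiece (D : PBundle E 𝒮 j p chart O1 lam φ) {Z : Scheme.{u}} (g : Z ⟶ Y) {U : Y.Opens}
    (hU : IsAffineOpen U) (e : Γ(E, U)) {W : Z.Opens} (hW : W ≤ g ⁻¹ᵁ U) (b : Γ(E, U) →+ Γ(Z, W))
    (hb : ∀ (r : Γ(Y, U)) (x : Γ(E, U)), b (r • x) = g.appLE U W hW r * b x) (he : b e = 1) :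
    ∃ (f : (W : Scheme.{u}) ⟶ P) (h : (⊤ : W.toScheme.Opens) ≤ f ⁻¹ᵁ opn j p chart hU e), f ≫ p = W.ι ≫ g ∧
      ∀ (e' : Γ(E, U)) (c : Γ(P, opn j p chart hU e)),
        c • resM O1 (D.opn_le hU e) (φ.app U e) = resM O1 (D.opn_le hU e) (φ.app U e') →
          ev f (opn j p chart hU e) h c = b e' := by
  have := D.hE
  obtain ⟨F, hF0, hF1⟩ := SymAlgLib.exists_sectionsHom D.hj.1 hU (g.appLE U W hW).hom b hb
  have hFe : F (gen1 j U e) = 1 := (hF1 e).trans he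
  have hu : IsUnit (F (gen1 j U e)) := hFe.symm ▸ isUnit_one
  let ρ : Γ(P, opn j p chart hU e) →+* Γ(Z, W) :=
    (RelConeLib.awayLift (ℬ := 𝒮.deg U hU) F (gen1 j U e) hu).comp
      (RingEquiv.ofBijective (PBundle.theta D.hj hU e) (D.theta_bijective hU e)).symm.toRingHom
  have hρ : ∀ q, ρ (PBundle.theta D.hj hU e q) = RelConeLib.awayLift (ℬ := 𝒮.deg U hU) F (gen1 j U e) hu q := fun q =>
    congrArg (RelConeLib.awayLift (ℬ := 𝒮.deg U hU) F (gen1 j U e) hu)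
      ((RingEquiv.ofBijective (PBundle.theta D.hj hU e) (D.theta_bijective hU e)).symm_apply_apply q)
  have hmk : ∀ (n : ℕ) (x : 𝒮.presheaf.obj (op U)) (hx : x ∈ 𝒮.deg U hU (n • 1)),
      RelConeLib.awayLift (ℬ := 𝒮.deg U hU) F (gen1 j U e) hu (Away.mk _ (D.gen1_mem hU e) n x hx) = F x :=
    fun n x hx => by
      have h := RelConeLib.awayLift_mk (ℬ := 𝒮.deg U hU) F (D.gen1_mem hU e) hu n x hx
      rwa [hFe, one_pow, mul_one] at h
  have h0 : ∀ r, ρ (p.appLE U _ (D.opn_le hU e) r) = g.appLE U W hW r := fun r => by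
    rw [← D.theta_zero hU e r (by simpa using 𝒮.str_mem U hU r), hρ, hmk]
    exact hF0 r
  obtain ⟨f, hrange, hev⟩ := exists_piece (D.isAffineOpen_opn hU e) ρ
  refine ⟨f, hrange, ?_, fun e' c hc => ?_⟩
  · rw [eq_piece f (D.isAffineOpen_opn hU e) hrange, hev, Category.assoc, Category.assoc,
      ← IsAffineOpen.SpecMap_appLE_fromSpec p hU (D.isAffineOpen_opn hU e) (D.opn_le hU e), ← Spec.map_comp_assoc,
      show p.appLE U _ (D.opn_le hU e) ≫ CommRingCat.ofHom ρ = g.appLE U W hW from CommRingCat.hom_ext (RingHom.ext h0),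
      Scheme.Opens.toSpecΓ_SpecMap_appLE_assoc, IsAffineOpen.toSpecΓ_fromSpec, Scheme.Hom.resLE_comp_ι]
  · have hc' : c = PBundle.theta D.hj hU e
        (Away.mk (𝒮.deg U hU) (D.gen1_mem hU e) 1 (gen1 j U e') (by simpa using D.gen1_mem hU e')) := by
      refine ((D.isGen_phi hU e) _ le_rfl).1 ?_
      show c • resM O1 le_rfl _ = _ • resM O1 le_rfl _
      rw [resM_self, hc, D.theta_one]
    rw [hev, hc', hρ, hmk]
    exact hF1 e'

/-- Coordinates dominating those of `t` give a factorization of the morphism classifying `t`. -/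
theorem exists_factor_piece (D : PBundle E 𝒮 j p chart O1 lam φ) (D₂ : PBundle E₂ 𝒮₂ j₂ p₂ chart₂ O₂ lam₂ φ₂)
    {q : X ⟶ Y} {L M : X.Modules} {t : E ⟶ (Scheme.Modules.pushforward q).obj L}
    {s : E₂ ⟶ (Scheme.Modules.pushforward q).obj M}
    {i : X ⟶ P} {hi : i ≫ p = q} {σ : (Scheme.Modules.pullback i).obj O1 ≅ L} (hσ : Classifies φ q t i hi σ)
    {r : X ⟶ P₂} {hr : r ≫ p₂ = q} {τ : (Scheme.Modules.pullback r).obj O₂ ≅ M} (hτ : Classifies φ₂ q s r hr τ)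
    {U : Y.Opens} (hU : IsAffineOpen U) (e : Γ(E, U)) (κ : Γ(E, U) →ₗ[Γ(Y, U)] Γ(E₂, U))
    (hrel : ∀ (W : X.Opens) (hW : W ≤ q ⁻¹ᵁ U), IsGen M W (resM M hW (s.app U (κ e))) →
      IsGen L W (resM L hW (t.app U e)) ∧ ∀ (e' : Γ(E, U)) (c : Γ(X, W)),
        c • resM L hW (t.app U e) = resM L hW (t.app U e') →
          c • resM M hW (s.app U (κ e)) = resM M hW (s.app U (κ e'))) :
    ∃ f : (opn j₂ p₂ chart₂ hU (κ e) : Scheme.{u}) ⟶ P, f ≫ p = (opn j₂ p₂ chart₂ hU (κ e)).ι ≫ p₂ ∧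
      r.resLE (opn j₂ p₂ chart₂ hU (κ e)) (r ⁻¹ᵁ opn j₂ p₂ chart₂ hU (κ e)) le_rfl ≫ f =
        (r ⁻¹ᵁ opn j₂ p₂ chart₂ hU (κ e)).ι ≫ i := by
  let G := opn j₂ p₂ chart₂ hU (κ e)
  let W := r ⁻¹ᵁ G
  have hW : W ≤ q ⁻¹ᵁ U := (r.preimage_mono (D₂.opn_le (hU) _)).trans (le_of_over hr _)
  have hgenM : IsGen M W (resM M hW (s.app (U) (κ e))) := by
    refine isGen_congr ?_ (isGen_of_iso τ (isGen_pullSec r (D₂.isGen_phi hU (κ e)) D₂.invertible))
    rw [← resM_pullSec, app_resM, hτ (U) hU (κ e)]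
    exact resM_resM M _ _ _
  obtain ⟨hgenL, hrel'⟩ := hrel W hW hgenM
  have hGU : G ≤ p₂ ⁻¹ᵁ U := D₂.opn_le (hU) _
  let hgG := D₂.isGen_phi hU (κ e)
  let co : Γ(E, U) → Γ(P₂, G) := fun e' => hgG.coef le_rfl (resM O₂ hGU (φ₂.app (U) (κ e')))
  have hco : ∀ e', co e' • resM O₂ hGU (φ₂.app (U) (κ e)) = resM O₂ hGU (φ₂.app (U) (κ e')) := fun e' => by
    have h := hgG.coef_spec le_rfl (resM O₂ hGU (φ₂.app (U) (κ e')))
    rwa [resM_self] at h
  have hadd : ∀ a b, co (a + b) = co a + co b := fun a b => by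
    refine Eq.trans ?_ (hgG.coef_add _ _ _)
    refine congrArg (hgG.coef le_rfl) ?_
    rw [map_add (κ)]
    exact (congrArg (resM O₂ hGU) (map_add (φ₂.app (U)).hom _ _)).trans (map_add (resM O₂ hGU) _ _)
  obtain ⟨f, hrange, hover, hfev⟩ := exists_coordPiece D p₂ (hU) e hGU (AddMonoidHom.mk' co hadd)
    (fun a y => by
      show co (a • y) = _ * co y
      simp only [co]
      rw [map_smul (κ), phi_smul, resM_smul, hgG.coef_smul]
      rfl)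
    (hgG.coef_eq le_rfl (by rw [resM_self, one_smul]))
  have hlW : W ≤ r ⁻¹ᵁ G := le_rfl
  have key : Good D q t W (r.resLE G W hlW ≫ f) (hU) e := by
    refine ⟨hW, ?_, fun y _ => hrange (Set.mem_univ (r.resLE G W hlW y)), hgenL, fun e' c hc => ?_⟩
    · rw [Category.assoc, hover, Scheme.Hom.resLE_comp_ι_assoc, hr]
    · rw [ev_resLE_comp hlW f (D.isAffineOpen_opn (hU) e) hrange, hfev e' c hc]
      have hG := good_of_classifies D₂ hτ hU (κ e) hW hgenM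
      have h1 := hG.rel (κ e') (co e') (hco e')
      rw [ev_restrict r _ le_rfl] at h1
      obtain ⟨c', hc'⟩ := (hgenL W le_rfl).2 (resM L hW (t.app (U) e'))
      simp only [resM_self] at hc'
      have h2 := hrel' e' c' hc'
      have h3 : r.appLE G W hlW (co e') = c' := (hgenM W le_rfl).1 (by
        show r.appLE G W hlW (co e') • resM M le_rfl _ = c' • resM M le_rfl _
        rw [resM_self, h2]
        exact h1)
      show r.appLE G W hlW (co e') • _ = _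
      rw [h3, hc']
  have heq := key.eq (good_of_classifies D hσ (hU) e hW hgenL)
  exact ⟨f, hover, heq⟩

/-- A classifying morphism dominating a classifying immersion is an immersion. -/
theorem isImmersion_of_dominates (D : PBundle E 𝒮 j p chart O1 lam φ) (D₂ : PBundle E₂ 𝒮₂ j₂ p₂ chart₂ O₂ lam₂ φ₂)
    {q : X ⟶ Y} {L M : X.Modules} {t : E ⟶ (Scheme.Modules.pushforward q).obj L}
    {s : E₂ ⟶ (Scheme.Modules.pushforward q).obj M}
    {i : X ⟶ P} {hi : i ≫ p = q} {σ : (Scheme.Modules.pullback i).obj O1 ≅ L} (hσ : Classifies φ q t i hi σ)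
    [IsImmersion i]
    {r : X ⟶ P₂} {hr : r ≫ p₂ = q} {τ : (Scheme.Modules.pullback r).obj O₂ ≅ M} (hτ : Classifies φ₂ q s r hr τ)
    (hdom : ∀ x : X, ∃ (U : Y.Opens) (_ : IsAffineOpen U) (e : Γ(E, U)) (κ : Γ(E, U) →ₗ[Γ(Y, U)] Γ(E₂, U)),
      (∃ (W : X.Opens) (hW : W ≤ q ⁻¹ᵁ U), x ∈ W ∧ IsGen M W (resM M hW (s.app U (κ e)))) ∧
        ∀ (W : X.Opens) (hW : W ≤ q ⁻¹ᵁ U), IsGen M W (resM M hW (s.app U (κ e))) →
          IsGen L W (resM L hW (t.app U e)) ∧ ∀ (e' : Γ(E, U)) (c : Γ(X, W)),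
            c • resM L hW (t.app U e) = resM L hW (t.app U e') →
              c • resM M hW (s.app U (κ e)) = resM M hW (s.app U (κ e'))) :
    IsImmersion r := by
  choose U hU e κ hx hrel using hdom
  refine isImmersion_of_cover r (fun x => opn j₂ p₂ chart₂ (hU x) (κ x (e x))) (fun x => ⟨x, ?_⟩) fun x => ?_
  · obtain ⟨W, hW, hxW, hgW⟩ := hx x
    exact (range_le_iff r _).1 (good_of_classifies D₂ hτ (hU x) _ hW hgW).range hxW
  obtain ⟨f, -, heq⟩ := exists_factor_piece D D₂ hσ hτ (hU x) (e x) (κ x) (hrel x)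
  let G := opn j₂ p₂ chart₂ (hU x) (κ x (e x))
  let W := r ⁻¹ᵁ G
  have hlW : W ≤ r ⁻¹ᵁ G := le_rfl
  have : IsImmersion (r.resLE G W hlW ≫ f) := by rw [heq]; infer_instance
  have : IsImmersion (r.resLE G W hlW) := IsImmersion.of_comp _ f
  rw [← Scheme.Hom.resLE_comp_ι r hlW]
  infer_instance

end Groth.Agent.RelVALib
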