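import Groth.Agent.RelVALib.VATensor
import Groth.Agent.PicLib.PicGroup

/-!
# Consequences for relatively very ample modules
-/

set_option autoImplicit false
set_option linter.unusedSectionVars false
set_option backward.isDefEq.respectTransparency.types false
set_option maxHeartbeats 1000000

universe u

open AlgebraicGeometry CategoryTheory CategoryTheory.Limits TopologicalSpace Opposite
open Groth.Agent.Coherent Groth.Agent.PicLib Groth.Agent.AmpleLib

namespace Groth.Agent.RelVALib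

variable {X Y : Scheme.{u}} {q : X ⟶ Y} {L L' : X.Modules}

theorem isRelVeryAmple_of_iso (e : L' ≅ L) (h : RelProj.IsRelVeryAmple q L) : RelProj.IsRelVeryAmple q L' := by
  obtain ⟨E, hE, 𝒮, j, hj, P, p, chart, hP, O1, lam, hO1, i, hi, hip, ⟨eL⟩⟩ := h
  exact ⟨E, hE, 𝒮, j, hj, P, p, chart, hP, O1, lam, hO1, i, hi, hip, ⟨e ≪≫ eL⟩⟩

theorem isRelVeryAmple_tensor (hva : RelProj.IsRelVeryAmple q L) (hva' : RelProj.IsRelVeryAmple q L')
    (hL : PicF.IsInvertible L) (hL' : PicF.IsInvertible L') :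
    RelProj.IsRelVeryAmple q (CohB1.tensorMod L L') := by
  obtain ⟨E', hE', 𝒮', j', hj', P', p', chart', hP', O1', lam', hO1', i', hi', hip', ⟨eL'⟩⟩ := hva'
  obtain ⟨φ', D'⟩ := exists_pBundle hE' hj' hP' hO1'
  obtain ⟨t', -, hcov'⟩ := exists_gen_classified D' i' hip' eL'.symm
  exact isRelVeryAmple_tensor_of_gen hva hL hL' hE' t' hcov'

theorem isRelVeryAmple_tensorPow (hva : RelProj.IsRelVeryAmple q L) (hL : PicF.IsInvertible L) :
    ∀ n : ℕ, RelProj.IsRelVeryAmple q (CohB1.tensorPow L (n + 1))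
  | 0 => isRelVeryAmple_of_iso (unitTensorIso L) hva
  | n + 1 => isRelVeryAmple_tensor (isRelVeryAmple_tensorPow hva hL n) hva (isInvertible_tensorPow hL (n + 1)) hL

theorem isRelVeryAmple_tensor_pullback (hva : RelProj.IsRelVeryAmple q L) (hL : PicF.IsInvertible L)
    {K : Y.Modules} (hK : PicF.IsInvertible K) :
    RelProj.IsRelVeryAmple q (CohB1.tensorMod L ((Scheme.Modules.pullback q).obj K)) := by
  refine isRelVeryAmple_tensor_of_gen hva hL (PicLoc.isInvertible_pullback q hK) (isQCoh_of_isInvertible hK)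
    ((Scheme.Modules.pullbackPushforwardAdjunction q).unit.app K) fun x => ?_
  obtain ⟨V, hxV, k, hk⟩ := exists_isGen hK (q x)
  obtain ⟨U, hU, hxU, hUV⟩ := Opens.isBasis_iff_nbhd.1 Y.isBasis_affineOpens hxV
  exact ⟨U, hU, resM K hUV k, q ⁻¹ᵁ U, le_rfl, hxU,
    isGen_congr (resM_self _ _ _).symm (isGen_pullSec q (hk.restrict hUV) hK)⟩

theorem isRelVeryAmple_iff_tensor_pullback (hL : PicF.IsInvertible L) {K : Y.Modules} (hK : PicF.IsInvertible K) :
    RelProj.IsRelVeryAmple q L ↔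
      RelProj.IsRelVeryAmple q (CohB1.tensorMod L ((Scheme.Modules.pullback q).obj K)) := by
  refine ⟨fun h => isRelVeryAmple_tensor_pullback h hL hK, fun h => ?_⟩
  obtain ⟨b, hb⟩ := PicM.exists_mul_eq_one (PicM.of hK)
  obtain ⟨K', hK', rfl⟩ := PicM.exists_eq_of b
  have hqK := PicLoc.isInvertible_pullback q hK
  have hqK' := PicLoc.isInvertible_pullback q hK'
  have h1 := isInvertible_tensorMod hL hqK
  have e : PicM.of hL = PicM.of (isInvertible_tensorMod h1 hqK') := by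
    rw [← PicM.of_mul h1 hqK', ← PicM.of_mul hL hqK, ← PicM.pull_of q hK, ← PicM.pull_of q hK', mul_assoc,
      ← map_mul, hb, map_one, mul_one]
  exact isRelVeryAmple_of_iso ((PicM.of_eq_iff _ _).1 e).some (isRelVeryAmple_tensor_pullback h h1 hK')

/-- Invertible modules on a scheme immersed by a quasi-compact separated morphism are very ample. -/
theorem isRelVeryAmple_of_isImmersion [IsImmersion q] [QuasiCompact q] (hL : PicF.IsInvertible L)
    (hgen : ∀ (W : X.Opens), ∀ x ∈ W, ∃ U : Y.Opens, q x ∈ U ∧ q ⁻¹ᵁ U ≤ W) :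
    RelProj.IsRelVeryAmple q L := by
  have := isQCoh_of_isInvertible hL
  refine isRelVeryAmple_of_classifies q L ((Scheme.Modules.pushforward q).obj L)
    (isQCoh_push q L) (𝟙 _) (fun x => ?_) fun 𝒮 j P p chart O1 lam φ D r hr τ _ => ?_
  · obtain ⟨W, hxW, g, hg⟩ := exists_isGen hL x
    obtain ⟨U₀, hxU₀, hUW⟩ := hgen W x hxW
    obtain ⟨U, hU, hxU, hUU⟩ := Opens.isBasis_iff_nbhd.1 Y.isBasis_affineOpens hxU₀
    have hle : q ⁻¹ᵁ U ≤ W := (q.preimage_mono hUU).trans hUW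
    exact ⟨U, hU, resM L hle g, q ⁻¹ᵁ U, le_rfl, hxU, isGen_congr (resM_self L _ _).symm (hg.restrict hle)⟩
  · have : IsImmersion (r ≫ p) := by rw [hr]; infer_instance
    exact IsImmersion.of_comp r p

theorem exists_preimage_le_of_isEmbedding (h : Topology.IsEmbedding q.base) (W : X.Opens) (x : X) (hx : x ∈ W) :
    ∃ U : Y.Opens, q x ∈ U ∧ q ⁻¹ᵁ U ≤ W := by
  obtain ⟨U, hU, hUW⟩ := h.isInducing.isOpen_iff.1 W.2
  refine ⟨⟨U, hU⟩, ?_, fun y hy => ?_⟩
  · have : x ∈ q.base ⁻¹' U := by rw [hUW]; exact hx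
    exact this
  · have : y ∈ q.base ⁻¹' U := hy
    rw [hUW] at this
    exact this

/-- Products over a base of very ample modules. -/
theorem isRelVeryAmple_fibreProd_map {S X₁ X₂ Y₁ Y₂ P Q : Scheme.{u}} (y₁ : Y₁ ⟶ S) (y₂ : Y₂ ⟶ S)
    (f₁ : X₁ ⟶ Y₁) (f₂ : X₂ ⟶ Y₂) (p₁ : P ⟶ X₁) (p₂ : P ⟶ X₂) (hP : IsPullback p₁ p₂ (f₁ ≫ y₁) (f₂ ≫ y₂))
    (q₁ : Q ⟶ Y₁) (q₂ : Q ⟶ Y₂) (hQ : q₁ ≫ y₁ = q₂ ≫ y₂) (h : P ⟶ Q)
    (hh₁ : h ≫ q₁ = p₁ ≫ f₁) (hh₂ : h ≫ q₂ = p₂ ≫ f₂)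
    (L₁ : X₁.Modules) (hL₁ : PicF.IsInvertible L₁) (hva₁ : RelProj.IsRelVeryAmple f₁ L₁)
    (L₂ : X₂.Modules) (hL₂ : PicF.IsInvertible L₂) (hva₂ : RelProj.IsRelVeryAmple f₂ L₂) :
    RelProj.IsRelVeryAmple h
      (CohB1.tensorMod ((Scheme.Modules.pullback p₁).obj L₁) ((Scheme.Modules.pullback p₂).obj L₂)) := by
  have hA := isRelVeryAmple_baseChange f₁ q₁ (pullback.fst f₁ q₁) (pullback.snd f₁ q₁) (IsPullback.of_hasPullback _ _)
    L₁ hva₁
  have hB := isRelVeryAmple_baseChange f₂ q₂ (pullback.fst f₂ q₂) (pullback.snd f₂ q₂) (IsPullback.of_hasPullback _ _)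
    L₂ hva₂
  let r₁ : P ⟶ pullback f₁ q₁ := pullback.lift p₁ h hh₁.symm
  let r₂ : P ⟶ pullback f₂ q₂ := pullback.lift p₂ h hh₂.symm
  have h1 : r₁ ≫ pullback.snd f₁ q₁ = h := pullback.lift_snd _ _ _
  have h2 : r₂ ≫ pullback.snd f₂ q₂ = h := pullback.lift_snd _ _ _
  let l := pullback.lift (f := pullback.snd f₁ q₁) (g := pullback.snd f₂ q₂) r₁ r₂ (h1.trans h2.symm)
  let m : pullback (pullback.snd f₁ q₁) (pullback.snd f₂ q₂) ⟶ pullback (f₁ ≫ y₁) (f₂ ≫ y₂) :=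
    pullback.lift (pullback.fst _ _ ≫ pullback.fst f₁ q₁) (pullback.snd _ _ ≫ pullback.fst f₂ q₂) (by
      simp only [Category.assoc, pullback.condition_assoc, hQ])
  have hlm : l ≫ m = hP.isoPullback.hom := by
    refine pullback.hom_ext ?_ ?_
    · exact (Category.assoc _ _ _).trans ((congrArg (l ≫ ·) (pullback.lift_fst _ _ _)).trans
        ((pullback.lift_fst_assoc _ _ _ _).trans ((pullback.lift_fst _ _ _).trans hP.isoPullback_hom_fst.symm)))
    · exact (Category.assoc _ _ _).trans ((congrArg (l ≫ ·) (pullback.lift_snd _ _ _)).trans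
        ((pullback.lift_snd_assoc _ _ _ _).trans ((pullback.lift_fst _ _ _).trans hP.isoPullback_hom_snd.symm)))
  have : IsImmersion (l ≫ m) := by rw [hlm]; infer_instance
  have : IsImmersion l := IsImmersion.of_comp l m
  have key := isRelVeryAmple_tensor_of_joint (q := h) (pullback.snd f₁ q₁) (pullback.snd f₂ q₂) r₁ r₂ h1 h2
    _ _ hA hB (PicLoc.isInvertible_pullback _ hL₁) (PicLoc.isInvertible_pullback _ hL₂)
  obtain ⟨c₁, -⟩ := exists_compIso r₁ (pullback.fst f₁ q₁) p₁ (pullback.lift_fst _ _ _) L₁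
  obtain ⟨c₂, -⟩ := exists_compIso r₂ (pullback.fst f₂ q₂) p₂ (pullback.lift_fst _ _ _) L₂
  exact isRelVeryAmple_of_iso (AmpleLib.tensorIso c₁ c₂) key

end Groth.Agent.RelVALib
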