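import Groth.Agent.RelVALib.UPBaseChange

/-!
# Base change of relatively very ample modules
-/

set_option autoImplicit false
set_option linter.unusedSectionVars false
set_option backward.isDefEq.respectTransparency.types false
set_option maxHeartbeats 1000000

universe u

open AlgebraicGeometry CategoryTheory TopologicalSpace Opposite
open Groth.Agent.Coherent Groth.Agent.PicLib Groth.Agent.AmpleLib

namespace Groth.Agent.RelVALib

variable {X Y X' Y' : Scheme.{u}}

theorem isRelVeryAmple_baseChange (f : X ⟶ Y) (g : Y' ⟶ Y) (g' : X' ⟶ X) (f' : X' ⟶ Y')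
    (hsq : IsPullback g' f' f g) (L : X.Modules) (hva : RelProj.IsRelVeryAmple f L) :
    RelProj.IsRelVeryAmple f' ((Scheme.Modules.pullback g').obj L) := by
  obtain ⟨E, hE, 𝒮, j, hj, P, p, chart, hP, O1, lam, hO1, i, hi, hip, ⟨eL⟩⟩ := hva
  obtain ⟨φ, D⟩ := exists_pBundle hE hj hP hO1
  have hE' : Coh.IsQCoh ((Scheme.Modules.pullback g).obj E) := by
    have := hE
    exact EGA43.InjFibre.isQCoh_pullback g E
  obtain ⟨𝒮', j', P', p', chart', O1', lam', φ', D'⟩ := exists_bundle ((Scheme.Modules.pullback g).obj E) hE'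
  let tg : E ⟶ (Scheme.Modules.pushforward (p' ≫ g)).obj O1' :=
    (Scheme.Modules.pullbackPushforwardAdjunction g).homEquiv E _ φ'
  have hcovg := (cover_iff tg p' rfl φ' (fun U _ e hle => (resM_self O1' hle (tg.app U e)).symm) D'.invertible).2 D'.cover
  obtain ⟨h, hh, τ, hτ⟩ := exists_classifies D hcovg
  have sq2 : IsPullback h p' p g := IsPullback.mk' hh (fun T m m' => bundle_hom_ext D' h hh τ hτ)
    fun T a b => exists_bundle_lift D D' h hh τ hτ a b
  let i' : X' ⟶ P' := sq2.lift (g' ≫ i) f' (by rw [Category.assoc, hip, hsq.w])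
  have h1 : i' ≫ h = g' ≫ i := sq2.lift_fst _ _ _
  have h2 : i' ≫ p' = f' := sq2.lift_snd _ _ _
  have sq1 : IsPullback g' i' i h := IsPullback.of_bot (by rw [h2, hip]; exact hsq) h1.symm sq2
  have : IsImmersion i' := MorphismProperty.of_isPullback (P := @IsImmersion) sq1 hi
  obtain ⟨c, -⟩ := exists_compIso g' i (i' ≫ h) h1.symm O1
  obtain ⟨c', -⟩ := exists_compIso i' h (i' ≫ h) rfl O1
  exact ⟨_, hE', 𝒮', j', D'.hj, P', p', chart', D'.hP, O1', lam', D'.hO1, i', this, h2,
    ⟨(Scheme.Modules.pullback g').mapIso eL ≪≫ c.symm ≪≫ c' ≪≫ (Scheme.Modules.pullback i').mapIso τ⟩⟩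

end Groth.Agent.RelVALib
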