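import Groth.Agent.RelVALib.UPImmersion
import Groth.Agent.RelVALib.VABaseChange
import Groth.Agent.Coherent.TensorQcoh

/-!
# Tensor products of relatively very ample modules
-/

set_option autoImplicit false
set_option linter.unusedSectionVars false
set_option backward.isDefEq.respectTransparency.types false
set_option maxHeartbeats 1000000

universe u

open AlgebraicGeometry CategoryTheory CategoryTheory.Limits TopologicalSpace Opposite
open Groth.Agent.Coherent Groth.Agent.PicLib Groth.Agent.AmpleLib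

namespace Groth.Agent.RelVALib

variable {X Y : Scheme.{u}}

/-- If a tensor generates, so do its factors. -/
theorem isGen_left_of_tmul {L M : X.Modules} (hL : PicF.IsInvertible L) (hM : PicF.IsInvertible M) {W : X.Opens}
    {a : Γ(L, W)} {b : Γ(M, W)} (h : IsGen (CohB1.tensorMod L M) W (tmul a b)) : IsGen L W a ∧ IsGen M W b := by
  choose U hxU g hg using exists_isGen hL
  choose V hxV g' hg' using exists_isGen hM
  have key : ∀ x : X, IsGen L (W ⊓ (U x ⊓ V x)) (resM L inf_le_left a) ∧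
      IsGen M (W ⊓ (U x ⊓ V x)) (resM M inf_le_left b) := by
    intro x
    let T := W ⊓ (U x ⊓ V x)
    have h1 := (hg x).restrict ((inf_le_right.trans inf_le_left) : T ≤ U x)
    have h2 := (hg' x).restrict ((inf_le_right.trans inf_le_right) : T ≤ V x)
    let c := h1.coef le_rfl (resM L (inf_le_left : T ≤ W) a)
    let c' := h2.coef le_rfl (resM M (inf_le_left : T ≤ W) b)
    have e1 : c • resM L (inf_le_right.trans inf_le_left : T ≤ U x) (g x) = resM L (inf_le_left : T ≤ W) a := by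
      simpa only [resM_self] using h1.coef_spec le_rfl (resM L (inf_le_left : T ≤ W) a)
    have e2 : c' • resM M (inf_le_right.trans inf_le_right : T ≤ V x) (g' x) = resM M (inf_le_left : T ≤ W) b := by
      simpa only [resM_self] using h2.coef_spec le_rfl (resM M (inf_le_left : T ≤ W) b)
    have h3 := h.restrict (inf_le_left : T ≤ W)
    rw [resM_tmul] at h3
    have hu : IsUnit (c * c') := by
      have h4 := (isGen_tmul h1 h2).isUnit_coef h3
      rwa [(isGen_tmul h1 h2).coef_eq le_rfl (by rw [resM_self, ← tmul_smul_smul, e1, e2])] at h4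
    exact ⟨isGen_congr e1 ((isGen_smul_iff (IsUnit.mul_iff.1 hu).1).2 h1),
      isGen_congr e2 ((isGen_smul_iff (IsUnit.mul_iff.1 hu).2).2 h2)⟩
  have hcov : W ≤ ⨆ x : X, W ⊓ (U x ⊓ V x) := fun x hx => Opens.mem_iSup.2 ⟨x, hx, hxU x, hxV x⟩
  exact ⟨isGen_of_cover _ (fun _ => inf_le_left) hcov fun x => (key x).1,
    isGen_of_cover _ (fun _ => inf_le_left) hcov fun x => (key x).2⟩

variable {E E' : Y.Modules} {q : X ⟶ Y} {L L' : X.Modules}

/-- The product of two maps to direct images. -/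
noncomputable def prodBilin (t : E ⟶ (Scheme.Modules.pushforward q).obj L)
    (t' : E' ⟶ (Scheme.Modules.pushforward q).obj L') :
    Bilin E E' ((Scheme.Modules.pushforward q).obj (CohB1.tensorMod L L')) where
  app U a b := (show Γ(CohB1.tensorMod L L', q ⁻¹ᵁ U) from
    tmul (show Γ(L, q ⁻¹ᵁ U) from t.app U a) (show Γ(L', q ⁻¹ᵁ U) from t'.app U b))
  add_left U a a' b := by rw [map_add]; exact tmul_add_left _ _ _
  add_right U a b b' := by rw [map_add]; exact tmul_add_right _ _ _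
  smul_left U r a b := by
    rw [Scheme.Modules.Hom.app_smul]
    exact tmul_smul_left (q.app U r) _ _
  smul_right U r a b := by
    rw [Scheme.Modules.Hom.app_smul]
    exact tmul_smul_right (q.app U r) _ _
  res U V h a b := by
    rw [app_resM, app_resM]
    exact resM_tmul (q.preimage_mono h) _ _

/-- Tensoring with a section, as a linear map. -/
noncomputable def tmulRight {U : Y.Opens} (b : Γ(E', U)) : Γ(E, U) →ₗ[Γ(Y, U)] Γ(CohB1.tensorMod E E', U) where
  toFun a := tmul a b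
  map_add' a a' := tmul_add_left a a' b
  map_smul' r a := tmul_smul_left r a b

/-- Tensoring with a section on the other side. -/
noncomputable def tmulLeft {U : Y.Opens} (a : Γ(E, U)) : Γ(E', U) →ₗ[Γ(Y, U)] Γ(CohB1.tensorMod E E', U) where
  toFun b := tmul a b
  map_add' b b' := tmul_add_right a b b'
  map_smul' r b := tmul_smul_right r a b

variable {t : E ⟶ (Scheme.Modules.pushforward q).obj L} {t' : E' ⟶ (Scheme.Modules.pushforward q).obj L'}

theorem prod_app_tmul {U : Y.Opens} {W : X.Opens} (hW : W ≤ q ⁻¹ᵁ U) (a : Γ(E, U)) (b : Γ(E', U)) :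
    resM (CohB1.tensorMod L L') hW ((prodBilin t t').desc.app U (tmul a b)) =
      tmul (resM L hW (t.app U a)) (resM L' hW (t'.app U b)) := by
  rw [Bilin.desc_tmul]
  exact resM_tmul hW _ _

/-- Products of generating sections generate. -/
theorem cover_prod
    (hcov : ∀ x : X, ∃ (U : Y.Opens) (_ : IsAffineOpen U) (e : Γ(E, U)) (W : X.Opens) (hW : W ≤ q ⁻¹ᵁ U),
      x ∈ W ∧ IsGen L W (resM L hW (t.app U e)))
    (hcov' : ∀ x : X, ∃ (U : Y.Opens) (_ : IsAffineOpen U) (e : Γ(E', U)) (W : X.Opens) (hW : W ≤ q ⁻¹ᵁ U),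
      x ∈ W ∧ IsGen L' W (resM L' hW (t'.app U e))) (x : X) :
    ∃ (U : Y.Opens) (_ : IsAffineOpen U) (e : Γ(E, U)) (e' : Γ(E', U)) (W : X.Opens) (hW : W ≤ q ⁻¹ᵁ U),
      x ∈ W ∧ IsGen (CohB1.tensorMod L L') W
        (resM (CohB1.tensorMod L L') hW ((prodBilin t t').desc.app U (tmul e e'))) := by
  obtain ⟨U, hU, e, W, hW, hx, hg⟩ := hcov x
  obtain ⟨U', hU', e', W', hW', hx', hg'⟩ := hcov' x
  obtain ⟨A, hA, hxA, hAU⟩ := Opens.isBasis_iff_nbhd.1 Y.isBasis_affineOpens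
    (show q x ∈ U ⊓ U' from ⟨hW hx, hW' hx'⟩)
  refine ⟨A, hA, resM E (hAU.trans inf_le_left) e, resM E' (hAU.trans inf_le_right) e', W ⊓ W' ⊓ q ⁻¹ᵁ A, inf_le_right,
    ⟨⟨hx, hx'⟩, hxA⟩, ?_⟩
  rw [prod_app_tmul]
  refine isGen_tmul (isGen_congr ?_ (hg.restrict (inf_le_left.trans inf_le_left : W ⊓ W' ⊓ q ⁻¹ᵁ A ≤ W)))
    (isGen_congr ?_ (hg'.restrict (inf_le_left.trans inf_le_right : W ⊓ W' ⊓ q ⁻¹ᵁ A ≤ W')))
  · rw [t_res (hAU.trans inf_le_left) e, resM_resM, resM_resM]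
  · rw [t_res (hAU.trans inf_le_right) e', resM_resM, resM_resM]

theorem rel_right (hL : PicF.IsInvertible L) (hL' : PicF.IsInvertible L') {U : Y.Opens} (e : Γ(E, U)) (e' : Γ(E', U))
    (W : X.Opens) (hW : W ≤ q ⁻¹ᵁ U)
    (h : IsGen (CohB1.tensorMod L L') W (resM (CohB1.tensorMod L L') hW ((prodBilin t t').desc.app U (tmulRight e' e)))) :
    IsGen L W (resM L hW (t.app U e)) ∧ ∀ (a : Γ(E, U)) (c : Γ(X, W)),
      c • resM L hW (t.app U e) = resM L hW (t.app U a) →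
        c • resM (CohB1.tensorMod L L') hW ((prodBilin t t').desc.app U (tmulRight e' e)) =
          resM (CohB1.tensorMod L L') hW ((prodBilin t t').desc.app U (tmulRight e' a)) := by
  have he : ∀ a : Γ(E, U), resM (CohB1.tensorMod L L') hW ((prodBilin t t').desc.app U (tmulRight e' a)) =
      tmul (resM L hW (t.app U a)) (resM L' hW (t'.app U e')) := fun a => prod_app_tmul hW a e'
  rw [he] at h
  refine ⟨(isGen_left_of_tmul hL hL' h).1, fun a c hc => ?_⟩
  rw [he, he, ← tmul_smul_left, hc]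

theorem rel_left (hL : PicF.IsInvertible L) (hL' : PicF.IsInvertible L') {U : Y.Opens} (e : Γ(E, U)) (e' : Γ(E', U))
    (W : X.Opens) (hW : W ≤ q ⁻¹ᵁ U)
    (h : IsGen (CohB1.tensorMod L L') W (resM (CohB1.tensorMod L L') hW ((prodBilin t t').desc.app U (tmulLeft e e')))) :
    IsGen L' W (resM L' hW (t'.app U e')) ∧ ∀ (a : Γ(E', U)) (c : Γ(X, W)),
      c • resM L' hW (t'.app U e') = resM L' hW (t'.app U a) →
        c • resM (CohB1.tensorMod L L') hW ((prodBilin t t').desc.app U (tmulLeft e e')) =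
          resM (CohB1.tensorMod L L') hW ((prodBilin t t').desc.app U (tmulLeft e a)) := by
  have he : ∀ a : Γ(E', U), resM (CohB1.tensorMod L L') hW ((prodBilin t t').desc.app U (tmulLeft e a)) =
      tmul (resM L hW (t.app U e)) (resM L' hW (t'.app U a)) := fun a => prod_app_tmul hW e a
  rw [he] at h
  refine ⟨(isGen_left_of_tmul hL hL' h).2, fun a c hc => ?_⟩
  rw [he, he, ← tmul_smul_right, hc]

/-- The morphism by `O(1)` and its pullback identification classify a generating map. -/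
theorem exists_gen_classified {E : Y.Modules} {𝒮 : RelProj.QCGrAlg Y} {j : E ⟶ 𝒮.toModule} {P : Scheme.{u}}
    {p : P ⟶ Y}
    {chart : ∀ (U : Y.Opens) (hU : IsAffineOpen U), ((p ⁻¹ᵁ U : P.Opens) : Scheme.{u}) ≅ Proj (𝒮.deg U hU)}
    {O1 : P.Modules}
    {lam : ∀ (U : Y.Opens) (hU : IsAffineOpen U),
      O1 ⟶ (Scheme.Modules.pushforward (RelProj.emb p chart U hU)).obj (GrTwist.twist (𝒮.deg U hU) 1)}
    {φ : E ⟶ (Scheme.Modules.pushforward p).obj O1} (D : PBundle E 𝒮 j p chart O1 lam φ) (i : X ⟶ P)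
    (hi : i ≫ p = q) (σ : (Scheme.Modules.pullback i).obj O1 ≅ L) :
    ∃ t : E ⟶ (Scheme.Modules.pushforward q).obj L, Classifies φ q t i hi σ ∧
      ∀ x : X, ∃ (U : Y.Opens) (_ : IsAffineOpen U) (e : Γ(E, U)) (W : X.Opens) (hW : W ≤ q ⁻¹ᵁ U),
        x ∈ W ∧ IsGen L W (resM L hW (t.app U e)) := by
  obtain ⟨t, ht⟩ := exists_classified (E := E) (φ := φ) i hi σ
  refine ⟨t, ht, fun x => ?_⟩
  obtain ⟨U, hU, e, W, hW, hxW, hg⟩ := D.cover (i x)
  refine ⟨U, hU, e, i ⁻¹ᵁ W, (i.preimage_mono hW).trans (le_of_over hi U), hxW, ?_⟩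
  refine isGen_congr ?_ (isGen_of_iso σ (isGen_pullSec i hg D.invertible))
  rw [← resM_pullSec, app_resM, ht U hU e]
  exact resM_resM L _ _ _

/-- Tensoring a very ample module with a generated one. -/
theorem isRelVeryAmple_tensor_of_gen (hva : RelProj.IsRelVeryAmple q L) (hL : PicF.IsInvertible L)
    (hL' : PicF.IsInvertible L') {E' : Y.Modules} (hE' : Coh.IsQCoh E')
    (t' : E' ⟶ (Scheme.Modules.pushforward q).obj L')
    (hcov' : ∀ x : X, ∃ (U : Y.Opens) (_ : IsAffineOpen U) (e : Γ(E', U)) (W : X.Opens) (hW : W ≤ q ⁻¹ᵁ U),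
      x ∈ W ∧ IsGen L' W (resM L' hW (t'.app U e))) :
    RelProj.IsRelVeryAmple q (CohB1.tensorMod L L') := by
  obtain ⟨E, hE, 𝒮, j, hj, P, p, chart, hP, O1, lam, hO1, i, hi, hip, ⟨eL⟩⟩ := hva
  obtain ⟨φ, D⟩ := exists_pBundle hE hj hP hO1
  obtain ⟨t, ht, hcov⟩ := exists_gen_classified D i hip eL.symm
  have := hE
  have := hE'
  refine isRelVeryAmple_of_classifies q _ (CohB1.tensorMod E E') (Coherent.isQCoh_tensorMod E E')
    (prodBilin t t').desc (fun x => ?_) fun 𝒮₂ j₂ P₂ p₂ chart₂ O₂ lam₂ φ₂ D₂ r hr τ hτ => ?_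
  · obtain ⟨U, hU, e, e', W, hW, hx, hg⟩ := cover_prod hcov hcov' x
    exact ⟨U, hU, tmul e e', W, hW, hx, hg⟩
  · refine isImmersion_of_dominates D D₂ ht hτ fun x => ?_
    obtain ⟨U, hU, e, e', W, hW, hx, hg⟩ := cover_prod hcov hcov' x
    exact ⟨U, hU, e, tmulRight e', ⟨W, hW, hx, hg⟩, fun W hW h => rel_right hL hL' e e' W hW h⟩

/-- A product of jointly very ample modules. -/
theorem isRelVeryAmple_tensor_of_joint {X₁ X₂ : Scheme.{u}} (f₁ : X₁ ⟶ Y) (f₂ : X₂ ⟶ Y) (r₁ : X ⟶ X₁) (r₂ : X ⟶ X₂)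
    (h₁ : r₁ ≫ f₁ = q) (h₂ : r₂ ≫ f₂ = q) [IsImmersion (pullback.lift (f := f₁) (g := f₂) r₁ r₂ (h₁.trans h₂.symm))]
    (L₁ : X₁.Modules) (L₂ : X₂.Modules) (hva₁ : RelProj.IsRelVeryAmple f₁ L₁) (hva₂ : RelProj.IsRelVeryAmple f₂ L₂)
    (hL₁ : PicF.IsInvertible L₁) (hL₂ : PicF.IsInvertible L₂) :
    RelProj.IsRelVeryAmple q
      (CohB1.tensorMod ((Scheme.Modules.pullback r₁).obj L₁) ((Scheme.Modules.pullback r₂).obj L₂)) := by
  obtain ⟨E, hE, 𝒮, j, hj, P, p, chart, hP, O1, lam, hO1, i, hi, hip, ⟨eL⟩⟩ := hva₁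
  obtain ⟨E', hE', 𝒮', j', hj', P', p', chart', hP', O1', lam', hO1', i', hi', hip', ⟨eL'⟩⟩ := hva₂
  obtain ⟨φ, D⟩ := exists_pBundle hE hj hP hO1
  obtain ⟨φ', D'⟩ := exists_pBundle hE' hj' hP' hO1'
  obtain ⟨c, -⟩ := exists_compIso r₁ i (r₁ ≫ i) rfl O1
  obtain ⟨c', -⟩ := exists_compIso r₂ i' (r₂ ≫ i') rfl O1'
  have hq : (r₁ ≫ i) ≫ p = q := by rw [Category.assoc, hip, h₁]
  have hq' : (r₂ ≫ i') ≫ p' = q := by rw [Category.assoc, hip', h₂]
  obtain ⟨t, ht, hcov⟩ := exists_gen_classified D (r₁ ≫ i) hq (c ≪≫ (Scheme.Modules.pullback r₁).mapIso eL.symm)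
  obtain ⟨t', ht', hcov'⟩ := exists_gen_classified D' (r₂ ≫ i') hq' (c' ≪≫ (Scheme.Modules.pullback r₂).mapIso eL'.symm)
  have := hE
  have := hE'
  have hLi := PicLoc.isInvertible_pullback r₁ hL₁
  have hLi' := PicLoc.isInvertible_pullback r₂ hL₂
  refine isRelVeryAmple_of_classifies q _ (CohB1.tensorMod E E') (Coherent.isQCoh_tensorMod E E')
    (prodBilin t t').desc (fun x => ?_) fun 𝒮₂ j₂ P₂ p₂ chart₂ O₂ lam₂ φ₂ D₂ r hr τ hτ => ?_
  · obtain ⟨U, hU, e, e', W, hW, hx, hg⟩ := cover_prod hcov hcov' x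
    exact ⟨U, hU, tmul e e', W, hW, hx, hg⟩
  choose U hU e e' W hW hx hg using cover_prod hcov hcov'
  refine isImmersion_of_cover r (fun x => opn j₂ p₂ chart₂ (hU x) (tmul (e x) (e' x))) (fun x => ⟨x, ?_⟩) fun x => ?_
  · exact (range_le_iff r _).1 (good_of_classifies D₂ hτ (hU x) _ (hW x) (hg x)).range (hx x)
  obtain ⟨f, hf, heq⟩ := exists_factor_piece D D₂ ht hτ (hU x) (e x) (tmulRight (e' x))
    fun W hW h => rel_right hLi hLi' (e x) (e' x) W hW h
  obtain ⟨f', hf', heq'⟩ := exists_factor_piece D' D₂ ht' hτ (hU x) (e' x) (tmulLeft (e x))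
    fun W hW h => rel_left hLi hLi' (e x) (e' x) W hW h
  let G := opn j₂ p₂ chart₂ (hU x) (tmul (e x) (e' x))
  let m : (G : Scheme.{u}) ⟶ pullback p p' := pullback.lift f f' (hf.trans hf'.symm)
  let l := pullback.lift (f := f₁) (g := f₂) r₁ r₂ (h₁.trans h₂.symm)
  let jj : pullback f₁ f₂ ⟶ pullback p p' :=
    pullback.map f₁ f₂ p p' i i' (𝟙 Y) (by rw [Category.comp_id, hip]) (by rw [Category.comp_id, hip'])
  have : IsImmersion jj := MorphismProperty.pullback_map (P := @IsImmersion) hi hi' hip.symm hip'.symm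
  have key : r.resLE G (r ⁻¹ᵁ G) le_rfl ≫ m = (r ⁻¹ᵁ G).ι ≫ l ≫ jj := by
    refine pullback.hom_ext ?_ ?_
    · simp only [Category.assoc, m, l, jj, pullback.lift_fst, pullback.lift_fst_assoc]
      exact heq
    · simp only [Category.assoc, m, l, jj, pullback.lift_snd, pullback.lift_snd_assoc]
      exact heq'
  have : IsImmersion (r.resLE G (r ⁻¹ᵁ G) le_rfl ≫ m) := by rw [key]; infer_instance
  have : IsImmersion (r.resLE G (r ⁻¹ᵁ G) le_rfl) := IsImmersion.of_comp _ m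
  rw [← Scheme.Hom.resLE_comp_ι r (le_refl (r ⁻¹ᵁ G))]
  infer_instance

/-- Very ampleness passes through immersions. -/
theorem isRelVeryAmple_of_immersion {X' : Scheme.{u}} (m : X' ⟶ X) [IsImmersion m] {k : X' ⟶ Y} (hk : m ≫ q = k)
    (hva : RelProj.IsRelVeryAmple q L) {L₀ : X'.Modules} (e : L₀ ≅ (Scheme.Modules.pullback m).obj L) :
    RelProj.IsRelVeryAmple k L₀ := by
  obtain ⟨E, hE, 𝒮, j, hj, P, p, chart, hP, O1, lam, hO1, i, hi, hip, ⟨eL⟩⟩ := hva
  obtain ⟨c, -⟩ := exists_compIso m i (m ≫ i) rfl O1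
  exact ⟨E, hE, 𝒮, j, hj, P, p, chart, hP, O1, lam, hO1, m ≫ i, inferInstance, by rw [Category.assoc, hip, hk],
    ⟨e ≪≫ (Scheme.Modules.pullback m).mapIso eL ≪≫ c.symm⟩⟩

/-- Very ampleness for a composite gives it for the first morphism. -/
theorem isRelVeryAmple_of_comp {Z : Scheme.{u}} (f : X ⟶ Y) (g : Y ⟶ Z) (hva : RelProj.IsRelVeryAmple (f ≫ g) L) :
    RelProj.IsRelVeryAmple f L := by
  have h := isRelVeryAmple_baseChange (f ≫ g) g (pullback.fst (f ≫ g) g) (pullback.snd (f ≫ g) g)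
    (IsPullback.of_hasPullback _ _) L hva
  let m : X ⟶ pullback (f ≫ g) g := pullback.lift (𝟙 X) f (by simp)
  have : IsImmersion (m ≫ pullback.fst (f ≫ g) g) := by simp only [m, pullback.lift_fst]; infer_instance
  have : IsImmersion m := IsImmersion.of_comp _ (pullback.fst (f ≫ g) g)
  obtain ⟨c, -⟩ := exists_compIso m (pullback.fst (f ≫ g) g) (𝟙 X) (pullback.lift_fst _ _ _) L
  exact isRelVeryAmple_of_immersion m (pullback.lift_snd _ _ _) h
    (((Scheme.Modules.pullbackId X).symm.app L) ≪≫ c)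

end Groth.Agent.RelVALib
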